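import Mathlib

set_option autoImplicit false

namespace Cfsg.Agent.Lib.helper24

/-- membership in a conjugate subgroup `g T g⁻¹`, written with `Subgroup.map` -/
theorem mem_map_conj {G : Type*} [Group G] (T : Subgroup G) (g y : G) :
    y ∈ T.map (MulAut.conj g).toMonoidHom ↔ g⁻¹ * y * g ∈ T := by
  constructor
  · rintro ⟨x, hx, rfl⟩
    have : g⁻¹ * ((MulAut.conj g).toMonoidHom x) * g = x := by
      simp only [MulEquiv.toMonoidHom_eq_coe, MonoidHom.coe_coe, MulAut.conj_apply]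
      group
    rw [this]; exact hx
  · intro h
    exact ⟨g⁻¹ * y * g, h, by simp [MulAut.conj_apply, mul_assoc]⟩

theorem card_map_conj {G : Type*} [Group G] (T : Subgroup G) (g : G) :
    Nat.card (T.map (MulAut.conj g).toMonoidHom) = Nat.card T :=
  Subgroup.card_map_of_injective (MulAut.conj g).injective

/-- Sylow's theorem inside a subgroup `H`, stated in the ambient group: a `p`-subgroup of `H`
is `H`-conjugate into the given Sylow `p`-subgroup of `H`. -/
theorem exists_conj_le_sylow {G : Type*} [Group G] [Finite G] {p : ℕ} [Fact p.Prime]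
    (H : Subgroup G) (P : Sylow p ↥H) (T : Subgroup G) (hTH : T ≤ H) (hT : IsPGroup p T) :
    ∃ h ∈ H, ∀ x ∈ T, h * x * h⁻¹ ∈ (P : Subgroup ↥H).map H.subtype := by
  have hT' : IsPGroup p (T.subgroupOf H) := hT.comap_subtype
  obtain ⟨Q, hQ⟩ := hT'.exists_le_sylow
  obtain ⟨h, hh⟩ := MulAction.exists_smul_eq ↥H Q P
  refine ⟨h, h.2, fun x hx => ?_⟩
  have h1 : (⟨x, hTH hx⟩ : H) ∈ (Q : Subgroup H) := hQ (Subgroup.mem_subgroupOf.mpr hx)
  have h2 : h * ⟨x, hTH hx⟩ * h⁻¹ ∈ (P : Subgroup H) := by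
    rw [← hh, Sylow.coe_subgroup_smul, Subgroup.mem_pointwise_smul_iff_inv_smul_mem]
    have : (MulAut.conj h)⁻¹ • (h * ⟨x, hTH hx⟩ * h⁻¹) = (⟨x, hTH hx⟩ : H) := by
      simp only [MulAut.smul_def, MulAut.conj_inv_apply]
      group
    rw [this]; exact h1
  exact ⟨_, h2, rfl⟩

/-- If normalizers of nontrivial subgroups of a Sylow `p`-subgroup `P` of `H` lie in `H`,
then so do normalizers of all nontrivial `p`-subgroups of `H`. -/
theorem normalizer_le_of_sylow_hyp {G : Type*} [Group G] [Finite G] {p : ℕ} [Fact p.Prime]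
    (H : Subgroup G) (P : Sylow p ↥H)
    (hN : ∀ X : Subgroup ↥H, X ≤ (P : Subgroup ↥H) → X ≠ ⊥ →
      Subgroup.normalizer ((X.map H.subtype : Subgroup G) : Set G) ≤ H)
    (T : Subgroup G) (hTH : T ≤ H) (hT : IsPGroup p T) (hT1 : T ≠ ⊥) :
    Subgroup.normalizer (T : Set G) ≤ H := by
  obtain ⟨h, hh, hconj⟩ := exists_conj_le_sylow H P T hTH hT
  set XG := T.map (MulAut.conj h).toMonoidHom with hXG
  have hXP : XG ≤ (P : Subgroup ↥H).map H.subtype := by
    intro y hy
    rw [hXG, mem_map_conj] at hy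
    have := hconj _ hy
    have e : h * (h⁻¹ * y * h) * h⁻¹ = y := by group
    rwa [e] at this
  have hXH : XG ≤ H := hXP.trans (Subgroup.map_subtype_le _)
  have hX1 : XG.subgroupOf H ≤ (P : Subgroup ↥H) := by
    intro y hy
    have hy' : (y : G) ∈ XG := Subgroup.mem_subgroupOf.mp hy
    obtain ⟨z, hz, hzy⟩ := hXP hy'
    have : z = y := Subtype.ext hzy
    rwa [← this]
  have hX2 : XG.subgroupOf H ≠ ⊥ := by
    intro hbot
    apply hT1
    rw [Subgroup.eq_bot_iff_forall]
    intro x hx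
    have hx' : h * x * h⁻¹ ∈ XG := by
      rw [hXG, mem_map_conj]
      have e : h⁻¹ * (h * x * h⁻¹) * h = x := by group
      rwa [e]
    have h3 : (⟨h * x * h⁻¹, hXH hx'⟩ : H) ∈ XG.subgroupOf H := Subgroup.mem_subgroupOf.mpr hx'
    rw [hbot, Subgroup.mem_bot] at h3
    have h4 : h * x * h⁻¹ = 1 := congrArg Subtype.val h3
    have e : x = h⁻¹ * (h * x * h⁻¹) * h := by group
    rw [e, h4]; group
  have key := hN _ hX1 hX2
  rw [Subgroup.map_subgroupOf_eq_of_le hXH] at key
  intro n hn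
  have h5 : h * n * h⁻¹ ∈ Subgroup.normalizer (XG : Set G) := by
    rw [Subgroup.mem_normalizer_iff]
    intro y
    rw [hXG, mem_map_conj, mem_map_conj]
    have h6 := (Subgroup.mem_normalizer_iff.mp hn) (h⁻¹ * y * h)
    have e : h⁻¹ * (h * n * h⁻¹ * y * (h * n * h⁻¹)⁻¹) * h = n * (h⁻¹ * y * h) * n⁻¹ := by group
    rw [e]
    exact h6
  have h7 := key h5
  have e : n = h⁻¹ * (h * n * h⁻¹) * h := by group
  rw [e]
  exact H.mul_mem (H.mul_mem (H.inv_mem hh) h7) hh

/-- Core of the strongly embedded criterion: if normalizers of nontrivial `p`-subgroups of `H`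
lie in `H`, then `H ∩ gHg⁻¹` has order prime to `p` for `g ∉ H`. -/
theorem not_dvd_card_inter_conj {G : Type*} [Group G] [Finite G] {p : ℕ} [hp : Fact p.Prime]
    (H : Subgroup G) (P : Sylow p ↥H)
    (hN : ∀ T : Subgroup G, T ≤ H → IsPGroup p T → T ≠ ⊥ → Subgroup.normalizer (T : Set G) ≤ H)
    (g : G) (hg : g ∉ H) :
    ¬ p ∣ Nat.card ↥(H ⊓ H.map (MulAut.conj g).toMonoidHom) := by
  intro hdvd
  set D := H ⊓ H.map (MulAut.conj g).toMonoidHom with hD
  have hDpos : Nat.card D ≠ 0 := Nat.card_pos.ne'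
  set n := (Nat.card D).factorization p with hn
  have hn1 : 1 ≤ n := (hp.out.factorization_pos_of_dvd hDpos hdvd)
  obtain ⟨K, hK⟩ := Sylow.exists_subgroup_card_pow_prime (G := ↥D) p (Nat.ordProj_dvd (Nat.card D) p)
  set T := K.map D.subtype with hTdef
  have hTcard : Nat.card T = p ^ n := by
    rw [hTdef, Subgroup.card_map_of_injective D.subtype_injective, hK]
  have hTD : T ≤ D := Subgroup.map_subtype_le K
  have hTH : T ≤ H := hTD.trans inf_le_left
  have hTp : IsPGroup p T := IsPGroup.of_card hTcard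
  have hT1 : T ≠ ⊥ := by
    intro hbot
    rw [hbot, Subgroup.card_bot] at hTcard
    have : 1 < p ^ n := Nat.one_lt_pow (by omega) hp.out.one_lt
    omega
  have hNT : Subgroup.normalizer (T : Set G) ≤ H := hN T hTH hTp hT1
  -- the conjugate g⁻¹ T g
  set T' := T.map (MulAut.conj g⁻¹).toMonoidHom with hT'def
  have hT'H : T' ≤ H := by
    intro y hy
    rw [hT'def, mem_map_conj] at hy
    have h1 := (hTD hy)
    have h2 : g⁻¹⁻¹ * y * g⁻¹ ∈ H.map (MulAut.conj g).toMonoidHom := (Subgroup.mem_inf.mp h1).2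
    rw [mem_map_conj] at h2
    have e : g⁻¹ * (g⁻¹⁻¹ * y * g⁻¹) * g = y := by group
    rwa [e] at h2
  have hT'card : Nat.card T' = p ^ n := by rw [hT'def, card_map_conj, hTcard]
  have hT'p : IsPGroup p T' := IsPGroup.of_card hT'card
  have hT'1 : T' ≠ ⊥ := by
    intro hbot
    rw [hbot, Subgroup.card_bot] at hT'card
    have : 1 < p ^ n := Nat.one_lt_pow (by omega) hp.out.one_lt
    omega
  have hNT' : Subgroup.normalizer (T' : Set G) ≤ H := hN T' hT'H hT'p hT'1
  have hNTD : Subgroup.normalizer (T : Set G) ≤ D := by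
    intro m hm
    refine Subgroup.mem_inf.mpr ⟨hNT hm, ?_⟩
    rw [mem_map_conj]
    apply hNT'
    rw [Subgroup.mem_normalizer_iff]
    intro y
    rw [hT'def, mem_map_conj, mem_map_conj]
    have h6 := (Subgroup.mem_normalizer_iff.mp hm) (g⁻¹⁻¹ * y * g⁻¹)
    have e : g⁻¹⁻¹ * (g⁻¹ * m * g * y * (g⁻¹ * m * g)⁻¹) * g⁻¹ = m * (g⁻¹⁻¹ * y * g⁻¹) * m⁻¹ := by
      group
    rw [e]
    exact h6
  -- T is a Sylow p-subgroup of H
  have hnot : ¬ p ^ (n + 1) ∣ Nat.card H := by
    intro hdvdH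
    set TH := T.subgroupOf H with hTHdef
    have hTHcard : Nat.card TH = p ^ n := by
      rw [hTHdef, Nat.card_congr (Subgroup.subgroupOfEquivOfLe hTH).toEquiv, hTcard]
    have h1 := Sylow.prime_dvd_card_quotient_normalizer hdvdH hTHcard
    have h2 := Subgroup.card_eq_card_quotient_mul_card_subgroup
      (TH.comap (Subgroup.normalizer (TH : Set ↥H)).subtype)
    have h3 : Nat.card (TH.comap (Subgroup.normalizer (TH : Set ↥H)).subtype) = p ^ n := by
      have : TH.comap (Subgroup.normalizer (TH : Set ↥H)).subtype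
          = TH.subgroupOf (Subgroup.normalizer (TH : Set ↥H)) := rfl
      rw [this, Nat.card_congr (Subgroup.subgroupOfEquivOfLe Subgroup.le_normalizer).toEquiv, hTHcard]
    have h4 : p ^ (n + 1) ∣ Nat.card (Subgroup.normalizer (TH : Set ↥H)) := by
      rw [h2, h3, pow_succ, mul_comm (p ^ n) p]
      exact mul_dvd_mul_right h1 _
    have h5 : (Subgroup.normalizer (TH : Set ↥H)).map H.subtype ≤ D := by
      rintro _ ⟨m, hm, rfl⟩
      apply hNTD
      rw [Subgroup.mem_normalizer_iff]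
      intro x
      have hm' := Subgroup.mem_normalizer_iff.mp hm
      constructor
      · intro hx
        have := (hm' ⟨x, hTH hx⟩).mp (Subgroup.mem_subgroupOf.mpr hx)
        exact Subgroup.mem_subgroupOf.mp this
      · intro hx
        have hxH : x ∈ H := by
          have e : x = (m : G)⁻¹ * ((m : G) * x * (m : G)⁻¹) * m := by group
          rw [e]
          exact H.mul_mem (H.mul_mem (H.inv_mem m.2) (hTH hx)) m.2
        have := (hm' ⟨x, hxH⟩).mpr (Subgroup.mem_subgroupOf.mpr hx)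
        exact Subgroup.mem_subgroupOf.mp this
    have h6 : Nat.card (Subgroup.normalizer (TH : Set ↥H)) ∣ Nat.card D := by
      rw [← Subgroup.card_map_of_injective H.subtype_injective]
      exact Subgroup.card_dvd_of_le h5
    exact Nat.pow_succ_factorization_not_dvd hDpos hp.out (h4.trans h6)
  have hHpos : Nat.card H ≠ 0 := Nat.card_pos.ne'
  have hdvdH : p ^ n ∣ Nat.card H := by
    rw [← hTcard]; exact Subgroup.card_dvd_of_le hTH
  have hfac : (Nat.card H).factorization p = n := by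
    have h1 := (hp.out.pow_dvd_iff_le_factorization hHpos).mp hdvdH
    have h2 : ¬ (n + 1 ≤ (Nat.card H).factorization p) := fun h =>
      hnot ((hp.out.pow_dvd_iff_le_factorization hHpos).mpr h)
    omega
  set PG := (P : Subgroup ↥H).map H.subtype with hPG
  have hPGcard : Nat.card PG = p ^ n := by
    rw [hPG, Subgroup.card_map_of_injective H.subtype_injective, P.card_eq_multiplicity, hfac]
  obtain ⟨h₁, hh₁, hc₁⟩ := exists_conj_le_sylow H P T hTH hTp
  obtain ⟨h₂, hh₂, hc₂⟩ := exists_conj_le_sylow H P T' hT'H hT'p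
  have e₁ : T.map (MulAut.conj h₁).toMonoidHom = PG := by
    apply Subgroup.eq_of_le_of_card_ge
    · rintro _ ⟨x, hx, rfl⟩
      exact hc₁ x hx
    · rw [card_map_conj, hTcard, hPGcard]
  have e₂ : T'.map (MulAut.conj h₂).toMonoidHom = PG := by
    apply Subgroup.eq_of_le_of_card_ge
    · rintro _ ⟨x, hx, rfl⟩
      exact hc₂ x hx
    · rw [card_map_conj, hT'card, hPGcard]
  have hu : g * h₂⁻¹ * h₁ ∈ Subgroup.normalizer (T : Set G) := by
    rw [Subgroup.mem_normalizer_iff]
    intro x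
    have s1 : x ∈ T ↔ h₁ * x * h₁⁻¹ ∈ T.map (MulAut.conj h₁).toMonoidHom := by
      rw [mem_map_conj]
      have e : h₁⁻¹ * (h₁ * x * h₁⁻¹) * h₁ = x := by group
      rw [e]
    have s2 : h₁ * x * h₁⁻¹ ∈ T'.map (MulAut.conj h₂).toMonoidHom ↔
        g * h₂⁻¹ * h₁ * x * (g * h₂⁻¹ * h₁)⁻¹ ∈ T := by
      rw [mem_map_conj, hT'def, mem_map_conj]
      have e : g⁻¹⁻¹ * (h₂⁻¹ * (h₁ * x * h₁⁻¹) * h₂) * g⁻¹ = g * h₂⁻¹ * h₁ * x * (g * h₂⁻¹ * h₁)⁻¹ := by
        group
      rw [e]
    rw [s1, e₁, ← e₂, s2]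
  have hgH := hNT hu
  apply hg
  have e : g = (g * h₂⁻¹ * h₁) * h₁⁻¹ * h₂ := by group
  rw [e]
  exact H.mul_mem (H.mul_mem hgH (H.inv_mem hh₁)) hh₂

end Cfsg.Agent.Lib.helper24
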