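import Mathlib
import Cfsg.Prelude.Def_GeometricClasses

/-!
# Orthogonal-type subgroups of `SL_n(F)`: predicates used for S5981
-/

set_option autoImplicit false

namespace Cfsg.Agent.Lib.helper24

open Cfsg.Geo

/-- The isometry group of a one-argument form on `F^n`. -/
def sfoIsom {F : Type*} [Field F] {n : ℕ} (Q : (Fin n → F) → F) : Subgroup (GL (Fin n) F) where
  carrier := {g | ∀ v, Q ((g : Matrix (Fin n) (Fin n) F).mulVec v) = Q v}
  mul_mem' {a b} ha hb := by
    intro v
    rw [Units.val_mul, ← Matrix.mulVec_mulVec]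
    exact (ha _).trans (hb v)
  one_mem' := fun v => by simp
  inv_mem' {a} ha := by
    intro v
    have h := ha (((a⁻¹ : GL (Fin n) F) : Matrix (Fin n) (Fin n) F).mulVec v)
    rw [Matrix.mulVec_mulVec, ← Units.val_mul, mul_inv_cancel, Units.val_one,
      Matrix.one_mulVec] at h
    exact h.symm

/-- The number of vectors `v` with `Q v = c`. -/
noncomputable def sfoCount {F : Type*} [Field F] {n : ℕ} (Q : (Fin n → F) → F) (c : F) : ℕ :=
  Nat.card {v : Fin n → F // Q v = c}

/-- `x` is conjugate, by a matrix of determinant one, into the similarity group of `Q`. -/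
def SfoConj {F : Type*} [Field F] {n : ℕ} (Q : (Fin n → F) → F)
    (x : Matrix (Fin n) (Fin n) F) : Prop :=
  ∃ (P : Matrix (Fin n) (Fin n) F) (g : GL (Fin n) F), P.det = 1 ∧ g ∈ quadSimilarityGroup Q ∧
    x * P = P * (g : Matrix (Fin n) (Fin n) F)

/-- `x` is conjugate, by an invertible matrix, into the similarity group of `Q`. -/
def SfoWeakConj {F : Type*} [Field F] {n : ℕ} (Q : (Fin n → F) → F)
    (x : Matrix (Fin n) (Fin n) F) : Prop :=
  ∃ (P : Matrix (Fin n) (Fin n) F) (g : GL (Fin n) F), P.det ≠ 0 ∧ g ∈ quadSimilarityGroup Q ∧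
    x * P = P * (g : Matrix (Fin n) (Fin n) F)

/-- There is a matrix of determinant one, with scalar `r`-th power, not scalar, and not conjugate
into the similarity group of `Q`. -/
def SfoDerang {F : Type*} [Field F] {n : ℕ} (Q : (Fin n → F) → F) (r : ℕ) : Prop :=
  ∃ x : Matrix (Fin n) (Fin n) F, x.det = 1 ∧
    (∃ z : F, x ^ r = z • (1 : Matrix (Fin n) (Fin n) F)) ∧
    (∀ z : F, x ≠ z • (1 : Matrix (Fin n) (Fin n) F)) ∧ ¬ SfoWeakConj Q x

end Cfsg.Agent.Lib.helper24
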