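import Mathlib
import Cfsg.Prelude.Def_GeometricClasses
import Cfsg.Prelude.Def_ClassicalGeometry

/-!
# Normalizer of an extraspecial group `2^(1+4)_-` in `Sp_4(p)`: predicates used for S6002
-/

set_option autoImplicit false

namespace Cfsg.Agent.Lib.helper24

open Matrix Cfsg Cfsg.Geo

/-- The index type of the four-dimensional symplectic space. -/
abbrev S6I : Type := Fin 2 ⊕ Fin 2

/-- `R` is generated up to sign by four pairwise anticommuting involutions `t 0, ..., t 3`. -/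
def S6Frame {F : Type*} [Field F] (R : Subgroup (GL S6I F)) (t : Fin 4 → GL S6I F) : Prop :=
  (∀ i, t i ∈ R) ∧ (∀ i, (t i : Matrix S6I S6I F) * (t i : Matrix S6I S6I F) = 1) ∧
  (∀ i j, i ≠ j → (t i : Matrix S6I S6I F) * (t j : Matrix S6I S6I F) = -((t j : Matrix S6I S6I F) * (t i : Matrix S6I S6I F))) ∧
  ∀ s ∈ R, ∃ (a : Fin 4 → Bool) (ε : Bool), (s : Matrix S6I S6I F) = (if ε then (-1 : F) else 1) •
    ((if a 0 then (t 0 : Matrix S6I S6I F) else 1) * (if a 1 then (t 1 : Matrix S6I S6I F) else 1) *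
      (if a 2 then (t 2 : Matrix S6I S6I F) else 1) * (if a 3 then (t 3 : Matrix S6I S6I F) else 1))

/-- The structural facts about `R` used by the consumers. -/
structure S6Good {F : Type*} [Field F] (R : Subgroup (GL S6I F)) : Prop where
  card : Nat.card R = 32
  sp : R ≤ spGL 2 F
  schur : ∀ y : Matrix S6I S6I F, (∀ s ∈ R, y * (s : Matrix S6I S6I F) = (s : Matrix S6I S6I F) * y) → ∃ c : F, y = c • (1 : Matrix S6I S6I F)
  neg : ∃ z ∈ R, (z : Matrix S6I S6I F) = -1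
  sq : ∀ s ∈ R, (s : Matrix S6I S6I F) * (s : Matrix S6I S6I F) = 1 ∨ (s : Matrix S6I S6I F) * (s : Matrix S6I S6I F) = -1
  comm : ∀ s ∈ R, ∀ t ∈ R, (s : Matrix S6I S6I F) * (t : Matrix S6I S6I F) = (t : Matrix S6I S6I F) * (s : Matrix S6I S6I F) ∨
    (s : Matrix S6I S6I F) * (t : Matrix S6I S6I F) = -((t : Matrix S6I S6I F) * (s : Matrix S6I S6I F))
  tr0 : ∀ s ∈ R, (s : Matrix S6I S6I F) ≠ 1 → (s : Matrix S6I S6I F) ≠ -1 → Matrix.trace (s : Matrix S6I S6I F) = 0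
  anti : ∀ s ∈ R, ∀ t ∈ R, (s : Matrix S6I S6I F) * (s : Matrix S6I S6I F) = 1 → (t : Matrix S6I S6I F) * (t : Matrix S6I S6I F) = 1 →
    (s : Matrix S6I S6I F) ≠ 1 → (s : Matrix S6I S6I F) ≠ -1 → (t : Matrix S6I S6I F) ≠ 1 → (t : Matrix S6I S6I F) ≠ -1 →
    (s : Matrix S6I S6I F) * (t : Matrix S6I S6I F) = (t : Matrix S6I S6I F) * (s : Matrix S6I S6I F) → ((t : Matrix S6I S6I F) = (s : Matrix S6I S6I F) ∨ (t : Matrix S6I S6I F) = -(s : Matrix S6I S6I F))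
  frame : ∃ t : Fin 4 → GL S6I F, S6Frame R t
  invol : Nat.card {s : GL S6I F // s ∈ R ∧ (s : Matrix S6I S6I F) * (s : Matrix S6I S6I F) = 1 ∧ (s : Matrix S6I S6I F) ≠ 1 ∧ (s : Matrix S6I S6I F) ≠ -1} = 10
  avg : ∀ A : Matrix S6I S6I F, ∑ᶠ s : R, ((s : GL S6I F) : Matrix S6I S6I F) * A * (((s : GL S6I F)⁻¹ : GL S6I F) : Matrix S6I S6I F) =
    (8 * Matrix.trace A) • (1 : Matrix S6I S6I F)

/-- An element of `Sp_4(F)` with `x ^ r = 1`, not scalar, no `GL_4`-conjugate of which normalizes `R`. -/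
def S6Derang {F : Type*} [Field F] (R : Subgroup (GL S6I F)) (r : ℕ) : Prop :=
  ∃ x : GL S6I F, x ∈ spGL 2 F ∧ x ^ r = 1 ∧ (∀ z : F, (x : Matrix S6I S6I F) ≠ z • (1 : Matrix S6I S6I F)) ∧
    ∀ g : GL S6I F, g⁻¹ * x * g ∉ subgroupNormalizer R

/-- The embedding of `2 × 2` matrices acting on the first hyperbolic pair `(inl 0, inr 0)`. -/
def s6Emb {F : Type*} [Field F] (A : Matrix (Fin 2) (Fin 2) F) : Matrix S6I S6I F :=
  Matrix.fromBlocks (Matrix.diagonal ![A 0 0, 1]) (Matrix.diagonal ![A 0 1, 0])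
    (Matrix.diagonal ![A 1 0, 0]) (Matrix.diagonal ![A 1 1, 1])

end Cfsg.Agent.Lib.helper24
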