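import Mathlib
import Cfsg.Prelude.Def_GeometricClasses

/-!
# Unitary-type subgroups of `SL_n(F)`: predicates used for S5982
-/

set_option autoImplicit false

namespace Cfsg.Agent.Lib.helper24

open Cfsg.Geo

/-- The isometry group of a two-argument form on `F^n`. -/
def sfuIsom {F : Type*} [Field F] {n : ℕ} (f : (Fin n → F) → (Fin n → F) → F) :
    Subgroup (GL (Fin n) F) where
  carrier := {g | ∀ u v, f ((g : Matrix (Fin n) (Fin n) F).mulVec u)
    ((g : Matrix (Fin n) (Fin n) F).mulVec v) = f u v}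
  mul_mem' {a b} ha hb := by
    intro u v
    rw [Units.val_mul, ← Matrix.mulVec_mulVec, ← Matrix.mulVec_mulVec]
    exact (ha _ _).trans (hb u v)
  one_mem' := fun u v => by simp
  inv_mem' {a} ha := by
    intro u v
    have h := ha (((a⁻¹ : GL (Fin n) F) : Matrix (Fin n) (Fin n) F).mulVec u)
      (((a⁻¹ : GL (Fin n) F) : Matrix (Fin n) (Fin n) F).mulVec v)
    rw [Matrix.mulVec_mulVec, Matrix.mulVec_mulVec, ← Units.val_mul, mul_inv_cancel,
      Units.val_one, Matrix.one_mulVec, Matrix.one_mulVec] at h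
    exact h.symm

/-- The standard unitary form `Σ u_k v_k^{q₀}` on `F^m`. -/
def sfuStd (F : Type*) [Field F] (q₀ m : ℕ) : (Fin m → F) → (Fin m → F) → F :=
  fun u v => ∑ k, u k * v k ^ q₀

/-- `x` is conjugate, by a matrix of determinant one, into the similarity group of `f`. -/
def SfuConj {F : Type*} [Field F] {n : ℕ} (f : (Fin n → F) → (Fin n → F) → F)
    (x : Matrix (Fin n) (Fin n) F) : Prop :=
  ∃ (P : Matrix (Fin n) (Fin n) F) (g : GL (Fin n) F), P.det = 1 ∧ g ∈ similarityGroup f ∧
    x * P = P * (g : Matrix (Fin n) (Fin n) F)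

/-- `x` is conjugate, by an invertible matrix, into the similarity group of `f`. -/
def SfuWeakConj {F : Type*} [Field F] {n : ℕ} (f : (Fin n → F) → (Fin n → F) → F)
    (x : Matrix (Fin n) (Fin n) F) : Prop :=
  ∃ (P : Matrix (Fin n) (Fin n) F) (g : GL (Fin n) F), P.det ≠ 0 ∧ g ∈ similarityGroup f ∧
    x * P = P * (g : Matrix (Fin n) (Fin n) F)

/-- There is a matrix of determinant one, with scalar `r`-th power, not scalar, and not conjugate
into the similarity group of `f`. -/
def SfuDerang {F : Type*} [Field F] {n : ℕ} (f : (Fin n → F) → (Fin n → F) → F) (r : ℕ) : Prop :=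
  ∃ x : Matrix (Fin n) (Fin n) F, x.det = 1 ∧
    (∃ z : F, x ^ r = z • (1 : Matrix (Fin n) (Fin n) F)) ∧
    (∀ z : F, x ≠ z • (1 : Matrix (Fin n) (Fin n) F)) ∧ ¬ SfuWeakConj f x

end Cfsg.Agent.Lib.helper24
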