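import Mathlib

/-!
# Subfield subgroups of `SL_n(F)`: conjugacy predicates used for S5965
-/

set_option autoImplicit false

namespace Cfsg.Agent.Lib.helper24

/-- `x` is conjugate, by a matrix of determinant one, to a scalar multiple of a matrix with
entries in the subfield `F₀`. -/
def SffConj {F : Type*} [Field F] (F₀ : Subfield F) {n : ℕ} (x : Matrix (Fin n) (Fin n) F) : Prop :=
  ∃ (P M₀ : Matrix (Fin n) (Fin n) F) (σ : F), P.det = 1 ∧ σ ≠ 0 ∧ (∀ i j, M₀ i j ∈ F₀) ∧
    x * P = P * (σ • M₀)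

/-- `x` is conjugate, by an invertible matrix, to a scalar multiple of a matrix with entries in
the subfield `F₀`. -/
def SffWeakConj {F : Type*} [Field F] (F₀ : Subfield F) {n : ℕ} (x : Matrix (Fin n) (Fin n) F) :
    Prop :=
  ∃ (P M₀ : Matrix (Fin n) (Fin n) F) (σ : F), P.det ≠ 0 ∧ σ ≠ 0 ∧ (∀ i j, M₀ i j ∈ F₀) ∧
    x * P = P * (σ • M₀)

/-- There is a matrix of determinant one, with scalar `r`-th power, not scalar, and not conjugate
into the subfield group of `F₀`. -/
def SffDerang {F : Type*} [Field F] (F₀ : Subfield F) (r n : ℕ) : Prop :=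
  ∃ x : Matrix (Fin n) (Fin n) F, x.det = 1 ∧
    (∃ z : F, x ^ r = z • (1 : Matrix (Fin n) (Fin n) F)) ∧
    (∀ z : F, x ≠ z • (1 : Matrix (Fin n) (Fin n) F)) ∧ ¬ SffWeakConj F₀ x

end Cfsg.Agent.Lib.helper24
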