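import Mathlib

/-!
# Invariant complements for `T ^ r = c • 1` and the number of complements of a subspace
-/

set_option autoImplicit false

namespace Cfsg.Agent.Lib.helper24

open Module

section maschke

variable {F : Type*} [Field F] {V : Type*} [AddCommGroup V] [Module F V]

theorem dec_pow_mem (T : Module.End F V) (W : Submodule F V) (hW : ∀ w ∈ W, T w ∈ W) (k : ℕ) :
    ∀ w ∈ W, (T ^ k) w ∈ W := by
  induction k with
  | zero =>
    intro w hw
    exact hw
  | succ k ih =>
    intro w hw
    rw [pow_succ, Module.End.mul_apply]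
    exact ih _ (hW w hw)

/-- Maschke for a single operator with `T ^ r = c • 1`, `c ≠ 0`, `r` invertible: every invariant
subspace has an invariant complement. -/
theorem dec_maschke (T : Module.End F V) (r : ℕ) (c : F) (hc : c ≠ 0) (hr : (r : F) ≠ 0)
    (hT : T ^ r = c • (1 : Module.End F V)) (W : Submodule F V) (hW : ∀ w ∈ W, T w ∈ W) :
    ∃ W' : Submodule F V, IsCompl W W' ∧ ∀ w ∈ W', T w ∈ W' := by
  have hr1 : 1 ≤ r := by
    rcases Nat.eq_zero_or_pos r with h | h
    · exfalso
      apply hr
      rw [h, Nat.cast_zero]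
    · exact h
  obtain ⟨S, hSdef⟩ : ∃ S : Module.End F V, S = c⁻¹ • T ^ (r - 1) := ⟨_, rfl⟩
  have hTS : T * S = 1 := by
    rw [hSdef, mul_smul_comm, ← pow_succ']
    have h1 : r - 1 + 1 = r := by omega
    rw [h1, hT, smul_smul, inv_mul_cancel₀ hc, one_smul]
  have hST : S * T = 1 := by
    rw [hSdef, smul_mul_assoc, ← pow_succ]
    have h1 : r - 1 + 1 = r := by omega
    rw [h1, hT, smul_smul, inv_mul_cancel₀ hc, one_smul]
  have hcomm : Commute T S := by
    rw [Commute, SemiconjBy, hTS, hST]
  have hTSk : ∀ k : ℕ, T ^ k * S ^ k = 1 := by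
    intro k
    rw [← hcomm.mul_pow, hTS, one_pow]
  have hWS : ∀ w ∈ W, S w ∈ W := by
    intro w hw
    rw [hSdef, LinearMap.smul_apply]
    exact W.smul_mem _ (dec_pow_mem T W hW _ w hw)
  have hSr : S ^ r = c⁻¹ • (1 : Module.End F V) := by
    have h1 := hTSk r
    rw [hT, smul_mul_assoc, one_mul] at h1
    have h2 := congrArg (fun X : Module.End F V => c⁻¹ • X) h1
    simp only [smul_smul, inv_mul_cancel₀ hc, one_smul] at h2
    exact h2
  obtain ⟨W₀, hW₀⟩ := Submodule.exists_isCompl W
  obtain ⟨π, hπdef⟩ : ∃ π : Module.End F V, π = W.projection W₀ hW₀ := ⟨_, rfl⟩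
  have hπ1 : ∀ v, π v ∈ W := by
    intro v
    rw [hπdef]
    exact Submodule.projection_apply_mem hW₀ v
  have hπ2 : ∀ w ∈ W, π w = w := by
    intro w hw
    rw [hπdef]
    exact Submodule.projection_apply_of_mem_left hW₀ hw
  obtain ⟨Sg, hSgdef⟩ : ∃ Sg : Module.End F V,
      Sg = ∑ k ∈ Finset.range r, T ^ k * π * S ^ k := ⟨_, rfl⟩
  have hSg1 : ∀ v, Sg v ∈ W := by
    intro v
    rw [hSgdef, LinearMap.sum_apply]
    apply Submodule.sum_mem
    intro k _
    rw [Module.End.mul_apply, Module.End.mul_apply]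
    exact dec_pow_mem T W hW k _ (hπ1 _)
  have hSg2 : ∀ w ∈ W, Sg w = (r : F) • w := by
    intro w hw
    rw [hSgdef, LinearMap.sum_apply]
    have h1 : ∀ k ∈ Finset.range r, (T ^ k * π * S ^ k) w = w := by
      intro k _
      rw [Module.End.mul_apply, Module.End.mul_apply, hπ2 _ (dec_pow_mem S W hWS k w hw),
        ← Module.End.mul_apply, hTSk]
      rfl
    rw [Finset.sum_congr rfl h1, Finset.sum_const, Finset.card_range, Nat.cast_smul_eq_nsmul]
  have hSg3 : T * Sg = Sg * T := by
    have h1 : T * Sg * S = Sg := by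
      rw [hSgdef, Finset.mul_sum, Finset.sum_mul]
      have h2 : ∀ k ∈ Finset.range r, T * (T ^ k * π * S ^ k) * S =
          T ^ (k + 1) * π * S ^ (k + 1) := by
        intro k _
        rw [pow_succ' T, pow_succ S]
        simp only [mul_assoc]
      rw [Finset.sum_congr rfl h2]
      have h3 := Finset.sum_range_succ (fun k => T ^ k * π * S ^ k) r
      have h4 := Finset.sum_range_succ' (fun k => T ^ k * π * S ^ k) r
      rw [h3] at h4
      have h5 : T ^ r * π * S ^ r = T ^ 0 * π * S ^ 0 := by
        rw [hT, hSr, pow_zero, pow_zero, smul_mul_assoc, mul_smul_comm, smul_mul_assoc, smul_smul,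
          inv_mul_cancel₀ hc, one_smul]
      rw [h5] at h4
      exact (add_right_cancel h4).symm
    calc T * Sg = T * Sg * (S * T) := by rw [hST, mul_one]
      _ = (T * Sg * S) * T := by simp only [mul_assoc]
      _ = Sg * T := by rw [h1]
  refine ⟨LinearMap.ker Sg, ?_, ?_⟩
  · rw [isCompl_iff, disjoint_iff, codisjoint_iff]
    constructor
    · rw [eq_bot_iff]
      rintro w ⟨hw1, hw2⟩
      rw [SetLike.mem_coe, LinearMap.mem_ker, hSg2 w hw1] at hw2
      rw [Submodule.mem_bot]
      exact (smul_eq_zero.1 hw2).resolve_left hr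
    · rw [eq_top_iff]
      intro v _
      have h1 : v = (r : F)⁻¹ • Sg v + (v - (r : F)⁻¹ • Sg v) := by abel
      rw [h1]
      apply Submodule.add_mem
      · exact Submodule.mem_sup_left (W.smul_mem _ (hSg1 v))
      · apply Submodule.mem_sup_right
        rw [LinearMap.mem_ker, map_sub, map_smul, hSg2 _ (hSg1 v), smul_smul, inv_mul_cancel₀ hr,
          one_smul, sub_self]
  · intro w hw
    rw [LinearMap.mem_ker] at hw ⊢
    rw [← Module.End.mul_apply, ← hSg3, Module.End.mul_apply, hw, map_zero]

end maschke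

section count

variable {F : Type*} [Field F] [Fintype F] {V : Type*} [AddCommGroup V] [Module F V] [Finite V]

/-- The number of complements of a subspace. -/
theorem dec_card_compl (U : Submodule F V) :
    Nat.card {W : Submodule F V // IsCompl U W} =
      Fintype.card F ^ ((finrank F V - finrank F U) * finrank F U) := by
  classical
  obtain ⟨W₀, hW₀⟩ := Submodule.exists_isCompl U
  have hdim := Submodule.finrank_add_eq_of_isCompl hW₀
  have hψ : ∀ φ : W₀ →ₗ[F] U, IsCompl U (LinearMap.range (W₀.subtype + U.subtype ∘ₗ φ)) := by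
    intro φ
    rw [isCompl_iff, disjoint_iff, codisjoint_iff]
    constructor
    · rw [eq_bot_iff]
      rintro x ⟨hx1, ⟨w, rfl⟩⟩
      have h1 : (w : V) ∈ U := by
        have h2 := U.sub_mem hx1 (φ w).2
        simp only [LinearMap.add_apply, Submodule.subtype_apply, LinearMap.comp_apply,
          add_sub_cancel_right] at h2
        exact h2
      have h3 : (w : V) ∈ U ⊓ W₀ := ⟨h1, w.2⟩
      rw [hW₀.inf_eq_bot, Submodule.mem_bot] at h3
      have h4 : w = 0 := Subtype.ext h3
      rw [h4, map_zero]
      exact Submodule.zero_mem _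
    · rw [eq_top_iff]
      intro v _
      have hv : v ∈ U ⊔ W₀ := by
        rw [hW₀.sup_eq_top]
        trivial
      obtain ⟨u, hu, w, hw, rfl⟩ := Submodule.mem_sup.1 hv
      have h1 : u + w = (u - (φ ⟨w, hw⟩ : V)) + (w + (φ ⟨w, hw⟩ : V)) := by abel
      rw [h1]
      apply Submodule.add_mem
      · exact Submodule.mem_sup_left (U.sub_mem hu (φ ⟨w, hw⟩).2)
      · apply Submodule.mem_sup_right
        exact ⟨⟨w, hw⟩, rfl⟩
  have hbij : Function.Bijective (fun φ : W₀ →ₗ[F] U =>
      (⟨LinearMap.range (W₀.subtype + U.subtype ∘ₗ φ), hψ φ⟩ : {W : Submodule F V // IsCompl U W})) := by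
    constructor
    · intro φ φ' h
      have h1 : LinearMap.range (W₀.subtype + U.subtype ∘ₗ φ) =
          LinearMap.range (W₀.subtype + U.subtype ∘ₗ φ') := congrArg Subtype.val h
      apply LinearMap.ext
      intro w
      have h2 : (W₀.subtype + U.subtype ∘ₗ φ) w ∈
          LinearMap.range (W₀.subtype + U.subtype ∘ₗ φ') := by
        rw [← h1]
        exact ⟨w, rfl⟩
      obtain ⟨w', hw'⟩ := h2
      simp only [LinearMap.add_apply, Submodule.subtype_apply, LinearMap.comp_apply] at hw'
      have h3 : (w' : V) - (w : V) = (φ w : V) - (φ' w' : V) := by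
        rw [sub_eq_sub_iff_add_eq_add]
        rw [hw']
        abel
      have h4 : (w' : V) - (w : V) ∈ U ⊓ W₀ := by
        refine ⟨?_, W₀.sub_mem w'.2 w.2⟩
        rw [SetLike.mem_coe, h3]
        exact U.sub_mem (φ w).2 (φ' w').2
      rw [hW₀.inf_eq_bot, Submodule.mem_bot, sub_eq_zero] at h4
      have h5 : w' = w := Subtype.ext h4
      rw [h5] at hw'
      apply Subtype.ext
      exact (add_left_cancel hw').symm
    · rintro ⟨W, hW⟩
      refine ⟨-(U.projectionOnto W hW ∘ₗ W₀.subtype), ?_⟩
      apply Subtype.ext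
      show LinearMap.range (W₀.subtype + U.subtype ∘ₗ (-(U.projectionOnto W hW ∘ₗ W₀.subtype))) = W
      have hle : LinearMap.range (W₀.subtype + U.subtype ∘ₗ (-(U.projectionOnto W hW ∘ₗ W₀.subtype)))
          ≤ W := by
        rintro _ ⟨w, rfl⟩
        have h1 := Submodule.sub_projection_mem hW (w : V)
        simp only [LinearMap.add_apply, Submodule.subtype_apply, LinearMap.comp_apply,
          LinearMap.neg_apply, Submodule.coe_neg, Submodule.coe_projectionOnto_apply]
        rw [← sub_eq_add_neg]
        exact h1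
      apply le_antisymm hle
      intro x hx
      have hv : x ∈ U ⊔ W₀ := by
        rw [hW₀.sup_eq_top]
        trivial
      obtain ⟨u, hu, w, hw, rfl⟩ := Submodule.mem_sup.1 hv
      have h2 : (W₀.subtype + U.subtype ∘ₗ (-(U.projectionOnto W hW ∘ₗ W₀.subtype))) ⟨w, hw⟩ ∈ W :=
        hle ⟨⟨w, hw⟩, rfl⟩
      have h3 : u + w - (W₀.subtype + U.subtype ∘ₗ (-(U.projectionOnto W hW ∘ₗ W₀.subtype))) ⟨w, hw⟩
          ∈ U ⊓ W := by
        refine ⟨?_, W.sub_mem hx h2⟩
        simp only [LinearMap.add_apply, Submodule.subtype_apply, LinearMap.comp_apply,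
          LinearMap.neg_apply, Submodule.coe_neg, Submodule.coe_projectionOnto_apply]
        have h4 : u + w - (w + -(U.projection W hW) w) = u + (U.projection W hW) w := by abel
        rw [SetLike.mem_coe, h4]
        exact U.add_mem hu (Submodule.projection_apply_mem hW w)
      rw [hW.inf_eq_bot, Submodule.mem_bot, sub_eq_zero] at h3
      rw [h3]
      exact ⟨⟨w, hw⟩, rfl⟩
  rw [← Nat.card_eq_of_bijective _ hbij, Module.natCard_eq_pow_finrank (K := F),
    Module.finrank_linearMap, Nat.card_eq_fintype_card]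
  congr 2
  omega

/-- The number of decompositions `V = U ⊕ W` with `dim U = m`. -/
theorem dec_card_decomp (n m : ℕ) :
    Nat.card {P : Submodule F (Fin n → F) × Submodule F (Fin n → F) //
        IsCompl P.1 P.2 ∧ finrank F P.1 = m} =
      Nat.card {W : Submodule F (Fin n → F) // finrank F W = m} *
        Fintype.card F ^ ((n - m) * m) := by
  classical
  haveI : Fintype {W : Submodule F (Fin n → F) // finrank F W = m} := Fintype.ofFinite _
  have e : {P : Submodule F (Fin n → F) × Submodule F (Fin n → F) //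
        IsCompl P.1 P.2 ∧ finrank F P.1 = m} ≃
      Σ U : {W : Submodule F (Fin n → F) // finrank F W = m},
        {W : Submodule F (Fin n → F) // IsCompl U.1 W} :=
    { toFun := fun P => ⟨⟨P.1.1, P.2.2⟩, ⟨P.1.2, P.2.1⟩⟩
      invFun := fun s => ⟨(s.1.1, s.2.1), s.2.2, s.1.2⟩
      left_inv := fun P => rfl
      right_inv := fun s => rfl }
  rw [Nat.card_congr e, Nat.card_sigma]
  have h1 : ∀ U : {W : Submodule F (Fin n → F) // finrank F W = m},
      Nat.card {W : Submodule F (Fin n → F) // IsCompl U.1 W} =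
        Fintype.card F ^ ((n - m) * m) := by
    intro U
    rw [dec_card_compl, U.2, Module.finrank_fin_fun]
  rw [Finset.sum_congr rfl (fun U _ => h1 U), Finset.sum_const, Finset.card_univ, smul_eq_mul,
    Nat.card_eq_fintype_card]

end count

end Cfsg.Agent.Lib.helper24
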