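import Mathlib
import Cfsg.Agent.Lib.helper24.DecMaschke

/-!
# Linear algebra toolkit for permuted direct-sum decompositions
-/

set_option autoImplicit false

namespace Cfsg.Agent.Lib.helper24

open Module

section ela

variable {F : Type*} [Field F] {V : Type*} [AddCommGroup V] [Module F V]

/-- The dimension of a finite sub-sum of an independent family. -/
theorem el_finrank_biSup [FiniteDimensional F V] {ι : Type*} [DecidableEq ι]
    (D : ι → Submodule F V) (hD : iSupIndep D) (S : Finset ι) :
    finrank F ↥(⨆ j ∈ S, D j) = ∑ j ∈ S, finrank F (D j) := by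
  induction S using Finset.induction_on with
  | empty => simp
  | insert j S hj ih =>
    rw [Finset.iSup_insert, Finset.sum_insert hj, ← ih]
    have hdis : Disjoint (D j) (⨆ i ∈ S, D i) := by
      have h := hD.disjoint_biSup (x := j) (y := (S : Set ι)) (by simpa using hj)
      simpa using h
    have h2 := Submodule.finrank_sup_add_finrank_inf_eq (D j) (⨆ i ∈ S, D i)
    rw [disjoint_iff.mp hdis, finrank_bot] at h2
    omega

/-- Sub-sums of an independent family over disjoint index sets are disjoint. -/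
theorem el_disjoint_biSup [FiniteDimensional F V] {ι : Type*} [DecidableEq ι]
    (D : ι → Submodule F V) (hD : iSupIndep D) (A B : Finset ι) (hAB : Disjoint A B) :
    (⨆ j ∈ A, D j) ⊓ (⨆ j ∈ B, D j) = ⊥ := by
  have h1 := el_finrank_biSup D hD (A ∪ B)
  rw [Finset.iSup_union, Finset.sum_union hAB, ← el_finrank_biSup D hD A,
    ← el_finrank_biSup D hD B] at h1
  have h2 := Submodule.finrank_sup_add_finrank_inf_eq (⨆ j ∈ A, D j) (⨆ j ∈ B, D j)
  apply Submodule.finrank_eq_zero.mp
  omega

theorem el_finrank_iSup [FiniteDimensional F V] {ι : Type*} [Fintype ι]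
    (D : ι → Submodule F V) (hD : iSupIndep D) :
    finrank F ↥(⨆ j, D j) = ∑ j, finrank F (D j) := by
  classical
  have h := el_finrank_biSup D hD Finset.univ
  have h2 : (⨆ j ∈ (Finset.univ : Finset ι), D j) = ⨆ j, D j := by simp
  rw [h2] at h
  exact h

/-- A family whose dimensions add up to at most the dimension of its sum is independent. -/
theorem el_indep_of_finrank [FiniteDimensional F V] {ι : Type*} [Fintype ι]
    (D : ι → Submodule F V)
    (h : ∑ j, finrank F (D j) ≤ finrank F ↥(⨆ j, D j)) : iSupIndep D := by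
  classical
  obtain ⟨Φ, hΦ⟩ : ∃ Φ : (∀ j, D j) →ₗ[F] V, Φ = ∑ j, (D j).subtype ∘ₗ LinearMap.proj j :=
    ⟨_, rfl⟩
  have happ : ∀ w : (∀ j, D j), Φ w = ∑ j, (w j : V) := by
    intro w
    rw [hΦ, LinearMap.sum_apply]
    rfl
  have hrange : (⨆ j, D j) ≤ LinearMap.range Φ := by
    apply iSup_le
    intro j x hx
    refine ⟨Pi.single j ⟨x, hx⟩, ?_⟩
    rw [happ, Finset.sum_eq_single j]
    · simp
    · intro i _ hij
      simp [Pi.single_eq_of_ne hij]
    · intro hj; exact absurd (Finset.mem_univ j) hj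
  have h1 := LinearMap.finrank_range_add_finrank_ker Φ
  have h2 : finrank F (∀ j, D j) = ∑ j, finrank F (D j) := Module.finrank_pi_fintype F
  have h3 := Submodule.finrank_mono hrange
  have hker : LinearMap.ker Φ = ⊥ := by
    apply Submodule.finrank_eq_zero.mp
    omega
  have hinj : Function.Injective Φ := LinearMap.ker_eq_bot.mp hker
  rw [iSupIndep_iff_finsetSum_eq_zero_imp_eq_zero]
  intro s v hv hsum i hi
  obtain ⟨w, hw⟩ : ∃ w : (∀ j, D j),
      w = fun j => if hj : j ∈ s then ⟨v j, hv j hj⟩ else 0 := ⟨_, rfl⟩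
  have hw0 : Φ w = 0 := by
    rw [happ, ← hsum, ← Finset.sum_subset (Finset.subset_univ s)]
    · apply Finset.sum_congr rfl
      intro j hj
      rw [hw]; simp [hj]
    · intro j _ hj
      rw [hw]; simp [hj]
  have hw1 : w = 0 := hinj (by rw [hw0, map_zero])
  have h5 := congrFun hw1 i
  rw [hw] at h5
  simp only [hi, dite_true] at h5
  exact congrArg Subtype.val h5

/-- Coordinate projections of a direct-sum decomposition, equivariant for a map permuting the
summands. -/
theorem el_coord {ι : Type*} [Fintype ι] [DecidableEq ι] (D : ι → Submodule F V)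
    (hD : iSupIndep D) (htop : ⨆ j, D j = ⊤) (T : V →ₗ[F] V) (σ : Equiv.Perm ι)
    (hT : ∀ j, (D j).map T ≤ D (σ j)) :
    ∃ π : ι → (V →ₗ[F] V), (∀ j v, π j v ∈ D j) ∧ (∀ j, ∀ d ∈ D j, π j d = d) ∧
      (∀ j i, i ≠ j → ∀ d ∈ D i, π j d = 0) ∧ (∀ v, ∑ j, π j v = v) ∧
      (∀ j v, π (σ j) (T v) = T (π j v)) := by
  have hc : ∀ j, IsCompl (D j) (⨆ (i) (_ : i ≠ j), D i) := by
    intro j
    refine ⟨hD j, ?_⟩
    rw [codisjoint_iff, ← iSup_split_single, htop]
  obtain ⟨π, hπ⟩ : ∃ π : ι → (V →ₗ[F] V), π = fun j => (D j).projection _ (hc j) := ⟨_, rfl⟩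
  have h1 : ∀ j v, π j v ∈ D j := by
    intro j v; rw [hπ]; exact Submodule.projection_apply_mem (hc j) v
  have h2 : ∀ j, ∀ d ∈ D j, π j d = d := by
    intro j d hd; rw [hπ]; exact Submodule.projection_apply_of_mem_left (hc j) hd
  have h3 : ∀ j i, i ≠ j → ∀ d ∈ D i, π j d = 0 := by
    intro j i hij d hd
    rw [hπ]
    show (D j).projection _ (hc j) d = 0
    rw [Submodule.projection_apply_eq_zero_iff]
    exact Submodule.mem_iSup_of_mem i (Submodule.mem_iSup_of_mem hij hd)
  have h4 : ∀ v, ∑ j, π j v = v := by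
    intro v
    have hv : v ∈ ⨆ j, D j := by rw [htop]; trivial
    refine Submodule.iSup_induction D (motive := fun v => ∑ j, π j v = v) hv ?_ ?_ ?_
    · intro i x hx
      rw [Finset.sum_eq_single i]
      · exact h2 i x hx
      · intro j _ hji
        exact h3 j i (Ne.symm hji) x hx
      · intro hi; exact absurd (Finset.mem_univ i) hi
    · simp
    · intro x y hx hy
      simp only [map_add, Finset.sum_add_distrib]
      rw [hx, hy]
  have hsum : ∀ (w : ι → V), (∀ j, w j ∈ D j) → ∀ j, π j (∑ i, w i) = w j := by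
    intro w hw j
    rw [map_sum, Finset.sum_eq_single j]
    · exact h2 j _ (hw j)
    · intro i _ hij; exact h3 j i hij _ (hw i)
    · intro h; exact absurd (Finset.mem_univ j) h
  refine ⟨π, h1, h2, h3, h4, ?_⟩
  intro j v
  have hw : ∀ i, T (π (σ.symm i) v) ∈ D i := by
    intro i
    have := hT (σ.symm i) (Submodule.mem_map_of_mem (h1 (σ.symm i) v))
    rwa [Equiv.apply_symm_apply] at this
  have hTv : T v = ∑ i, T (π (σ.symm i) v) := by
    have h5 : T v = T (∑ i, π i v) := by rw [h4 v]
    rw [h5, map_sum, ← Equiv.sum_comp σ (fun i => T (π (σ.symm i) v))]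
    simp
  rw [hTv, hsum _ hw, Equiv.symm_apply_apply]

/-- `T` fixes the values of the norm map `∑ T^m`. -/
theorem el_norm_fixed (T : Module.End F V) (r : ℕ) (hT : T ^ r = 1) (v : V) :
    T ((∑ m ∈ Finset.range r, T ^ m) v) = (∑ m ∈ Finset.range r, T ^ m) v := by
  have h1 : (T - 1) * ∑ m ∈ Finset.range r, T ^ m = T ^ r - 1 := mul_geom_sum T r
  rw [hT, sub_self] at h1
  have h2 := congrArg (fun φ : Module.End F V => φ v) h1
  simp only [Module.End.mul_apply, LinearMap.sub_apply, Module.End.one_apply,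
    LinearMap.zero_apply] at h2
  exact sub_eq_zero.mp h2

theorem el_pow_fixed (T : Module.End F V) (w : V) (hw : T w = w) (m : ℕ) : (T ^ m) w = w := by
  induction m with
  | zero => simp
  | succ m ih => rw [pow_succ, Module.End.mul_apply, hw, ih]

/-- The norm map is multiplication by `r` on fixed vectors. -/
theorem el_norm_of_fixed (T : Module.End F V) (r : ℕ) (w : V) (hw : T w = w) :
    (∑ m ∈ Finset.range r, T ^ m) w = (r : F) • w := by
  rw [LinearMap.sum_apply]
  rw [Finset.sum_congr rfl (fun m _ => el_pow_fixed T w hw m)]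
  rw [Finset.sum_const, Finset.card_range, Nat.cast_smul_eq_nsmul]

/-- The norm map kills the range of `T - 1`. -/
theorem el_norm_sub (T : Module.End F V) (r : ℕ) (hT : T ^ r = 1) (u : V) :
    (∑ m ∈ Finset.range r, T ^ m) (T u - u) = 0 := by
  have h1 : (∑ m ∈ Finset.range r, T ^ m) * (T - 1) = T ^ r - 1 := geom_sum_mul T r
  rw [hT, sub_self] at h1
  have h2 := congrArg (fun φ : Module.End F V => φ u) h1
  simpa using h2

/-- Fixed vectors meet the range of `T - 1` trivially. -/
theorem el_fix_inf_range (T : Module.End F V) (r : ℕ) (hT : T ^ r = 1) (hr : (r : F) ≠ 0)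
    (v : V) (hv : T v = v) (hv2 : v ∈ LinearMap.range (T - 1)) : v = 0 := by
  obtain ⟨u, hu⟩ := hv2
  have h1 := el_norm_sub T r hT u
  have h2 : T u - u = v := by rw [← hu]; simp
  rw [h2, el_norm_of_fixed T r v hv] at h1
  rcases smul_eq_zero.mp h1 with h | h
  · exact absurd h hr
  · exact h

/-- An invariant subspace of an invertible map is mapped onto itself. -/
theorem el_map_eq (T : Module.End F V) (r : ℕ) (hr : r ≠ 0) (z : F) (hz : z ≠ 0)
    (hT : T ^ r = z • (1 : Module.End F V)) (U : Submodule F V) (hU : ∀ u ∈ U, T u ∈ U) :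
    U.map T = U := by
  apply le_antisymm
  · rintro _ ⟨u, hu, rfl⟩
    exact hU u hu
  · intro u hu
    refine ⟨z⁻¹ • (T ^ (r - 1)) u, U.smul_mem _ (dec_pow_mem T U hU (r - 1) u hu), ?_⟩
    have h1 : T * T ^ (r - 1) = T ^ r := by
      rw [← pow_succ']
      congr 1
      omega
    rw [map_smul, ← Module.End.mul_apply, h1, hT]
    simp [smul_smul, inv_mul_cancel₀ hz]

theorem el_map_pow_succ (T : Module.End F V) (D₀ : Submodule F V) (m : ℕ) :
    (D₀.map (T ^ m)).map T = D₀.map (T ^ (m + 1)) := by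
  rw [← Submodule.map_comp, pow_succ']
  rfl

theorem el_map_pow_add (T : Module.End F V) (r : ℕ) (z : F) (hz : z ≠ 0)
    (hT : T ^ r = z • (1 : Module.End F V)) (D₀ : Submodule F V) (k s : ℕ) :
    D₀.map (T ^ (k + r * s)) = D₀.map (T ^ k) := by
  induction s with
  | zero => simp
  | succ s ih =>
    have h1 : T ^ (k + r * (s + 1)) = z • T ^ (k + r * s) := by
      have h2 : k + r * (s + 1) = (k + r * s) + r := by ring
      rw [h2, pow_add, hT]
      simp
    rw [h1, Submodule.map_smul _ _ _ hz, ih]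

theorem el_map_pow_mod (T : Module.End F V) (r : ℕ) (z : F) (hz : z ≠ 0)
    (hT : T ^ r = z • (1 : Module.End F V)) (D₀ : Submodule F V) (k : ℕ) :
    D₀.map (T ^ k) = D₀.map (T ^ (k % r)) := by
  conv_lhs => rw [← Nat.mod_add_div k r]
  exact el_map_pow_add T r z hz hT D₀ (k % r) (k / r)

end ela

end Cfsg.Agent.Lib.helper24
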