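import Mathlib
import Cfsg.Agent.Lib.helper24.ElA

/-!
# Decompositions into equidimensional summands permuted by an endomorphism
-/

set_option autoImplicit false

namespace Cfsg.Agent.Lib.helper24

open Module

section elb

variable {F : Type*} [Field F] {V : Type*} [AddCommGroup V] [Module F V]

/-- `U` is a sum of `τ` subspaces of dimension at most `a`, permuted by `T`, and `U` has dimension
at least `a * τ` (so the sum is direct and every summand has dimension `a`). -/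
def ElDec (T : V →ₗ[F] V) (a τ : ℕ) (U : Submodule F V) : Prop :=
  ∃ (ι : Type) (_ : Fintype ι) (D : ι → Submodule F V) (σ : Equiv.Perm ι),
    Fintype.card ι = τ ∧ (∀ j, finrank F (D j) ≤ a) ∧ (⨆ j, D j) = U ∧ a * τ ≤ finrank F U ∧
    ∀ j, (D j).map T = D (σ j)

theorem el_dec_zero (T : V →ₗ[F] V) (a : ℕ) : ElDec T a 0 ⊥ := by
  refine ⟨Fin 0, inferInstance, fun j => j.elim0, Equiv.refl _, by simp, fun j => j.elim0,
    by simp, by simp, fun j => j.elim0⟩

theorem el_dec_single (T : V →ₗ[F] V) (a : ℕ) (U : Submodule F V) (hU : U.map T = U)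
    (ha : finrank F U = a) : ElDec T a 1 U := by
  refine ⟨Unit, inferInstance, fun _ => U, Equiv.refl _, by simp, fun _ => le_of_eq ha,
    by simp, by omega, fun _ => hU⟩

theorem el_dec_add [FiniteDimensional F V] (T : V →ₗ[F] V) (a τ₁ τ₂ : ℕ)
    (U₁ U₂ : Submodule F V) (h1 : ElDec T a τ₁ U₁) (h2 : ElDec T a τ₂ U₂)
    (hdis : U₁ ⊓ U₂ = ⊥) : ElDec T a (τ₁ + τ₂) (U₁ ⊔ U₂) := by
  obtain ⟨ι₁, _, D₁, σ₁, hc₁, hle₁, hs₁, hd₁, hm₁⟩ := h1
  obtain ⟨ι₂, _, D₂, σ₂, hc₂, hle₂, hs₂, hd₂, hm₂⟩ := h2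
  refine ⟨ι₁ ⊕ ι₂, inferInstance, Sum.elim D₁ D₂, Equiv.sumCongr σ₁ σ₂, ?_, ?_, ?_, ?_, ?_⟩
  · rw [Fintype.card_sum, hc₁, hc₂]
  · rintro (j | j)
    · exact hle₁ j
    · exact hle₂ j
  · rw [iSup_sum]
    simp only [Sum.elim_inl, Sum.elim_inr]
    rw [hs₁, hs₂]
  · have h := Submodule.finrank_sup_add_finrank_inf_eq U₁ U₂
    rw [hdis, finrank_bot] at h
    rw [mul_add]
    omega
  · rintro (j | j)
    · simpa using hm₁ j
    · simpa using hm₂ j

theorem el_dec_restrict (T : V →ₗ[F] V) (a τ : ℕ) (W : Submodule F V)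
    (hW : ∀ w ∈ W, T w ∈ W) (h : ElDec (T.restrict hW) a τ ⊤) : ElDec T a τ W := by
  obtain ⟨ι, _, D, σ, hc, hle, hs, hd, hm⟩ := h
  refine ⟨ι, inferInstance, fun j => (D j).map W.subtype, σ, hc, ?_, ?_, ?_, ?_⟩
  · intro j
    rw [Submodule.finrank_map_subtype_eq]
    exact hle j
  · rw [← Submodule.map_iSup, hs, Submodule.map_top, Submodule.range_subtype]
  · rw [finrank_top] at hd
    exact hd
  · intro j
    show ((D j).map W.subtype).map T = (D (σ j)).map W.subtype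
    rw [← hm j, ← Submodule.map_comp, ← Submodule.map_comp]
    have h1 : T ∘ₗ W.subtype = W.subtype ∘ₗ T.restrict hW := by
      ext w
      rfl
    rw [h1]

theorem el_dec_glue [FiniteDimensional F V] (T : V →ₗ[F] V) (a τ₁ τ₂ : ℕ)
    (M W' : Submodule F V) (hc : IsCompl M W') (hW' : ∀ w ∈ W', T w ∈ W')
    (h1 : ElDec T a τ₁ M) (h2 : ElDec (T.restrict hW') a τ₂ ⊤) : ElDec T a (τ₁ + τ₂) ⊤ := by
  have h3 := el_dec_add T a τ₁ τ₂ M W' h1 (el_dec_restrict T a τ₂ W' hW' h2) hc.inf_eq_bot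
  rwa [hc.sup_eq_top] at h3

theorem el_cyc_inv (T : Module.End F V) (D₀ : Submodule F V) :
    ∀ s ∈ (⨆ m : ℕ, D₀.map (T ^ m)), T s ∈ (⨆ m : ℕ, D₀.map (T ^ m)) := by
  intro s hs
  have h1 : (⨆ m : ℕ, D₀.map (T ^ m)).map T ≤ ⨆ m : ℕ, D₀.map (T ^ m) := by
    rw [Submodule.map_iSup]
    apply iSup_le
    intro m
    rw [el_map_pow_succ]
    exact le_iSup (fun k : ℕ => D₀.map (T ^ k)) (m + 1)
  exact h1 (Submodule.mem_map_of_mem hs)

theorem el_cyc_base (T : Module.End F V) (D₀ : Submodule F V) :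
    D₀ ≤ ⨆ m : ℕ, D₀.map (T ^ m) := by
  have h := le_iSup (fun k : ℕ => D₀.map (T ^ k)) 0
  have h2 : D₀.map (T ^ 0) = D₀ := by
    rw [pow_zero]
    exact Submodule.map_id D₀
  calc D₀ = D₀.map (T ^ 0) := h2.symm
    _ ≤ _ := h

/-- An `r`-cycle of summands. -/
theorem el_dec_cycle (T : Module.End F V) (r : ℕ) (hr1 : 1 < r) (z : F) (hz : z ≠ 0)
    (hT : T ^ r = z • (1 : Module.End F V)) (a : ℕ) (D₀ : Submodule F V)
    (hD₀ : finrank F D₀ ≤ a) [FiniteDimensional F V]
    (hdim : a * r ≤ finrank F ↥(⨆ m : ℕ, D₀.map (T ^ m))) :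
    ElDec T a r (⨆ m : ℕ, D₀.map (T ^ m)) := by
  haveI : NeZero r := ⟨by omega⟩
  haveI : Fact (1 < r) := ⟨hr1⟩
  refine ⟨ZMod r, inferInstance, fun m => D₀.map (T ^ m.val), Equiv.addRight 1, ZMod.card r,
    ?_, ?_, hdim, ?_⟩
  · intro m
    exact le_trans (Submodule.finrank_map_le _ _) hD₀
  · apply le_antisymm
    · apply iSup_le
      intro m
      exact le_iSup (fun k : ℕ => D₀.map (T ^ k)) m.val
    · apply iSup_le
      intro k
      have h : ((k : ZMod r)).val = k % r := ZMod.val_natCast r k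
      rw [el_map_pow_mod T r z hz hT D₀ k, ← h]
      exact le_iSup (fun m : ZMod r => D₀.map (T ^ m.val)) (k : ZMod r)
  · intro m
    show (D₀.map (T ^ m.val)).map T = D₀.map (T ^ (m + 1).val)
    rw [el_map_pow_succ, ZMod.val_add, ZMod.val_one, ← el_map_pow_mod T r z hz hT]

/-- Every vector fixed: a basis of fixed lines. -/
theorem el_dec_one [FiniteDimensional F V] (T : V →ₗ[F] V) (hT : ∀ v, T v = v) :
    ElDec T 1 (finrank F V) ⊤ := by
  classical
  obtain ⟨b⟩ : Nonempty (Basis (Fin (finrank F V)) F V) := ⟨Module.finBasis F V⟩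
  refine ⟨Fin (finrank F V), inferInstance, fun j => Submodule.span F {b j}, Equiv.refl _,
    by simp, ?_, ?_, ?_, ?_⟩
  · intro j
    rw [finrank_span_singleton (b.ne_zero j)]
  · rw [← Submodule.span_range_eq_iSup, b.span_eq]
  · simp
  · intro j
    rw [Submodule.map_span, Set.image_singleton, hT]
    rfl

/-- Unpacking `ElDec` with index type `Fin τ`. -/
theorem el_dec_final [FiniteDimensional F V] (T : V →ₗ[F] V) (a τ : ℕ) (U : Submodule F V)
    (h : ElDec T a τ U) :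
    ∃ (D : Fin τ → Submodule F V) (σ : Equiv.Perm (Fin τ)), (∀ j, finrank F (D j) = a) ∧
      iSupIndep D ∧ (⨆ j, D j) = U ∧ ∀ j, (D j).map T = D (σ j) := by
  obtain ⟨ι, _, D, σ, hc, hle, hs, hd, hm⟩ := h
  have hsum : ∑ j, finrank F (D j) ≤ a * τ := by
    calc ∑ j, finrank F (D j) ≤ ∑ _j : ι, a := Finset.sum_le_sum (fun j _ => hle j)
      _ = a * τ := by rw [Finset.sum_const, Finset.card_univ, hc, smul_eq_mul, mul_comm]
  have hind : iSupIndep D := el_indep_of_finrank D (by rw [hs]; omega)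
  have heq : ∀ j, finrank F (D j) = a := by
    intro j₀
    by_contra hne
    have hlt : finrank F (D j₀) < a := lt_of_le_of_ne (hle j₀) hne
    have h1 : ∑ j, finrank F (D j) < ∑ _j : ι, a :=
      Finset.sum_lt_sum (fun j _ => hle j) ⟨j₀, Finset.mem_univ _, hlt⟩
    rw [Finset.sum_const, Finset.card_univ, hc, smul_eq_mul] at h1
    have h2 := el_finrank_iSup D hind
    rw [hs] at h2
    nlinarith
  obtain ⟨e⟩ : Nonempty (ι ≃ Fin τ) := ⟨Fintype.equivFinOfCardEq hc⟩
  refine ⟨fun j => D (e.symm j), e.symm.trans (σ.trans e), fun j => heq _,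
    hind.comp e.symm.injective, ?_, ?_⟩
  · rw [← hs]
    exact Equiv.iSup_comp (g := D) e.symm
  · intro j
    rw [hm]
    simp

theorem el_restrict_pow (T : Module.End F V) (r : ℕ) (hT : T ^ r = 1) (W : Submodule F V)
    (hW : ∀ w ∈ W, T w ∈ W) : (T.restrict hW) ^ r = 1 := by
  rw [Module.End.pow_restrict]
  apply LinearMap.ext
  intro w
  apply Subtype.ext
  simp [hT]

theorem el_restrict_pow_smul (T : Module.End F V) (r : ℕ) (z : F)
    (hT : T ^ r = z • (1 : Module.End F V)) (W : Submodule F V)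
    (hW : ∀ w ∈ W, T w ∈ W) : (T.restrict hW) ^ r = z • (1 : Module.End F W) := by
  rw [Module.End.pow_restrict]
  apply LinearMap.ext
  intro w
  apply Subtype.ext
  simp [hT]

theorem el_restrict_pow_apply (T : Module.End F V) (W : Submodule F V)
    (hW : ∀ w ∈ W, T w ∈ W) (m : ℕ) (w : W) :
    (((T.restrict hW) ^ m) w : V) = (T ^ m) (w : V) := by
  induction m generalizing w with
  | zero => simp
  | succ m ih =>
    rw [pow_succ, Module.End.mul_apply, ih, pow_succ, Module.End.mul_apply]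
    rfl

theorem el_ker_restrict (T : Module.End F V) (W : Submodule F V) (hW : ∀ w ∈ W, T w ∈ W) :
    (LinearMap.ker (T.restrict hW - 1)).map W.subtype = LinearMap.ker (T - 1) ⊓ W := by
  ext v
  rw [Submodule.mem_map, Submodule.mem_inf]
  constructor
  · rintro ⟨w, hw, rfl⟩
    rw [LinearMap.mem_ker, LinearMap.sub_apply, sub_eq_zero] at hw
    refine ⟨?_, w.2⟩
    rw [LinearMap.mem_ker, LinearMap.sub_apply, sub_eq_zero]
    exact congrArg Subtype.val hw
  · rintro ⟨hvK, hvW⟩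
    refine ⟨⟨v, hvW⟩, ?_, rfl⟩
    rw [LinearMap.mem_ker, LinearMap.sub_apply, sub_eq_zero] at hvK ⊢
    exact Subtype.ext hvK

theorem el_finrank_ker_restrict (T : Module.End F V) (W : Submodule F V)
    (hW : ∀ w ∈ W, T w ∈ W) :
    finrank F (LinearMap.ker (T.restrict hW - 1)) = finrank F ↥(LinearMap.ker (T - 1) ⊓ W) := by
  rw [← el_ker_restrict T W hW, Submodule.finrank_map_subtype_eq]

theorem el_mod_arith (a c τ : ℕ) (h : (a * (τ + 1)) % c = (τ + 1) * (a % c)) :
    (a * τ) % c = τ * (a % c) := by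
  rcases Nat.eq_zero_or_pos c with h0 | hpos
  · subst h0
    simp [mul_comm]
  · have h1 : (τ + 1) * (a % c) < c := by
      rw [← h]
      exact Nat.mod_lt _ hpos
    have h2 : τ * (a % c) < c := by nlinarith [Nat.zero_le (a % c)]
    have h3 : a * τ = τ * (a % c) + c * (τ * (a / c)) := by
      conv_lhs => rw [← Nat.div_add_mod a c]
      ring
    rw [h3, Nat.add_mul_mod_self_left, Nat.mod_eq_of_lt h2]

end elb

end Cfsg.Agent.Lib.helper24
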