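import Mathlib
import Cfsg.Agent.Lib.helper24.ElB
import Cfsg.Agent.Lib.helper63.Elusive5

/-!
# Existence of permuted decompositions for elements of order `r` modulo scalars
-/

set_option autoImplicit false

namespace Cfsg.Agent.Lib.helper24

open Module Polynomial

universe u

section elc

variable {F : Type*} [Field F] [Fintype F]

theorem el_natCast_ne_zero (p f' : ℕ) [Fact p.Prime] (hF : Fintype.card F = p ^ f')
    (r : ℕ) [Fact r.Prime] (hpr : p.Coprime r) : ((r : ℕ) : F) ≠ 0 := by
  have hcharP : CharP F p := charP_of_card_eq_prime_pow hF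
  intro h
  have h2 : p ∣ r := (CharP.cast_eq_zero_iff F p r).mp h
  have h3 := Nat.Coprime.eq_one_of_dvd hpr h2
  exact (Fact.out : p.Prime).one_lt.ne' h3

theorem el_card_ne_zero (p f' : ℕ) [Fact p.Prime] (hF : Fintype.card F = p ^ f')
    (r : ℕ) [Fact r.Prime] (hpr : p.Coprime r) : ((Fintype.card F : ℕ) : ZMod r) ≠ 0 := by
  have hrp : r.Prime := Fact.out
  rw [Ne, ZMod.natCast_eq_zero_iff, hF]
  intro h
  have h1 := hrp.dvd_of_dvd_pow h
  have h2 := Nat.Coprime.eq_one_of_dvd hpr.symm h1
  exact hrp.one_lt.ne' h2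

/-- (P1) Invariant decompositions when the residues add up. -/
theorem el_P1 (p f' : ℕ) [Fact p.Prime] (hF : Fintype.card F = p ^ f')
    (r : ℕ) [Fact r.Prime] (hpr : p.Coprime r) (a : ℕ) :
    ∀ (τ : ℕ) (V : Type u) [AddCommGroup V] [Module F V] [Finite V] (T : V →ₗ[F] V),
      T ^ r = 1 → finrank F V = a * τ →
      finrank F V % orderOf ((Fintype.card F : ℕ) : ZMod r) =
        τ * (a % orderOf ((Fintype.card F : ℕ) : ZMod r)) → ElDec T a τ ⊤ := by
  obtain ⟨c, hc⟩ : ∃ c, c = orderOf ((Fintype.card F : ℕ) : ZMod r) := ⟨_, rfl⟩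
  rw [← hc]
  have hrp : r.Prime := Fact.out
  have hrF : ((r : ℕ) : F) ≠ 0 := el_natCast_ne_zero p f' hF r hpr
  intro τ
  induction τ with
  | zero =>
    intro V _ _ _ T hT hdim _
    have h0 : finrank F V = 0 := by simpa using hdim
    have hbot : (⊤ : Submodule F V) = ⊥ := by
      apply Submodule.finrank_eq_zero.mp
      rw [finrank_top]
      exact h0
    rw [hbot]
    exact el_dec_zero T a
  | succ τ ih =>
    intro V _ _ _ T hT hdim hmod
    have ha_le : a ≤ finrank F V := by
      rw [hdim]
      nlinarith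
    have hmod' : a % c ≤ finrank F V % c := by
      rw [hmod]
      nlinarith [Nat.zero_le (a % c)]
    obtain ⟨D₀, hD₀, hD₀inv⟩ :=
      Cfsg.Agent.Lib.helper63.Elusive.exists_invariant_of_order p f' hF r hpr a V T hT ha_le
        (by rw [← hc]; exact hmod')
    have hT' : T ^ r = (1 : F) • (1 : Module.End F V) := by rw [hT, one_smul]
    obtain ⟨W', hcompl, hW'inv⟩ := dec_maschke T r 1 one_ne_zero hrF hT' D₀ hD₀inv
    have hdimW : finrank F W' = a * τ := by
      have h := Submodule.finrank_add_eq_of_isCompl hcompl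
      rw [hD₀, hdim, Nat.mul_succ] at h
      omega
    have hres : (T.restrict hW'inv) ^ r = 1 := el_restrict_pow T r hT W' hW'inv
    have hmodW : finrank F W' % c = τ * (a % c) := by
      rw [hdimW]
      apply el_mod_arith
      rw [← hdim]
      exact hmod
    have h2 := ih W' (T.restrict hW'inv) hres hdimW hmodW
    have h1 : ElDec T a 1 D₀ :=
      el_dec_single T a D₀ (el_map_eq T r hrp.ne_zero 1 one_ne_zero hT' D₀ hD₀inv) hD₀
    have h3 := el_dec_glue T a 1 τ D₀ W' hcompl hW'inv h1 h2
    rwa [Nat.add_comm] at h3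

/-- (P2) Line decompositions with regular cycles when `ord_r(q) = r - 1`. -/
theorem el_P2 (p f' : ℕ) [Fact p.Prime] (hF : Fintype.card F = p ^ f')
    (r : ℕ) [Fact r.Prime] (hpr : p.Coprime r)
    (hc : orderOf ((Fintype.card F : ℕ) : ZMod r) = r - 1) :
    ∀ (n : ℕ) (V : Type u) [AddCommGroup V] [Module F V] [Finite V] (T : V →ₗ[F] V),
      T ^ r = 1 → finrank F V = n → n ≤ r * finrank F (LinearMap.ker (T - 1)) →
      ElDec T 1 n ⊤ := by
  have hrp : r.Prime := Fact.out
  have hrF : ((r : ℕ) : F) ≠ 0 := el_natCast_ne_zero p f' hF r hpr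
  have hq0 : ((Fintype.card F : ℕ) : ZMod r) ≠ 0 := el_card_ne_zero p f' hF r hpr
  obtain ⟨c, hcdef⟩ : ∃ c, c = orderOf ((Fintype.card F : ℕ) : ZMod r) := ⟨_, rfl⟩
  have hr2 : 2 ≤ r := hrp.two_le
  have hcr : c = r - 1 := by rw [hcdef, hc]
  intro n
  induction n using Nat.strong_induction_on with
  | _ n ih =>
    intro V _ _ _ T hT hdim hle
    by_cases hT1 : T = 1
    · rw [← hdim]
      exact el_dec_one T (by intro v; rw [hT1]; rfl)
    · obtain ⟨K, hK⟩ : ∃ K : Submodule F V, K = LinearMap.ker (T - 1) := ⟨_, rfl⟩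
      obtain ⟨R, hR⟩ : ∃ R : Submodule F V, R = LinearMap.range (T - 1) := ⟨_, rfl⟩
      have hKmem : ∀ v, v ∈ K ↔ T v = v := by
        intro v
        rw [hK, LinearMap.mem_ker, LinearMap.sub_apply, sub_eq_zero]
        rfl
      have hrk := LinearMap.finrank_range_add_finrank_ker (T - 1)
      have hdvd := Cfsg.Agent.Lib.helper63.Elusive.orderOf_dvd_finrank_sub r hq0 T hT
      have hRne : R ≠ ⊥ := by
        intro h
        apply hT1
        rw [hR, LinearMap.range_eq_bot] at h
        exact sub_eq_zero.mp h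
      have hRpos : 0 < finrank F R := by
        rw [pos_iff_ne_zero]
        intro h
        exact hRne (Submodule.finrank_eq_zero.mp h)
      have hcR : c ≤ finrank F R := by
        apply Nat.le_of_dvd hRpos
        have h1 : finrank F R = finrank F V - finrank F (LinearMap.ker (T - 1)) := by
          rw [hR]
          omega
        rw [h1, hcdef]
        exact hdvd
      have hRinv : ∀ v ∈ R, T v ∈ R := by
        rw [hR]
        rintro _ ⟨u, rfl⟩
        exact ⟨T u, by simp [map_sub]⟩
      have hresR : (T.restrict hRinv) ^ r = 1 := el_restrict_pow T r hT R hRinv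
      obtain ⟨Z', hZ'dim, hZ'inv⟩ :=
        Cfsg.Agent.Lib.helper63.Elusive.exists_invariant_of_order p f' hF r hpr c R
          (T.restrict hRinv) hresR hcR (by rw [← hcdef]; simp)
      obtain ⟨Z, hZ⟩ : ∃ Z : Submodule F V, Z = Z'.map R.subtype := ⟨_, rfl⟩
      have hZdim : finrank F Z = c := by
        rw [hZ, Submodule.finrank_map_subtype_eq, hZ'dim]
      have hZR : Z ≤ R := by
        rw [hZ]
        exact Submodule.map_subtype_le R Z'
      have hZinv : ∀ v ∈ Z, T v ∈ Z := by
        rw [hZ]
        rintro _ ⟨w, hw, rfl⟩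
        exact ⟨T.restrict hRinv w, hZ'inv w hw, rfl⟩
      have hKZ : ∀ v ∈ Z, T v = v → v = 0 := by
        intro v hv hfix
        exact el_fix_inf_range T r hT hrF v hfix (by rw [← hR]; exact hZR hv)
      have hVpos : 0 < n := by
        rw [← hdim]
        have := Submodule.finrank_le R
        omega
      have hKpos : 0 < finrank F K := by
        rw [hK]
        by_contra h0
        have h1 : finrank F (LinearMap.ker (T - 1)) = 0 := by omega
        rw [h1] at hle
        omega
      obtain ⟨⟨w, hwK⟩, hw0'⟩ := (Module.finrank_pos_iff_exists_ne_zero (R := F)).mp hKpos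
      have hw0 : w ≠ 0 := fun h => hw0' (Subtype.ext h)
      have hTw : T w = w := (hKmem w).mp hwK
      have hZpos : 0 < finrank F Z := by omega
      obtain ⟨⟨z, hzZ⟩, hz0'⟩ := (Module.finrank_pos_iff_exists_ne_zero (R := F)).mp hZpos
      have hz0 : z ≠ 0 := fun h => hz0' (Subtype.ext h)
      obtain ⟨M, hM⟩ : ∃ M : Submodule F V, M = Z ⊔ Submodule.span F {w} := ⟨_, rfl⟩
      have hZw : Z ⊓ Submodule.span F {w} = ⊥ := by
        rw [Submodule.eq_bot_iff]
        rintro v ⟨hvZ, hvw⟩
        obtain ⟨cf, rfl⟩ := Submodule.mem_span_singleton.mp hvw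
        apply hKZ _ hvZ
        rw [map_smul, hTw]
      have hMdim : finrank F M = r := by
        have h := Submodule.finrank_sup_add_finrank_inf_eq Z (Submodule.span F {w})
        rw [hZw, finrank_bot, finrank_span_singleton hw0, hZdim, ← hM] at h
        omega
      have hMinv : ∀ v ∈ M, T v ∈ M := by
        rw [hM]
        intro v hv
        obtain ⟨y, hy, x, hx, rfl⟩ := Submodule.mem_sup.mp hv
        obtain ⟨cf, rfl⟩ := Submodule.mem_span_singleton.mp hx
        rw [map_add, map_smul, hTw]
        exact Submodule.add_mem _ (Submodule.mem_sup_left (hZinv y hy))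
          (Submodule.mem_sup_right (Submodule.smul_mem _ _ (Submodule.mem_span_singleton_self w)))
      obtain ⟨D₀, hD₀⟩ : ∃ D₀ : Submodule F V, D₀ = Submodule.span F {z + w} := ⟨_, rfl⟩
      obtain ⟨S, hS⟩ : ∃ S : Submodule F V, S = ⨆ m : ℕ, D₀.map (T ^ m) := ⟨_, rfl⟩
      have hSinv : ∀ s ∈ S, T s ∈ S := by
        rw [hS]
        exact el_cyc_inv T D₀
      have hzwS : z + w ∈ S := by
        rw [hS]
        exact el_cyc_base T D₀ (by rw [hD₀]; exact Submodule.mem_span_singleton_self _)
      have hzwM : z + w ∈ M := by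
        rw [hM]
        exact Submodule.add_mem _ (Submodule.mem_sup_left hzZ)
          (Submodule.mem_sup_right (Submodule.mem_span_singleton_self w))
      have hSM : S ≤ M := by
        rw [hS]
        apply iSup_le
        intro m
        rintro _ ⟨d, hd, rfl⟩
        rw [hD₀] at hd
        obtain ⟨cf, rfl⟩ := Submodule.mem_span_singleton.mp hd
        rw [map_smul]
        exact M.smul_mem _ (dec_pow_mem T M hMinv m _ hzwM)
      obtain ⟨N, hN⟩ : ∃ N : Module.End F V, N = ∑ m ∈ Finset.range r, T ^ m := ⟨_, rfl⟩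
      have hNS : N (z + w) ∈ S := by
        rw [hN, LinearMap.sum_apply]
        exact Submodule.sum_mem _ (fun m _ => dec_pow_mem T S hSinv m _ hzwS)
      have hNz : N z = 0 := by
        apply hKZ
        · rw [hN, LinearMap.sum_apply]
          exact Submodule.sum_mem _ (fun m _ => dec_pow_mem T Z hZinv m _ hzZ)
        · rw [hN]
          exact el_norm_fixed T r hT z
      have hNw : N w = (r : F) • w := by
        rw [hN]
        exact el_norm_of_fixed T r w hTw
      have hwS : w ∈ S := by
        rw [map_add, hNz, zero_add, hNw] at hNS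
        have h1 := S.smul_mem (r : F)⁻¹ hNS
        rwa [smul_smul, inv_mul_cancel₀ hrF, one_smul] at h1
      have hzS : z ∈ S := by
        have h1 := S.sub_mem hzwS hwS
        simpa using h1
      have hZS : Z ≤ S := by
        obtain ⟨Y, hY⟩ : ∃ Y : Submodule F V, Y = S ⊓ Z := ⟨_, rfl⟩
        have hYinv : ∀ v ∈ Y, T v ∈ Y := by
          rw [hY]
          rintro v ⟨h1, h2⟩
          exact ⟨hSinv v h1, hZinv v h2⟩
        have hYres : (T.restrict hYinv) ^ r = 1 := el_restrict_pow T r hT Y hYinv
        have hYfix : LinearMap.ker (T.restrict hYinv - 1) = ⊥ := by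
          rw [Submodule.eq_bot_iff]
          intro v hv
          rw [LinearMap.mem_ker, LinearMap.sub_apply, sub_eq_zero] at hv
          have hv1 : T v.1 = v.1 := congrArg Subtype.val hv
          have hYle : Y ≤ Z := by
            rw [hY]
            exact inf_le_right
          have hvZ : v.1 ∈ Z := hYle v.2
          exact Subtype.ext (hKZ v.1 hvZ hv1)
        have h5 := Cfsg.Agent.Lib.helper63.Elusive.orderOf_dvd_finrank_sub r hq0
          (T.restrict hYinv) hYres
        rw [hYfix, finrank_bot, Nat.sub_zero, ← hcdef] at h5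
        have hYpos : 0 < finrank F Y := by
          rw [Module.finrank_pos_iff_exists_ne_zero (R := F)]
          exact ⟨⟨z, by rw [hY]; exact ⟨hzS, hzZ⟩⟩, fun h => hz0 (congrArg Subtype.val h)⟩
        have h6 := Nat.le_of_dvd hYpos h5
        have hYZ : Y = Z := by
          apply Submodule.eq_of_le_of_finrank_le
          · rw [hY]
            exact inf_le_right
          · rw [hZdim]
            exact h6
        rw [← hYZ, hY]
        exact inf_le_left
      have hMS : M ≤ S := by
        rw [hM]
        apply sup_le hZS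
        rw [Submodule.span_singleton_le_iff_mem]
        exact hwS
      have hSeq : S = M := le_antisymm hSM hMS
      have hdecM : ElDec T 1 r M := by
        rw [← hSeq, hS]
        apply el_dec_cycle T r hrp.one_lt 1 one_ne_zero (by rw [hT, one_smul]) 1 D₀
        · rw [hD₀]
          by_cases hzw : z + w = 0
          · rw [hzw, Submodule.span_zero_singleton, finrank_bot]
            exact Nat.zero_le 1
          · rw [finrank_span_singleton hzw]
        · rw [← hS, hSeq, hMdim]
          omega
      obtain ⟨W', hcompl, hW'inv⟩ :=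
        dec_maschke T r 1 one_ne_zero hrF (by rw [hT, one_smul]) M hMinv
      have hdimW : finrank F W' = n - r := by
        have h := Submodule.finrank_add_eq_of_isCompl hcompl
        omega
      have hres : (T.restrict hW'inv) ^ r = 1 := el_restrict_pow T r hT W' hW'inv
      have hKsplit : K ≤ (K ⊓ M) ⊔ (K ⊓ W') := by
        intro v hv
        have hv1 : T v = v := (hKmem v).mp hv
        have hvtop : v ∈ M ⊔ W' := by
          rw [hcompl.sup_eq_top]
          trivial
        obtain ⟨m, hm, w', hw', rfl⟩ := Submodule.mem_sup.mp hvtop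
        rw [map_add] at hv1
        have h1 : T m - m = -(T w' - w') := by
          have h0 : T m - m + (T w' - w') = 0 := by
            rw [sub_add_sub_comm, hv1, sub_self]
          exact eq_neg_of_add_eq_zero_left h0
        have h2 : T m - m ∈ M ⊓ W' := by
          refine ⟨M.sub_mem (hMinv m hm) hm, ?_⟩
          rw [h1]
          exact W'.neg_mem (W'.sub_mem (hW'inv w' hw') hw')
        rw [hcompl.inf_eq_bot, Submodule.mem_bot] at h2
        have h3 : T w' = w' := by
          rw [h2] at h1
          have h4 := neg_eq_zero.mp h1.symm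
          exact sub_eq_zero.mp h4
        exact Submodule.add_mem _
          (Submodule.mem_sup_left ⟨(hKmem m).mpr (sub_eq_zero.mp h2), hm⟩)
          (Submodule.mem_sup_right ⟨(hKmem w').mpr h3, hw'⟩)
      have hKM : finrank F ↥(K ⊓ M) ≤ 1 := by
        have h1 : K ⊓ M ≤ Submodule.span F {w} := by
          rintro v ⟨hvK, hvM⟩
          rw [SetLike.mem_coe, hM] at hvM
          obtain ⟨y, hy, x, hx, rfl⟩ := Submodule.mem_sup.mp hvM
          obtain ⟨cf, rfl⟩ := Submodule.mem_span_singleton.mp hx
          have hv1 := (hKmem _).mp hvK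
          rw [map_add, map_smul, hTw] at hv1
          have hy0 : y = 0 := hKZ y hy (add_right_cancel hv1)
          rw [hy0, zero_add]
          exact Submodule.smul_mem _ _ (Submodule.mem_span_singleton_self w)
        have h2 := Submodule.finrank_mono h1
        rw [finrank_span_singleton hw0] at h2
        exact h2
      have hKW : finrank F ↥(K ⊓ W') ≤ finrank F (LinearMap.ker (T.restrict hW'inv - 1)) := by
        rw [el_finrank_ker_restrict T W' hW'inv, hK]
      have hfix : finrank F K ≤ 1 + finrank F (LinearMap.ker (T.restrict hW'inv - 1)) := by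
        have h1 := Submodule.finrank_mono hKsplit
        have h2 := Submodule.finrank_add_le_finrank_add_finrank (K ⊓ M) (K ⊓ W')
        omega
      have hrn : r ≤ n := by
        rw [← hdim, ← hMdim]
        exact Submodule.finrank_le M
      have hle' : n - r ≤ r * finrank F (LinearMap.ker (T.restrict hW'inv - 1)) := by
        rw [hK] at hfix
        have h1 : r * finrank F (LinearMap.ker (T - 1)) ≤
            r * (1 + finrank F (LinearMap.ker (T.restrict hW'inv - 1))) :=
          Nat.mul_le_mul_left r hfix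
        rw [Nat.mul_add] at h1
        omega
      have h2 := ih (n - r) (by omega) W' (T.restrict hW'inv) hres hdimW hle'
      have h3 := el_dec_glue T 1 r (n - r) M W' hcompl hW'inv hdecM h2
      have h4 : r + (n - r) = n := by omega
      rwa [h4] at h3

end elc

section elc2

variable {F : Type*} [Field F]

/-- A regular block: `V` of dimension `r a` is the sum of the `T`-translates of an
`a`-dimensional subspace. -/
theorem el_B_block (r : ℕ) (hr : r ≠ 0) (z : F) (hz : z ≠ 0) (hrF : ((r : ℕ) : F) ≠ 0)
    (hirr : Irreducible (X ^ r - C z : F[X])) :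
    ∀ (a : ℕ) (V : Type u) [AddCommGroup V] [Module F V] [Module.Finite F V]
      (T : V →ₗ[F] V), T ^ r = z • (1 : Module.End F V) → finrank F V = r * a →
      ∃ D₀ : Submodule F V, finrank F D₀ ≤ a ∧ (⨆ m : ℕ, D₀.map (T ^ m)) = ⊤ := by
  intro a
  induction a with
  | zero =>
    intro V _ _ _ T hT hdim
    have hbot : (⊤ : Submodule F V) = ⊥ := by
      apply Submodule.finrank_eq_zero.mp
      rw [finrank_top, hdim, Nat.mul_zero]
    refine ⟨⊥, by simp, ?_⟩
    rw [hbot]
    simp
  | succ a ih =>
    intro V _ _ _ T hT hdim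
    obtain ⟨Cc, hCdim, hCinv⟩ :=
      Cfsg.Agent.Lib.helper63.Elusive.exists_invariant_of_pow_eq r hr z hirr 1 V T hT
        (by rw [hdim]; nlinarith)
    rw [mul_one] at hCdim
    have hCpos : 0 < finrank F Cc := by omega
    obtain ⟨⟨v, hvC⟩, hv0'⟩ := (Module.finrank_pos_iff_exists_ne_zero (R := F)).mp hCpos
    have hv0 : v ≠ 0 := fun h => hv0' (Subtype.ext h)
    obtain ⟨Cy, hCy⟩ : ∃ Cy : Submodule F V,
        Cy = ⨆ m : ℕ, (Submodule.span F {v}).map (T ^ m) := ⟨_, rfl⟩
    have hCyinv : ∀ s ∈ Cy, T s ∈ Cy := by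
      rw [hCy]
      exact el_cyc_inv T _
    have hvCy : v ∈ Cy := by
      rw [hCy]
      exact el_cyc_base T _ (Submodule.mem_span_singleton_self v)
    have hCyC : Cy ≤ Cc := by
      rw [hCy]
      apply iSup_le
      intro m
      rintro _ ⟨d, hd, rfl⟩
      obtain ⟨cf, rfl⟩ := Submodule.mem_span_singleton.mp hd
      rw [map_smul]
      exact Cc.smul_mem _ (dec_pow_mem T Cc hCinv m _ hvC)
    have hCydvd : r ∣ finrank F Cy :=
      Cfsg.Agent.Lib.helper63.Elusive.dvd_finrank_of_invariant r hr z hirr T hT Cy hCyinv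
    have hCypos : 0 < finrank F Cy := by
      rw [Module.finrank_pos_iff_exists_ne_zero (R := F)]
      exact ⟨⟨v, hvCy⟩, fun h => hv0 (congrArg Subtype.val h)⟩
    have hCyeq : Cy = Cc := by
      apply Submodule.eq_of_le_of_finrank_le hCyC
      rw [hCdim]
      exact Nat.le_of_dvd hCypos hCydvd
    obtain ⟨W', hcompl, hW'inv⟩ := dec_maschke T r z hz hrF hT Cc hCinv
    have hdimW : finrank F W' = r * a := by
      have h := Submodule.finrank_add_eq_of_isCompl hcompl
      rw [hCdim, hdim, Nat.mul_succ] at h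
      omega
    have hres : (T.restrict hW'inv) ^ r = z • (1 : Module.End F W') :=
      el_restrict_pow_smul T r z hT W' hW'inv
    obtain ⟨D', hD'dim, hD'top⟩ := ih W' (T.restrict hW'inv) hres hdimW
    obtain ⟨D₁, hD₁⟩ : ∃ D₁ : Submodule F V, D₁ = D'.map W'.subtype := ⟨_, rfl⟩
    have hD₁map : ∀ m : ℕ, D₁.map (T ^ m) = (D'.map ((T.restrict hW'inv) ^ m)).map W'.subtype := by
      intro m
      rw [hD₁, ← Submodule.map_comp, ← Submodule.map_comp]
      have h1 : (T ^ m) ∘ₗ W'.subtype = W'.subtype ∘ₗ (T.restrict hW'inv) ^ m := by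
        ext w
        exact (el_restrict_pow_apply T W' hW'inv m w).symm
      rw [h1]
    have hD₁sup : (⨆ m : ℕ, D₁.map (T ^ m)) = W' := by
      simp_rw [hD₁map]
      rw [← Submodule.map_iSup, hD'top, Submodule.map_top, Submodule.range_subtype]
    refine ⟨Submodule.span F {v} ⊔ D₁, ?_, ?_⟩
    · have h1 := Submodule.finrank_add_le_finrank_add_finrank (Submodule.span F {v}) D₁
      rw [finrank_span_singleton hv0] at h1
      have h2 : finrank F D₁ = finrank F D' := by
        rw [hD₁, Submodule.finrank_map_subtype_eq]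
      omega
    · simp_rw [Submodule.map_sup]
      rw [iSup_sup_eq, ← hCy, hCyeq, hD₁sup]
      exact hcompl.sup_eq_top

/-- Regular cycles: `V` of dimension `a r s` decomposes into `r s` summands of dimension `a`
permuted in `r`-cycles. -/
theorem el_B_cycles (r : ℕ) (hr1 : 1 < r) (z : F) (hz : z ≠ 0) (hrF : ((r : ℕ) : F) ≠ 0)
    (hirr : Irreducible (X ^ r - C z : F[X])) (a : ℕ) :
    ∀ (s : ℕ) (V : Type u) [AddCommGroup V] [Module F V] [Module.Finite F V]
      (T : V →ₗ[F] V), T ^ r = z • (1 : Module.End F V) → finrank F V = a * (r * s) →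
      ElDec T a (r * s) ⊤ := by
  have hr : r ≠ 0 := by omega
  intro s
  induction s with
  | zero =>
    intro V _ _ _ T hT hdim
    have hbot : (⊤ : Submodule F V) = ⊥ := by
      apply Submodule.finrank_eq_zero.mp
      rw [finrank_top, hdim]
      simp
    rw [hbot, Nat.mul_zero]
    exact el_dec_zero T a
  | succ s ih =>
    intro V _ _ _ T hT hdim
    obtain ⟨M, hMdim, hMinv⟩ :=
      Cfsg.Agent.Lib.helper63.Elusive.exists_invariant_of_pow_eq r hr z hirr a V T hT
        (by rw [hdim]; nlinarith)
    have hresM : (T.restrict hMinv) ^ r = z • (1 : Module.End F M) :=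
      el_restrict_pow_smul T r z hT M hMinv
    obtain ⟨D', hD'dim, hD'top⟩ :=
      el_B_block r hr z hz hrF hirr a M (T.restrict hMinv) hresM hMdim
    obtain ⟨D₁, hD₁⟩ : ∃ D₁ : Submodule F V, D₁ = D'.map M.subtype := ⟨_, rfl⟩
    have hD₁map : ∀ m : ℕ, D₁.map (T ^ m) = (D'.map ((T.restrict hMinv) ^ m)).map M.subtype := by
      intro m
      rw [hD₁, ← Submodule.map_comp, ← Submodule.map_comp]
      have h1 : (T ^ m) ∘ₗ M.subtype = M.subtype ∘ₗ (T.restrict hMinv) ^ m := by
        ext w
        exact (el_restrict_pow_apply T M hMinv m w).symm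
      rw [h1]
    have hD₁sup : (⨆ m : ℕ, D₁.map (T ^ m)) = M := by
      simp_rw [hD₁map]
      rw [← Submodule.map_iSup, hD'top, Submodule.map_top, Submodule.range_subtype]
    have hD₁dim : finrank F D₁ ≤ a := by
      rw [hD₁, Submodule.finrank_map_subtype_eq]
      exact hD'dim
    have hdecM : ElDec T a r M := by
      have h1 := el_dec_cycle T r hr1 z hz hT a D₁ hD₁dim
        (by rw [hD₁sup, hMdim, mul_comm])
      rwa [hD₁sup] at h1
    obtain ⟨W', hcompl, hW'inv⟩ := dec_maschke T r z hz hrF hT M hMinv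
    have hdimW : finrank F W' = a * (r * s) := by
      have h := Submodule.finrank_add_eq_of_isCompl hcompl
      rw [hMdim, hdim] at h
      have h2 : a * (r * (s + 1)) = r * a + a * (r * s) := by ring
      omega
    have hres : (T.restrict hW'inv) ^ r = z • (1 : Module.End F W') :=
      el_restrict_pow_smul T r z hT W' hW'inv
    have h2 := ih W' (T.restrict hW'inv) hres hdimW
    have h3 := el_dec_glue T a r (r * s) M W' hcompl hW'inv hdecM h2
    have h4 : r + r * s = r * (s + 1) := by ring
    rwa [h4] at h3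

/-- Invariant decompositions when `r ∣ a`. -/
theorem el_B_split (r : ℕ) (hr : r ≠ 0) (z : F) (hz : z ≠ 0) (hrF : ((r : ℕ) : F) ≠ 0)
    (hirr : Irreducible (X ^ r - C z : F[X])) (a : ℕ) (hra : r ∣ a) :
    ∀ (τ : ℕ) (V : Type u) [AddCommGroup V] [Module F V] [Module.Finite F V]
      (T : V →ₗ[F] V), T ^ r = z • (1 : Module.End F V) → finrank F V = a * τ →
      ElDec T a τ ⊤ := by
  obtain ⟨k', hk'⟩ := hra
  intro τ
  induction τ with
  | zero =>
    intro V _ _ _ T hT hdim
    have hbot : (⊤ : Submodule F V) = ⊥ := by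
      apply Submodule.finrank_eq_zero.mp
      rw [finrank_top, hdim]
      simp
    rw [hbot]
    exact el_dec_zero T a
  | succ τ ih =>
    intro V _ _ _ T hT hdim
    obtain ⟨D₀, hD₀, hD₀inv⟩ :=
      Cfsg.Agent.Lib.helper63.Elusive.exists_invariant_of_pow_eq r hr z hirr k' V T hT
        (by rw [hdim, ← hk']; nlinarith)
    rw [← hk'] at hD₀
    obtain ⟨W', hcompl, hW'inv⟩ := dec_maschke T r z hz hrF hT D₀ hD₀inv
    have hdimW : finrank F W' = a * τ := by
      have h := Submodule.finrank_add_eq_of_isCompl hcompl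
      rw [hD₀, hdim, Nat.mul_succ] at h
      omega
    have hres : (T.restrict hW'inv) ^ r = z • (1 : Module.End F W') :=
      el_restrict_pow_smul T r z hT W' hW'inv
    have h2 := ih W' (T.restrict hW'inv) hres hdimW
    have h1 : ElDec T a 1 D₀ :=
      el_dec_single T a D₀ (el_map_eq T r hr z hz hT D₀ hD₀inv) hD₀
    have h3 := el_dec_glue T a 1 τ D₀ W' hcompl hW'inv h1 h2
    rwa [Nat.add_comm] at h3

end elc2

end Cfsg.Agent.Lib.helper24
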