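import Mathlib
import Cfsg.Agent.Lib.helper24.ElB
import Cfsg.Agent.Lib.helper50.SymForm2
import Cfsg.Agent.Lib.helper63.Elusive5

/-!
# Alternating forms: nondegenerate subspaces, perps, and isometries of prime order
-/

set_option autoImplicit false

namespace Cfsg.Agent.Lib.helper24

open Module

universe u

section spa

variable {F : Type*} [Field F] {V : Type*} [AddCommGroup V] [Module F V]

theorem sp_skew (ω : V →ₗ[F] V →ₗ[F] F) (halt : ∀ v, ω v v = 0) (u v : V) :
    ω u v = - ω v u := by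
  have h := halt (u + v)
  simp only [map_add, LinearMap.add_apply, halt, zero_add, add_zero] at h
  exact eq_neg_of_add_eq_zero_right h

/-- The restriction of `ω` to `U` is nondegenerate. -/
def SpNd (ω : V →ₗ[F] V →ₗ[F] F) (U : Submodule F V) : Prop :=
  ∀ u ∈ U, (∀ v ∈ U, ω u v = 0) → u = 0

/-- The orthogonal complement of `U`. -/
def spPerp (ω : V →ₗ[F] V →ₗ[F] F) (U : Submodule F V) : Submodule F V where
  carrier := {v | ∀ u ∈ U, ω u v = 0}
  add_mem' := by
    intro a b ha hb u hu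
    rw [map_add, ha u hu, hb u hu, add_zero]
  zero_mem' := by
    intro u _
    rw [map_zero]
  smul_mem' := by
    intro c x hx u hu
    rw [map_smul, hx u hu, smul_zero]

theorem sp_mem_perp (ω : V →ₗ[F] V →ₗ[F] F) (U : Submodule F V) (v : V) :
    v ∈ spPerp ω U ↔ ∀ u ∈ U, ω u v = 0 := Iff.rfl

theorem sp_finrank_perp_ge [FiniteDimensional F V] (ω : V →ₗ[F] V →ₗ[F] F)
    (U : Submodule F V) : finrank F V ≤ finrank F U + finrank F (spPerp ω U) := by
  obtain ⟨ψ, hψ⟩ : ∃ ψ : V →ₗ[F] (U →ₗ[F] F), ∀ v (u : U), ψ v u = ω (u : V) v :=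
    ⟨(LinearMap.lcomp F F U.subtype).comp ω.flip, fun v u => rfl⟩
  have hker : LinearMap.ker ψ = spPerp ω U := by
    ext v
    rw [LinearMap.mem_ker, sp_mem_perp]
    constructor
    · intro h u hu
      have h1 := congrArg (fun φ : U →ₗ[F] F => φ ⟨u, hu⟩) h
      simpa [hψ] using h1
    · intro h
      apply LinearMap.ext
      intro u
      rw [hψ]
      exact h u.1 u.2
  have h1 := LinearMap.finrank_range_add_finrank_ker ψ
  have h2 : finrank F (LinearMap.range ψ) ≤ finrank F (U →ₗ[F] F) := Submodule.finrank_le _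
  have h3 : finrank F (U →ₗ[F] F) = finrank F U := Subspace.dual_finrank_eq
  rw [hker] at h1
  omega

theorem sp_perp_compl [FiniteDimensional F V] (ω : V →ₗ[F] V →ₗ[F] F) (halt : ∀ v, ω v v = 0)
    (U : Submodule F V) (hU : SpNd ω U) : IsCompl U (spPerp ω U) := by
  have hdis : U ⊓ spPerp ω U = ⊥ := by
    rw [Submodule.eq_bot_iff]
    intro v hv
    rw [Submodule.mem_inf] at hv
    apply hU v hv.1
    intro u hu
    rw [sp_skew ω halt, hv.2 u hu, neg_zero]
  have h1 := sp_finrank_perp_ge ω U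
  have h2 := Submodule.finrank_sup_add_finrank_inf_eq U (spPerp ω U)
  rw [hdis, finrank_bot] at h2
  have h3 : U ⊔ spPerp ω U = ⊤ := by
    apply Submodule.eq_top_of_finrank_eq
    have h4 := Submodule.finrank_le (U ⊔ spPerp ω U)
    omega
  exact ⟨disjoint_iff.mpr hdis, codisjoint_iff.mpr h3⟩

theorem sp_perp_nd [FiniteDimensional F V] (ω : V →ₗ[F] V →ₗ[F] F) (halt : ∀ v, ω v v = 0)
    (hnd : ∀ v, (∀ w, ω v w = 0) → v = 0) (U : Submodule F V) (hU : SpNd ω U) :
    SpNd ω (spPerp ω U) := by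
  intro v hv hv2
  apply hnd
  intro w
  have hw : w ∈ U ⊔ spPerp ω U := by
    rw [(sp_perp_compl ω halt U hU).sup_eq_top]
    trivial
  obtain ⟨u, hu, p, hp, rfl⟩ := Submodule.mem_sup.mp hw
  rw [map_add, sp_skew ω halt v u, hv u hu, neg_zero, hv2 p hp, add_zero]

theorem sp_perp_inv (ω : V →ₗ[F] V →ₗ[F] F) (T : V →ₗ[F] V)
    (hT : ∀ u v, ω (T u) (T v) = ω u v) (U : Submodule F V) (hU : U.map T = U) :
    ∀ w ∈ spPerp ω U, T w ∈ spPerp ω U := by
  intro w hw u hu
  rw [← hU] at hu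
  obtain ⟨u', hu', rfl⟩ := hu
  rw [hT]
  exact hw u' hu'

theorem sp_nd_restrict (ω : V →ₗ[F] V →ₗ[F] F) (U : Submodule F V) (hU : SpNd ω U) :
    ∀ v : U, (∀ w : U, ω.domRestrict₁₂ U U v w = 0) → v = 0 := by
  intro v hv
  apply Subtype.ext
  apply hU v.1 v.2
  intro w hw
  exact hv ⟨w, hw⟩

theorem sp_even [FiniteDimensional F V] (ω : V →ₗ[F] V →ₗ[F] F) (halt : ∀ v, ω v v = 0)
    (U : Submodule F V) (hU : SpNd ω U) : Even (finrank F U) :=
  Cfsg.Agent.Lib.helper50.even_finrank_of_alt_nondeg (finrank F U) U (ω.domRestrict₁₂ U U)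
    (fun v => halt v.1) (sp_nd_restrict ω U hU) rfl

theorem sp_sum_nd (ω : V →ₗ[F] V →ₗ[F] F) (halt : ∀ v, ω v v = 0) (U₁ U₂ : Submodule F V)
    (h1 : SpNd ω U₁) (h2 : SpNd ω U₂) (horth : ∀ u ∈ U₁, ∀ v ∈ U₂, ω u v = 0) :
    SpNd ω (U₁ ⊔ U₂) := by
  intro w hw hw2
  obtain ⟨u₁, hu₁, u₂, hu₂, rfl⟩ := Submodule.mem_sup.mp hw
  have e1 : u₁ = 0 := by
    apply h1 u₁ hu₁
    intro v hv
    have h3 := hw2 v (Submodule.mem_sup_left hv)
    rw [map_add, LinearMap.add_apply, sp_skew ω halt u₂ v, horth v hv u₂ hu₂, neg_zero,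
      add_zero] at h3
    exact h3
  have e2 : u₂ = 0 := by
    apply h2 u₂ hu₂
    intro v hv
    have h3 := hw2 v (Submodule.mem_sup_right hv)
    rw [map_add, LinearMap.add_apply, horth u₁ hu₁ v hv, zero_add] at h3
    exact h3
  rw [e1, e2, add_zero]

theorem sp_nd_map (ω : V →ₗ[F] V →ₗ[F] F) (P : Submodule F V) (U' : Submodule F P)
    (h : SpNd (ω.domRestrict₁₂ P P) U') : SpNd ω (U'.map P.subtype) := by
  intro u hu hu2
  obtain ⟨u', hu', rfl⟩ := hu
  have h1 := h u' hu' (fun v hv => hu2 v.1 (Submodule.mem_map_of_mem hv))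
  rw [h1]
  simp

theorem sp_fix_orth (ω : V →ₗ[F] V →ₗ[F] F) (T : V →ₗ[F] V)
    (hT : ∀ u v, ω (T u) (T v) = ω u v) (v : V) (hv : T v = v) (u : V) :
    ω v (T u - u) = 0 := by
  rw [map_sub]
  nth_rewrite 1 [← hv]
  rw [hT, sub_self]

theorem sp_fix_range_top [FiniteDimensional F V] (T : Module.End F V) (r : ℕ) (hTr : T ^ r = 1)
    (hr : ((r : ℕ) : F) ≠ 0) : LinearMap.ker (T - 1) ⊔ LinearMap.range (T - 1) = ⊤ := by
  have hdis : LinearMap.ker (T - 1) ⊓ LinearMap.range (T - 1) = ⊥ := by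
    rw [Submodule.eq_bot_iff]
    intro v hv
    rw [Submodule.mem_inf] at hv
    have h1 : T v = v := by
      have h2 := hv.1
      rw [LinearMap.mem_ker, LinearMap.sub_apply, sub_eq_zero] at h2
      exact h2
    exact el_fix_inf_range T r hTr hr v h1 hv.2
  have h1 := LinearMap.finrank_range_add_finrank_ker (T - 1)
  have h2 := Submodule.finrank_sup_add_finrank_inf_eq (LinearMap.ker (T - 1))
    (LinearMap.range (T - 1))
  rw [hdis, finrank_bot] at h2
  apply Submodule.eq_top_of_finrank_eq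
  omega

theorem sp_fix_nd [FiniteDimensional F V] (ω : V →ₗ[F] V →ₗ[F] F)
    (hnd : ∀ v, (∀ w, ω v w = 0) → v = 0) (T : Module.End F V)
    (hT : ∀ u v, ω (T u) (T v) = ω u v) (r : ℕ) (hTr : T ^ r = 1) (hr : ((r : ℕ) : F) ≠ 0) :
    SpNd ω (LinearMap.ker (T - 1)) := by
  intro v hv hv2
  have hv1 : T v = v := by
    rw [LinearMap.mem_ker, LinearMap.sub_apply, sub_eq_zero] at hv
    exact hv
  apply hnd
  intro w
  have hw : w ∈ LinearMap.ker (T - 1) ⊔ LinearMap.range (T - 1) := by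
    rw [sp_fix_range_top T r hTr hr]
    trivial
  obtain ⟨k, hk, ρ, hρ, rfl⟩ := Submodule.mem_sup.mp hw
  obtain ⟨u, rfl⟩ := hρ
  rw [map_add, hv2 k hk, zero_add]
  exact sp_fix_orth ω T hT v hv1 u

theorem sp_range_nd [FiniteDimensional F V] (ω : V →ₗ[F] V →ₗ[F] F) (halt : ∀ v, ω v v = 0)
    (hnd : ∀ v, (∀ w, ω v w = 0) → v = 0) (T : Module.End F V)
    (hT : ∀ u v, ω (T u) (T v) = ω u v) (r : ℕ) (hTr : T ^ r = 1) (hr : ((r : ℕ) : F) ≠ 0) :
    SpNd ω (LinearMap.range (T - 1)) := by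
  intro v hv hv2
  apply hnd
  intro w
  have hw : w ∈ LinearMap.ker (T - 1) ⊔ LinearMap.range (T - 1) := by
    rw [sp_fix_range_top T r hTr hr]
    trivial
  obtain ⟨k, hk, ρ, hρ, rfl⟩ := Submodule.mem_sup.mp hw
  rw [map_add, hv2 ρ hρ, add_zero]
  obtain ⟨u, rfl⟩ := hv
  have hk1 : T k = k := by
    rw [LinearMap.mem_ker, LinearMap.sub_apply, sub_eq_zero] at hk
    exact hk
  rw [sp_skew ω halt]
  have h1 := sp_fix_orth ω T hT k hk1 u
  have h2 : (T - 1) u = T u - u := rfl
  rw [h2, h1, neg_zero]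

end spa

section spa2

variable {F : Type*} [Field F] [Fintype F] {V : Type*} [AddCommGroup V] [Module F V] [Finite V]

/-- For an isometry of prime order `r`, `c` divides the codimension of the fixed space. -/
theorem sp_dvd (ω : V →ₗ[F] V →ₗ[F] F) (halt : ∀ v, ω v v = 0)
    (hnd : ∀ v, (∀ w, ω v w = 0) → v = 0) (T : V →ₗ[F] V)
    (hT : ∀ u v, ω (T u) (T v) = ω u v) (r : ℕ) [Fact r.Prime]
    (hq0 : ((Fintype.card F : ℕ) : ZMod r) ≠ 0) (hrF : ((r : ℕ) : F) ≠ 0) (hTr : T ^ r = 1)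
    (i c : ℕ) (hi : i = orderOf ((Fintype.card F : ℕ) : ZMod r))
    (hc : c = if Even i then i else 2 * i) :
    c ∣ finrank F V - finrank F (LinearMap.ker (T - 1)) := by
  have h1 := Cfsg.Agent.Lib.helper63.Elusive.orderOf_dvd_finrank_sub r hq0 T hTr
  rw [← hi] at h1
  have h2 := LinearMap.finrank_range_add_finrank_ker (T - 1)
  have h3 : finrank F V - finrank F (LinearMap.ker (T - 1)) =
      finrank F (LinearMap.range (T - 1)) := by omega
  have h4 := sp_even ω halt _ (sp_range_nd ω halt hnd T hT r hTr hrF)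
  rw [h3] at h1 ⊢
  rw [hc]
  split_ifs with hev
  · exact h1
  · have hodd : Odd i := Nat.not_even_iff_odd.mp hev
    exact Nat.Coprime.mul_dvd_of_dvd_of_dvd (Nat.coprime_two_left.mpr hodd)
      (even_iff_two_dvd.mp h4) h1

theorem sp_dvd_rel (ω : V →ₗ[F] V →ₗ[F] F) (halt : ∀ v, ω v v = 0) (T : V →ₗ[F] V)
    (hT : ∀ u v, ω (T u) (T v) = ω u v) (r : ℕ) [Fact r.Prime]
    (hq0 : ((Fintype.card F : ℕ) : ZMod r) ≠ 0) (hrF : ((r : ℕ) : F) ≠ 0) (hTr : T ^ r = 1)
    (i c : ℕ) (hi : i = orderOf ((Fintype.card F : ℕ) : ZMod r))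
    (hc : c = if Even i then i else 2 * i) (D : Submodule F V) (hD : SpNd ω D)
    (hDinv : ∀ d ∈ D, T d ∈ D) :
    c ∣ finrank F D - finrank F ↥(LinearMap.ker (T - 1) ⊓ D) := by
  have h := sp_dvd (ω.domRestrict₁₂ D D) (fun v => halt v.1) (sp_nd_restrict ω D hD)
    (T.restrict hDinv) (fun u v => hT u.1 v.1) r hq0 hrF (el_restrict_pow T r hTr D hDinv)
    i c hi hc
  rwa [el_finrank_ker_restrict] at h

end spa2

section spa3

variable {F : Type*} [Field F]

/-- Nondegenerate subspaces of every even dimension. -/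
theorem sp_exists_nd : ∀ (j : ℕ) (V : Type u) [AddCommGroup V] [Module F V]
    [FiniteDimensional F V] (ω : V →ₗ[F] V →ₗ[F] F), (∀ v, ω v v = 0) →
    (∀ v, (∀ w, ω v w = 0) → v = 0) → 2 * j ≤ finrank F V →
    ∃ U : Submodule F V, SpNd ω U ∧ finrank F U = 2 * j := by
  intro j
  induction j with
  | zero =>
    intro V _ _ _ ω _ _ _
    refine ⟨⊥, ?_, by simp⟩
    intro u hu _
    exact (Submodule.mem_bot F).mp hu
  | succ j ih =>
    intro V _ _ _ ω halt hnd hdim
    have hpos : 0 < finrank F V := by omega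
    obtain ⟨u, hu0⟩ := (Module.finrank_pos_iff_exists_ne_zero (R := F)).mp hpos
    obtain ⟨w, hw⟩ : ∃ w, ω u w ≠ 0 := by
      by_contra hcon
      push Not at hcon
      exact hu0 (hnd u hcon)
    have hw0 : w ≠ 0 := by
      rintro rfl
      rw [map_zero] at hw
      exact hw rfl
    have hwu : ω w u ≠ 0 := by
      rw [sp_skew ω halt]
      exact neg_ne_zero.mpr hw
    obtain ⟨H, hH⟩ : ∃ H : Submodule F V, H = Submodule.span F {u} ⊔ Submodule.span F {w} :=
      ⟨_, rfl⟩
    have huH : u ∈ H := by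
      rw [hH]
      exact Submodule.mem_sup_left (Submodule.mem_span_singleton_self u)
    have hwH : w ∈ H := by
      rw [hH]
      exact Submodule.mem_sup_right (Submodule.mem_span_singleton_self w)
    have hHnd : SpNd ω H := by
      intro x hx hx2
      rw [hH] at hx
      obtain ⟨y, hy, z, hz, rfl⟩ := Submodule.mem_sup.mp hx
      obtain ⟨α, rfl⟩ := Submodule.mem_span_singleton.mp hy
      obtain ⟨β, rfl⟩ := Submodule.mem_span_singleton.mp hz
      have h1 := hx2 u huH
      have h2 := hx2 w hwH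
      simp only [map_add, map_smul, LinearMap.add_apply, LinearMap.smul_apply, halt, smul_eq_mul,
        mul_zero, zero_add, add_zero] at h1 h2
      have hβ : β = 0 := by
        rcases mul_eq_zero.mp h1 with h | h
        · exact h
        · exact absurd h hwu
      have hα : α = 0 := by
        rcases mul_eq_zero.mp h2 with h | h
        · exact h
        · exact absurd h hw
      rw [hα, hβ]
      simp
    have hHdim : finrank F H = 2 := by
      have h1 := sp_even ω halt H hHnd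
      have h2 : finrank F H ≤ 2 := by
        have h3 := Submodule.finrank_add_le_finrank_add_finrank (Submodule.span F {u})
          (Submodule.span F {w})
        rw [finrank_span_singleton hu0, finrank_span_singleton hw0, ← hH] at h3
        exact h3
      have h3 : 0 < finrank F H := by
        rw [Module.finrank_pos_iff_exists_ne_zero (R := F)]
        exact ⟨⟨u, huH⟩, fun h => hu0 (congrArg Subtype.val h)⟩
      obtain ⟨k, hk⟩ := h1
      omega
    obtain ⟨P, hP⟩ : ∃ P : Submodule F V, P = spPerp ω H := ⟨_, rfl⟩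
    have hcompl : IsCompl H P := by
      rw [hP]
      exact sp_perp_compl ω halt H hHnd
    have hPnd : SpNd ω P := by
      rw [hP]
      exact sp_perp_nd ω halt hnd H hHnd
    have hPdim : 2 * j ≤ finrank F P := by
      have h1 := Submodule.finrank_add_eq_of_isCompl hcompl
      omega
    obtain ⟨U', hU'nd, hU'dim⟩ := ih P (ω.domRestrict₁₂ P P) (fun v => halt v.1)
      (sp_nd_restrict ω P hPnd) hPdim
    obtain ⟨U₂, hU₂⟩ : ∃ U₂ : Submodule F V, U₂ = U'.map P.subtype := ⟨_, rfl⟩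
    have hU₂nd : SpNd ω U₂ := by
      rw [hU₂]
      exact sp_nd_map ω P U' hU'nd
    have hU₂dim : finrank F U₂ = 2 * j := by
      rw [hU₂, Submodule.finrank_map_subtype_eq, hU'dim]
    have hU₂P : U₂ ≤ P := by
      rw [hU₂]
      exact Submodule.map_subtype_le P U'
    refine ⟨H ⊔ U₂, ?_, ?_⟩
    · apply sp_sum_nd ω halt H U₂ hHnd hU₂nd
      intro h hh v hv
      have h1 := hU₂P hv
      rw [hP] at h1
      exact h1 h hh
    · have h1 := Submodule.finrank_sup_add_finrank_inf_eq H U₂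
      have h2 : H ⊓ U₂ = ⊥ := by
        rw [eq_bot_iff, ← hcompl.inf_eq_bot]
        exact inf_le_inf_left H hU₂P
      rw [h2, finrank_bot] at h1
      omega

end spa3

end Cfsg.Agent.Lib.helper24
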