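import Mathlib
import Cfsg.Agent.Lib.helper24.SpA
import Cfsg.Agent.Lib.helper24.ElC
import Cfsg.Agent.Lib.helper24.DecMaschke

/-!
# Isometries of prime order: invariant nondegenerate subspaces
-/

set_option autoImplicit false

namespace Cfsg.Agent.Lib.helper24

open Module

universe u

section spb

variable {F : Type*} [Field F] [Fintype F] {V : Type u} [AddCommGroup V] [Module F V] [Finite V]

theorem sp_map_eq (T : Module.End F V) (r : ℕ) (hr : r ≠ 0) (hTr : T ^ r = 1)
    (U : Submodule F V) (hU : ∀ u ∈ U, T u ∈ U) : U.map T = U :=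
  el_map_eq T r hr 1 one_ne_zero (by rw [hTr, one_smul]) U hU

theorem sp_order_pos (r : ℕ) [Fact r.Prime] (hq0 : ((Fintype.card F : ℕ) : ZMod r) ≠ 0) :
    1 ≤ orderOf ((Fintype.card F : ℕ) : ZMod r) := by
  have hr : r.Prime := Fact.out
  apply orderOf_pos_iff.mpr
  apply isOfFinOrder_iff_pow_eq_one.mpr
  exact ⟨r - 1, Nat.sub_pos_of_lt hr.one_lt, ZMod.pow_card_sub_one_eq_one hq0⟩

theorem sp_inv_dvd (T : Module.End F V) (r : ℕ) [Fact r.Prime]
    (hq0 : ((Fintype.card F : ℕ) : ZMod r) ≠ 0) (hTr : T ^ r = 1)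
    (hfix : LinearMap.ker (T - 1) = ⊥) (U : Submodule F V) (hU : ∀ u ∈ U, T u ∈ U) :
    orderOf ((Fintype.card F : ℕ) : ZMod r) ∣ finrank F U := by
  have h1 := Cfsg.Agent.Lib.helper63.Elusive.orderOf_dvd_finrank_sub r hq0 (T.restrict hU)
    (el_restrict_pow T r hTr U hU)
  rw [el_finrank_ker_restrict, hfix, bot_inf_eq, finrank_bot, Nat.sub_zero] at h1
  exact h1

/-- A small invariant subspace is nondegenerate or totally isotropic. -/
theorem sp_dich (ω : V →ₗ[F] V →ₗ[F] F) (halt : ∀ v, ω v v = 0) (T : Module.End F V)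
    (hT : ∀ u v, ω (T u) (T v) = ω u v) (r : ℕ) [Fact r.Prime]
    (hq0 : ((Fintype.card F : ℕ) : ZMod r) ≠ 0) (hTr : T ^ r = 1)
    (hfix : LinearMap.ker (T - 1) = ⊥) (U : Submodule F V) (hU : ∀ u ∈ U, T u ∈ U)
    (hdim : finrank F U ≤ orderOf ((Fintype.card F : ℕ) : ZMod r)) :
    SpNd ω U ∨ (∀ u ∈ U, ∀ v ∈ U, ω u v = 0) := by
  have hr : r.Prime := Fact.out
  have hmap := sp_map_eq T r hr.ne_zero hTr U hU
  have hRinv : ∀ x ∈ U ⊓ spPerp ω U, T x ∈ U ⊓ spPerp ω U := by
    intro x hx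
    rw [Submodule.mem_inf] at hx ⊢
    exact ⟨hU x hx.1, sp_perp_inv ω T hT U hmap x hx.2⟩
  have h1 := sp_inv_dvd T r hq0 hTr hfix (U ⊓ spPerp ω U) hRinv
  have h2 : finrank F ↥(U ⊓ spPerp ω U) ≤ finrank F U := Submodule.finrank_mono inf_le_left
  rcases Nat.eq_zero_or_pos (finrank F ↥(U ⊓ spPerp ω U)) with h0 | hpos
  · left
    have hbot : U ⊓ spPerp ω U = ⊥ := Submodule.finrank_eq_zero.mp h0
    intro u hu hu2
    have h3 : u ∈ U ⊓ spPerp ω U := by
      rw [Submodule.mem_inf]
      refine ⟨hu, ?_⟩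
      intro v hv
      rw [sp_skew ω halt, hu2 v hv, neg_zero]
    rw [hbot] at h3
    exact (Submodule.mem_bot F).mp h3
  · right
    have h3 := Nat.le_of_dvd hpos h1
    have h4 : U ⊓ spPerp ω U = U :=
      Submodule.eq_of_le_of_finrank_le inf_le_left (by omega)
    intro u hu v hv
    have h5 : v ∈ U ⊓ spPerp ω U := by rw [h4]; exact hv
    exact (Submodule.mem_inf.mp h5).2 u hu

/-- A totally isotropic `U` and a complement `W'` of its perp span a nondegenerate subspace. -/
theorem sp_hyp (ω : V →ₗ[F] V →ₗ[F] F) (halt : ∀ v, ω v v = 0)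
    (hnd : ∀ v, (∀ w, ω v w = 0) → v = 0) (U W' : Submodule F V)
    (hU : ∀ u ∈ U, ∀ v ∈ U, ω u v = 0) (hc : IsCompl (spPerp ω U) W') :
    SpNd ω (U ⊔ W') ∧ U ⊓ W' = ⊥ ∧ finrank F W' ≤ finrank F U := by
  have hdis : spPerp ω U ⊓ W' = ⊥ := hc.inf_eq_bot
  refine ⟨?_, ?_, ?_⟩
  · intro x hx hx2
    obtain ⟨u, hu, w, hw, rfl⟩ := Submodule.mem_sup.mp hx
    have hw0 : w = 0 := by
      have h1 : w ∈ spPerp ω U ⊓ W' := by
        rw [Submodule.mem_inf]
        refine ⟨?_, hw⟩
        intro u' hu'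
        have h2 := hx2 u' (Submodule.mem_sup_left hu')
        rw [map_add, LinearMap.add_apply, hU u hu u' hu', zero_add] at h2
        rw [sp_skew ω halt, h2, neg_zero]
      rw [hdis] at h1
      exact (Submodule.mem_bot F).mp h1
    rw [hw0, add_zero] at hx2 ⊢
    apply hnd
    intro z
    have hz : z ∈ spPerp ω U ⊔ W' := by
      rw [hc.sup_eq_top]
      trivial
    obtain ⟨p, hp, w', hw', rfl⟩ := Submodule.mem_sup.mp hz
    rw [map_add, hp u hu, zero_add]
    exact hx2 w' (Submodule.mem_sup_right hw')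
  · rw [eq_bot_iff, ← hdis]
    apply inf_le_inf_right
    intro u hu u' hu'
    exact hU u' hu' u hu
  · have h1 := sp_finrank_perp_ge ω U
    have h2 := Submodule.finrank_add_eq_of_isCompl hc
    omega

theorem sp_frob (A : Module.End F V) (g : Polynomial F) (s : ℕ) :
    Polynomial.aeval (A ^ (Fintype.card F ^ s)) g =
      (Polynomial.aeval A g) ^ (Fintype.card F ^ s) := by
  induction s with
  | zero => rw [pow_zero, pow_one, pow_one]
  | succ s ih =>
    rw [pow_succ, pow_mul, ← Polynomial.expand_aeval, FiniteField.expand_card, map_pow, ih,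
      ← pow_mul]

omit [Fintype F] [Finite V] in
theorem sp_pow_kill (A : Module.End F V) (k : ℕ) (hk : 1 ≤ k) (u : V) (hu : A u = 0) :
    (A ^ k) u = 0 := by
  obtain ⟨k', rfl⟩ : ∃ k', k = k' + 1 := ⟨k - 1, by omega⟩
  rw [pow_succ, Module.End.mul_apply, hu, map_zero]

theorem sp_half_pow (r : ℕ) [Fact r.Prime] (q : ℕ) (i : ℕ) (hi : i = orderOf (q : ZMod r))
    (hi1 : 1 ≤ i) (hev : Even i) : ∃ m, q ^ (i / 2) = r * m + (r - 1) := by
  have hr : r.Prime := Fact.out
  obtain ⟨k, hk⟩ := hev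
  have hk2 : i / 2 = k := by omega
  have h1 : ((q : ZMod r) ^ k) * ((q : ZMod r) ^ k) = 1 := by
    rw [← pow_add, ← hk, hi]
    exact pow_orderOf_eq_one _
  have h2 : (q : ZMod r) ^ k ≠ 1 := by
    apply pow_ne_one_of_lt_orderOf
    · omega
    · rw [← hi]
      omega
  have h3 : (q : ZMod r) ^ k = -1 := by
    rcases mul_self_eq_one_iff.mp h1 with h | h
    · exact absurd h h2
    · exact h
  have h4 : ((q ^ k + 1 : ℕ) : ZMod r) = 0 := by
    push_cast
    rw [h3]
    ring
  have h5 : r ∣ q ^ k + 1 := (ZMod.natCast_eq_zero_iff _ _).mp h4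
  obtain ⟨m', hm'⟩ := h5
  have hm'1 : 1 ≤ m' := by
    rcases Nat.eq_zero_or_pos m' with h | h
    · rw [h, mul_zero] at hm'
      omega
    · exact h
  refine ⟨m' - 1, ?_⟩
  rw [hk2]
  have h6 : r * m' = r * (m' - 1) + r := by
    obtain ⟨m'', rfl⟩ : ∃ m'', m' = m'' + 1 := ⟨m' - 1, by omega⟩
    simp [mul_add]
  have hr1 := hr.one_lt
  omega

omit [Fintype F] [Finite V] in
theorem sp_pow_frob (T : Module.End F V) (r : ℕ) (hTr : T ^ r = 1) (m : ℕ) :
    T ^ (r * m + (r - 1)) = T ^ (r - 1) := by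
  rw [pow_add, pow_mul, hTr, one_pow, one_mul]

omit [Fintype F] [Finite V] in
theorem sp_isom_pow (ω : V →ₗ[F] V →ₗ[F] F) (T : Module.End F V)
    (hT : ∀ u v, ω (T u) (T v) = ω u v) (j : ℕ) (u v : V) :
    ω ((T ^ j) u) ((T ^ j) v) = ω u v := by
  induction j with
  | zero => simp
  | succ j ih => rw [pow_succ', Module.End.mul_apply, Module.End.mul_apply, hT, ih]

omit [Fintype F] [Finite V] in
theorem sp_adj_pow (ω : V →ₗ[F] V →ₗ[F] F) (T : Module.End F V)
    (hT : ∀ u v, ω (T u) (T v) = ω u v) (r : ℕ) (hr : 1 ≤ r) (hTr : T ^ r = 1) (j : ℕ)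
    (u w : V) : ω u ((T ^ j) w) = ω (((T ^ (r - 1)) ^ j) u) w := by
  have h1 : (T ^ j) (((T ^ (r - 1)) ^ j) u) = u := by
    rw [← Module.End.mul_apply, ← pow_mul, ← pow_add]
    have h2 : j + (r - 1) * j = r * j := by
      obtain ⟨r', rfl⟩ : ∃ r', r = r' + 1 := ⟨r - 1, by omega⟩
      simp only [Nat.add_sub_cancel]
      ring
    rw [h2, pow_mul, hTr, one_pow, Module.End.one_apply]
  nth_rewrite 1 [← h1]
  exact sp_isom_pow ω T hT j _ _

omit [Fintype F] [Finite V] in
theorem sp_adj_aeval (ω : V →ₗ[F] V →ₗ[F] F) (T : Module.End F V)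
    (hT : ∀ u v, ω (T u) (T v) = ω u v) (r : ℕ) (hr : 1 ≤ r) (hTr : T ^ r = 1)
    (g : Polynomial F) (u w : V) :
    ω u (Polynomial.aeval T g w) = ω (Polynomial.aeval (T ^ (r - 1)) g u) w := by
  rw [Polynomial.aeval_eq_sum_range, Polynomial.aeval_eq_sum_range]
  simp only [LinearMap.sum_apply, LinearMap.smul_apply, map_sum, map_smul]
  apply Finset.sum_congr rfl
  intro j _
  rw [sp_adj_pow ω T hT r hr hTr]

omit [Fintype F] [Finite V] in
theorem sp_aeval_mem (T : Module.End F V) (W : Submodule F V) (hW : ∀ w ∈ W, T w ∈ W)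
    (g : Polynomial F) : ∀ w ∈ W, Polynomial.aeval T g w ∈ W := by
  intro w hw
  rw [Polynomial.aeval_eq_sum_range, LinearMap.sum_apply]
  apply Submodule.sum_mem
  intro j _
  rw [LinearMap.smul_apply]
  exact W.smul_mem _ (dec_pow_mem T W hW j w hw)

omit [Fintype F] [Finite V] in
theorem sp_aeval_restrict (T : Module.End F V) (U : Submodule F V) (hU : ∀ u ∈ U, T u ∈ U)
    (g : Polynomial F) (w : U) :
    ((Polynomial.aeval (T.restrict hU) g) w : V) = (Polynomial.aeval T g) (w : V) := by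
  rw [Polynomial.aeval_eq_sum_range, Polynomial.aeval_eq_sum_range, LinearMap.sum_apply,
    LinearMap.sum_apply, Submodule.coe_sum]
  apply Finset.sum_congr rfl
  intro j _
  rw [LinearMap.smul_apply, LinearMap.smul_apply, Submodule.coe_smul, el_restrict_pow_apply]

omit [Fintype F] [Finite V] in
theorem sp_cyclic (T : Module.End F V) (g : Polynomial F) (hg : g.Monic) (i : ℕ)
    (hdeg : g.natDegree = i) (v : V) (hv : Polynomial.aeval T g v = 0) :
    (T ^ i) v ∈ Submodule.span F (Set.range (fun j : Fin i => (T ^ (j : ℕ)) v)) := by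
  rw [Polynomial.aeval_eq_sum_range, LinearMap.sum_apply, hdeg, Finset.sum_range_succ] at hv
  have h1 : g.coeff i = 1 := by
    rw [← hdeg]
    exact hg.coeff_natDegree
  rw [h1, LinearMap.smul_apply, one_smul] at hv
  have h2 : (T ^ i) v = - ∑ j ∈ Finset.range i, (g.coeff j • T ^ j) v :=
    eq_neg_of_add_eq_zero_right hv
  rw [h2]
  apply Submodule.neg_mem
  apply Submodule.sum_mem
  intro j hj
  rw [LinearMap.smul_apply]
  apply Submodule.smul_mem
  apply Submodule.subset_span
  exact ⟨⟨j, Finset.mem_range.mp hj⟩, rfl⟩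

omit [Fintype F] [Finite V] in
theorem sp_exists_pair (ω : V →ₗ[F] V →ₗ[F] F) (halt : ∀ v, ω v v = 0) (T : Module.End F V)
    (hT : ∀ u v, ω (T u) (T v) = ω u v) (r : ℕ) (hrodd : Odd r) (hTr : T ^ r = 1)
    (hfix : LinearMap.ker (T - 1) = ⊥) (U W' : Submodule F V)
    (hW' : ∀ w ∈ W', T w ∈ W') (hdis : spPerp ω U ⊓ W' = ⊥) (hne : W' ≠ ⊥) :
    ∃ v ∈ U ⊔ W', ω v (T v) ≠ 0 := by
  by_contra hcon
  push Not at hcon
  apply hne
  rw [Submodule.eq_bot_iff]
  intro w hw
  have hr1 : 1 ≤ r := by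
    obtain ⟨k, rfl⟩ := hrodd
    omega
  have hpow : T ((T ^ (r - 1)) w) = w := by
    rw [← Module.End.mul_apply, ← pow_succ', Nat.sub_add_cancel hr1, hTr, Module.End.one_apply]
  have h1 : T w - (T ^ (r - 1)) w = 0 := by
    have h2 : T w - (T ^ (r - 1)) w ∈ spPerp ω U ⊓ W' := by
      rw [Submodule.mem_inf]
      refine ⟨?_, W'.sub_mem (hW' w hw) (dec_pow_mem T W' hW' (r - 1) w hw)⟩
      intro u hu
      have h3 := hcon (u + w)
        (Submodule.add_mem _ (Submodule.mem_sup_left hu) (Submodule.mem_sup_right hw))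
      have h4 := hcon u (Submodule.mem_sup_left hu)
      have h5 := hcon w (Submodule.mem_sup_right hw)
      have h3' : ω (u + w) (T (u + w)) =
          ω u (T u) + ω u (T w) + ω w (T u) + ω w (T w) := by
        simp only [map_add, LinearMap.add_apply]
        ring
      rw [h3', h4, h5] at h3
      have h6 : ω u ((T ^ (r - 1)) w) = ω (T u) w := by
        have h7 : ω (T u) (T ((T ^ (r - 1)) w)) = ω u ((T ^ (r - 1)) w) := hT _ _
        rw [← h7, hpow]
      rw [map_sub, h6, sp_skew ω halt (T u) w]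
      linear_combination h3
    rw [hdis] at h2
    exact (Submodule.mem_bot F).mp h2
  have h2 : T (T w) = w := by
    have h3 : T w = (T ^ (r - 1)) w := sub_eq_zero.mp h1
    calc T (T w) = T ((T ^ (r - 1)) w) := by rw [← h3]
      _ = w := hpow
  have h4 : ∀ k : ℕ, (T ^ (2 * k)) w = w := by
    intro k
    induction k with
    | zero => simp
    | succ k ih =>
      have h5 : 2 * (k + 1) = 2 * k + 2 := by ring
      rw [h5, pow_add, Module.End.mul_apply, pow_two, Module.End.mul_apply, h2, ih]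
  obtain ⟨k, hk⟩ := hrodd
  have h5 : (T ^ r) w = T w := by
    rw [hk, pow_succ', Module.End.mul_apply, h4]
  rw [hTr, Module.End.one_apply] at h5
  have h6 : w ∈ LinearMap.ker (T - 1) := by
    rw [LinearMap.mem_ker, LinearMap.sub_apply, Module.End.one_apply, ← h5, sub_self]
  rw [hfix] at h6
  exact (Submodule.mem_bot F).mp h6

/-- (K2') A minimal nondegenerate invariant subspace of a fixed-point-free isometry. -/
theorem sp_min_nd (ω : V →ₗ[F] V →ₗ[F] F) (halt : ∀ v, ω v v = 0)
    (hnd : ∀ v, (∀ w, ω v w = 0) → v = 0) (T : Module.End F V)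
    (hT : ∀ u v, ω (T u) (T v) = ω u v)
    (p f' : ℕ) [Fact p.Prime] (hF : Fintype.card F = p ^ f') (r : ℕ) [Fact r.Prime]
    (hpr : p.Coprime r) (hr2 : r ≠ 2) (hTr : T ^ r = 1)
    (i c : ℕ) (hi : i = orderOf ((Fintype.card F : ℕ) : ZMod r))
    (hc : c = if Even i then i else 2 * i)
    (hfix : LinearMap.ker (T - 1) = ⊥) (hpos : 0 < finrank F V) :
    ∃ M : Submodule F V, SpNd ω M ∧ (∀ m ∈ M, T m ∈ M) ∧ finrank F M = c := by
  have hr : r.Prime := Fact.out
  have hq0 : ((Fintype.card F : ℕ) : ZMod r) ≠ 0 := el_card_ne_zero p f' hF r hpr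
  have hrF : ((r : ℕ) : F) ≠ 0 := el_natCast_ne_zero p f' hF r hpr
  have hrodd : Odd r := hr.odd_of_ne_two hr2
  have hi1 : 1 ≤ i := by
    rw [hi]
    exact sp_order_pos r hq0
  have hT1 : T ≠ 1 := by
    intro h
    rw [h, sub_self, LinearMap.ker_zero] at hfix
    have h0 : finrank F V = 0 := by
      rw [← finrank_top F V, hfix, finrank_bot]
    omega
  obtain ⟨U, hUdim, hUinv⟩ :=
    Cfsg.Agent.Lib.helper63.Elusive.exists_invariant_small p f' hF r hpr T hTr hT1
  rw [← hi] at hUdim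
  rcases sp_dich ω halt T hT r hq0 hTr hfix U hUinv (by rw [← hi, hUdim]) with hUnd | hUti
  · have hev := sp_even ω halt U hUnd
    rw [hUdim] at hev
    refine ⟨U, hUnd, hUinv, ?_⟩
    rw [hc, if_pos hev, hUdim]
  · have hmapU := sp_map_eq T r hr.ne_zero hTr U hUinv
    have hPinv : ∀ w ∈ spPerp ω U, T w ∈ spPerp ω U := sp_perp_inv ω T hT U hmapU
    obtain ⟨W', hcompl, hW'inv⟩ := dec_maschke T r 1 one_ne_zero hrF (by rw [hTr, one_smul])
      (spPerp ω U) hPinv
    obtain ⟨hMnd, hUW, hW'dim⟩ := sp_hyp ω halt hnd U W' hUti hcompl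
    have hMinv : ∀ m ∈ U ⊔ W', T m ∈ U ⊔ W' := by
      intro m hm
      obtain ⟨u, hu, w, hw, rfl⟩ := Submodule.mem_sup.mp hm
      rw [map_add]
      exact Submodule.add_mem _ (Submodule.mem_sup_left (hUinv u hu))
        (Submodule.mem_sup_right (hW'inv w hw))
    have hMdim : finrank F ↥(U ⊔ W') = i + finrank F W' := by
      have h1 := Submodule.finrank_sup_add_finrank_inf_eq U W'
      rw [hUW, finrank_bot, hUdim] at h1
      omega
    have hcdvd : c ∣ finrank F ↥(U ⊔ W') := by
      have h1 := sp_dvd_rel ω halt T hT r hq0 hrF hTr i c hi hc (U ⊔ W') hMnd hMinv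
      rw [hfix, bot_inf_eq, finrank_bot, Nat.sub_zero] at h1
      exact h1
    by_cases hev : Even i
    · have hci : c = i := by rw [hc, if_pos hev]
      have hW'dim2 : finrank F W' = i := by
        rw [hci, hMdim] at hcdvd
        have h1 : i ∣ finrank F W' := (Nat.dvd_add_right (dvd_refl i)).mp hcdvd
        rcases Nat.eq_zero_or_pos (finrank F W') with h0 | hpos'
        · exfalso
          have hW'bot : W' = ⊥ := Submodule.finrank_eq_zero.mp h0
          rw [hW'bot, sup_bot_eq] at hMnd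
          have hUbot : U = ⊥ := by
            rw [Submodule.eq_bot_iff]
            intro u hu
            exact hMnd u hu (fun v hv => hUti u hu v hv)
          rw [hUbot, finrank_bot] at hUdim
          omega
        · have := Nat.le_of_dvd hpos' h1
          omega
      rcases sp_dich ω halt T hT r hq0 hTr hfix W' hW'inv (by rw [← hi, hW'dim2]) with
        hW'nd | hW'ti
      · exact ⟨W', hW'nd, hW'inv, by rw [hci, hW'dim2]⟩
      · obtain ⟨g, hg⟩ : ∃ g : Polynomial F, g = LinearMap.charpoly (T.restrict hUinv) :=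
          ⟨_, rfl⟩
        have hgmon : g.Monic := by
          rw [hg]
          exact LinearMap.charpoly_monic _
        have hgdeg : g.natDegree = i := by
          rw [hg, LinearMap.charpoly_natDegree, hUdim]
        have hgU : ∀ u ∈ U, Polynomial.aeval T g u = 0 := by
          intro u hu
          have h1 := sp_aeval_restrict T U hUinv g ⟨u, hu⟩
          rw [hg, LinearMap.aeval_self_charpoly] at h1
          rw [hg, ← h1]
          rfl
        obtain ⟨m, hm⟩ := sp_half_pow r (Fintype.card F) i hi hi1 hev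
        have hgU2 : ∀ u ∈ U, Polynomial.aeval (T ^ (r - 1)) g u = 0 := by
          intro u hu
          have h1 := sp_frob T g (i / 2)
          rw [hm, sp_pow_frob T r hTr m] at h1
          rw [h1]
          have hr1 := hr.one_lt
          exact sp_pow_kill _ _ (by omega) u (hgU u hu)
        have hgW : ∀ w ∈ W', Polynomial.aeval T g w = 0 := by
          intro w hw
          have h1 : Polynomial.aeval T g w ∈ spPerp ω U ⊓ W' := by
            rw [Submodule.mem_inf]
            refine ⟨?_, sp_aeval_mem T W' hW'inv g w hw⟩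
            intro u hu
            rw [sp_adj_aeval ω T hT r hr.one_lt.le hTr g u w, hgU2 u hu, map_zero,
              LinearMap.zero_apply]
          rw [hcompl.inf_eq_bot] at h1
          exact (Submodule.mem_bot F).mp h1
        have hgM : ∀ v ∈ U ⊔ W', Polynomial.aeval T g v = 0 := by
          intro v hv
          obtain ⟨u, hu, w, hw, rfl⟩ := Submodule.mem_sup.mp hv
          rw [map_add, hgU u hu, hgW w hw, add_zero]
        have hW'ne : W' ≠ ⊥ := by
          intro h
          rw [h, finrank_bot] at hW'dim2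
          omega
        obtain ⟨v, hvM, hv⟩ := sp_exists_pair ω halt T hT r hrodd hTr hfix U W' hW'inv
          hcompl.inf_eq_bot hW'ne
        obtain ⟨Mv, hMv⟩ : ∃ Mv : Submodule F V,
            Mv = Submodule.span F (Set.range (fun j : Fin i => (T ^ (j : ℕ)) v)) := ⟨_, rfl⟩
        have hMvinv : ∀ z ∈ Mv, T z ∈ Mv := by
          rw [hMv]
          exact Cfsg.Agent.Lib.helper63.Elusive.cyclic_invariant T v i
            (sp_cyclic T g hgmon i hgdeg v (hgM v hvM))
        have hvMv : v ∈ Mv := by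
          rw [hMv]
          apply Submodule.subset_span
          exact ⟨⟨0, hi1⟩, by simp⟩
        have hMvdim : finrank F Mv ≤ i := by
          rw [hMv]
          have h1 := finrank_range_le_card (R := F) (fun j : Fin i => (T ^ (j : ℕ)) v)
          rw [Fintype.card_fin] at h1
          exact h1
        rcases sp_dich ω halt T hT r hq0 hTr hfix Mv hMvinv (by rw [← hi]; exact hMvdim) with
          hnd' | hti'
        · refine ⟨Mv, hnd', hMvinv, ?_⟩
          have h1 := sp_inv_dvd T r hq0 hTr hfix Mv hMvinv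
          rw [← hi] at h1
          have h2 : 0 < finrank F Mv := by
            rw [Module.finrank_pos_iff_exists_ne_zero (R := F)]
            refine ⟨⟨v, hvMv⟩, ?_⟩
            intro h
            have h3 : v = 0 := congrArg Subtype.val h
            rw [h3] at hv
            simp at hv
          have := Nat.le_of_dvd h2 h1
          rw [hci]
          omega
        · exact absurd (hti' v hvMv (T v) (hMvinv v hvMv)) hv
    · have hci : c = 2 * i := by rw [hc, if_neg hev]
      refine ⟨U ⊔ W', hMnd, hMinv, ?_⟩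
      rw [hci, hMdim] at hcdvd
      rw [hMdim, hci]
      obtain ⟨k, hk⟩ := hcdvd
      have hk1 : k = 1 := by
        rcases Nat.lt_or_ge k 1 with h | h
        · have h0 : k = 0 := by omega
          rw [h0, mul_zero] at hk
          omega
        · rcases Nat.lt_or_ge 1 k with h' | h'
          · have h3 : 2 * i * 2 ≤ 2 * i * k := Nat.mul_le_mul_left _ h'
            omega
          · omega
      rw [hk1, mul_one] at hk
      omega

/-- (K2) Nondegenerate invariant subspaces of every dimension `c * j`. -/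
theorem sp_nd_mult (p f' : ℕ) [Fact p.Prime] (hF : Fintype.card F = p ^ f') (r : ℕ)
    [Fact r.Prime] (hpr : p.Coprime r) (hr2 : r ≠ 2) (i c : ℕ)
    (hi : i = orderOf ((Fintype.card F : ℕ) : ZMod r))
    (hc : c = if Even i then i else 2 * i) (hc1 : 1 ≤ c) :
    ∀ (j : ℕ) (V : Type u) [AddCommGroup V] [Module F V] [Finite V]
      (ω : V →ₗ[F] V →ₗ[F] F), (∀ v, ω v v = 0) → (∀ v, (∀ w, ω v w = 0) → v = 0) →
      ∀ T : Module.End F V, (∀ u v, ω (T u) (T v) = ω u v) → T ^ r = 1 →
      LinearMap.ker (T - 1) = ⊥ → c * j ≤ finrank F V →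
      ∃ M : Submodule F V, SpNd ω M ∧ (∀ m ∈ M, T m ∈ M) ∧ finrank F M = c * j := by
  intro j
  induction j with
  | zero =>
    intro V _ _ _ ω _ _ T _ _ _ _
    refine ⟨⊥, ?_, ?_, by simp⟩
    · intro u hu _
      exact (Submodule.mem_bot F).mp hu
    · intro m hm
      rw [(Submodule.mem_bot F).mp hm, map_zero]
      exact Submodule.zero_mem _
  | succ j ih =>
    intro V _ _ _ ω halt hnd T hT hTr hfix hdim
    have hr : r.Prime := Fact.out
    have hcj : c * (j + 1) = c * j + c := by ring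
    have hpos : 0 < finrank F V := by omega
    obtain ⟨M, hMnd, hMinv, hMdim⟩ := sp_min_nd ω halt hnd T hT p f' hF r hpr hr2 hTr i c hi hc
      hfix hpos
    obtain ⟨P, hP⟩ : ∃ P : Submodule F V, P = spPerp ω M := ⟨_, rfl⟩
    have hcompl : IsCompl M P := by
      rw [hP]
      exact sp_perp_compl ω halt M hMnd
    have hPnd : SpNd ω P := by
      rw [hP]
      exact sp_perp_nd ω halt hnd M hMnd
    have hPinv : ∀ w ∈ P, T w ∈ P := by
      rw [hP]
      exact sp_perp_inv ω T hT M (sp_map_eq T r hr.ne_zero hTr M hMinv)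
    have hPdim : c * j ≤ finrank F P := by
      have h1 := Submodule.finrank_add_eq_of_isCompl hcompl
      omega
    have hfix' : LinearMap.ker (T.restrict hPinv - 1) = ⊥ := by
      apply Submodule.finrank_eq_zero.mp
      rw [el_finrank_ker_restrict, hfix, bot_inf_eq, finrank_bot]
    obtain ⟨U', hU'nd, hU'inv, hU'dim⟩ := ih P (ω.domRestrict₁₂ P P) (fun v => halt v.1)
      (sp_nd_restrict ω P hPnd) (T.restrict hPinv) (fun u v => hT u.1 v.1)
      (el_restrict_pow T r hTr P hPinv) hfix' hPdim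
    obtain ⟨U₂, hU₂⟩ : ∃ U₂ : Submodule F V, U₂ = U'.map P.subtype := ⟨_, rfl⟩
    have hU₂nd : SpNd ω U₂ := by
      rw [hU₂]
      exact sp_nd_map ω P U' hU'nd
    have hU₂dim : finrank F U₂ = c * j := by
      rw [hU₂, Submodule.finrank_map_subtype_eq, hU'dim]
    have hU₂P : U₂ ≤ P := by
      rw [hU₂]
      exact Submodule.map_subtype_le P U'
    have hU₂inv : ∀ m ∈ U₂, T m ∈ U₂ := by
      intro m hm
      rw [hU₂] at hm ⊢
      obtain ⟨m', hm', rfl⟩ := hm
      exact ⟨T.restrict hPinv m', hU'inv m' hm', rfl⟩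
    refine ⟨M ⊔ U₂, ?_, ?_, ?_⟩
    · apply sp_sum_nd ω halt M U₂ hMnd hU₂nd
      intro m hm v hv
      have h1 := hU₂P hv
      rw [hP] at h1
      exact h1 m hm
    · intro m hm
      obtain ⟨x, hx, y, hy, rfl⟩ := Submodule.mem_sup.mp hm
      rw [map_add]
      exact Submodule.add_mem _ (Submodule.mem_sup_left (hMinv x hx))
        (Submodule.mem_sup_right (hU₂inv y hy))
    · have h1 := Submodule.finrank_sup_add_finrank_inf_eq M U₂
      have h2 : M ⊓ U₂ = ⊥ := by
        rw [eq_bot_iff, ← hcompl.inf_eq_bot]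
        exact inf_le_inf_left M hU₂P
      rw [h2, finrank_bot] at h1
      omega

/-- (K1) Nondegenerate invariant subspaces of prescribed even dimension. -/
theorem sp_exists_inv_nd (ω : V →ₗ[F] V →ₗ[F] F) (halt : ∀ v, ω v v = 0)
    (hnd : ∀ v, (∀ w, ω v w = 0) → v = 0) (T : Module.End F V)
    (hT : ∀ u v, ω (T u) (T v) = ω u v)
    (p f' : ℕ) [Fact p.Prime] (hF : Fintype.card F = p ^ f') (r : ℕ) [Fact r.Prime]
    (hpr : p.Coprime r) (hr2 : r ≠ 2) (hTr : T ^ r = 1)
    (i c : ℕ) (hi : i = orderOf ((Fintype.card F : ℕ) : ZMod r))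
    (hc : c = if Even i then i else 2 * i) (m : ℕ) (hm : Even m) (hmn : m ≤ finrank F V)
    (hmod : m % c ≤ finrank F V % c ∨ T = 1) :
    ∃ D : Submodule F V, SpNd ω D ∧ (∀ d ∈ D, T d ∈ D) ∧ finrank F D = m := by
  have hr : r.Prime := Fact.out
  have hq0 : ((Fintype.card F : ℕ) : ZMod r) ≠ 0 := el_card_ne_zero p f' hF r hpr
  have hrF : ((r : ℕ) : F) ≠ 0 := el_natCast_ne_zero p f' hF r hpr
  have hi1 : 1 ≤ i := by
    rw [hi]
    exact sp_order_pos r hq0
  have hcev : Even c := by
    rw [hc]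
    split_ifs with h
    · exact h
    · exact even_two_mul i
  have hc1 : 1 ≤ c := by
    rw [hc]
    split_ifs with h
    · exact hi1
    · omega
  obtain ⟨C, hC⟩ : ∃ C : Submodule F V, C = LinearMap.ker (T - 1) := ⟨_, rfl⟩
  obtain ⟨R, hR⟩ : ∃ R : Submodule F V, R = LinearMap.range (T - 1) := ⟨_, rfl⟩
  have hCnd : SpNd ω C := by
    rw [hC]
    exact sp_fix_nd ω hnd T hT r hTr hrF
  have hRnd : SpNd ω R := by
    rw [hR]
    exact sp_range_nd ω halt hnd T hT r hTr hrF
  have hCfix : ∀ k ∈ C, T k = k := by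
    intro k hk
    rw [hC, LinearMap.mem_ker, LinearMap.sub_apply, Module.End.one_apply, sub_eq_zero] at hk
    exact hk
  have horth : ∀ k ∈ C, ∀ ρ ∈ R, ω k ρ = 0 := by
    intro k hk ρ hρ
    rw [hR] at hρ
    obtain ⟨u, rfl⟩ := hρ
    exact sp_fix_orth ω T hT k (hCfix k hk) u
  have hdis : C ⊓ R = ⊥ := by
    rw [Submodule.eq_bot_iff]
    intro v hv
    rw [Submodule.mem_inf] at hv
    exact el_fix_inf_range T r hTr hrF v (hCfix v hv.1) (by rw [← hR]; exact hv.2)
  have hsum : finrank F C + finrank F R = finrank F V := by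
    have h1 := LinearMap.finrank_range_add_finrank_ker (T - 1)
    rw [← hC, ← hR] at h1
    omega
  have hRinv : ∀ ρ ∈ R, T ρ ∈ R := by
    intro ρ hρ
    rw [hR] at hρ ⊢
    obtain ⟨u, rfl⟩ := hρ
    refine ⟨T u, ?_⟩
    simp only [LinearMap.sub_apply, Module.End.one_apply, map_sub]
  have hcR : c ∣ finrank F R := by
    have h1 := sp_dvd ω halt hnd T hT r hq0 hrF hTr i c hi hc
    rw [← hC] at h1
    have h2 : finrank F V - finrank F C = finrank F R := by omega
    rwa [h2] at h1
  have hfixR : LinearMap.ker (T.restrict hRinv - 1) = ⊥ := by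
    apply Submodule.finrank_eq_zero.mp
    rw [el_finrank_ker_restrict, ← hC, hdis, finrank_bot]
  obtain ⟨e₂, he₂⟩ := hcR
  obtain ⟨j, hj⟩ : ∃ j, j = min (m / c) e₂ := ⟨_, rfl⟩
  have hj1 : c * j ≤ finrank F R := by
    rw [he₂]
    exact Nat.mul_le_mul_left c (by rw [hj]; exact min_le_right _ _)
  have hj2 : c * j ≤ m :=
    le_trans (Nat.mul_le_mul_left c (by rw [hj]; exact min_le_left _ _)) (Nat.mul_div_le m c)
  have hj3 : m - c * j ≤ finrank F C := by
    rcases le_total (m / c) e₂ with h | h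
    · have hjeq : j = m / c := by
        rw [hj]
        exact min_eq_left h
      have h1 := Nat.div_add_mod m c
      rw [hjeq]
      have h4 : m % c ≤ finrank F C := by
        rcases hmod with hmod | hT1
        · have h2 : finrank F V % c = finrank F C % c := by
            rw [← hsum, he₂, Nat.add_mul_mod_self_left]
          have h3 := Nat.mod_le (finrank F C) c
          omega
        · have hCtop : C = ⊤ := by
            rw [hC, hT1, sub_self, LinearMap.ker_zero]
          have h2 : finrank F C = finrank F V := by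
            rw [hCtop, finrank_top]
          have h3 := Nat.mod_le m c
          omega
      omega
    · have hjeq : j = e₂ := by
        rw [hj]
        exact min_eq_right h
      rw [hjeq, ← he₂]
      omega
  have hj4 : Even (m - c * j) :=
    (Nat.even_sub hj2).mpr ⟨fun _ => hcev.mul_right j, fun _ => hm⟩
  obtain ⟨j', hj'⟩ := hj4
  obtain ⟨DR', hDR'nd, hDR'inv, hDR'dim⟩ := sp_nd_mult p f' hF r hpr hr2 i c hi hc hc1 j R
    (ω.domRestrict₁₂ R R) (fun v => halt v.1) (sp_nd_restrict ω R hRnd) (T.restrict hRinv)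
    (fun u v => hT u.1 v.1) (el_restrict_pow T r hTr R hRinv) hfixR hj1
  obtain ⟨DC', hDC'nd, hDC'dim⟩ := sp_exists_nd j' C (ω.domRestrict₁₂ C C)
    (fun v => halt v.1) (sp_nd_restrict ω C hCnd) (by omega)
  obtain ⟨DR, hDR⟩ : ∃ DR : Submodule F V, DR = DR'.map R.subtype := ⟨_, rfl⟩
  obtain ⟨DC, hDC⟩ : ∃ DC : Submodule F V, DC = DC'.map C.subtype := ⟨_, rfl⟩
  have hDRR : DR ≤ R := by
    rw [hDR]
    exact Submodule.map_subtype_le R DR'
  have hDCC : DC ≤ C := by
    rw [hDC]
    exact Submodule.map_subtype_le C DC'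
  refine ⟨DR ⊔ DC, ?_, ?_, ?_⟩
  · apply sp_sum_nd ω halt DR DC (by rw [hDR]; exact sp_nd_map ω R DR' hDR'nd)
      (by rw [hDC]; exact sp_nd_map ω C DC' hDC'nd)
    intro ρ hρ k hk
    rw [sp_skew ω halt, horth k (hDCC hk) ρ (hDRR hρ), neg_zero]
  · intro d hd
    obtain ⟨x, hx, y, hy, rfl⟩ := Submodule.mem_sup.mp hd
    rw [map_add, hCfix y (hDCC hy)]
    refine Submodule.add_mem _ (Submodule.mem_sup_left ?_) (Submodule.mem_sup_right hy)
    rw [hDR] at hx ⊢
    obtain ⟨x', hx', rfl⟩ := hx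
    exact ⟨T.restrict hRinv x', hDR'inv x' hx', rfl⟩
  · have h1 := Submodule.finrank_sup_add_finrank_inf_eq DR DC
    have h2 : DR ⊓ DC = ⊥ := by
      rw [eq_bot_iff, ← hdis, inf_comm C R]
      exact inf_le_inf hDRR hDCC
    rw [h2, finrank_bot] at h1
    have h3 : finrank F DR = c * j := by
      rw [hDR, Submodule.finrank_map_subtype_eq, hDR'dim]
    have h4 : finrank F DC = 2 * j' := by
      rw [hDC, Submodule.finrank_map_subtype_eq, hDC'dim]
    omega

end spb

end Cfsg.Agent.Lib.helper24
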