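import Mathlib
import Cfsg.Agent.Lib.helper24.SpB

/-!
# Alternating forms: peeling off invariant nondegenerate subspaces (elements of order 2)
-/

set_option autoImplicit false

namespace Cfsg.Agent.Lib.helper24

open Module

section sqa

variable {F : Type*} [Field F] {V : Type*} [AddCommGroup V] [Module F V]

/-- Invariant subspaces of a map of finite order are mapped onto themselves. -/
theorem sq_map_eq (T : Module.End F V) (r : ℕ) (hr : 1 ≤ r) (hTr : T ^ r = 1)
    (U : Submodule F V) (hU : ∀ u ∈ U, T u ∈ U) : U.map T = U := by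
  apply le_antisymm
  · rintro _ ⟨u, hu, rfl⟩
    exact hU u hu
  · intro u hu
    have hpow : ∀ j : ℕ, (T ^ j) u ∈ U := by
      intro j
      induction j with
      | zero => simpa using hu
      | succ j ih =>
        rw [pow_succ', Module.End.mul_apply]
        exact hU _ ih
    refine ⟨(T ^ (r - 1)) u, hpow (r - 1), ?_⟩
    have h1 : T * T ^ (r - 1) = 1 := by
      rw [← pow_succ', Nat.sub_add_cancel hr, hTr]
    have h2 := congrArg (fun φ : Module.End F V => φ u) h1
    simpa using h2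

theorem sq_rel [FiniteDimensional F V] (ω : V →ₗ[F] V →ₗ[F] F) (halt : ∀ v, ω v v = 0)
    (W U : Submodule F V) (hW : SpNd ω W) (hU : SpNd ω U) (hUW : U ≤ W) :
    SpNd ω (spPerp ω U ⊓ W) ∧ U ⊔ (spPerp ω U ⊓ W) = W ∧ U ⊓ (spPerp ω U ⊓ W) = ⊥ ∧
      finrank F U + finrank F ↥(spPerp ω U ⊓ W) = finrank F W := by
  have hc := sp_perp_compl ω halt U hU
  have hsup : U ⊔ (spPerp ω U ⊓ W) = W := by
    rw [← sup_inf_assoc_of_le _ hUW, hc.sup_eq_top, top_inf_eq]
  have hinf : U ⊓ (spPerp ω U ⊓ W) = ⊥ := by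
    rw [← inf_assoc, hc.inf_eq_bot, bot_inf_eq]
  refine ⟨?_, hsup, hinf, ?_⟩
  · intro u hu hu2
    obtain ⟨hu1, hu3⟩ := Submodule.mem_inf.mp hu
    apply hW u hu3
    intro w hw
    rw [← hsup] at hw
    obtain ⟨a, ha, b, hb, rfl⟩ := Submodule.mem_sup.mp hw
    rw [map_add, hu2 b hb, add_zero, sp_skew ω halt, hu1 a ha, neg_zero]
  · have h1 := Submodule.finrank_sup_add_finrank_inf_eq U (spPerp ω U ⊓ W)
    rw [hsup, hinf, finrank_bot, add_zero] at h1
    exact h1.symm

theorem sq_sum [FiniteDimensional F V] (ω : V →ₗ[F] V →ₗ[F] F) (halt : ∀ v, ω v v = 0)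
    (U₁ U₂ : Submodule F V) (h1 : SpNd ω U₁) (h2 : SpNd ω U₂)
    (horth : ∀ u ∈ U₁, ∀ v ∈ U₂, ω u v = 0) :
    SpNd ω (U₁ ⊔ U₂) ∧ finrank F ↥(U₁ ⊔ U₂) = finrank F U₁ + finrank F U₂ := by
  refine ⟨sp_sum_nd ω halt U₁ U₂ h1 h2 horth, ?_⟩
  have hinf : U₁ ⊓ U₂ = ⊥ := by
    rw [eq_bot_iff]
    intro u hu
    obtain ⟨hu1, hu2⟩ := Submodule.mem_inf.mp hu
    rw [Submodule.mem_bot]
    apply h1 u hu1
    intro v hv
    rw [sp_skew ω halt, horth v hv u hu2, neg_zero]
  have h3 := Submodule.finrank_sup_add_finrank_inf_eq U₁ U₂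
  rw [hinf, finrank_bot, add_zero] at h3
  exact h3

theorem sq_sup_inv (T : Module.End F V) (U₁ U₂ : Submodule F V) (h1 : ∀ u ∈ U₁, T u ∈ U₁)
    (h2 : ∀ u ∈ U₂, T u ∈ U₂) : ∀ u ∈ U₁ ⊔ U₂, T u ∈ U₁ ⊔ U₂ := by
  intro u hu
  obtain ⟨a, ha, b, hb, rfl⟩ := Submodule.mem_sup.mp hu
  rw [map_add]
  exact Submodule.add_mem_sup (h1 a ha) (h2 b hb)

theorem sq_bot_nd (ω : V →ₗ[F] V →ₗ[F] F) : SpNd ω (⊥ : Submodule F V) := by
  intro u hu _
  exact (Submodule.mem_bot F).mp hu

theorem sq_partner (ω : V →ₗ[F] V →ₗ[F] F) (W : Submodule F V) (hW : SpNd ω W) (u : V)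
    (hu : u ∈ W) (hu0 : u ≠ 0) : ∃ w ∈ W, ω u w ≠ 0 := by
  by_contra hcon
  push Not at hcon
  exact hu0 (hW u hu hcon)

/-- A pair with nonzero pairing spans a nondegenerate plane. -/
theorem sq_pair (ω : V →ₗ[F] V →ₗ[F] F) (halt : ∀ v, ω v v = 0) (a b : V) (hab : ω a b ≠ 0) :
    SpNd ω (Submodule.span F {a, b}) ∧ finrank F ↥(Submodule.span F {a, b}) = 2 := by
  have hba : ω b a = - ω a b := sp_skew ω halt b a
  constructor
  · intro u hu hu2
    obtain ⟨α, β, rfl⟩ := Submodule.mem_span_pair.mp hu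
    have ha := hu2 a (Submodule.subset_span (by simp))
    have hb := hu2 b (Submodule.subset_span (by simp))
    simp only [map_add, map_smul, LinearMap.add_apply, LinearMap.smul_apply, smul_eq_mul, halt,
      mul_zero, zero_add, add_zero, hba] at ha hb
    have hα : α = 0 := by
      rcases mul_eq_zero.mp hb with h | h
      · exact h
      · exact absurd h hab
    have hβ : β = 0 := by
      rcases mul_eq_zero.mp ha with h | h
      · exact h
      · exact absurd (neg_eq_zero.mp h) hab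
    rw [hα, hβ, zero_smul, zero_smul, add_zero]
  · have hli : LinearIndependent F ![a, b] := by
      rw [LinearIndependent.pair_iff]
      intro s t hst
      have h1 := congrArg (fun x => ω x b) hst
      have h2 := congrArg (fun x => ω x a) hst
      simp only [map_add, map_smul, LinearMap.add_apply, LinearMap.smul_apply, smul_eq_mul, halt,
        mul_zero, zero_add, add_zero, map_zero, LinearMap.zero_apply, hba] at h1 h2
      constructor
      · rcases mul_eq_zero.mp h1 with h | h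
        · exact h
        · exact absurd h hab
      · rcases mul_eq_zero.mp h2 with h | h
        · exact h
        · exact absurd (neg_eq_zero.mp h) hab
    have h3 := finrank_span_eq_card hli
    rw [Fintype.card_fin] at h3
    have h4 : Set.range ![a, b] = {a, b} := by
      ext x
      simp only [Set.mem_range, Set.mem_insert_iff, Set.mem_singleton_iff]
      constructor
      · rintro ⟨i, rfl⟩
        fin_cases i
        · left; rfl
        · right; rfl
      · rintro (rfl | rfl)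
        · exact ⟨0, rfl⟩
        · exact ⟨1, rfl⟩
    rw [h4] at h3
    exact h3

/-- Triangular pairing against a dual family forces coefficients to vanish. -/
theorem sq_tri {ι : Type} [Fintype ι] [DecidableEq ι] (ω : V →ₗ[F] V →ₗ[F] F) (ρ : ι → ℕ)
    (e g : ι → V) (h0 : ∀ i i', i ≠ i' → ρ i' ≤ ρ i → ω (e i) (g i') = 0)
    (h1 : ∀ i, ω (e i) (g i) ≠ 0) (c : ι → F)
    (hc : ∀ i', ω (∑ i, c i • e i) (g i') = 0) : c = 0 := by
  have key : ∀ n, ∀ i', ρ i' = n → c i' = 0 := by
    intro n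
    induction n using Nat.strong_induction_on with
    | _ n ih =>
      intro i' hi'
      have h2 := hc i'
      rw [map_sum, LinearMap.sum_apply] at h2
      simp only [map_smul, LinearMap.smul_apply, smul_eq_mul] at h2
      rw [Finset.sum_eq_single i'] at h2
      · rcases mul_eq_zero.mp h2 with h | h
        · exact h
        · exact absurd h (h1 i')
      · intro i _ hne
        by_cases hlt : ρ i < ρ i'
        · rw [ih (ρ i) (hi' ▸ hlt) i rfl, zero_mul]
        · rw [h0 i i' hne (not_lt.mp hlt), mul_zero]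
      · intro h
        exact absurd (Finset.mem_univ i') h
  funext i
  exact key (ρ i) i rfl

theorem sq_tri_li {ι : Type} [Fintype ι] [DecidableEq ι] (ω : V →ₗ[F] V →ₗ[F] F) (ρ : ι → ℕ)
    (e g : ι → V) (h0 : ∀ i i', i ≠ i' → ρ i' ≤ ρ i → ω (e i) (g i') = 0)
    (h1 : ∀ i, ω (e i) (g i) ≠ 0) : LinearIndependent F e := by
  rw [Fintype.linearIndependent_iff]
  intro c hc i
  have h2 := sq_tri ω ρ e g h0 h1 c (fun i' => by rw [hc, map_zero, LinearMap.zero_apply])
  rw [h2]
  rfl

theorem sq_tri_nd {ι : Type} [Fintype ι] [DecidableEq ι] (ω : V →ₗ[F] V →ₗ[F] F) (ρ : ι → ℕ)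
    (e g : ι → V) (h0 : ∀ i i', i ≠ i' → ρ i' ≤ ρ i → ω (e i) (g i') = 0)
    (h1 : ∀ i, ω (e i) (g i) ≠ 0) (hg : ∀ i, g i ∈ Submodule.span F (Set.range e)) :
    SpNd ω (Submodule.span F (Set.range e)) := by
  intro u hu hu2
  obtain ⟨c, rfl⟩ := (Submodule.mem_span_range_iff_exists_fun F).mp hu
  have h2 := sq_tri ω ρ e g h0 h1 c (fun i' => hu2 _ (hg i'))
  rw [h2]
  simp

/-- Rank-nullity for the restriction of a map to a subspace. -/
theorem sq_rank_nullity [FiniteDimensional F V] (A : Module.End F V) (W : Submodule F V) :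
    finrank F ↥(LinearMap.ker A ⊓ W) + finrank F ↥(W.map A) = finrank F W := by
  have h1 := LinearMap.finrank_range_add_finrank_ker (A.domRestrict W)
  have h2 : LinearMap.range (A.domRestrict W) = W.map A := by
    ext x
    simp only [LinearMap.mem_range, Submodule.mem_map, LinearMap.domRestrict_apply]
    constructor
    · rintro ⟨y, rfl⟩
      exact ⟨y.1, y.2, rfl⟩
    · rintro ⟨y, hy, rfl⟩
      exact ⟨⟨y, hy⟩, rfl⟩
  have h3 : finrank F (LinearMap.ker (A.domRestrict W)) = finrank F ↥(LinearMap.ker A ⊓ W) := by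
    have h4 : (LinearMap.ker (A.domRestrict W)).map W.subtype = LinearMap.ker A ⊓ W := by
      ext x
      simp only [Submodule.mem_map, LinearMap.mem_ker, Submodule.mem_inf,
        LinearMap.domRestrict_apply, Submodule.subtype_apply]
      constructor
      · rintro ⟨y, hy, rfl⟩
        exact ⟨hy, y.2⟩
      · rintro ⟨h, hx⟩
        exact ⟨⟨x, hx⟩, h, rfl⟩
    rw [← h4, Submodule.finrank_map_subtype_eq]
  rw [h2, h3] at h1
  omega

/-- A complement inside a larger subspace. -/
theorem sq_exists_compl (K W : Submodule F V) (hKW : K ≤ W) :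
    ∃ C : Submodule F V, C ≤ W ∧ K ⊓ C = ⊥ ∧ K ⊔ C = W := by
  obtain ⟨C₀, hC₀⟩ := Submodule.exists_isCompl K
  refine ⟨C₀ ⊓ W, inf_le_right, ?_, ?_⟩
  · rw [← inf_assoc, hC₀.inf_eq_bot, bot_inf_eq]
  · rw [← sup_inf_assoc_of_le _ hKW, hC₀.sup_eq_top, top_inf_eq]

/-- Totally isotropic subspaces of a nondegenerate subspace have at most half the dimension. -/
theorem sq_ti_le [FiniteDimensional F V] (ω : V →ₗ[F] V →ₗ[F] F)
    (W K : Submodule F V) (hW : SpNd ω W) (hKW : K ≤ W) (hK : ∀ u ∈ K, ∀ v ∈ K, ω u v = 0) :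
    2 * finrank F K ≤ finrank F W := by
  obtain ⟨C, hCW, hinf, hsup⟩ := sq_exists_compl K W hKW
  have hinj : Function.Injective (ω.domRestrict₁₂ K C) := by
    rw [injective_iff_map_eq_zero]
    intro k hk
    apply Subtype.ext
    show (k : V) = 0
    apply hW k (hKW k.2)
    intro w hw
    rw [← hsup] at hw
    obtain ⟨a, ha, b, hb, rfl⟩ := Submodule.mem_sup.mp hw
    rw [map_add, hK k k.2 a ha, zero_add]
    have h1 : (ω.domRestrict₁₂ K C k) ⟨b, hb⟩ = 0 := by
      rw [hk]
      rfl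
    exact h1
  have h1 := LinearMap.finrank_le_finrank_of_injective hinj
  rw [Subspace.dual_finrank_eq] at h1
  have h2 := Submodule.finrank_sup_add_finrank_inf_eq K C
  rw [hsup, hinf, finrank_bot, add_zero] at h2
  omega

end sqa

end Cfsg.Agent.Lib.helper24
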