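import Mathlib
import Cfsg.Agent.Lib.helper24.SqC

/-!
# Symmetric bilinear forms: unipotent isometries, Jordan-type structure
(port of the alternating theory in `SqA`, `SqC`)
-/

set_option autoImplicit false

namespace Cfsg.Agent.Lib.helper24

open Module

section soa

variable {F : Type*} [Field F] {V : Type*} [AddCommGroup V] [Module F V]

theorem so_perp_compl [FiniteDimensional F V] (ω : V →ₗ[F] V →ₗ[F] F)
    (hsym : ∀ u v, ω u v = ω v u) (U : Submodule F V) (hU : SpNd ω U) :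
    IsCompl U (spPerp ω U) := by
  have hdis : U ⊓ spPerp ω U = ⊥ := by
    rw [Submodule.eq_bot_iff]
    intro v hv
    rw [Submodule.mem_inf] at hv
    apply hU v hv.1
    intro u hu
    rw [hsym, hv.2 u hu]
  have h1 := sp_finrank_perp_ge ω U
  have h2 := Submodule.finrank_sup_add_finrank_inf_eq U (spPerp ω U)
  rw [hdis, finrank_bot] at h2
  have h3 : U ⊔ spPerp ω U = ⊤ := by
    apply Submodule.eq_top_of_finrank_eq
    have h4 := Submodule.finrank_le (U ⊔ spPerp ω U)
    omega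
  exact ⟨disjoint_iff.mpr hdis, codisjoint_iff.mpr h3⟩

theorem so_rel [FiniteDimensional F V] (ω : V →ₗ[F] V →ₗ[F] F) (hsym : ∀ u v, ω u v = ω v u)
    (W U : Submodule F V) (hW : SpNd ω W) (hU : SpNd ω U) (hUW : U ≤ W) :
    SpNd ω (spPerp ω U ⊓ W) ∧ U ⊔ (spPerp ω U ⊓ W) = W ∧ U ⊓ (spPerp ω U ⊓ W) = ⊥ ∧
      finrank F U + finrank F ↥(spPerp ω U ⊓ W) = finrank F W := by
  have hc := so_perp_compl ω hsym U hU
  have hsup : U ⊔ (spPerp ω U ⊓ W) = W := by
    rw [← sup_inf_assoc_of_le _ hUW, hc.sup_eq_top, top_inf_eq]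
  have hinf : U ⊓ (spPerp ω U ⊓ W) = ⊥ := by
    rw [← inf_assoc, hc.inf_eq_bot, bot_inf_eq]
  refine ⟨?_, hsup, hinf, ?_⟩
  · intro u hu hu2
    obtain ⟨hu1, hu3⟩ := Submodule.mem_inf.mp hu
    apply hW u hu3
    intro w hw
    rw [← hsup] at hw
    obtain ⟨a, ha, b, hb, rfl⟩ := Submodule.mem_sup.mp hw
    rw [map_add, hu2 b hb, add_zero, hsym, hu1 a ha]
  · have h1 := Submodule.finrank_sup_add_finrank_inf_eq U (spPerp ω U ⊓ W)
    rw [hsup, hinf, finrank_bot, add_zero] at h1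
    exact h1.symm

theorem so_sum [FiniteDimensional F V] (ω : V →ₗ[F] V →ₗ[F] F) (hsym : ∀ u v, ω u v = ω v u)
    (U₁ U₂ : Submodule F V) (h1 : SpNd ω U₁) (h2 : SpNd ω U₂)
    (horth : ∀ u ∈ U₁, ∀ v ∈ U₂, ω u v = 0) :
    SpNd ω (U₁ ⊔ U₂) ∧ finrank F ↥(U₁ ⊔ U₂) = finrank F U₁ + finrank F U₂ := by
  refine ⟨?_, ?_⟩
  · intro w hw hw2
    obtain ⟨u₁, hu₁, u₂, hu₂, rfl⟩ := Submodule.mem_sup.mp hw
    have e1 : u₁ = 0 := by
      apply h1 u₁ hu₁
      intro v hv
      have h3 := hw2 v (Submodule.mem_sup_left hv)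
      rw [map_add, LinearMap.add_apply, hsym u₂ v, horth v hv u₂ hu₂, add_zero] at h3
      exact h3
    have e2 : u₂ = 0 := by
      apply h2 u₂ hu₂
      intro v hv
      have h3 := hw2 v (Submodule.mem_sup_right hv)
      rw [map_add, LinearMap.add_apply, horth u₁ hu₁ v hv, zero_add] at h3
      exact h3
    rw [e1, e2, add_zero]
  · have hinf : U₁ ⊓ U₂ = ⊥ := by
      rw [eq_bot_iff]
      intro u hu
      obtain ⟨hu1, hu2⟩ := Submodule.mem_inf.mp hu
      rw [Submodule.mem_bot]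
      apply h1 u hu1
      intro v hv
      rw [hsym, horth v hv u hu2]
    have h3 := Submodule.finrank_sup_add_finrank_inf_eq U₁ U₂
    rw [hinf, finrank_bot, add_zero] at h3
    exact h3

/-- A family of chains with triangular Gram matrix spans a nondegenerate invariant subspace
with the expected kernel dimensions. -/
theorem so_chain [FiniteDimensional F V] (ω : V →ₗ[F] V →ₗ[F] F)
    (T T' : Module.End F V) (hT : ∀ u v, ω (T u) (T v) = ω u v) (hTT' : T * T' = 1)
    (hT'T : T' * T = 1) (k : ℕ) (hk : 1 ≤ k) {S : Type} [Fintype S] [DecidableEq S]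
    (x y : S → V) (hx : ∀ s, ((T - 1) ^ k) (x s) = 0) (hy : ∀ s, ((T - 1) ^ k) (y s) = 0)
    (hxy0 : ∀ s s', s ≠ s' → ω (x s) (((T - 1) ^ (k - 1)) (y s')) = 0)
    (hxy1 : ∀ s, ω (x s) (((T - 1) ^ (k - 1)) (y s)) ≠ 0)
    (U : Submodule F V)
    (hU : U = Submodule.span F (Set.range (fun i : Fin k × S => ((T - 1) ^ (i.1 : ℕ)) (x i.2))))
    (hyU : ∀ s, y s ∈ U) :
    SpNd ω U ∧ (∀ u ∈ U, T u ∈ U) ∧ finrank F U = k * Fintype.card S ∧
      ∀ j, finrank F ↥(LinearMap.ker ((T - 1) ^ j) ⊓ U) = min j k * Fintype.card S := by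
  classical
  obtain ⟨e, he⟩ : ∃ e : Fin k × S → V, e = fun i => ((T - 1) ^ (i.1 : ℕ)) (x i.2) := ⟨_, rfl⟩
  rw [← he] at hU
  have hee : ∀ i, e i = ((T - 1) ^ (i.1 : ℕ)) (x i.2) := fun i => by rw [he]
  have heU : ∀ i, e i ∈ U := fun i => by
    rw [hU]
    exact Submodule.subset_span ⟨i, rfl⟩
  have hNinv : ∀ u ∈ U, (T - 1) u ∈ U := by
    intro u hu
    have hle : Submodule.span F (Set.range e) ≤ U.comap (T - 1) := by
      rw [Submodule.span_le]
      rintro _ ⟨i, rfl⟩
      show (T - 1) (e i) ∈ U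
      rw [hee, ← Module.End.mul_apply, ← pow_succ']
      by_cases hlt : (i.1 : ℕ) + 1 < k
      · have h1 := heU (⟨(i.1 : ℕ) + 1, hlt⟩, i.2)
        rw [hee] at h1
        exact h1
      · have h1 : (i.1 : ℕ) + 1 = k := by
          have := i.1.2
          omega
        rw [h1, hx]
        exact U.zero_mem
    rw [hU] at hu
    exact hle hu
  have hTinv : ∀ u ∈ U, T u ∈ U := by
    intro u hu
    have h1 : T u = u + (T - 1) u := by
      rw [LinearMap.sub_apply, Module.End.one_apply]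
      abel
    rw [h1]
    exact U.add_mem hu (hNinv u hu)
  obtain ⟨g, hg⟩ : ∃ g : Fin k × S → V,
      g = fun i => ((T - 1) ^ (k - 1 - (i.1 : ℕ))) (y i.2) := ⟨_, rfl⟩
  have hgg : ∀ i, g i = ((T - 1) ^ (k - 1 - (i.1 : ℕ))) (y i.2) := fun i => by rw [hg]
  have hgU : ∀ i, g i ∈ Submodule.span F (Set.range e) := by
    intro i
    rw [← hU, hgg]
    exact sq_pow_inv (T - 1) U hNinv _ _ (hyU i.2)
  have h0 : ∀ i i', i ≠ i' → (i'.1 : ℕ) ≤ (i.1 : ℕ) → ω (e i) (g i') = 0 := by
    intro i i' hne hle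
    rw [hee, hgg]
    have hi := i.1.2
    have hi' := i'.1.2
    by_cases hlt : (i'.1 : ℕ) < (i.1 : ℕ)
    · exact sq_gram0 ω T T' hT hTT' hT'T k _ _ (by omega) _ _ (hy _)
    · have heq : (i'.1 : ℕ) = (i.1 : ℕ) := by omega
      have hs : i.2 ≠ i'.2 := by
        intro hs
        apply hne
        exact Prod.ext (Fin.ext heq.symm) hs
      rw [sq_gram1 ω T T' hT hTT' hT'T k _ _ (by omega) _ _ (hy _), hxy0 _ _ hs, mul_zero]
  have h1 : ∀ i, ω (e i) (g i) ≠ 0 := by
    intro i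
    rw [hee, hgg]
    have hi := i.1.2
    rw [sq_gram1 ω T T' hT hTT' hT'T k _ _ (by omega) _ _ (hy _)]
    exact mul_ne_zero (pow_ne_zero _ (neg_ne_zero.mpr one_ne_zero)) (hxy1 _)
  have hli : LinearIndependent F e := sq_tri_li ω (fun i => (i.1 : ℕ)) e g h0 h1
  have hnd : SpNd ω U := by
    rw [hU]
    exact sq_tri_nd ω (fun i => (i.1 : ℕ)) e g h0 h1 hgU
  have hdim : finrank F U = k * Fintype.card S := by
    rw [hU, finrank_span_eq_card hli, Fintype.card_prod, Fintype.card_fin]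
  refine ⟨hnd, hTinv, hdim, ?_⟩
  intro j
  by_cases hjk : k ≤ j
  · have hle : U ≤ LinearMap.ker ((T - 1) ^ j) := by
      rw [hU, Submodule.span_le]
      rintro _ ⟨i, rfl⟩
      show e i ∈ LinearMap.ker ((T - 1) ^ j)
      rw [LinearMap.mem_ker, hee, sq_pow_add_apply]
      exact sq_pow_kill (T - 1) k _ (by omega) _ (hx _)
    rw [inf_eq_right.mpr hle, hdim, Nat.min_eq_right hjk]
  · have hjk' : j < k := not_le.mp hjk
    have hL1 : j * Fintype.card S ≤ finrank F ↥(LinearMap.ker ((T - 1) ^ j) ⊓ U) := by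
      obtain ⟨φ, hφ⟩ : ∃ φ : Fin j × S → Fin k × S, ∀ i, ((φ i).1 : ℕ) = k - j + (i.1 : ℕ) ∧
          (φ i).2 = i.2 :=
        ⟨fun i => (⟨k - j + (i.1 : ℕ), by have := i.1.2; omega⟩, i.2), fun i => ⟨rfl, rfl⟩⟩
      have hφinj : Function.Injective φ := by
        intro i i' h
        have h1 := (hφ i).1
        have h2 := (hφ i').1
        have h3 := (hφ i).2
        have h4 := (hφ i').2
        rw [h] at h1 h3
        exact Prod.ext (Fin.ext (by omega)) (h3.symm.trans h4)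
      have hli' : LinearIndependent F (e ∘ φ) := hli.comp φ hφinj
      have hspan : Submodule.span F (Set.range (e ∘ φ)) ≤ LinearMap.ker ((T - 1) ^ j) ⊓ U := by
        rw [Submodule.span_le]
        rintro _ ⟨i, rfl⟩
        refine Submodule.mem_inf.mpr ⟨?_, heU _⟩
        rw [LinearMap.mem_ker, Function.comp_apply, hee, sq_pow_add_apply]
        exact sq_pow_kill (T - 1) k _ (by rw [(hφ i).1]; omega) _ (hx _)
      have h3 := Submodule.finrank_mono hspan
      rw [finrank_span_eq_card hli', Fintype.card_prod, Fintype.card_fin] at h3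
      exact h3
    have hL2 : (k - j) * Fintype.card S ≤ finrank F ↥(U.map ((T - 1) ^ j)) := by
      obtain ⟨φ, hφ⟩ : ∃ φ : Fin (k - j) × S → Fin k × S, ∀ i, ((φ i).1 : ℕ) = j + (i.1 : ℕ) ∧
          (φ i).2 = i.2 :=
        ⟨fun i => (⟨j + (i.1 : ℕ), by have := i.1.2; omega⟩, i.2), fun i => ⟨rfl, rfl⟩⟩
      have hφinj : Function.Injective φ := by
        intro i i' h
        have h1 := (hφ i).1
        have h2 := (hφ i').1
        have h3 := (hφ i).2
        have h4 := (hφ i').2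
        rw [h] at h1 h3
        exact Prod.ext (Fin.ext (by omega)) (h3.symm.trans h4)
      have hli' : LinearIndependent F (e ∘ φ) := hli.comp φ hφinj
      have hspan : Submodule.span F (Set.range (e ∘ φ)) ≤ U.map ((T - 1) ^ j) := by
        rw [Submodule.span_le]
        rintro _ ⟨i, rfl⟩
        refine ⟨e (⟨(i.1 : ℕ), by have := i.1.2; omega⟩, i.2), heU _, ?_⟩
        rw [Function.comp_apply, hee, hee, sq_pow_add_apply, (hφ i).1, (hφ i).2]
      have h3 := Submodule.finrank_mono hspan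
      rw [finrank_span_eq_card hli', Fintype.card_prod, Fintype.card_fin] at h3
      exact h3
    have h4 := sq_rank_nullity ((T - 1) ^ j) U
    have h5 : j * Fintype.card S + (k - j) * Fintype.card S = k * Fintype.card S := by
      rw [← Nat.add_mul, Nat.add_sub_cancel' (le_of_lt hjk')]
    rw [Nat.min_eq_left (le_of_lt hjk')]
    omega

/-- Peeling: a unipotent isometry has an invariant nondegenerate subspace which is a single
Jordan block of even size or a pair of Jordan blocks of odd size. -/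
theorem so_peel_p [FiniteDimensional F V] (ω : V →ₗ[F] V →ₗ[F] F) (hsym : ∀ u v, ω u v = ω v u)
    (h2 : (2 : F) ≠ 0) (T T' : Module.End F V) (hT : ∀ u v, ω (T u) (T v) = ω u v)
    (hTT' : T * T' = 1) (hT'T : T' * T = 1) (p : ℕ) (hNp : (T - 1) ^ p = 0)
    (W : Submodule F V) (hW : SpNd ω W) (hWinv : ∀ w ∈ W, T w ∈ W) (hne : W ≠ ⊥) :
    ∃ (k : ℕ) (U : Submodule F V), 1 ≤ k ∧ k ≤ p ∧ U ≤ W ∧ SpNd ω U ∧ (∀ u ∈ U, T u ∈ U) ∧
      ((Odd k ∧ finrank F U = k ∧
          ∀ j, finrank F ↥(LinearMap.ker ((T - 1) ^ j) ⊓ U) = min j k) ∨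
       (Even k ∧ finrank F U = 2 * k ∧
          ∀ j, finrank F ↥(LinearMap.ker ((T - 1) ^ j) ⊓ U) = 2 * min j k)) := by
  classical
  have hNW : ∀ w ∈ W, (T - 1) w ∈ W := by
    intro w hw
    rw [LinearMap.sub_apply, Module.End.one_apply]
    exact W.sub_mem (hWinv w hw) hw
  have hex : ∃ j : ℕ, ∀ w ∈ W, ((T - 1) ^ j) w = 0 := ⟨p, fun w _ => by rw [hNp]; rfl⟩
  obtain ⟨k, hk⟩ : ∃ k, k = Nat.find hex := ⟨_, rfl⟩
  have hkspec : ∀ w ∈ W, ((T - 1) ^ k) w = 0 := by
    rw [hk]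
    exact Nat.find_spec hex
  have hkp : k ≤ p := by
    rw [hk]
    exact Nat.find_min' hex (fun w _ => by rw [hNp]; rfl)
  have hk1 : 1 ≤ k := by
    by_contra hcon
    have hk0 : k = 0 := by omega
    apply hne
    rw [eq_bot_iff]
    intro w hw
    have h3 := hkspec w hw
    rw [hk0, pow_zero, Module.End.one_apply] at h3
    rw [h3]
    exact Submodule.zero_mem _
  obtain ⟨w₀, hw₀, hw₀N⟩ : ∃ w₀ ∈ W, ((T - 1) ^ (k - 1)) w₀ ≠ 0 := by
    by_contra hcon
    push Not at hcon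
    have h3 := Nat.find_min hex (m := k - 1) (by rw [← hk]; omega)
    exact h3 hcon
  have hNw₀W : ((T - 1) ^ (k - 1)) w₀ ∈ W := sq_pow_inv (T - 1) W hNW _ _ hw₀
  obtain ⟨u₀, hu₀, hpair⟩ := sq_partner ω W hW _ hNw₀W hw₀N
  have hγ : ∀ u ∈ W, ∀ v ∈ W, ω v (((T - 1) ^ (k - 1)) u) =
      (-1) ^ (k - 1) * ω u (((T - 1) ^ (k - 1)) v) := by
    intro u hu v hv
    rw [hsym]
    have h3 := sq_gram1 ω T T' hT hTT' hT'T k (k - 1) 0 (by omega) u v (hkspec v hv)
    rw [pow_zero, Module.End.one_apply] at h3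
    rw [h3]
  have hγ0 : ω u₀ (((T - 1) ^ (k - 1)) w₀) ≠ 0 := by
    rw [hsym]
    exact hpair
  rcases (Nat.even_or_odd k).symm with hodd | hev
  · have hkm : Even (k - 1) := by
      obtain ⟨e, he⟩ := hodd
      exact ⟨e, by omega⟩
    have hsym' : ∀ u ∈ W, ∀ v ∈ W, ω v (((T - 1) ^ (k - 1)) u) =
        ω u (((T - 1) ^ (k - 1)) v) := by
      intro u hu v hv
      rw [hγ u hu v hv, hkm.neg_one_pow, one_mul]
    obtain ⟨v, hv, hvv⟩ : ∃ v ∈ W, ω v (((T - 1) ^ (k - 1)) v) ≠ 0 := by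
      by_contra hcon
      push Not at hcon
      have h3 := hcon (u₀ + w₀) (W.add_mem hu₀ hw₀)
      simp only [map_add, LinearMap.add_apply] at h3
      rw [hcon u₀ hu₀, hcon w₀ hw₀, hsym' u₀ hu₀ w₀ hw₀] at h3
      have h4 : (2 : F) * ω u₀ (((T - 1) ^ (k - 1)) w₀) = 0 := by linear_combination h3
      rcases mul_eq_zero.mp h4 with h | h
      · exact h2 h
      · exact hγ0 h
    obtain ⟨x, hx⟩ : ∃ x : Unit → V, x = fun _ => v := ⟨_, rfl⟩
    have hxv : ∀ s, x s = v := fun s => by rw [hx]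
    obtain ⟨U, hUdef⟩ : ∃ U : Submodule F V, U = Submodule.span F
        (Set.range (fun i : Fin k × Unit => ((T - 1) ^ (i.1 : ℕ)) (x i.2))) := ⟨_, rfl⟩
    have hvU : v ∈ U := by
      rw [hUdef]
      refine Submodule.subset_span ⟨(⟨0, hk1⟩, ()), ?_⟩
      show ((T - 1) ^ (0 : ℕ)) (x ()) = v
      rw [pow_zero, Module.End.one_apply, hxv]
    obtain ⟨hnd, hinv, hdim, hker⟩ := so_chain ω T T' hT hTT' hT'T k hk1 x x
      (fun s => by rw [hxv]; exact hkspec v hv) (fun s => by rw [hxv]; exact hkspec v hv)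
      (fun s s' hss => absurd (Subsingleton.elim s s') hss)
      (fun s => by rw [hxv]; exact hvv) U hUdef (fun s => by rw [hxv]; exact hvU)
    refine ⟨k, U, hk1, hkp, ?_, hnd, hinv, Or.inl ⟨hodd, by
      rw [hdim, Fintype.card_unit, mul_one], fun j => by
      rw [hker j, Fintype.card_unit, mul_one]⟩⟩
    rw [hUdef, Submodule.span_le]
    rintro _ ⟨i, rfl⟩
    show ((T - 1) ^ (i.1 : ℕ)) (x i.2) ∈ W
    rw [hxv]
    exact sq_pow_inv (T - 1) W hNW _ _ hv
  · have hkm : Odd (k - 1) := by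
      obtain ⟨e, he⟩ := hev
      exact ⟨e - 1, by omega⟩
    have hskew : ∀ u ∈ W, ∀ v ∈ W, ω v (((T - 1) ^ (k - 1)) u) =
        - ω u (((T - 1) ^ (k - 1)) v) := by
      intro u hu v hv
      rw [hγ u hu v hv, hkm.neg_one_pow]
      ring
    have hself : ∀ v ∈ W, ω v (((T - 1) ^ (k - 1)) v) = 0 := by
      intro v hv
      have h3 := hskew v hv v hv
      have h4 : (2 : F) * ω v (((T - 1) ^ (k - 1)) v) = 0 := by linear_combination h3
      rcases mul_eq_zero.mp h4 with h | h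
      · exact absurd h h2
      · exact h
    obtain ⟨x, hx⟩ : ∃ x : Bool → V, x = fun s => cond s w₀ u₀ := ⟨_, rfl⟩
    obtain ⟨y, hy⟩ : ∃ y : Bool → V, y = fun s => cond s u₀ w₀ := ⟨_, rfl⟩
    have hxf : x false = u₀ := by rw [hx]; rfl
    have hxt : x true = w₀ := by rw [hx]; rfl
    have hyf : y false = w₀ := by rw [hy]; rfl
    have hyt : y true = u₀ := by rw [hy]; rfl
    have hxW : ∀ s, x s ∈ W := by
      intro s
      cases s
      · rw [hxf]; exact hu₀
      · rw [hxt]; exact hw₀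
    have hyW : ∀ s, y s ∈ W := by
      intro s
      cases s
      · rw [hyf]; exact hw₀
      · rw [hyt]; exact hu₀
    obtain ⟨U, hUdef⟩ : ∃ U : Submodule F V, U = Submodule.span F
        (Set.range (fun i : Fin k × Bool => ((T - 1) ^ (i.1 : ℕ)) (x i.2))) := ⟨_, rfl⟩
    have hxU : ∀ s, x s ∈ U := by
      intro s
      rw [hUdef]
      refine Submodule.subset_span ⟨(⟨0, hk1⟩, s), ?_⟩
      show ((T - 1) ^ (0 : ℕ)) (x s) = x s
      rw [pow_zero, Module.End.one_apply]
    have hyU : ∀ s, y s ∈ U := by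
      intro s
      cases s
      · rw [hyf, ← hxt]; exact hxU true
      · rw [hyt, ← hxf]; exact hxU false
    have hxy0 : ∀ s s', s ≠ s' → ω (x s) (((T - 1) ^ (k - 1)) (y s')) = 0 := by
      intro s s' hss
      cases s <;> cases s'
      · exact absurd rfl hss
      · rw [hxf, hyt]; exact hself u₀ hu₀
      · rw [hxt, hyf]; exact hself w₀ hw₀
      · exact absurd rfl hss
    have hxy1 : ∀ s, ω (x s) (((T - 1) ^ (k - 1)) (y s)) ≠ 0 := by
      intro s
      cases s
      · rw [hxf, hyf]; exact hγ0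
      · rw [hxt, hyt, hskew u₀ hu₀ w₀ hw₀]
        exact neg_ne_zero.mpr hγ0
    obtain ⟨hnd, hinv, hdim, hker⟩ := so_chain ω T T' hT hTT' hT'T k hk1 x y
      (fun s => hkspec _ (hxW s)) (fun s => hkspec _ (hyW s)) hxy0 hxy1 U hUdef hyU
    refine ⟨k, U, hk1, hkp, ?_, hnd, hinv, Or.inr ⟨hev, by
      rw [hdim, Fintype.card_bool, mul_comm], fun j => by
      rw [hker j, Fintype.card_bool, mul_comm]⟩⟩
    rw [hUdef, Submodule.span_le]
    rintro _ ⟨i, rfl⟩
    exact sq_pow_inv (T - 1) W hNW _ _ (hxW i.2)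

end soa

section sostruct

variable {F : Type*} [Field F] {V : Type*} [AddCommGroup V] [Module F V]

/-- Structure of unipotent isometries of symmetric forms in odd characteristic. -/
theorem so_struct [FiniteDimensional F V] (ω : V →ₗ[F] V →ₗ[F] F) (hsym : ∀ u v, ω u v = ω v u)
    (h2 : (2 : F) ≠ 0) (T : Module.End F V) (hT : ∀ u v, ω (T u) (T v) = ω u v)
    (r : ℕ) (hr : 1 ≤ r) (hTr : T ^ r = 1) (p : ℕ) (hNp : (T - 1) ^ p = 0) :
    ∀ (n : ℕ) (W : Submodule F V), finrank F W ≤ n → SpNd ω W → (∀ w ∈ W, T w ∈ W) →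
      ∃ μ : Multiset ℕ, (∀ a ∈ μ, 0 < a ∧ a ≤ p) ∧ (∀ a, Even a → Even (μ.count a)) ∧
        (∀ j, finrank F ↥(LinearMap.ker ((T - 1) ^ j) ⊓ W) = (μ.map (fun b => min j b)).sum) ∧
        (∀ ν : Multiset ℕ, ν ≤ μ → (∀ a, Even a → Even (ν.count a)) →
          ∃ D : Submodule F V, D ≤ W ∧ SpNd ω D ∧ (∀ d ∈ D, T d ∈ D) ∧
            finrank F D = ν.sum) := by
  have hTT' : T * T ^ (r - 1) = 1 := by
    rw [← pow_succ', Nat.sub_add_cancel hr, hTr]
  have hT'T : T ^ (r - 1) * T = 1 := by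
    rw [← pow_succ, Nat.sub_add_cancel hr, hTr]
  have hbot : ∀ W : Submodule F V, W = ⊥ →
      ∃ μ : Multiset ℕ, (∀ a ∈ μ, 0 < a ∧ a ≤ p) ∧ (∀ a, Even a → Even (μ.count a)) ∧
        (∀ j, finrank F ↥(LinearMap.ker ((T - 1) ^ j) ⊓ W) = (μ.map (fun b => min j b)).sum) ∧
        (∀ ν : Multiset ℕ, ν ≤ μ → (∀ a, Even a → Even (ν.count a)) →
          ∃ D : Submodule F V, D ≤ W ∧ SpNd ω D ∧ (∀ d ∈ D, T d ∈ D) ∧
            finrank F D = ν.sum) := by
    intro W hW0
    refine ⟨0, fun a ha => absurd ha (Multiset.notMem_zero a), fun a _ => by simp, ?_, ?_⟩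
    · intro j
      rw [hW0, inf_bot_eq, finrank_bot]
      simp
    · intro ν hν _
      have hν0 : ν = 0 := Multiset.le_zero.mp hν
      refine ⟨⊥, bot_le, sq_bot_nd ω, fun d hd => ?_, by rw [finrank_bot, hν0, Multiset.sum_zero]⟩
      rw [(Submodule.mem_bot F).mp hd, map_zero]
      exact Submodule.zero_mem _
  intro n
  induction n with
  | zero =>
    intro W hWn _ _
    exact hbot W (Submodule.finrank_eq_zero.mp (by omega))
  | succ n ih =>
    intro W hWn hW hWinv
    by_cases hne : W = ⊥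
    · exact hbot W hne
    obtain ⟨k, U, hk1, hkp, hUW, hU, hUinv, hcase⟩ :=
      so_peel_p ω hsym h2 T (T ^ (r - 1)) hT hTT' hT'T p hNp W hW hWinv hne
    obtain ⟨hW'nd, hsup, hinf, hdim⟩ := so_rel ω hsym W U hW hU hUW
    have hUmap : U.map T = U := sq_map_eq T r hr hTr U hUinv
    have hW'inv : ∀ w ∈ spPerp ω U ⊓ W, T w ∈ spPerp ω U ⊓ W := by
      intro w hw
      obtain ⟨hw1, hw2⟩ := Submodule.mem_inf.mp hw
      exact Submodule.mem_inf.mpr ⟨sp_perp_inv ω T hT U hUmap w hw1, hWinv w hw2⟩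
    have hUpos : 1 ≤ finrank F U := by
      rcases hcase with ⟨-, h, -⟩ | ⟨-, h, -⟩ <;> omega
    obtain ⟨μ', hμ'1, hμ'2, hμ'3, hμ'4⟩ := ih (spPerp ω U ⊓ W) (by omega) hW'nd hW'inv
    have hNinv : ∀ (X : Submodule F V), (∀ u ∈ X, T u ∈ X) → ∀ j : ℕ, ∀ u ∈ X,
        ((T - 1) ^ j) u ∈ X := by
      intro X hX j
      apply sq_pow_inv
      intro u hu
      rw [LinearMap.sub_apply, Module.End.one_apply]
      exact X.sub_mem (hX u hu) hu
    have hkadd : ∀ j : ℕ, finrank F ↥(LinearMap.ker ((T - 1) ^ j) ⊓ W) =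
        finrank F ↥(LinearMap.ker ((T - 1) ^ j) ⊓ U) +
          finrank F ↥(LinearMap.ker ((T - 1) ^ j) ⊓ (spPerp ω U ⊓ W)) := by
      intro j
      rw [← sq_ker_add ((T - 1) ^ j) U (spPerp ω U ⊓ W) hinf (hNinv U hUinv j)
        (hNinv _ hW'inv j), hsup]
    have hglue : ∀ (ν' : Multiset ℕ), ν' ≤ μ' → (∀ a, Even a → Even (ν'.count a)) →
        ∃ D : Submodule F V, D ≤ W ∧ SpNd ω D ∧ (∀ d ∈ D, T d ∈ D) ∧
          finrank F D = finrank F U + ν'.sum := by
      intro ν' hν' hν'2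
      obtain ⟨D', hD'W, hD', hD'inv, hD'dim⟩ := hμ'4 ν' hν' hν'2
      have horth : ∀ u ∈ U, ∀ v ∈ D', ω u v = 0 :=
        fun u hu v hv => (Submodule.mem_inf.mp (hD'W hv)).1 u hu
      obtain ⟨hDnd, hDdim⟩ := so_sum ω hsym U D' hU hD' horth
      exact ⟨U ⊔ D', sup_le hUW (hD'W.trans inf_le_right), hDnd,
        sq_sup_inv T U D' hUinv hD'inv, by rw [hDdim, hD'dim]⟩
    have hsub : ∀ (ν' : Multiset ℕ), ν' ≤ μ' → (∀ a, Even a → Even (ν'.count a)) →
        ∃ D : Submodule F V, D ≤ W ∧ SpNd ω D ∧ (∀ d ∈ D, T d ∈ D) ∧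
          finrank F D = ν'.sum := by
      intro ν' hν' hν'2
      obtain ⟨D', hD'W, hD', hD'inv, hD'dim⟩ := hμ'4 ν' hν' hν'2
      exact ⟨D', hD'W.trans inf_le_right, hD', hD'inv, hD'dim⟩
    rcases hcase with ⟨hodd, hUdim, hUker⟩ | ⟨hev, hUdim, hUker⟩
    · refine ⟨k ::ₘ μ', ?_, ?_, ?_, ?_⟩
      · intro a ha
        rcases Multiset.mem_cons.mp ha with rfl | ha'
        · exact ⟨hk1, hkp⟩
        · exact hμ'1 a ha'
      · intro a ha
        have hak : a ≠ k := by
          rintro rfl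
          exact (Nat.not_even_iff_odd.mpr hodd) ha
        rw [Multiset.count_cons_of_ne hak]
        exact hμ'2 a ha
      · intro j
        rw [hkadd j, hUker j, hμ'3 j, Multiset.map_cons, Multiset.sum_cons]
      · intro ν hν hν2
        by_cases hkν : k ∈ ν
        · have h3 : ν.erase k ≤ μ' := Multiset.erase_le_iff_le_cons.mpr hν
          have h4 : ∀ a, Even a → Even ((ν.erase k).count a) := by
            intro a ha
            have hak : a ≠ k := by
              rintro rfl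
              exact (Nat.not_even_iff_odd.mpr hodd) ha
            rw [Multiset.count_erase_of_ne hak]
            exact hν2 a ha
          obtain ⟨D, hDW, hD, hDinv, hDdim⟩ := hglue (ν.erase k) h3 h4
          refine ⟨D, hDW, hD, hDinv, ?_⟩
          rw [hDdim, hUdim, ← Multiset.sum_cons, Multiset.cons_erase hkν]
        · have h3 : ν ≤ μ' := by
            have h5 := Multiset.erase_le_iff_le_cons.mpr hν
            rwa [Multiset.erase_of_notMem hkν] at h5
          exact hsub ν h3 hν2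
    · refine ⟨k ::ₘ k ::ₘ μ', ?_, ?_, ?_, ?_⟩
      · intro a ha
        rcases Multiset.mem_cons.mp ha with rfl | ha'
        · exact ⟨hk1, hkp⟩
        · rcases Multiset.mem_cons.mp ha' with rfl | ha''
          · exact ⟨hk1, hkp⟩
          · exact hμ'1 a ha''
      · intro a ha
        by_cases hak : a = k
        · subst hak
          rw [Multiset.count_cons_self, Multiset.count_cons_self]
          obtain ⟨e, he⟩ := hμ'2 a ha
          exact ⟨e + 1, by omega⟩
        · rw [Multiset.count_cons_of_ne hak, Multiset.count_cons_of_ne hak]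
          exact hμ'2 a ha
      · intro j
        rw [hkadd j, hUker j, hμ'3 j, Multiset.map_cons, Multiset.sum_cons, Multiset.map_cons,
          Multiset.sum_cons]
        omega
      · intro ν hν hν2
        by_cases hkν : k ∈ ν
        · have hc1 : 1 ≤ ν.count k := Multiset.count_pos.mpr hkν
          obtain ⟨e, he⟩ := hν2 k hev
          have hc2 : 2 ≤ ν.count k := by omega
          have hkν1 : k ∈ ν.erase k := by
            rw [← Multiset.count_pos, Multiset.count_erase_self]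
            omega
          have h3 : ν.erase k ≤ k ::ₘ μ' := Multiset.erase_le_iff_le_cons.mpr hν
          have h3' : (ν.erase k).erase k ≤ μ' := Multiset.erase_le_iff_le_cons.mpr h3
          have h4 : ∀ a, Even a → Even (((ν.erase k).erase k).count a) := by
            intro a ha
            by_cases hak : a = k
            · subst hak
              rw [Multiset.count_erase_self, Multiset.count_erase_self]
              exact ⟨e - 1, by omega⟩
            · rw [Multiset.count_erase_of_ne hak, Multiset.count_erase_of_ne hak]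
              exact hν2 a ha
          obtain ⟨D, hDW, hD, hDinv, hDdim⟩ := hglue ((ν.erase k).erase k) h3' h4
          refine ⟨D, hDW, hD, hDinv, ?_⟩
          have h5 : ν.sum = k + (k + ((ν.erase k).erase k).sum) := by
            rw [← Multiset.sum_cons, Multiset.cons_erase hkν1, ← Multiset.sum_cons,
              Multiset.cons_erase hkν]
          rw [hDdim, hUdim, h5]
          ring
        · have h3 : ν ≤ μ' := by
            have h5 := Multiset.erase_le_iff_le_cons.mpr hν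
            rw [Multiset.erase_of_notMem hkν] at h5
            have h6 := Multiset.erase_le_iff_le_cons.mpr h5
            rwa [Multiset.erase_of_notMem hkν] at h6
          exact hsub ν h3 hν2

end sostruct

end Cfsg.Agent.Lib.helper24
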