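import Mathlib
import Cfsg.Agent.Lib.helper24.SqC
import Cfsg.Agent.Lib.helper63.SpTI2

/-!
# Realising Jordan types of unipotent isometries: pairs of blocks
-/

set_option autoImplicit false

namespace Cfsg.Agent.Lib.helper24

open Module Polynomial

universe u

section sqd0

variable {F : Type*} [Field F] {V : Type*} [AddCommGroup V] [Module F V]

/-- Kernel dimensions of a nilpotent map on a space spanned by independent chains. -/
theorem sq_chain_ker [FiniteDimensional F V] (N : Module.End F V) (k : ℕ)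
    {S : Type} [Fintype S] (x : S → V) (hx : ∀ s, (N ^ k) (x s) = 0)
    (hli : LinearIndependent F (fun i : Fin k × S => (N ^ (i.1 : ℕ)) (x i.2)))
    (U : Submodule F V)
    (hU : U = Submodule.span F (Set.range (fun i : Fin k × S => (N ^ (i.1 : ℕ)) (x i.2)))) :
    ∀ j, finrank F ↥(LinearMap.ker (N ^ j) ⊓ U) = min j k * Fintype.card S := by
  classical
  obtain ⟨e, he⟩ : ∃ e : Fin k × S → V, e = fun i => (N ^ (i.1 : ℕ)) (x i.2) := ⟨_, rfl⟩
  rw [← he] at hU hli
  have hee : ∀ i, e i = (N ^ (i.1 : ℕ)) (x i.2) := fun i => by rw [he]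
  have heU : ∀ i, e i ∈ U := fun i => by
    rw [hU]
    exact Submodule.subset_span ⟨i, rfl⟩
  have hdim : finrank F U = k * Fintype.card S := by
    rw [hU, finrank_span_eq_card hli, Fintype.card_prod, Fintype.card_fin]
  intro j
  by_cases hjk : k ≤ j
  · have hle : U ≤ LinearMap.ker (N ^ j) := by
      rw [hU, Submodule.span_le]
      rintro _ ⟨i, rfl⟩
      show e i ∈ LinearMap.ker (N ^ j)
      rw [LinearMap.mem_ker, hee, sq_pow_add_apply]
      exact sq_pow_kill N k _ (by omega) _ (hx _)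
    rw [inf_eq_right.mpr hle, hdim, Nat.min_eq_right hjk]
  · have hjk' : j < k := not_le.mp hjk
    have hL1 : j * Fintype.card S ≤ finrank F ↥(LinearMap.ker (N ^ j) ⊓ U) := by
      obtain ⟨φ, hφ⟩ : ∃ φ : Fin j × S → Fin k × S, ∀ i, ((φ i).1 : ℕ) = k - j + (i.1 : ℕ) ∧
          (φ i).2 = i.2 :=
        ⟨fun i => (⟨k - j + (i.1 : ℕ), by have := i.1.2; omega⟩, i.2), fun i => ⟨rfl, rfl⟩⟩
      have hφinj : Function.Injective φ := by
        intro i i' h
        have h1 := (hφ i).1
        have h2 := (hφ i').1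
        have h3 := (hφ i).2
        have h4 := (hφ i').2
        rw [h] at h1 h3
        exact Prod.ext (Fin.ext (by omega)) (h3.symm.trans h4)
      have hli' : LinearIndependent F (e ∘ φ) := hli.comp φ hφinj
      have hspan : Submodule.span F (Set.range (e ∘ φ)) ≤ LinearMap.ker (N ^ j) ⊓ U := by
        rw [Submodule.span_le]
        rintro _ ⟨i, rfl⟩
        refine Submodule.mem_inf.mpr ⟨?_, heU _⟩
        rw [LinearMap.mem_ker, Function.comp_apply, hee, sq_pow_add_apply]
        exact sq_pow_kill N k _ (by rw [(hφ i).1]; omega) _ (hx _)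
      have h3 := Submodule.finrank_mono hspan
      rw [finrank_span_eq_card hli', Fintype.card_prod, Fintype.card_fin] at h3
      exact h3
    have hL2 : (k - j) * Fintype.card S ≤ finrank F ↥(U.map (N ^ j)) := by
      obtain ⟨φ, hφ⟩ : ∃ φ : Fin (k - j) × S → Fin k × S, ∀ i, ((φ i).1 : ℕ) = j + (i.1 : ℕ) ∧
          (φ i).2 = i.2 :=
        ⟨fun i => (⟨j + (i.1 : ℕ), by have := i.1.2; omega⟩, i.2), fun i => ⟨rfl, rfl⟩⟩
      have hφinj : Function.Injective φ := by
        intro i i' h
        have h1 := (hφ i).1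
        have h2 := (hφ i').1
        have h3 := (hφ i).2
        have h4 := (hφ i').2
        rw [h] at h1 h3
        exact Prod.ext (Fin.ext (by omega)) (h3.symm.trans h4)
      have hli' : LinearIndependent F (e ∘ φ) := hli.comp φ hφinj
      have hspan : Submodule.span F (Set.range (e ∘ φ)) ≤ U.map (N ^ j) := by
        rw [Submodule.span_le]
        rintro _ ⟨i, rfl⟩
        refine ⟨e (⟨(i.1 : ℕ), by have := i.1.2; omega⟩, i.2), heU _, ?_⟩
        rw [Function.comp_apply, hee, hee, sq_pow_add_apply, (hφ i).1, (hφ i).2]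
      have h3 := Submodule.finrank_mono hspan
      rw [finrank_span_eq_card hli', Fintype.card_prod, Fintype.card_fin] at h3
      exact h3
    have h4 := sq_rank_nullity (N ^ j) U
    have h5 : j * Fintype.card S + (k - j) * Fintype.card S = k * Fintype.card S := by
      rw [← Nat.add_mul, Nat.add_sub_cancel' (le_of_lt hjk')]
    rw [Nat.min_eq_left (le_of_lt hjk')]
    omega

/-- Kernel of a product map. -/
theorem sq_ker_prod {V' : Type*} [AddCommGroup V'] [Module F V'] [FiniteDimensional F V]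
    [FiniteDimensional F V'] (A : Module.End F V) (B : Module.End F V') :
    finrank F (LinearMap.ker (LinearMap.prodMap A B)) =
      finrank F (LinearMap.ker A) + finrank F (LinearMap.ker B) := by
  have e : LinearMap.ker (LinearMap.prodMap A B) ≃ₗ[F] (LinearMap.ker A × LinearMap.ker B) :=
    { toFun := fun x => (⟨x.1.1, by
          have h := x.2
          rw [LinearMap.mem_ker, LinearMap.prodMap_apply, Prod.mk_eq_zero] at h
          exact LinearMap.mem_ker.mpr h.1⟩, ⟨x.1.2, by
          have h := x.2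
          rw [LinearMap.mem_ker, LinearMap.prodMap_apply, Prod.mk_eq_zero] at h
          exact LinearMap.mem_ker.mpr h.2⟩)
      map_add' := fun _ _ => rfl
      map_smul' := fun _ _ => rfl
      invFun := fun y => ⟨(y.1.1, y.2.1), by
          rw [LinearMap.mem_ker, LinearMap.prodMap_apply, Prod.mk_eq_zero]
          exact ⟨LinearMap.mem_ker.mp y.1.2, LinearMap.mem_ker.mp y.2.2⟩⟩
      left_inv := fun _ => rfl
      right_inv := fun _ => rfl }
  rw [e.finrank_eq, Module.finrank_prod]

/-- `(T - 1)^p = 0` for `T^p = 1` in characteristic `p`. -/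
theorem sq_unip (p : ℕ) [Fact p.Prime] [CharP F p] (T : Module.End F V) (hT : T ^ p = 1) :
    (T - 1) ^ p = 0 := by
  have h1 : ((X : F[X]) - 1) ^ p = X ^ p - 1 := by
    rw [sub_pow_char, one_pow]
  have h2 := congrArg (Polynomial.aeval T) h1
  simp only [map_pow, map_sub, Polynomial.aeval_X, map_one] at h2
  rw [h2, hT, sub_self]

end sqd0

section sqd

variable {F : Type u} [Field F]

/-- A Jordan type is realised by a unipotent isometry of a nondegenerate alternating space. -/
def SqReal (F : Type u) [Field F] (p : ℕ) (μ : Multiset ℕ) : Prop :=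
  ∃ (V : Type u) (_ : AddCommGroup V) (_ : Module F V) (_ : FiniteDimensional F V)
    (ω : V →ₗ[F] V →ₗ[F] F) (T : Module.End F V),
    (∀ v, ω v v = 0) ∧ (∀ v, (∀ w, ω v w = 0) → v = 0) ∧ (∀ v w, ω (T v) (T w) = ω v w) ∧
    T ^ p = 1 ∧
    ∀ j : ℕ, finrank F (LinearMap.ker ((T - 1) ^ j)) = (μ.map (fun b => min j b)).sum

/-- The alternating form `λ(u v' - v u')` on `E × E` for a commutative algebra `E`. -/
noncomputable def sqForm (E : Type u) [CommRing E] [Algebra F E] (lam : E →ₗ[F] F) :
    (E × E) →ₗ[F] (E × E) →ₗ[F] F :=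
  LinearMap.mk₂ F (fun w w' : E × E => lam (w.1 * w'.2 - w.2 * w'.1))
    (fun w₁ w₂ w' => by
      rw [← map_add]; congr 1; simp only [Prod.fst_add, Prod.snd_add]; ring)
    (fun c w w' => by
      rw [← map_smul]; congr 1
      simp only [Prod.smul_fst, Prod.smul_snd, smul_mul_assoc, smul_sub])
    (fun w w₁' w₂' => by
      rw [← map_add]; congr 1; simp only [Prod.fst_add, Prod.snd_add]; ring)
    (fun c w w' => by
      rw [← map_smul]; congr 1
      simp only [Prod.smul_fst, Prod.smul_snd, mul_smul_comm, smul_sub])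

theorem sqForm_apply (E : Type u) [CommRing E] [Algebra F E] (lam : E →ₗ[F] F) (w w' : E × E) :
    sqForm E lam w w' = lam (w.1 * w'.2 - w.2 * w'.1) := rfl

/-- The truncated polynomial algebra `F[X]/(X^k)`. -/
theorem sq_model (k : ℕ) (hk : 1 ≤ k) :
    ∃ (E : Type u) (_ : CommRing E) (_ : Algebra F E) (_ : FiniteDimensional F E) (t : E)
      (lam : E →ₗ[F] F), t ^ k = 0 ∧ (∀ a : E, (∀ c, lam (a * c) = 0) → a = 0) ∧
      finrank F E = k ∧ LinearIndependent F (fun i : Fin k => t ^ (i : ℕ)) := by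
  classical
  have hmon : (X ^ k : F[X]).Monic := monic_X_pow k
  have hdim : (AdjoinRoot.powerBasis' hmon).dim = k := by
    rw [AdjoinRoot.powerBasis'_dim, natDegree_X_pow]
  obtain ⟨b, hb⟩ : ∃ b : Basis (Fin k) F (AdjoinRoot (X ^ k : F[X])),
      ∀ i : Fin k, b i = (AdjoinRoot.root (X ^ k : F[X])) ^ (i : ℕ) := by
    refine ⟨(AdjoinRoot.powerBasis' hmon).basis.reindex (finCongr hdim), fun i => ?_⟩
    rw [Basis.reindex_apply, PowerBasis.basis_eq_pow, AdjoinRoot.powerBasis'_gen]
    rfl
  obtain ⟨t, ht⟩ : ∃ t : AdjoinRoot (X ^ k : F[X]), t = AdjoinRoot.root (X ^ k : F[X]) :=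
    ⟨_, rfl⟩
  rw [← ht] at hb
  have htk : t ^ k = 0 := by
    rw [ht, ← AdjoinRoot.mk_X, ← map_pow, AdjoinRoot.mk_self]
  have hfin : FiniteDimensional F (AdjoinRoot (X ^ k : F[X])) := Module.Finite.of_basis b
  obtain ⟨lam, hlamdef⟩ : ∃ lam : AdjoinRoot (X ^ k : F[X]) →ₗ[F] F,
      lam = b.coord ⟨k - 1, by omega⟩ := ⟨_, rfl⟩
  have hlam : ∀ n : ℕ, lam (t ^ n) = if n = k - 1 then 1 else 0 := by
    intro n
    by_cases hn : n < k
    · have h1 : t ^ n = b ⟨n, hn⟩ := by rw [hb]
      rw [h1, hlamdef, Basis.coord_apply, Basis.repr_self, Finsupp.single_apply]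
      by_cases hnk : n = k - 1
      · rw [if_pos hnk, if_pos (Fin.ext hnk)]
      · rw [if_neg hnk, if_neg (fun h => hnk (congrArg Fin.val h))]
    · have h1 : t ^ n = 0 := by
        obtain ⟨e, rfl⟩ : ∃ e, n = k + e := ⟨n - k, by omega⟩
        rw [pow_add, htk, zero_mul]
      rw [h1, map_zero, if_neg (by omega)]
  refine ⟨AdjoinRoot (X ^ k : F[X]), inferInstance, inferInstance, hfin, t, lam, htk, ?_, ?_, ?_⟩
  · intro a ha
    have h1 : ∀ i : Fin k, b.repr a i = 0 := by
      intro i
      have h2 := ha (t ^ (k - 1 - (i : ℕ)))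
      rw [← b.sum_repr a, Finset.sum_mul, map_sum] at h2
      rw [Finset.sum_eq_single i] at h2
      · rw [smul_mul_assoc, map_smul, hb, ← pow_add, hlam,
          if_pos (by have := i.2; omega), smul_eq_mul, mul_one] at h2
        exact h2
      · intro i' _ hne
        rw [smul_mul_assoc, map_smul, hb, ← pow_add, hlam, if_neg, smul_zero]
        intro h3
        apply hne
        apply Fin.ext
        have := i.2
        have := i'.2
        omega
      · intro h3
        exact absurd (Finset.mem_univ i) h3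
    have h4 : b.repr a = 0 := by
      ext i
      rw [h1 i]
      rfl
    exact (LinearEquiv.map_eq_zero_iff b.repr).mp h4
  · rw [Module.finrank_eq_card_basis b, Fintype.card_fin]
  · have h1 : (fun i : Fin k => t ^ (i : ℕ)) = b := by
      funext i
      rw [hb]
    rw [h1]
    exact b.linearIndependent

/-- Kernel of multiplication by `t^j` in the truncated polynomial algebra. -/
theorem sq_model_ker (E : Type u) [CommRing E] [Algebra F E] [FiniteDimensional F E]
    (k : ℕ) (t : E) (htk : t ^ k = 0) (hdimE : finrank F E = k)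
    (hli : LinearIndependent F (fun i : Fin k => t ^ (i : ℕ))) (j : ℕ) :
    finrank F (LinearMap.ker (Algebra.lmul F E (t ^ j))) = min j k := by
  have hpow : ∀ (a : ℕ) (x : E), ((Algebra.lmul F E t) ^ a) x = t ^ a * x := by
    intro a x
    rw [← map_pow]
    rfl
  have hli' : LinearIndependent F (fun i : Fin k × Unit =>
      ((Algebra.lmul F E t) ^ (i.1 : ℕ)) ((fun _ : Unit => (1 : E)) i.2)) := by
    have h1 : (fun i : Fin k × Unit =>
        ((Algebra.lmul F E t) ^ (i.1 : ℕ)) ((fun _ : Unit => (1 : E)) i.2)) =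
        (fun i : Fin k => t ^ (i : ℕ)) ∘ Prod.fst := by
      funext i
      rw [hpow, Function.comp_apply, mul_one]
    rw [h1]
    apply hli.comp
    rintro ⟨a, ⟨⟩⟩ ⟨a', ⟨⟩⟩ h
    simp only at h
    rw [h]
  have htop : (⊤ : Submodule F E) = Submodule.span F (Set.range (fun i : Fin k × Unit =>
      ((Algebra.lmul F E t) ^ (i.1 : ℕ)) ((fun _ : Unit => (1 : E)) i.2))) := by
    symm
    apply Submodule.eq_top_of_finrank_eq
    rw [finrank_span_eq_card hli', Fintype.card_prod, Fintype.card_fin, Fintype.card_unit,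
      mul_one, hdimE]
  have h2 := sq_chain_ker (Algebra.lmul F E t) k (fun _ : Unit => (1 : E))
    (fun _ => by rw [hpow, htk, zero_mul]) hli' ⊤ htop j
  rw [inf_top_eq, Fintype.card_unit, mul_one, ← map_pow] at h2
  exact h2

theorem sq_ker_unit (E : Type u) [CommRing E] [Algebra F E] (u u' c : E) (hu : u' * u = 1) :
    LinearMap.ker (Algebra.lmul F E (u * c)) = LinearMap.ker (Algebra.lmul F E c) := by
  ext a
  rw [LinearMap.mem_ker, LinearMap.mem_ker]
  show u * c * a = 0 ↔ c * a = 0
  constructor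
  · intro h
    have h1 : c * a = u' * (u * c * a) := by
      rw [← mul_assoc, ← mul_assoc, hu, one_mul]
    rw [h1, h, mul_zero]
  · intro h
    rw [mul_assoc, h, mul_zero]

/-- A pair of Jordan blocks of size `k ≤ p` is realised. -/
theorem sq_real_pair (p : ℕ) [Fact p.Prime] [CharP F p] (k : ℕ) (hk : 1 ≤ k) (hkp : k ≤ p) :
    SqReal F p {k, k} := by
  obtain ⟨E, _, _, _, t, lam, htk, hlam, hdimE, hli⟩ := sq_model (F := F) k hk
  haveI : Nontrivial E := Module.nontrivial_of_finrank_pos (R := F) (by omega)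
  haveI : CharP E p := charP_of_injective_algebraMap (algebraMap F E).injective p
  have hp1 : 1 ≤ p := (Fact.out : p.Prime).one_le
  obtain ⟨ζ, hζ⟩ : ∃ ζ : E, ζ = 1 + t := ⟨_, rfl⟩
  have htp : t ^ p = 0 := by
    obtain ⟨e, rfl⟩ : ∃ e, p = k + e := ⟨p - k, by omega⟩
    rw [pow_add, htk, zero_mul]
  have hζp : ζ ^ p = 1 := by
    rw [hζ, add_pow_char, one_pow, htp, add_zero]
  obtain ⟨ζ', hζ'⟩ : ∃ ζ' : E, ζ' = ζ ^ (p - 1) := ⟨_, rfl⟩
  have h1 : ζ * ζ' = 1 := by
    rw [hζ', ← pow_succ', Nat.sub_add_cancel hp1, hζp]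
  have hζ'p : ζ' ^ p = 1 := by
    rw [hζ', ← pow_mul, mul_comm, pow_mul, hζp, one_pow]
  have hζ'1 : ζ' - 1 = (-ζ') * t := by
    rw [hζ] at h1
    linear_combination h1
  refine ⟨E × E, inferInstance, inferInstance, inferInstance, sqForm E lam,
    LinearMap.prodMap (Algebra.lmul F E ζ) (Algebra.lmul F E ζ'), ?_, ?_, ?_, ?_, ?_⟩
  · intro v
    rw [sqForm_apply, mul_comm, sub_self, map_zero]
  · intro v hv
    have h3 : v.1 = 0 := by
      apply hlam
      intro c
      have h4 := hv (0, c)
      rw [sqForm_apply] at h4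
      simpa using h4
    have h5 : v.2 = 0 := by
      apply hlam
      intro c
      have h4 := hv (-c, 0)
      rw [sqForm_apply] at h4
      simpa using h4
    exact Prod.ext h3 h5
  · intro v w
    rw [sqForm_apply, sqForm_apply]
    congr 1
    show ζ * v.1 * (ζ' * w.2) - ζ' * v.2 * (ζ * w.1) = v.1 * w.2 - v.2 * w.1
    calc ζ * v.1 * (ζ' * w.2) - ζ' * v.2 * (ζ * w.1) = (ζ * ζ') * (v.1 * w.2 - v.2 * w.1) := by
          ring
      _ = v.1 * w.2 - v.2 * w.1 := by rw [h1, one_mul]
  · rw [Cfsg.Agent.Lib.helper45.prodMap_pow, ← map_pow, ← map_pow, hζp, hζ'p, map_one]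
    exact LinearMap.prodMap_one
  · intro j
    have hsub : LinearMap.prodMap (Algebra.lmul F E ζ) (Algebra.lmul F E ζ') - 1 =
        LinearMap.prodMap (Algebra.lmul F E t) (Algebra.lmul F E (ζ' - 1)) := by
      apply LinearMap.ext
      rintro ⟨a, b⟩
      apply Prod.ext
      · show ζ * a - a = t * a
        rw [hζ]
        ring
      · show ζ' * b - b = (ζ' - 1) * b
        ring
    rw [hsub, Cfsg.Agent.Lib.helper45.prodMap_pow, ← map_pow, ← map_pow, sq_ker_prod,
      sq_model_ker E k t htk hdimE hli j, hζ'1, mul_pow]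
    have hunit : (-ζ) ^ j * (-ζ') ^ j = 1 := by
      rw [← mul_pow, neg_mul_neg, h1, one_pow]
    rw [sq_ker_unit E ((-ζ') ^ j) ((-ζ) ^ j) (t ^ j) hunit, sq_model_ker E k t htk hdimE hli j]
    simp only [Multiset.insert_eq_cons, Multiset.map_cons, Multiset.map_singleton,
      Multiset.sum_cons, Multiset.sum_singleton]

end sqd

end Cfsg.Agent.Lib.helper24
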