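import Mathlib
import Cfsg.Agent.Lib.helper24.SqD

/-!
# Realising Jordan types of unipotent isometries in `Sp_{2d}`
-/

set_option autoImplicit false

namespace Cfsg.Agent.Lib.helper24

open Module Polynomial

universe u

section sqe0

variable {F : Type*} [Field F] {V : Type*} [AddCommGroup V] [Module F V]

theorem sq_restrict_pow (T : Module.End F V) (D : Submodule F V) (hD : ∀ d ∈ D, T d ∈ D) (j : ℕ)
    (d : D) : (((T.restrict hD - 1) ^ j) d : V) = ((T - 1) ^ j) (d : V) := by
  induction j generalizing d with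
  | zero => simp
  | succ j ih =>
    rw [pow_succ, Module.End.mul_apply, ih, pow_succ, Module.End.mul_apply]
    rfl

theorem sq_restrict_pow1 (T : Module.End F V) (D : Submodule F V) (hD : ∀ d ∈ D, T d ∈ D) (j : ℕ)
    (d : D) : (((T.restrict hD) ^ j) d : V) = (T ^ j) (d : V) := by
  induction j generalizing d with
  | zero => simp
  | succ j ih =>
    rw [pow_succ, Module.End.mul_apply, ih, pow_succ, Module.End.mul_apply]
    rfl

theorem sq_restrict_ker [FiniteDimensional F V] (T : Module.End F V) (D : Submodule F V)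
    (hD : ∀ d ∈ D, T d ∈ D) (j : ℕ) :
    finrank F (LinearMap.ker ((T.restrict hD - 1) ^ j)) =
      finrank F ↥(LinearMap.ker ((T - 1) ^ j) ⊓ D) := by
  have h4 : (LinearMap.ker ((T.restrict hD - 1) ^ j)).map D.subtype =
      LinearMap.ker ((T - 1) ^ j) ⊓ D := by
    ext x
    simp only [Submodule.mem_map, LinearMap.mem_ker, Submodule.mem_inf, Submodule.subtype_apply]
    constructor
    · rintro ⟨y, hy, rfl⟩
      refine ⟨?_, y.2⟩
      rw [← sq_restrict_pow T D hD j y, hy]
      rfl
    · rintro ⟨h, hx⟩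
      refine ⟨⟨x, hx⟩, ?_, rfl⟩
      apply Subtype.ext
      rw [sq_restrict_pow T D hD j ⟨x, hx⟩]
      exact h
  rw [← h4, Submodule.finrank_map_subtype_eq]

theorem sq_conj_ker {V' : Type*} [AddCommGroup V'] [Module F V'] [FiniteDimensional F V]
    (φ : V ≃ₗ[F] V') (T : Module.End F V) (T' : Module.End F V')
    (h : ∀ v, T' (φ v) = φ (T v)) (j : ℕ) :
    finrank F (LinearMap.ker ((T' - 1) ^ j)) = finrank F (LinearMap.ker ((T - 1) ^ j)) := by
  have hpow : ∀ (a : ℕ) (v : V), ((T' - 1) ^ a) (φ v) = φ (((T - 1) ^ a) v) := by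
    intro a
    induction a with
    | zero =>
      intro v
      simp
    | succ a ih =>
      intro v
      rw [pow_succ, Module.End.mul_apply, pow_succ, Module.End.mul_apply]
      have h1 : (T' - 1) (φ v) = φ ((T - 1) v) := by
        rw [LinearMap.sub_apply, LinearMap.sub_apply, Module.End.one_apply,
          Module.End.one_apply, h, map_sub]
      rw [h1, ih]
  have hmap : (LinearMap.ker ((T - 1) ^ j)).map (φ : V →ₗ[F] V') =
      LinearMap.ker ((T' - 1) ^ j) := by
    ext x
    simp only [Submodule.mem_map, LinearMap.mem_ker]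
    constructor
    · rintro ⟨v, hv, rfl⟩
      show ((T' - 1) ^ j) (φ v) = 0
      rw [hpow, hv, map_zero]
    · intro hx
      refine ⟨φ.symm x, ?_, by simp⟩
      apply φ.injective
      rw [← hpow, LinearEquiv.apply_symm_apply, hx, map_zero]
  rw [← hmap]
  exact (Submodule.equivMapOfInjective (φ : V →ₗ[F] V') φ.injective _).finrank_eq.symm

end sqe0

section sqe

variable {F : Type u} [Field F]

theorem sq_real_zero (p : ℕ) : SqReal F p 0 := by
  refine ⟨PUnit, inferInstance, inferInstance, inferInstance, 0, 1, fun v => rfl,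
    fun v _ => Subsingleton.elim _ _, fun v w => rfl, one_pow p, ?_⟩
  intro j
  rw [Multiset.map_zero, Multiset.sum_zero]
  apply Nat.eq_zero_of_le_zero
  refine (Submodule.finrank_le _).trans ?_
  rw [Module.finrank_zero_of_subsingleton]

theorem SqReal.add {p : ℕ} {μ₁ μ₂ : Multiset ℕ} (h1 : SqReal F p μ₁) (h2 : SqReal F p μ₂) :
    SqReal F p (μ₁ + μ₂) := by
  obtain ⟨V, _, _, _, ω, T, halt, hnd, hiso, hTp, hker⟩ := h1
  obtain ⟨V', _, _, _, ω', T', halt', hnd', hiso', hTp', hker'⟩ := h2
  refine ⟨V × V', inferInstance, inferInstance, inferInstance,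
    ω.compl₁₂ (LinearMap.fst F V V') (LinearMap.fst F V V')
      + ω'.compl₁₂ (LinearMap.snd F V V') (LinearMap.snd F V V'),
    LinearMap.prodMap T T', ?_, ?_, ?_, ?_, ?_⟩
  · intro v
    simp only [LinearMap.add_apply, LinearMap.compl₁₂_apply, LinearMap.fst_apply,
      LinearMap.snd_apply]
    rw [halt, halt', add_zero]
  · intro v hv
    have h1 : v.1 = 0 := by
      apply hnd
      intro w'
      have := hv (w', 0)
      simpa only [LinearMap.add_apply, LinearMap.compl₁₂_apply, LinearMap.fst_apply,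
        LinearMap.snd_apply, map_zero, add_zero] using this
    have h2 : v.2 = 0 := by
      apply hnd'
      intro w'
      have := hv (0, w')
      simpa only [LinearMap.add_apply, LinearMap.compl₁₂_apply, LinearMap.fst_apply,
        LinearMap.snd_apply, map_zero, zero_add] using this
    exact Prod.ext h1 h2
  · intro v w
    simp only [LinearMap.add_apply, LinearMap.compl₁₂_apply, LinearMap.fst_apply,
      LinearMap.snd_apply, LinearMap.prodMap_apply]
    rw [hiso, hiso']
  · rw [Cfsg.Agent.Lib.helper45.prodMap_pow, hTp, hTp']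
    exact LinearMap.prodMap_one
  · intro j
    have hsub : LinearMap.prodMap T T' - 1 = LinearMap.prodMap (T - 1) (T' - 1) := by
      apply LinearMap.ext
      rintro ⟨a, b⟩
      rfl
    rw [hsub, Cfsg.Agent.Lib.helper45.prodMap_pow, sq_ker_prod, hker j, hker' j,
      Multiset.map_add, Multiset.sum_add]

theorem sq_two_ne (p : ℕ) [Fact p.Prime] [CharP F p] (hp2 : p ≠ 2) : (2 : F) ≠ 0 := by
  intro h
  have h1 : ((2 : ℕ) : F) = 0 := by exact_mod_cast h
  rw [CharP.cast_eq_zero_iff F p] at h1
  have hpp : p.Prime := Fact.out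
  exact hp2 ((Nat.prime_dvd_prime_iff_eq hpp Nat.prime_two).mp h1)

/-- A single Jordan block of even size `k ≤ p` is realised. -/
theorem sq_real_even (p : ℕ) [Fact p.Prime] [CharP F p] (hp2 : p ≠ 2) (k : ℕ) (hk : 1 ≤ k)
    (hkp : k ≤ p) (hev : Even k) : SqReal F p {k} := by
  obtain ⟨V, _, _, _, ω, T, halt, hnd, hiso, hTp, hker⟩ := sq_real_pair (F := F) p k hk hkp
  have hpp : p.Prime := Fact.out
  have h2 : (2 : F) ≠ 0 := sq_two_ne p hp2
  have hNp : (T - 1) ^ p = 0 := sq_unip p T hTp
  have hstruct := sq_struct ω halt h2 T hiso p hpp.one_le hTp p hNp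
  have hndtop : SpNd ω ⊤ := fun u _ hu => hnd u (fun w => hu w Submodule.mem_top)
  obtain ⟨μ, hμ1, hμ2, hμ3, hμ4⟩ := hstruct (finrank F (⊤ : Submodule F V)) ⊤ le_rfl hndtop
    (fun w _ => Submodule.mem_top)
  have hkk : ∀ a ∈ ({k, k} : Multiset ℕ), 0 < a := by
    intro a ha
    simp only [Multiset.insert_eq_cons, Multiset.mem_cons, Multiset.mem_singleton, or_self] at ha
    omega
  have hμ : μ = {k, k} := by
    apply sq_D_inj μ {k, k} (fun a ha => (hμ1 a ha).1) hkk
    intro j
    rw [← hμ3 j, inf_top_eq, hker j]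
  subst hμ
  obtain ⟨D, -, hD, hDinv, hDdim⟩ := hμ4 {k} (Multiset.singleton_le.mpr (by simp)) (by
    intro a ha
    have hak : a ≠ k := by
      rintro rfl
      exact (Nat.not_even_iff_odd.mpr ha) hev
    rw [Multiset.count_singleton, if_neg hak]
    exact Even.zero)
  rw [Multiset.sum_singleton] at hDdim
  obtain ⟨hD'nd, hsup, hinf, hdim⟩ := sq_rel ω halt ⊤ D hndtop hD le_top
  have hDmap : D.map T = D := sq_map_eq T p hpp.one_le hTp D hDinv
  have hD'inv : ∀ w ∈ spPerp ω D ⊓ ⊤, T w ∈ spPerp ω D ⊓ ⊤ := by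
    intro w hw
    obtain ⟨hw1, hw2⟩ := Submodule.mem_inf.mp hw
    exact Submodule.mem_inf.mpr ⟨sp_perp_inv ω T hiso D hDmap w hw1, Submodule.mem_top⟩
  obtain ⟨μ₁, hμ₁1, hμ₁2, hμ₁3, -⟩ := hstruct (finrank F D) D le_rfl hD hDinv
  obtain ⟨μ₂, hμ₂1, hμ₂2, hμ₂3, -⟩ := hstruct (finrank F ↥(spPerp ω D ⊓ ⊤)) _ le_rfl hD'nd hD'inv
  have hNinv : ∀ (X : Submodule F V), (∀ u ∈ X, T u ∈ X) → ∀ j : ℕ, ∀ u ∈ X,
      ((T - 1) ^ j) u ∈ X := by
    intro X hX j
    apply sq_pow_inv
    intro u hu
    rw [LinearMap.sub_apply, Module.End.one_apply]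
    exact X.sub_mem (hX u hu) hu
  have hsum : μ₁ + μ₂ = {k, k} := by
    apply sq_D_inj (μ₁ + μ₂) {k, k} _ hkk
    · intro j
      rw [Multiset.map_add, Multiset.sum_add, ← hμ₁3 j, ← hμ₂3 j,
        ← sq_ker_add ((T - 1) ^ j) D _ hinf (hNinv D hDinv j) (hNinv _ hD'inv j), hsup,
        inf_top_eq, hker j]
    · intro a ha
      rcases Multiset.mem_add.mp ha with h | h
      · exact (hμ₁1 a h).1
      · exact (hμ₂1 a h).1
  have hμ₁sum : μ₁.sum = k := by
    have h3 := hμ₁3 p
    rw [sq_D_top μ₁ p (fun a ha => (hμ₁1 a ha).2), hNp, LinearMap.ker_zero, top_inf_eq,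
      hDdim] at h3
    exact h3.symm
  have hμ₁ : μ₁ = {k} := by
    have hle : μ₁ ≤ {k, k} := by
      rw [← hsum]
      exact Multiset.le_add_right _ _
    have hall : ∀ a ∈ μ₁, a = k := by
      intro a ha
      have h5 := Multiset.mem_of_le hle ha
      simp only [Multiset.insert_eq_cons, Multiset.mem_cons, Multiset.mem_singleton,
        or_self] at h5
      exact h5
    have hrep := Multiset.eq_replicate_card.mpr hall
    rw [hrep, Multiset.sum_replicate, smul_eq_mul] at hμ₁sum
    have hc : Multiset.card μ₁ = 1 := by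
      have h6 : Multiset.card μ₁ * k = 1 * k := by omega
      exact Nat.eq_of_mul_eq_mul_right (by omega) h6
    rw [hrep, hc]
    rfl
  refine ⟨↥D, inferInstance, inferInstance, inferInstance, ω.domRestrict₁₂ D D,
    T.restrict hDinv, ?_, ?_, ?_, ?_, ?_⟩
  · intro v
    exact halt v.1
  · exact sp_nd_restrict ω D hD
  · intro v w
    exact hiso v.1 w.1
  · apply LinearMap.ext
    intro d
    apply Subtype.ext
    rw [sq_restrict_pow1 T D hDinv p d, hTp]
    rfl
  · intro j
    rw [sq_restrict_ker T D hDinv j, hμ₁3 j, hμ₁]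

/-- Every admissible Jordan type is realised. -/
theorem sq_real_all (p : ℕ) [Fact p.Prime] [CharP F p] (hp2 : p ≠ 2) :
    ∀ (n : ℕ) (μ : Multiset ℕ), Multiset.card μ = n → (∀ a ∈ μ, 0 < a ∧ a ≤ p) →
      (∀ a, Odd a → Even (μ.count a)) → SqReal F p μ := by
  intro n
  induction n using Nat.strong_induction_on with
  | _ n ih =>
    intro μ hcard hparts hcount
    by_cases h0 : μ = 0
    · rw [h0]
      exact sq_real_zero p
    obtain ⟨a, ha⟩ := Multiset.exists_mem_of_ne_zero h0
    have hcpos : 0 < Multiset.card μ := Multiset.card_pos_iff_exists_mem.mpr ⟨a, ha⟩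
    have hce : Multiset.card (μ.erase a) = Multiset.card μ - 1 := by
      rw [Multiset.card_erase_of_mem ha]
      rfl
    rcases Nat.even_or_odd a with hev | hodd
    · have h1 : μ = {a} + μ.erase a := by
        rw [Multiset.singleton_add, Multiset.cons_erase ha]
      rw [h1]
      apply SqReal.add (sq_real_even p hp2 a (hparts a ha).1 (hparts a ha).2 hev)
      apply ih (n - 1) (by omega) (μ.erase a) (by omega)
      · intro b hb
        exact hparts b (Multiset.mem_of_mem_erase hb)
      · intro b hb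
        have hba : b ≠ a := by
          rintro rfl
          exact (Nat.not_even_iff_odd.mpr hb) hev
        rw [Multiset.count_erase_of_ne hba]
        exact hcount b hb
    · have hc1 : 1 ≤ μ.count a := Multiset.count_pos.mpr ha
      obtain ⟨e, he⟩ := hcount a hodd
      have ha1 : a ∈ μ.erase a := by
        rw [← Multiset.count_pos, Multiset.count_erase_self]
        omega
      have hce2 : Multiset.card ((μ.erase a).erase a) = Multiset.card μ - 2 := by
        rw [Multiset.card_erase_of_mem ha1, hce]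
        rfl
      have hc2 : 2 ≤ Multiset.card μ := by
        have h5 := Multiset.count_le_card a μ
        omega
      have h1 : μ = {a, a} + (μ.erase a).erase a := by
        rw [Multiset.insert_eq_cons, Multiset.cons_add, Multiset.singleton_add,
          Multiset.cons_erase ha1, Multiset.cons_erase ha]
      rw [h1]
      apply SqReal.add (sq_real_pair p a (hparts a ha).1 (hparts a ha).2)
      apply ih (n - 2) (by omega) ((μ.erase a).erase a) (by omega)
      · intro b hb
        exact hparts b (Multiset.mem_of_mem_erase (Multiset.mem_of_mem_erase hb))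
      · intro b hb
        by_cases hba : b = a
        · subst hba
          rw [Multiset.count_erase_self, Multiset.count_erase_self]
          exact ⟨e - 1, by omega⟩
        · rw [Multiset.count_erase_of_ne hba, Multiset.count_erase_of_ne hba]
          exact hcount b hb

/-- Transport to `Sp_{2d}(F)`. -/
theorem sq_real_sp (p : ℕ) [Fact p.Prime] [CharP F p] (μ : Multiset ℕ) (hμ : SqReal F p μ)
    (hparts : ∀ a ∈ μ, a ≤ p) (d : ℕ) (hsum : μ.sum = 2 * d) :
    ∃ g : Matrix.symplecticGroup (Fin d) F, g ^ p = 1 ∧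
      ∀ j : ℕ, finrank F (LinearMap.ker ((Matrix.toLin' g.1 - 1) ^ j)) =
        (μ.map (fun b => min j b)).sum := by
  obtain ⟨V, _, _, _, ω, T, halt, hnd, hiso, hTp, hker⟩ := hμ
  have hpp : p.Prime := Fact.out
  have hNp := sq_unip p T hTp
  have hfin : finrank F V = 2 * d := by
    have h3 := hker p
    rw [hNp, LinearMap.ker_zero, finrank_top, sq_D_top μ p hparts, hsum] at h3
    exact h3
  have hab : T * T ^ (p - 1) = 1 := by
    rw [← pow_succ', Nat.sub_add_cancel hpp.one_le, hTp]
  obtain ⟨g, φ, hφ, hgφ, hpow, -⟩ := Cfsg.Agent.Lib.helper63.SpTI.exists_sp_model d ω T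
    (T ^ (p - 1)) halt hnd hiso hab hfin
  refine ⟨g, hpow p hTp, fun j => ?_⟩
  rw [← hker j]
  exact sq_conj_ker φ T (Matrix.toLin' g.1) (fun v => by
    rw [Matrix.toLin'_apply]
    exact hgφ v) j

end sqe

end Cfsg.Agent.Lib.helper24
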