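import Mathlib
import Cfsg.Agent.Lib.helper24.SoA
import Cfsg.Agent.Lib.helper24.SqE

/-!
# Symmetric forms: realising Jordan types by unipotent isometries of hyperbolic spaces
-/

set_option autoImplicit false

namespace Cfsg.Agent.Lib.helper24

open Module Polynomial

universe u

section sob0

variable {F : Type*} [Field F] {V : Type*} [AddCommGroup V] [Module F V]

theorem so_finrank_prod {V' : Type*} [AddCommGroup V'] [Module F V'] [FiniteDimensional F V]
    [FiniteDimensional F V'] (S₁ : Submodule F V) (S₂ : Submodule F V') :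
    finrank F ↥(S₁.prod S₂) = finrank F S₁ + finrank F S₂ := by
  have e : ↥(S₁.prod S₂) ≃ₗ[F] (S₁ × S₂) :=
    { toFun := fun x => (⟨x.1.1, (Submodule.mem_prod.mp x.2).1⟩,
        ⟨x.1.2, (Submodule.mem_prod.mp x.2).2⟩)
      map_add' := fun _ _ => rfl
      map_smul' := fun _ _ => rfl
      invFun := fun y => ⟨(y.1.1, y.2.1), Submodule.mem_prod.mpr ⟨y.1.2, y.2.2⟩⟩
      left_inv := fun _ => rfl
      right_inv := fun _ => rfl }
  rw [e.finrank_eq, Module.finrank_prod]

/-- A single Jordan block of odd size `2e+1` with an invariant symmetric form: a totally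
isotropic subspace of dimension `e` and an anisotropic vector orthogonal to it. -/
theorem so_single_ts [FiniteDimensional F V] (p : ℕ) (hp : 1 ≤ p)
    (ω : V →ₗ[F] V →ₗ[F] F) (T : Module.End F V) (hsym : ∀ u v, ω u v = ω v u)
    (hnd : ∀ v, (∀ w, ω v w = 0) → v = 0) (hiso : ∀ v w, ω (T v) (T w) = ω v w)
    (hTp : T ^ p = 1) (e : ℕ) (hdim : finrank F V = 2 * e + 1)
    (hker : ∀ j : ℕ, finrank F (LinearMap.ker ((T - 1) ^ j)) = min j (2 * e + 1)) :
    ∃ (S : Submodule F V) (w : V), (∀ u ∈ S, ∀ v ∈ S, ω u v = 0) ∧ finrank F S = e ∧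
      w ∉ S ∧ (∀ s ∈ S, ω s w = 0) ∧ ω w w ≠ 0 := by
  have hTT' : T * T ^ (p - 1) = 1 := by rw [← pow_succ', Nat.sub_add_cancel hp, hTp]
  have hT'T : T ^ (p - 1) * T = 1 := by rw [← pow_succ, Nat.sub_add_cancel hp, hTp]
  have hNb : ∀ y : V, ((T - 1) ^ (2 * e + 1)) y = 0 := by
    intro y
    have h1 : LinearMap.ker ((T - 1) ^ (2 * e + 1)) = ⊤ := by
      apply Submodule.eq_top_of_finrank_eq
      rw [hker, hdim, Nat.min_self]
    have h2 : y ∈ LinearMap.ker ((T - 1) ^ (2 * e + 1)) := by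
      rw [h1]
      trivial
    exact LinearMap.mem_ker.mp h2
  have hrank : ∀ j : ℕ, finrank F (LinearMap.range ((T - 1) ^ j)) =
      2 * e + 1 - min j (2 * e + 1) := by
    intro j
    have h1 := LinearMap.finrank_range_add_finrank_ker ((T - 1) ^ j)
    rw [hker j, hdim] at h1
    omega
  obtain ⟨S, hS⟩ : ∃ S : Submodule F V, S = LinearMap.range ((T - 1) ^ (e + 1)) := ⟨_, rfl⟩
  obtain ⟨R, hR⟩ : ∃ R : Submodule F V, R = LinearMap.range ((T - 1) ^ e) := ⟨_, rfl⟩
  have hSdim : finrank F S = e := by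
    rw [hS, hrank, Nat.min_eq_left (by omega)]
    omega
  have hRdim : finrank F R = e + 1 := by
    rw [hR, hrank, Nat.min_eq_left (by omega)]
    omega
  obtain ⟨w, hwR, hwS⟩ : ∃ w ∈ R, w ∉ S := by
    by_contra hcon
    push Not at hcon
    have h1 : R ≤ S := fun x hx => hcon x hx
    have h2 := Submodule.finrank_mono h1
    omega
  have hSS : ∀ u ∈ S, ∀ v ∈ S, ω u v = 0 := by
    intro u hu v hv
    rw [hS] at hu hv
    obtain ⟨x, rfl⟩ := hu
    obtain ⟨y, rfl⟩ := hv
    exact sq_gram0 ω T (T ^ (p - 1)) hiso hTT' hT'T (2 * e + 1) (e + 1) (e + 1) (by omega) x y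
      (hNb y)
  have hSw : ∀ s ∈ S, ω s w = 0 := by
    intro s hs
    rw [hS] at hs
    rw [hR] at hwR
    obtain ⟨x, rfl⟩ := hs
    obtain ⟨y, rfl⟩ := hwR
    exact sq_gram0 ω T (T ^ (p - 1)) hiso hTT' hT'T (2 * e + 1) (e + 1) e (by omega) x y (hNb y)
  refine ⟨S, w, hSS, hSdim, hwS, hSw, ?_⟩
  intro hww
  obtain ⟨K, hK⟩ : ∃ K : Submodule F V, K = S ⊔ Submodule.span F {w} := ⟨_, rfl⟩
  have hKti : ∀ u ∈ K, ∀ v ∈ K, ω u v = 0 := by
    intro u hu v hv
    rw [hK] at hu hv
    obtain ⟨s, hs, x, hx, rfl⟩ := Submodule.mem_sup.mp hu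
    obtain ⟨s', hs', x', hx', rfl⟩ := Submodule.mem_sup.mp hv
    obtain ⟨c, rfl⟩ := Submodule.mem_span_singleton.mp hx
    obtain ⟨c', rfl⟩ := Submodule.mem_span_singleton.mp hx'
    have e1 := hSS s hs s' hs'
    have e2 := hSw s hs
    have e3 := hSw s' hs'
    have e4 := hsym w s'
    simp only [map_add, map_smul, LinearMap.add_apply, LinearMap.smul_apply, smul_eq_mul]
    rw [e1, e2, e4, e3, hww]
    ring
  have hlt : S < K := by
    rw [hK]
    refine lt_of_le_of_ne le_sup_left ?_
    intro heq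
    apply hwS
    rw [heq]
    exact Submodule.mem_sup_right (Submodule.mem_span_singleton_self w)
  have h1 := Submodule.finrank_lt_finrank_of_lt hlt
  have hndtop : SpNd ω ⊤ := fun u _ hu => hnd u (fun w => hu w Submodule.mem_top)
  have h2 := sq_ti_le ω ⊤ K hndtop le_top hKti
  rw [finrank_top, hdim] at h2
  omega

end sob0

section sob

variable {F : Type u} [Field F]

/-- A single Jordan block of size `b` is realised by a unipotent isometry of a nondegenerate
symmetric space. -/
def SoSingle (F : Type u) [Field F] (p : ℕ) (b : ℕ) : Prop :=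
  ∃ (V : Type u) (_ : AddCommGroup V) (_ : Module F V) (_ : FiniteDimensional F V)
    (ω : V →ₗ[F] V →ₗ[F] F) (T : Module.End F V),
    (∀ u v, ω u v = ω v u) ∧ (∀ v, (∀ w, ω v w = 0) → v = 0) ∧ (∀ v w, ω (T v) (T w) = ω v w) ∧
    T ^ p = 1 ∧ finrank F V = b ∧
    ∀ j : ℕ, finrank F (LinearMap.ker ((T - 1) ^ j)) = min j b

/-- A Jordan type is realised by a unipotent isometry of a nondegenerate symmetric space
with a totally isotropic subspace of half the dimension. -/
def SoReal (F : Type u) [Field F] (p : ℕ) (μ : Multiset ℕ) : Prop :=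
  ∃ (V : Type u) (_ : AddCommGroup V) (_ : Module F V) (_ : FiniteDimensional F V)
    (ω : V →ₗ[F] V →ₗ[F] F) (T : Module.End F V) (U : Submodule F V),
    (∀ u v, ω u v = ω v u) ∧ (∀ v, (∀ w, ω v w = 0) → v = 0) ∧ (∀ v w, ω (T v) (T w) = ω v w) ∧
    T ^ p = 1 ∧ (∀ u ∈ U, ∀ v ∈ U, ω u v = 0) ∧ 2 * finrank F U = finrank F V ∧
    ∀ j : ℕ, finrank F (LinearMap.ker ((T - 1) ^ j)) = (μ.map (fun b => min j b)).sum

/-- The symmetric form `λ(u v' + v u')` on `E × E` for a commutative algebra `E`. -/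
noncomputable def soForm (E : Type u) [CommRing E] [Algebra F E] (lam : E →ₗ[F] F) :
    (E × E) →ₗ[F] (E × E) →ₗ[F] F :=
  LinearMap.mk₂ F (fun w w' : E × E => lam (w.1 * w'.2 + w.2 * w'.1))
    (fun w₁ w₂ w' => by
      rw [← map_add]; congr 1; simp only [Prod.fst_add, Prod.snd_add]; ring)
    (fun c w w' => by
      rw [← map_smul]; congr 1
      simp only [Prod.smul_fst, Prod.smul_snd, smul_mul_assoc, smul_add])
    (fun w w₁' w₂' => by
      rw [← map_add]; congr 1; simp only [Prod.fst_add, Prod.snd_add]; ring)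
    (fun c w w' => by
      rw [← map_smul]; congr 1
      simp only [Prod.smul_fst, Prod.smul_snd, mul_smul_comm, smul_add])

theorem soForm_apply (E : Type u) [CommRing E] [Algebra F E] (lam : E →ₗ[F] F) (w w' : E × E) :
    soForm E lam w w' = lam (w.1 * w'.2 + w.2 * w'.1) := rfl

/-- A pair of Jordan blocks of size `k ≤ p` is realised on a hyperbolic space. -/
theorem so_real_pair (p : ℕ) [Fact p.Prime] [CharP F p] (k : ℕ) (hk : 1 ≤ k) (hkp : k ≤ p) :
    SoReal F p {k, k} := by
  obtain ⟨E, _, _, _, t, lam, htk, hlam, hdimE, hli⟩ := sq_model (F := F) k hk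
  haveI : Nontrivial E := Module.nontrivial_of_finrank_pos (R := F) (by omega)
  haveI : CharP E p := charP_of_injective_algebraMap (algebraMap F E).injective p
  have hp1 : 1 ≤ p := (Fact.out : p.Prime).one_le
  obtain ⟨ζ, hζ⟩ : ∃ ζ : E, ζ = 1 + t := ⟨_, rfl⟩
  have htp : t ^ p = 0 := by
    obtain ⟨e, rfl⟩ : ∃ e, p = k + e := ⟨p - k, by omega⟩
    rw [pow_add, htk, zero_mul]
  have hζp : ζ ^ p = 1 := by
    rw [hζ, add_pow_char, one_pow, htp, add_zero]
  obtain ⟨ζ', hζ'⟩ : ∃ ζ' : E, ζ' = ζ ^ (p - 1) := ⟨_, rfl⟩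
  have h1 : ζ * ζ' = 1 := by
    rw [hζ', ← pow_succ', Nat.sub_add_cancel hp1, hζp]
  have hζ'p : ζ' ^ p = 1 := by
    rw [hζ', ← pow_mul, mul_comm, pow_mul, hζp, one_pow]
  have hζ'1 : ζ' - 1 = (-ζ') * t := by
    rw [hζ] at h1
    linear_combination h1
  refine ⟨E × E, inferInstance, inferInstance, inferInstance, soForm E lam,
    LinearMap.prodMap (Algebra.lmul F E ζ) (Algebra.lmul F E ζ'),
    Submodule.prod ⊤ ⊥, ?_, ?_, ?_, ?_, ?_, ?_, ?_⟩
  · intro u v
    rw [soForm_apply, soForm_apply]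
    congr 1
    ring
  · intro v hv
    have h3 : v.1 = 0 := by
      apply hlam
      intro c
      have h4 := hv (0, c)
      rw [soForm_apply] at h4
      simpa using h4
    have h5 : v.2 = 0 := by
      apply hlam
      intro c
      have h4 := hv (c, 0)
      rw [soForm_apply] at h4
      simpa using h4
    exact Prod.ext h3 h5
  · intro v w
    rw [soForm_apply, soForm_apply]
    congr 1
    show ζ * v.1 * (ζ' * w.2) + ζ' * v.2 * (ζ * w.1) = v.1 * w.2 + v.2 * w.1
    calc ζ * v.1 * (ζ' * w.2) + ζ' * v.2 * (ζ * w.1) = (ζ * ζ') * (v.1 * w.2 + v.2 * w.1) := by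
          ring
      _ = v.1 * w.2 + v.2 * w.1 := by rw [h1, one_mul]
  · rw [Cfsg.Agent.Lib.helper45.prodMap_pow, ← map_pow, ← map_pow, hζp, hζ'p, map_one]
    exact LinearMap.prodMap_one
  · intro u hu v hv
    obtain ⟨-, hu2⟩ := Submodule.mem_prod.mp hu
    obtain ⟨-, hv2⟩ := Submodule.mem_prod.mp hv
    rw [soForm_apply, (Submodule.mem_bot F).mp hu2, (Submodule.mem_bot F).mp hv2, mul_zero,
      zero_mul, add_zero, map_zero]
  · rw [so_finrank_prod, finrank_top, finrank_bot, Module.finrank_prod, hdimE]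
    omega
  · intro j
    have hsub : LinearMap.prodMap (Algebra.lmul F E ζ) (Algebra.lmul F E ζ') - 1 =
        LinearMap.prodMap (Algebra.lmul F E t) (Algebra.lmul F E (ζ' - 1)) := by
      apply LinearMap.ext
      rintro ⟨a, b⟩
      apply Prod.ext
      · show ζ * a - a = t * a
        rw [hζ]
        ring
      · show ζ' * b - b = (ζ' - 1) * b
        ring
    rw [hsub, Cfsg.Agent.Lib.helper45.prodMap_pow, ← map_pow, ← map_pow, sq_ker_prod,
      sq_model_ker E k t htk hdimE hli j, hζ'1, mul_pow]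
    have hunit : (-ζ) ^ j * (-ζ') ^ j = 1 := by
      rw [← mul_pow, neg_mul_neg, h1, one_pow]
    rw [sq_ker_unit E ((-ζ') ^ j) ((-ζ) ^ j) (t ^ j) hunit, sq_model_ker E k t htk hdimE hli j]
    simp only [Multiset.insert_eq_cons, Multiset.map_cons, Multiset.map_singleton,
      Multiset.sum_cons, Multiset.sum_singleton]

theorem so_real_zero (p : ℕ) : SoReal F p 0 := by
  refine ⟨PUnit, inferInstance, inferInstance, inferInstance, 0, 1, ⊥, fun u v => rfl,
    fun v _ => Subsingleton.elim _ _, fun v w => rfl, one_pow p, fun u _ v _ => rfl, ?_, ?_⟩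
  · rw [finrank_bot, Module.finrank_zero_of_subsingleton]
  · intro j
    rw [Multiset.map_zero, Multiset.sum_zero]
    apply Nat.eq_zero_of_le_zero
    refine (Submodule.finrank_le _).trans ?_
    rw [Module.finrank_zero_of_subsingleton]

theorem SoReal.add {p : ℕ} {μ₁ μ₂ : Multiset ℕ} (h1 : SoReal F p μ₁) (h2 : SoReal F p μ₂) :
    SoReal F p (μ₁ + μ₂) := by
  obtain ⟨V, _, _, _, ω, T, U, hsym, hnd, hiso, hTp, hU, hUdim, hker⟩ := h1
  obtain ⟨V', _, _, _, ω', T', U', hsym', hnd', hiso', hTp', hU', hUdim', hker'⟩ := h2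
  refine ⟨V × V', inferInstance, inferInstance, inferInstance,
    ω.compl₁₂ (LinearMap.fst F V V') (LinearMap.fst F V V')
      + ω'.compl₁₂ (LinearMap.snd F V V') (LinearMap.snd F V V'),
    LinearMap.prodMap T T', U.prod U', ?_, ?_, ?_, ?_, ?_, ?_, ?_⟩
  · intro u v
    simp only [LinearMap.add_apply, LinearMap.compl₁₂_apply, LinearMap.fst_apply,
      LinearMap.snd_apply]
    rw [hsym, hsym']
  · intro v hv
    have h1 : v.1 = 0 := by
      apply hnd
      intro w'
      have := hv (w', 0)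
      simpa only [LinearMap.add_apply, LinearMap.compl₁₂_apply, LinearMap.fst_apply,
        LinearMap.snd_apply, map_zero, add_zero] using this
    have h2 : v.2 = 0 := by
      apply hnd'
      intro w'
      have := hv (0, w')
      simpa only [LinearMap.add_apply, LinearMap.compl₁₂_apply, LinearMap.fst_apply,
        LinearMap.snd_apply, map_zero, zero_add] using this
    exact Prod.ext h1 h2
  · intro v w
    simp only [LinearMap.add_apply, LinearMap.compl₁₂_apply, LinearMap.fst_apply,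
      LinearMap.snd_apply, LinearMap.prodMap_apply]
    rw [hiso, hiso']
  · rw [Cfsg.Agent.Lib.helper45.prodMap_pow, hTp, hTp']
    exact LinearMap.prodMap_one
  · intro u hu v hv
    obtain ⟨hu1, hu2⟩ := Submodule.mem_prod.mp hu
    obtain ⟨hv1, hv2⟩ := Submodule.mem_prod.mp hv
    simp only [LinearMap.add_apply, LinearMap.compl₁₂_apply, LinearMap.fst_apply,
      LinearMap.snd_apply]
    rw [hU u.1 hu1 v.1 hv1, hU' u.2 hu2 v.2 hv2, add_zero]
  · rw [so_finrank_prod, Module.finrank_prod]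
    omega
  · intro j
    have hsub : LinearMap.prodMap T T' - 1 = LinearMap.prodMap (T - 1) (T' - 1) := by
      apply LinearMap.ext
      rintro ⟨a, b⟩
      rfl
    rw [hsub, Cfsg.Agent.Lib.helper45.prodMap_pow, sq_ker_prod, hker j, hker' j,
      Multiset.map_add, Multiset.sum_add]

/-- A single Jordan block of odd size `k ≤ p` is realised. -/
theorem so_single (p : ℕ) [Fact p.Prime] [CharP F p] (hp2 : p ≠ 2) (k : ℕ) (hk : 1 ≤ k)
    (hkp : k ≤ p) (hodd : Odd k) : SoSingle F p k := by
  obtain ⟨V, _, _, _, ω, T, -, hsym, hnd, hiso, hTp, -, -, hker⟩ :=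
    so_real_pair (F := F) p k hk hkp
  have hpp : p.Prime := Fact.out
  have h2 : (2 : F) ≠ 0 := sq_two_ne p hp2
  have hNp : (T - 1) ^ p = 0 := sq_unip p T hTp
  have hstruct := so_struct ω hsym h2 T hiso p hpp.one_le hTp p hNp
  have hndtop : SpNd ω ⊤ := fun u _ hu => hnd u (fun w => hu w Submodule.mem_top)
  obtain ⟨μ, hμ1, hμ2, hμ3, hμ4⟩ := hstruct (finrank F (⊤ : Submodule F V)) ⊤ le_rfl hndtop
    (fun w _ => Submodule.mem_top)
  have hkk : ∀ a ∈ ({k, k} : Multiset ℕ), 0 < a := by
    intro a ha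
    simp only [Multiset.insert_eq_cons, Multiset.mem_cons, Multiset.mem_singleton, or_self] at ha
    omega
  have hμ : μ = {k, k} := by
    apply sq_D_inj μ {k, k} (fun a ha => (hμ1 a ha).1) hkk
    intro j
    rw [← hμ3 j, inf_top_eq, hker j]
  subst hμ
  obtain ⟨D, -, hD, hDinv, hDdim⟩ := hμ4 {k} (Multiset.singleton_le.mpr (by simp)) (by
    intro a ha
    have hak : a ≠ k := by
      rintro rfl
      exact (Nat.not_even_iff_odd.mpr hodd) ha
    rw [Multiset.count_singleton, if_neg hak]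
    exact Even.zero)
  rw [Multiset.sum_singleton] at hDdim
  obtain ⟨hD'nd, hsup, hinf, hdim⟩ := so_rel ω hsym ⊤ D hndtop hD le_top
  have hDmap : D.map T = D := sq_map_eq T p hpp.one_le hTp D hDinv
  have hD'inv : ∀ w ∈ spPerp ω D ⊓ ⊤, T w ∈ spPerp ω D ⊓ ⊤ := by
    intro w hw
    obtain ⟨hw1, hw2⟩ := Submodule.mem_inf.mp hw
    exact Submodule.mem_inf.mpr ⟨sp_perp_inv ω T hiso D hDmap w hw1, Submodule.mem_top⟩
  obtain ⟨μ₁, hμ₁1, hμ₁2, hμ₁3, -⟩ := hstruct (finrank F D) D le_rfl hD hDinv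
  obtain ⟨μ₂, hμ₂1, hμ₂2, hμ₂3, -⟩ := hstruct (finrank F ↥(spPerp ω D ⊓ ⊤)) _ le_rfl hD'nd hD'inv
  have hNinv : ∀ (X : Submodule F V), (∀ u ∈ X, T u ∈ X) → ∀ j : ℕ, ∀ u ∈ X,
      ((T - 1) ^ j) u ∈ X := by
    intro X hX j
    apply sq_pow_inv
    intro u hu
    rw [LinearMap.sub_apply, Module.End.one_apply]
    exact X.sub_mem (hX u hu) hu
  have hsum : μ₁ + μ₂ = {k, k} := by
    apply sq_D_inj (μ₁ + μ₂) {k, k} _ hkk
    · intro j
      rw [Multiset.map_add, Multiset.sum_add, ← hμ₁3 j, ← hμ₂3 j,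
        ← sq_ker_add ((T - 1) ^ j) D _ hinf (hNinv D hDinv j) (hNinv _ hD'inv j), hsup,
        inf_top_eq, hker j]
    · intro a ha
      rcases Multiset.mem_add.mp ha with h | h
      · exact (hμ₁1 a h).1
      · exact (hμ₂1 a h).1
  have hμ₁sum : μ₁.sum = k := by
    have h3 := hμ₁3 p
    rw [sq_D_top μ₁ p (fun a ha => (hμ₁1 a ha).2), hNp, LinearMap.ker_zero, top_inf_eq,
      hDdim] at h3
    exact h3.symm
  have hμ₁ : μ₁ = {k} := by
    have hle : μ₁ ≤ {k, k} := by
      rw [← hsum]
      exact Multiset.le_add_right _ _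
    have hall : ∀ a ∈ μ₁, a = k := by
      intro a ha
      have h5 := Multiset.mem_of_le hle ha
      simp only [Multiset.insert_eq_cons, Multiset.mem_cons, Multiset.mem_singleton,
        or_self] at h5
      exact h5
    have hrep := Multiset.eq_replicate_card.mpr hall
    rw [hrep, Multiset.sum_replicate, smul_eq_mul] at hμ₁sum
    have hc : Multiset.card μ₁ = 1 := by
      have h6 : Multiset.card μ₁ * k = 1 * k := by omega
      exact Nat.eq_of_mul_eq_mul_right (by omega) h6
    rw [hrep, hc]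
    rfl
  refine ⟨↥D, inferInstance, inferInstance, inferInstance, ω.domRestrict₁₂ D D,
    T.restrict hDinv, ?_, ?_, ?_, ?_, hDdim, ?_⟩
  · intro u v
    exact hsym u.1 v.1
  · exact sp_nd_restrict ω D hD
  · intro v w
    exact hiso v.1 w.1
  · apply LinearMap.ext
    intro d
    apply Subtype.ext
    rw [sq_restrict_pow1 T D hDinv p d, hTp]
    rfl
  · intro j
    rw [sq_restrict_ker T D hDinv j, hμ₁3 j, hμ₁, Multiset.map_singleton, Multiset.sum_singleton]

/-- Two Jordan blocks of odd sizes are realised on a hyperbolic space. -/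
theorem so_real_two (p : ℕ) [Fact p.Prime] (b₁ b₂ : ℕ) (h1 : SoSingle F p b₁)
    (h2 : SoSingle F p b₂) (ho1 : Odd b₁) (ho2 : Odd b₂) : SoReal F p {b₁, b₂} := by
  obtain ⟨V, _, _, _, ω, T, hsym, hnd, hiso, hTp, hdim, hker⟩ := h1
  obtain ⟨V', _, _, _, ω', T', hsym', hnd', hiso', hTp', hdim', hker'⟩ := h2
  obtain ⟨e, he⟩ := ho1
  obtain ⟨e', he'⟩ := ho2
  subst he
  subst he'
  have hpp : p.Prime := Fact.out
  obtain ⟨S, w, hSS, hSdim, hwS, hSw, hww⟩ :=
    so_single_ts p hpp.one_le ω T hsym hnd hiso hTp e hdim hker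
  obtain ⟨S', w', hSS', hSdim', hwS', hSw', hww'⟩ :=
    so_single_ts p hpp.one_le ω' T' hsym' hnd' hiso' hTp' e' hdim' hker'
  obtain ⟨c, hc⟩ : ∃ c : F, c = - ω w w / ω' w' w' := ⟨_, rfl⟩
  have hc0 : c ≠ 0 := by
    rw [hc]
    exact div_ne_zero (neg_ne_zero.mpr hww) hww'
  have hcw : ω w w + c * ω' w' w' = 0 := by
    rw [hc]
    field_simp
    ring
  obtain ⟨Ω, hΩ⟩ : ∃ Ω : (V × V') →ₗ[F] (V × V') →ₗ[F] F,
      Ω = ω.compl₁₂ (LinearMap.fst F V V') (LinearMap.fst F V V')
        + c • ω'.compl₁₂ (LinearMap.snd F V V') (LinearMap.snd F V V') := ⟨_, rfl⟩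
  have hΩa : ∀ x y : V × V', Ω x y = ω x.1 y.1 + c * ω' x.2 y.2 := by
    intro x y
    rw [hΩ]
    simp only [LinearMap.add_apply, LinearMap.smul_apply, LinearMap.compl₁₂_apply,
      LinearMap.fst_apply, LinearMap.snd_apply, smul_eq_mul]
  obtain ⟨U, hU⟩ : ∃ U : Submodule F (V × V'),
      U = S.prod S' ⊔ Submodule.span F {(w, w')} := ⟨_, rfl⟩
  have hUti : ∀ x ∈ U, ∀ y ∈ U, Ω x y = 0 := by
    intro x hx y hy
    rw [hU] at hx hy
    obtain ⟨s, hs, z, hz, rfl⟩ := Submodule.mem_sup.mp hx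
    obtain ⟨s', hs', z', hz', rfl⟩ := Submodule.mem_sup.mp hy
    obtain ⟨a, rfl⟩ := Submodule.mem_span_singleton.mp hz
    obtain ⟨a', rfl⟩ := Submodule.mem_span_singleton.mp hz'
    obtain ⟨hs1, hs2⟩ := Submodule.mem_prod.mp hs
    obtain ⟨hs1', hs2'⟩ := Submodule.mem_prod.mp hs'
    have e1 := hSS s.1 hs1 s'.1 hs1'
    have e2 := hSw s.1 hs1
    have e3 := hSw s'.1 hs1'
    have e4 := hsym w s'.1
    have e5 := hSS' s.2 hs2 s'.2 hs2'
    have e6 := hSw' s.2 hs2
    have e7 := hSw' s'.2 hs2'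
    have e8 := hsym' w' s'.2
    rw [hΩa]
    simp only [Prod.fst_add, Prod.snd_add, Prod.smul_fst, Prod.smul_snd, map_add, map_smul,
      LinearMap.add_apply, LinearMap.smul_apply, smul_eq_mul]
    rw [e1, e2, e4, e3, e5, e6, e8, e7]
    linear_combination a * a' * hcw
  have hΩnd : ∀ v, (∀ x, Ω v x = 0) → v = 0 := by
    intro v hv
    have h1 : v.1 = 0 := by
      apply hnd
      intro x
      have h3 := hv (x, 0)
      rw [hΩa] at h3
      simpa using h3
    have h2 : v.2 = 0 := by
      apply hnd'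
      intro x
      have h3 := hv (0, x)
      rw [hΩa] at h3
      simp only [map_zero, zero_add] at h3
      rcases mul_eq_zero.mp h3 with h | h
      · exact absurd h hc0
      · exact h
    exact Prod.ext h1 h2
  have hlt : S.prod S' < U := by
    rw [hU]
    refine lt_of_le_of_ne le_sup_left ?_
    intro heq
    apply hwS
    have h3 : (w, w') ∈ S.prod S' := by
      rw [heq]
      exact Submodule.mem_sup_right (Submodule.mem_span_singleton_self _)
    exact (Submodule.mem_prod.mp h3).1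
  have h4 := Submodule.finrank_lt_finrank_of_lt hlt
  rw [so_finrank_prod, hSdim, hSdim'] at h4
  have hndtop : SpNd Ω ⊤ := fun u _ hu => hΩnd u (fun w => hu w Submodule.mem_top)
  have h5 := sq_ti_le Ω ⊤ U hndtop le_top hUti
  rw [finrank_top, Module.finrank_prod, hdim, hdim'] at h5
  refine ⟨V × V', inferInstance, inferInstance, inferInstance, Ω, LinearMap.prodMap T T', U,
    ?_, hΩnd, ?_, ?_, hUti, ?_, ?_⟩
  · intro x y
    rw [hΩa, hΩa, hsym, hsym']
  · intro x y
    rw [hΩa, hΩa]
    show ω (T x.1) (T y.1) + c * ω' (T' x.2) (T' y.2) = ω x.1 y.1 + c * ω' x.2 y.2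
    rw [hiso, hiso']
  · rw [Cfsg.Agent.Lib.helper45.prodMap_pow, hTp, hTp']
    exact LinearMap.prodMap_one
  · rw [Module.finrank_prod, hdim, hdim']
    omega
  · intro j
    have hsub : LinearMap.prodMap T T' - 1 = LinearMap.prodMap (T - 1) (T' - 1) := by
      apply LinearMap.ext
      rintro ⟨a, b⟩
      rfl
    rw [hsub, Cfsg.Agent.Lib.helper45.prodMap_pow, sq_ker_prod, hker j, hker' j]
    simp only [Multiset.insert_eq_cons, Multiset.map_cons, Multiset.map_singleton,
      Multiset.sum_cons, Multiset.sum_singleton]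

/-- Every admissible Jordan type of even total size is realised on a hyperbolic space. -/
theorem so_real_all (p : ℕ) [Fact p.Prime] [CharP F p] (hp2 : p ≠ 2) :
    ∀ (n : ℕ) (μ : Multiset ℕ), Multiset.card μ = n → (∀ a ∈ μ, 0 < a ∧ a ≤ p) →
      (∀ a, Even a → Even (μ.count a)) → Even μ.sum → SoReal F p μ := by
  intro n
  induction n using Nat.strong_induction_on with
  | _ n ih =>
    intro μ hcard hparts hcount hsum
    by_cases h0 : μ = 0
    · rw [h0]
      exact so_real_zero p
    obtain ⟨a, ha⟩ := Multiset.exists_mem_of_ne_zero h0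
    have hcpos : 0 < Multiset.card μ := Multiset.card_pos_iff_exists_mem.mpr ⟨a, ha⟩
    have hce : Multiset.card (μ.erase a) = Multiset.card μ - 1 := by
      rw [Multiset.card_erase_of_mem ha]
      rfl
    have hsum1 : μ.sum = a + (μ.erase a).sum := by
      rw [← Multiset.sum_cons, Multiset.cons_erase ha]
    obtain ⟨s, hs⟩ := hsum
    rcases Nat.even_or_odd a with hev | hodd
    · have hc1 : 1 ≤ μ.count a := Multiset.count_pos.mpr ha
      obtain ⟨e, he⟩ := hcount a hev
      have ha1 : a ∈ μ.erase a := by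
        rw [← Multiset.count_pos, Multiset.count_erase_self]
        omega
      have hce2 : Multiset.card ((μ.erase a).erase a) = Multiset.card μ - 2 := by
        rw [Multiset.card_erase_of_mem ha1, hce]
        rfl
      have hc2 : 2 ≤ Multiset.card μ := by
        have h5 := Multiset.count_le_card a μ
        omega
      have hsum2 : (μ.erase a).sum = a + ((μ.erase a).erase a).sum := by
        rw [← Multiset.sum_cons, Multiset.cons_erase ha1]
      have h1 : μ = {a, a} + (μ.erase a).erase a := by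
        rw [Multiset.insert_eq_cons, Multiset.cons_add, Multiset.singleton_add,
          Multiset.cons_erase ha1, Multiset.cons_erase ha]
      rw [h1]
      apply SoReal.add (so_real_pair p a (hparts a ha).1 (hparts a ha).2)
      apply ih (n - 2) (by omega) ((μ.erase a).erase a) (by omega)
      · intro b hb
        exact hparts b (Multiset.mem_of_mem_erase (Multiset.mem_of_mem_erase hb))
      · intro b hb
        by_cases hba : b = a
        · subst hba
          rw [Multiset.count_erase_self, Multiset.count_erase_self]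
          exact ⟨e - 1, by omega⟩
        · rw [Multiset.count_erase_of_ne hba, Multiset.count_erase_of_ne hba]
          exact hcount b hb
      · exact ⟨s - a, by omega⟩
    · obtain ⟨a', ha', hodd'⟩ : ∃ a' ∈ μ.erase a, Odd a' := by
        by_contra hcon
        push Not at hcon
        have h3 : 2 ∣ (μ.erase a).sum := by
          apply Multiset.dvd_sum
          intro x hx
          exact even_iff_two_dvd.mp (Nat.not_odd_iff_even.mp (hcon x hx))
        obtain ⟨e, he⟩ := hodd
        omega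
      have hce2 : Multiset.card ((μ.erase a).erase a') = Multiset.card μ - 2 := by
        rw [Multiset.card_erase_of_mem ha', hce]
        rfl
      have hc2 : 2 ≤ Multiset.card μ := by
        have h5 : 0 < Multiset.card (μ.erase a) := Multiset.card_pos_iff_exists_mem.mpr ⟨a', ha'⟩
        omega
      have hsum2 : (μ.erase a).sum = a' + ((μ.erase a).erase a').sum := by
        rw [← Multiset.sum_cons, Multiset.cons_erase ha']
      have ha'μ : a' ∈ μ := Multiset.mem_of_mem_erase ha'
      have h1 : μ = {a, a'} + (μ.erase a).erase a' := by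
        rw [Multiset.insert_eq_cons, Multiset.cons_add, Multiset.singleton_add,
          Multiset.cons_erase ha', Multiset.cons_erase ha]
      rw [h1]
      apply SoReal.add (so_real_two p a a'
        (so_single p hp2 a (hparts a ha).1 (hparts a ha).2 hodd)
        (so_single p hp2 a' (hparts a' ha'μ).1 (hparts a' ha'μ).2 hodd') hodd hodd')
      apply ih (n - 2) (by omega) ((μ.erase a).erase a') (by omega)
      · intro b hb
        exact hparts b (Multiset.mem_of_mem_erase (Multiset.mem_of_mem_erase hb))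
      · intro b hb
        have hba : b ≠ a := by
          rintro rfl
          exact (Nat.not_even_iff_odd.mpr hodd) hb
        have hba' : b ≠ a' := by
          rintro rfl
          exact (Nat.not_even_iff_odd.mpr hodd') hb
        rw [Multiset.count_erase_of_ne hba', Multiset.count_erase_of_ne hba]
        exact hcount b hb
      · obtain ⟨e, he⟩ := hodd
        obtain ⟨e', he'⟩ := hodd'
        exact ⟨s - e - e' - 1, by omega⟩

end sob

end Cfsg.Agent.Lib.helper24
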