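import Mathlib
import Cfsg.Agent.Lib.helper24.SpB
import Cfsg.Agent.Lib.helper24.ElA

/-!
# Orthogonal decompositions into nondegenerate subspaces: existence of invariant ones
-/

set_option autoImplicit false

namespace Cfsg.Agent.Lib.helper24

open Module

universe u

section spc0

variable {F : Type*} [Field F] {V : Type*} [AddCommGroup V] [Module F V]

/-- An orthogonal decomposition into nondegenerate subspaces of dimension `a`. -/
structure SpDecomp (ω : V →ₗ[F] V →ₗ[F] F) (a : ℕ) {τ : ℕ} (D : Fin τ → Submodule F V) :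
    Prop where
  dim : ∀ j, finrank F (D j) = a
  indep : iSupIndep D
  top : (⨆ j, D j) = ⊤
  nd : ∀ j, SpNd ω (D j)
  orth : ∀ j j', j ≠ j' → ∀ u ∈ D j, ∀ v ∈ D j', ω u v = 0

theorem sp_decomp_perm (ω : V →ₗ[F] V →ₗ[F] F) (a : ℕ) {τ : ℕ} (D : Fin τ → Submodule F V)
    (hD : SpDecomp ω a D) (σ : Equiv.Perm (Fin τ)) : SpDecomp ω a (D ∘ σ) := by
  refine ⟨fun j => hD.dim (σ j), hD.indep.comp σ.injective, ?_, fun j => hD.nd (σ j), ?_⟩
  · exact (Equiv.iSup_comp (g := D) σ).trans hD.top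
  · intro j j' hne u hu v hv
    exact hD.orth (σ j) (σ j') (fun h => hne (σ.injective h)) u hu v hv

theorem sp_decomp_inj (ω : V →ₗ[F] V →ₗ[F] F) (a : ℕ) (ha : 1 ≤ a) {τ : ℕ}
    (D : Fin τ → Submodule F V) (hD : SpDecomp ω a D) : Function.Injective D :=
  hD.indep.injective (fun j h => by
    have h1 := hD.dim j
    rw [h, finrank_bot] at h1
    omega)

theorem sp_decomp_cons [FiniteDimensional F V] (ω : V →ₗ[F] V →ₗ[F] F)
    (halt : ∀ v, ω v v = 0) (a τ : ℕ) (D₀ : Submodule F V)
    (hD₀ : SpNd ω D₀) (hD₀dim : finrank F D₀ = a) (D' : Fin τ → Submodule F ↥(spPerp ω D₀))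
    (hD' : SpDecomp (ω.domRestrict₁₂ (spPerp ω D₀) (spPerp ω D₀)) a D')
    (D : Fin (τ + 1) → Submodule F V) (hD0 : D 0 = D₀)
    (hDs : ∀ j : Fin τ, D j.succ = (D' j).map (spPerp ω D₀).subtype) : SpDecomp ω a D := by
  obtain ⟨h1, h2, h3, h4, h5⟩ := hD'
  have hcompl := sp_perp_compl ω halt D₀ hD₀
  have hle : ∀ j : Fin τ, D j.succ ≤ spPerp ω D₀ := by
    intro j
    rw [hDs]
    exact Submodule.map_subtype_le _ _
  have hdim : ∀ j, finrank F (D j) = a := by
    intro j
    refine Fin.cases ?_ (fun j => ?_) j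
    · rw [hD0, hD₀dim]
    · rw [hDs, Submodule.finrank_map_subtype_eq, h1]
  have htop : (⨆ j, D j) = ⊤ := by
    rw [eq_top_iff]
    intro v _
    have hv : v ∈ D₀ ⊔ spPerp ω D₀ := by
      rw [hcompl.sup_eq_top]
      trivial
    obtain ⟨d, hd, p, hp, rfl⟩ := Submodule.mem_sup.mp hv
    apply Submodule.add_mem
    · exact (le_iSup D 0) (by rw [hD0]; exact hd)
    · have hp' : (⟨p, hp⟩ : ↥(spPerp ω D₀)) ∈ ⨆ j, D' j := by
        rw [h3]
        trivial
      have hp2 : p ∈ (⨆ j, D' j).map (spPerp ω D₀).subtype := ⟨⟨p, hp⟩, hp', rfl⟩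
      rw [Submodule.map_iSup] at hp2
      have hle2 : (⨆ j, (D' j).map (spPerp ω D₀).subtype) ≤ ⨆ j, D j := by
        apply iSup_le
        intro j
        rw [← hDs]
        exact le_iSup D j.succ
      exact hle2 hp2
  refine ⟨hdim, ?_, htop, ?_, ?_⟩
  · apply el_indep_of_finrank
    rw [htop, finrank_top]
    have hP : finrank F ↥(spPerp ω D₀) = τ * a := by
      have h6 := el_finrank_iSup D' h2
      rw [h3, finrank_top] at h6
      rw [h6, Finset.sum_congr rfl (fun j _ => h1 j), Finset.sum_const, Finset.card_univ,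
        Fintype.card_fin, smul_eq_mul]
    have h7 := Submodule.finrank_add_eq_of_isCompl hcompl
    rw [Finset.sum_congr rfl (fun j _ => hdim j), Finset.sum_const, Finset.card_univ,
      Fintype.card_fin, smul_eq_mul, ← h7, hD₀dim, hP]
    have h8 : (τ + 1) * a = a + τ * a := by ring
    omega
  · intro j
    refine Fin.cases ?_ (fun j => ?_) j
    · rw [hD0]
      exact hD₀
    · rw [hDs]
      exact sp_nd_map ω _ (D' j) (h4 j)
  · intro j j'
    refine Fin.cases ?_ (fun j => ?_) j <;> refine Fin.cases ?_ (fun j' => ?_) j'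
    · intro h
      exact absurd rfl h
    · intro _ u hu v hv
      rw [hD0] at hu
      exact (hle j' hv) u hu
    · intro _ u hu v hv
      rw [hD0] at hv
      rw [sp_skew ω halt, (hle j hu) v hv, neg_zero]
    · intro hne u hu v hv
      rw [hDs] at hu hv
      obtain ⟨u', hu', rfl⟩ := hu
      obtain ⟨v', hv', rfl⟩ := hv
      exact h5 j j' (fun h => hne (by rw [h])) u' hu' v' hv'

end spc0

section spc

variable {F : Type*} [Field F] [Fintype F]

/-- Sufficiency: an isometry of order `r` preserves an orthogonal decomposition when the residues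
add up (or when it is trivial). -/
theorem sp_suff (p f' : ℕ) [Fact p.Prime] (hF : Fintype.card F = p ^ f') (r : ℕ)
    [Fact r.Prime] (hpr : p.Coprime r) (hr2 : r ≠ 2) (i c : ℕ)
    (hi : i = orderOf ((Fintype.card F : ℕ) : ZMod r))
    (hc : c = if Even i then i else 2 * i) (a : ℕ) (hae : Even a) :
    ∀ (τ : ℕ) (V : Type u) [AddCommGroup V] [Module F V] [Finite V]
      (ω : V →ₗ[F] V →ₗ[F] F), (∀ v, ω v v = 0) → (∀ v, (∀ w, ω v w = 0) → v = 0) →
      ∀ T : Module.End F V, (∀ u v, ω (T u) (T v) = ω u v) → T ^ r = 1 →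
      finrank F V = a * τ → ((a * τ) % c = τ * (a % c) ∨ T = 1) →
      ∃ D : Fin τ → Submodule F V, SpDecomp ω a D ∧ ∀ j, ∀ d ∈ D j, T d ∈ D j := by
  intro τ
  induction τ with
  | zero =>
    intro V _ _ _ ω halt hnd T hT hTr hdim _
    refine ⟨fun j => j.elim0, ⟨fun j => j.elim0, fun j => j.elim0, ?_, fun j => j.elim0,
      fun j => j.elim0⟩, fun j => j.elim0⟩
    rw [iSup_of_empty]
    symm
    apply Submodule.finrank_eq_zero.mp
    rw [finrank_top, hdim, mul_zero]
  | succ τ ih =>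
    intro V _ _ _ ω halt hnd T hT hTr hdim hmod
    have hr : r.Prime := Fact.out
    have h1 : a ≤ finrank F V := by
      rw [hdim]
      exact Nat.le_mul_of_pos_right a (Nat.succ_pos τ)
    have h2 : a % c ≤ finrank F V % c ∨ T = 1 := by
      rcases hmod with h | h
      · left
        rw [hdim, h]
        exact Nat.le_mul_of_pos_left _ (Nat.succ_pos τ)
      · right
        exact h
    obtain ⟨D₀, hD₀nd, hD₀inv, hD₀dim⟩ := sp_exists_inv_nd ω halt hnd T hT p f' hF r hpr hr2
      hTr i c hi hc a hae h1 h2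
    have hcompl := sp_perp_compl ω halt D₀ hD₀nd
    have hPnd := sp_perp_nd ω halt hnd D₀ hD₀nd
    have hPinv : ∀ w ∈ spPerp ω D₀, T w ∈ spPerp ω D₀ :=
      sp_perp_inv ω T hT D₀ (sp_map_eq T r hr.ne_zero hTr D₀ hD₀inv)
    have hPdim : finrank F ↥(spPerp ω D₀) = a * τ := by
      have h3 := Submodule.finrank_add_eq_of_isCompl hcompl
      have h4 : a * (τ + 1) = a * τ + a := by ring
      omega
    have hmod' : (a * τ) % c = τ * (a % c) ∨ T.restrict hPinv = 1 := by
      rcases hmod with h | h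
      · left
        exact el_mod_arith a c τ h
      · right
        apply LinearMap.ext
        intro x
        apply Subtype.ext
        show T x.1 = x.1
        rw [h, Module.End.one_apply]
    obtain ⟨D', hD', hD'inv⟩ := ih (spPerp ω D₀) (ω.domRestrict₁₂ _ _) (fun v => halt v.1)
      (sp_nd_restrict ω _ hPnd) (T.restrict hPinv) (fun u v => hT u.1 v.1)
      (el_restrict_pow T r hTr _ hPinv) hPdim hmod'
    obtain ⟨D, hD0, hDs⟩ : ∃ D : Fin (τ + 1) → Submodule F V, D 0 = D₀ ∧
        ∀ j : Fin τ, D j.succ = (D' j).map (spPerp ω D₀).subtype :=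
      ⟨Fin.cons D₀ (fun j => (D' j).map (spPerp ω D₀).subtype), Fin.cons_zero _ _,
        fun j => Fin.cons_succ _ _ j⟩
    refine ⟨D, sp_decomp_cons ω halt a τ D₀ hD₀nd hD₀dim D' hD' D hD0 hDs, ?_⟩
    intro j
    refine Fin.cases ?_ (fun j => ?_) j
    · rw [hD0]
      exact hD₀inv
    · rw [hDs]
      intro d hd
      obtain ⟨d', hd', rfl⟩ := hd
      exact ⟨T.restrict hPinv d', hD'inv j d' hd', rfl⟩

end spc

end Cfsg.Agent.Lib.helper24
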