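import Mathlib
import Cfsg.Agent.Lib.helper50.SympCount

/-!
# Counting pairs of complementary totally isotropic subspaces via symplectic frames
-/

set_option autoImplicit false

namespace Cfsg.Agent.Lib.helper24

open Module Cfsg.Agent.Lib.helper50

section general

variable {F : Type*} [Field F] {V : Type*} [AddCommGroup V] [Module F V]

theorem lag_skew (ω : V →ₗ[F] V →ₗ[F] F) (halt : ∀ v, ω v v = 0) (u v : V) :
    ω u v = - ω v u := by
  have h := halt (u + v)
  simp only [map_add, LinearMap.add_apply, halt, zero_add, add_zero] at h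
  exact eq_neg_of_add_eq_zero_right h

/-- A family with a dual family is linearly independent. -/
theorem lag_li_of_dual {ι : Type} [Fintype ι] [DecidableEq ι] (ω : V →ₗ[F] V →ₗ[F] F)
    (v w : ι → V) (h : ∀ i j, ω (w i) (v j) = if i = j then (1 : F) else 0) :
    LinearIndependent F v := by
  rw [Fintype.linearIndependent_iff]
  intro g hg i
  have h1 := congrArg (ω (w i)) hg
  rw [map_sum, map_zero] at h1
  simp only [map_smul, smul_eq_mul, h, mul_ite, mul_one, mul_zero, Finset.sum_ite_eq,
    Finset.mem_univ, if_true] at h1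
  exact h1

/-- The vanishing of a bilinear form on generators extends to spans. -/
theorem lag_span_orth {ι κ : Type} (ω : V →ₗ[F] V →ₗ[F] F) (x : ι → V) (y : κ → V)
    (h : ∀ a b, ω (x a) (y b) = 0) :
    ∀ u ∈ Submodule.span F (Set.range x), ∀ v ∈ Submodule.span F (Set.range y), ω u v = 0 := by
  intro u hu v hv
  have h1 : ∀ b, Submodule.span F (Set.range x) ≤ LinearMap.ker (ω.flip (y b)) := by
    intro b
    rw [Submodule.span_le]
    rintro _ ⟨a, rfl⟩
    rw [SetLike.mem_coe, LinearMap.mem_ker, LinearMap.flip_apply]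
    exact h a b
  have h2 : Submodule.span F (Set.range y) ≤ LinearMap.ker (ω u) := by
    rw [Submodule.span_le]
    rintro _ ⟨b, rfl⟩
    have h3 := h1 b hu
    rw [LinearMap.mem_ker, LinearMap.flip_apply] at h3
    rw [SetLike.mem_coe, LinearMap.mem_ker]
    exact h3
  exact h2 hv

/-- A symplectic frame is linearly independent. -/
theorem lag_frame_li (ω : V →ₗ[F] V →ₗ[F] F) (halt : ∀ v, ω v v = 0) {d : ℕ} (s : SFrame ω d) :
    LinearIndependent F (Sum.elim s.1.1 s.1.2) := by
  classical
  apply lag_li_of_dual ω _ (Sum.elim s.1.2 (fun b => - s.1.1 b))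
  rintro (a | b) (a' | b')
  · simp only [Sum.elim_inl]
    rw [lag_skew ω halt, (s.2 a' a).2.2]
    by_cases h : a = a'
    · subst h
      simp
    · have h' : ¬ a' = a := fun e => h e.symm
      simp [h, h']
  · simp only [Sum.elim_inl, Sum.elim_inr]
    rw [(s.2 a b').2.1]
    simp
  · simp only [Sum.elim_inl, Sum.elim_inr, map_neg, LinearMap.neg_apply]
    rw [(s.2 b a').1]
    simp
  · simp only [Sum.elim_inr, map_neg, LinearMap.neg_apply]
    rw [(s.2 b b').2.2]
    by_cases h : b = b'
    · subst h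
      simp
    · simp [h]

end general

section finite

variable {F : Type*} [Field F] [Fintype F] {V : Type*} [AddCommGroup V] [Module F V] [Finite V]

/-- A linearly independent family of `d` vectors in a `d`-dimensional subspace spans it. -/
theorem lag_span_eq {d : ℕ} (U : Submodule F V) (hU : finrank F U = d) (x : Fin d → V)
    (hx : LinearIndependent F x) (hxU : ∀ i, x i ∈ U) : Submodule.span F (Set.range x) = U := by
  apply Submodule.eq_of_le_of_finrank_eq
  · rw [Submodule.span_le]
    rintro _ ⟨i, rfl⟩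
    exact hxU i
  · rw [finrank_span_eq_card hx, Fintype.card_fin, hU]

theorem lag_finrank_le (ω : V →ₗ[F] V →ₗ[F] F) (hnd : ∀ v, (∀ w, ω v w = 0) → v = 0)
    (U W : Submodule F V) (hc : IsCompl U W) (hU : ∀ u ∈ U, ∀ v ∈ U, ω u v = 0) :
    finrank F U ≤ finrank F W := by
  let ψ : U →ₗ[F] (W →ₗ[F] F) := (LinearMap.lcomp F F W.subtype).comp (ω.comp U.subtype)
  have hψ : ∀ (u : U) (w : W), ψ u w = ω (u : V) (w : V) := fun u w => rfl
  have hinj : Function.Injective ψ := by
    rw [← LinearMap.ker_eq_bot, LinearMap.ker_eq_bot']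
    intro u hu
    apply Subtype.ext
    apply hnd
    intro v
    have hv : v ∈ U ⊔ W := by
      rw [hc.sup_eq_top]
      trivial
    obtain ⟨u', hu', w', hw', rfl⟩ := Submodule.mem_sup.1 hv
    rw [map_add, hU u u.2 u' hu']
    have h1 := hψ u ⟨w', hw'⟩
    rw [hu] at h1
    rw [← h1]
    simp
  calc finrank F U ≤ finrank F (W →ₗ[F] F) := LinearMap.finrank_le_finrank_of_injective hinj
    _ = finrank F W := Subspace.dual_finrank_eq

theorem lag_finrank_eq (ω : V →ₗ[F] V →ₗ[F] F) (hnd : ∀ v, (∀ w, ω v w = 0) → v = 0)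
    (d : ℕ) (hdim : finrank F V = 2 * d) (U W : Submodule F V) (hc : IsCompl U W)
    (hU : ∀ u ∈ U, ∀ v ∈ U, ω u v = 0) (hW : ∀ u ∈ W, ∀ v ∈ W, ω u v = 0) :
    finrank F U = d ∧ finrank F W = d := by
  have h1 := lag_finrank_le ω hnd U W hc hU
  have h2 := lag_finrank_le ω hnd W U hc.symm hW
  have h3 := Submodule.finrank_add_eq_of_isCompl hc
  omega

/-- The two spans of a symplectic frame are complementary totally isotropic subspaces. -/
theorem lag_frame_pair (ω : V →ₗ[F] V →ₗ[F] F) (halt : ∀ v, ω v v = 0) (d : ℕ)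
    (hdim : finrank F V = 2 * d) (s : SFrame ω d) :
    IsCompl (Submodule.span F (Set.range s.1.1)) (Submodule.span F (Set.range s.1.2)) ∧
      (∀ u ∈ Submodule.span F (Set.range s.1.1), ∀ v ∈ Submodule.span F (Set.range s.1.1),
        ω u v = 0) ∧
      (∀ u ∈ Submodule.span F (Set.range s.1.2), ∀ v ∈ Submodule.span F (Set.range s.1.2),
        ω u v = 0) := by
  classical
  have hli := lag_frame_li ω halt s
  have hsum := linearIndependent_sum.1 hli
  refine ⟨⟨?_, ?_⟩, ?_, ?_⟩
  · exact hsum.2.2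
  · rw [codisjoint_iff, ← Submodule.span_union, ← Set.Sum.elim_range]
    apply hli.span_eq_top_of_card_eq_finrank'
    rw [Fintype.card_sum, Fintype.card_fin, hdim]
    ring
  · exact lag_span_orth ω _ _ (fun a b => (s.2 a b).1)
  · exact lag_span_orth ω _ _ (fun a b => (s.2 a b).2.1)

/-- In a pair of complementary totally isotropic subspaces, a vector of the second orthogonal to
the first is zero. -/
theorem lag_zero_of_orth (ω : V →ₗ[F] V →ₗ[F] F) (halt : ∀ v, ω v v = 0)
    (hnd : ∀ v, (∀ w, ω v w = 0) → v = 0) (U W : Submodule F V) (hc : IsCompl U W)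
    (hW : ∀ u ∈ W, ∀ v ∈ W, ω u v = 0) (z : V) (hz : z ∈ W) (hzU : ∀ u ∈ U, ω u z = 0) :
    z = 0 := by
  apply hnd
  intro v
  have hv : v ∈ U ⊔ W := by
    rw [hc.sup_eq_top]
    trivial
  obtain ⟨u, hu, w, hw, rfl⟩ := Submodule.mem_sup.1 hv
  rw [map_add, lag_skew ω halt z u, hzU u hu, hW z hz w hw]
  simp

/-- A frame is determined by its first half and the span of its second half. -/
theorem lag_frame_unique (ω : V →ₗ[F] V →ₗ[F] F) (halt : ∀ v, ω v v = 0)
    (hnd : ∀ v, (∀ w, ω v w = 0) → v = 0) (d : ℕ) (hdim : finrank F V = 2 * d)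
    (s s' : SFrame ω d) (hx : s.1.1 = s'.1.1)
    (hy : Submodule.span F (Set.range s.1.2) = Submodule.span F (Set.range s'.1.2)) : s = s' := by
  classical
  obtain ⟨hc, hU, hW⟩ := lag_frame_pair ω halt d hdim s
  apply Subtype.ext
  apply Prod.ext hx
  funext b
  have hz : s.1.2 b - s'.1.2 b ∈ Submodule.span F (Set.range s.1.2) := by
    apply Submodule.sub_mem
    · exact Submodule.subset_span ⟨b, rfl⟩
    · rw [hy]
      exact Submodule.subset_span ⟨b, rfl⟩
  have h0 := lag_zero_of_orth ω halt hnd _ _ hc hW _ hz (by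
    intro u hu
    have h1 : Submodule.span F (Set.range s.1.1) ≤
        LinearMap.ker (ω.flip (s.1.2 b - s'.1.2 b)) := by
      rw [Submodule.span_le]
      rintro _ ⟨a, rfl⟩
      rw [SetLike.mem_coe, LinearMap.mem_ker, LinearMap.flip_apply, map_sub, (s.2 a b).2.2]
      have h2 := (s'.2 a b).2.2
      rw [← hx] at h2
      rw [h2, sub_self]
    have h3 := h1 hu
    rw [LinearMap.mem_ker, LinearMap.flip_apply] at h3
    exact h3)
  exact sub_eq_zero.1 h0

/-- Every basis of the first member of a pair extends uniquely to a frame. -/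
theorem lag_frame_exists (ω : V →ₗ[F] V →ₗ[F] F) (halt : ∀ v, ω v v = 0)
    (hnd : ∀ v, (∀ w, ω v w = 0) → v = 0) (d : ℕ) (hdim : finrank F V = 2 * d)
    (U W : Submodule F V) (hc : IsCompl U W)
    (hU : ∀ u ∈ U, ∀ v ∈ U, ω u v = 0) (hW : ∀ u ∈ W, ∀ v ∈ W, ω u v = 0)
    (a : Fin d → V) (ha : LinearIndependent F a) (haU : ∀ i, a i ∈ U) :
    ∃ s : SFrame ω d, s.1.1 = a ∧ Submodule.span F (Set.range s.1.1) = U ∧
      Submodule.span F (Set.range s.1.2) = W := by
  classical
  obtain ⟨hUd, hWd⟩ := lag_finrank_eq ω hnd d hdim U W hc hU hW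
  have hspan : Submodule.span F (Set.range a) = U := lag_span_eq U hUd a ha haU
  let Ψ : W →ₗ[F] (Fin d → F) := LinearMap.pi (fun i => (ω (a i)).comp W.subtype)
  have hΨ : ∀ (w : W) i, Ψ w i = ω (a i) (w : V) := fun w i => rfl
  have hinj : Function.Injective Ψ := by
    rw [← LinearMap.ker_eq_bot, LinearMap.ker_eq_bot']
    intro w hw
    apply Subtype.ext
    apply lag_zero_of_orth ω halt hnd U W hc hW _ w.2
    intro u hu
    have h1 : Submodule.span F (Set.range a) ≤ LinearMap.ker (ω.flip (w : V)) := by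
      rw [Submodule.span_le]
      rintro _ ⟨i, rfl⟩
      rw [SetLike.mem_coe, LinearMap.mem_ker, LinearMap.flip_apply, ← hΨ, hw]
      rfl
    rw [← hspan] at hu
    have h3 := h1 hu
    rw [LinearMap.mem_ker, LinearMap.flip_apply] at h3
    exact h3
  have hsurj : Function.Surjective Ψ :=
    (LinearMap.injective_iff_surjective_of_finrank_eq_finrank
      (by rw [hWd, Module.finrank_fin_fun])).mp hinj
  choose y hy using fun b => hsurj (-(Pi.single b 1))
  have hay : ∀ i b, ω (a i) (y b : V) = if i = b then -1 else 0 := by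
    intro i b
    rw [← hΨ, hy b, Pi.neg_apply, Pi.single_apply]
    split_ifs <;> simp
  let s : SFrame ω d := ⟨(a, fun b => (y b : V)), fun i b =>
    ⟨hU _ (haU i) _ (haU b), hW _ (y i).2 _ (y b).2, hay i b⟩⟩
  refine ⟨s, rfl, hspan, ?_⟩
  have hli := lag_frame_li ω halt s
  have hsum := linearIndependent_sum.1 hli
  exact lag_span_eq W hWd _ hsum.2.1 (fun b => (y b).2)

/-- The number of symplectic frames is the number of pairs of complementary totally isotropic
subspaces times the number of bases of a `d`-dimensional space. -/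
theorem card_lagPairs (ω : V →ₗ[F] V →ₗ[F] F) (halt : ∀ v, ω v v = 0)
    (hnd : ∀ v, (∀ w, ω v w = 0) → v = 0) (d : ℕ) (hdim : finrank F V = 2 * d) :
    Nat.card (SFrame ω d) =
      Nat.card {P : Submodule F V × Submodule F V // IsCompl P.1 P.2 ∧
        (∀ u ∈ P.1, ∀ v ∈ P.1, ω u v = 0) ∧ (∀ u ∈ P.2, ∀ v ∈ P.2, ω u v = 0)} *
      ∏ i : Fin d, (Fintype.card F ^ d - Fintype.card F ^ (i : ℕ)) := by
  classical
  let P := {P : Submodule F V × Submodule F V // IsCompl P.1 P.2 ∧
        (∀ u ∈ P.1, ∀ v ∈ P.1, ω u v = 0) ∧ (∀ u ∈ P.2, ∀ v ∈ P.2, ω u v = 0)}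
  let Φ : SFrame ω d → P := fun s =>
    ⟨(Submodule.span F (Set.range s.1.1), Submodule.span F (Set.range s.1.2)),
      lag_frame_pair ω halt d hdim s⟩
  have hfib : ∀ p : P, Nat.card {s : SFrame ω d // Φ s = p} =
      ∏ i : Fin d, (Fintype.card F ^ d - Fintype.card F ^ (i : ℕ)) := by
    rintro ⟨⟨U, W⟩, hc, hU, hW⟩
    obtain ⟨hUd, hWd⟩ := lag_finrank_eq ω hnd d hdim U W hc hU hW
    have hΦU : ∀ s : SFrame ω d, Φ s = ⟨(U, W), hc, hU, hW⟩ →
        Submodule.span F (Set.range s.1.1) = U ∧ Submodule.span F (Set.range s.1.2) = W := by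
      intro s hs
      have h1 := congrArg (fun p : P => p.1) hs
      exact Prod.ext_iff.1 h1
    have hmemU : ∀ (s : {s : SFrame ω d // Φ s = ⟨(U, W), hc, hU, hW⟩}) (i : Fin d),
        s.1.1.1 i ∈ U := by
      intro s i
      have h2 : s.1.1.1 i ∈ Submodule.span F (Set.range s.1.1.1) :=
        Submodule.subset_span ⟨i, rfl⟩
      rw [(hΦU s.1 s.2).1] at h2
      exact h2
    let θ : {s : SFrame ω d // Φ s = ⟨(U, W), hc, hU, hW⟩} →
        {a : Fin d → U // LinearIndependent F a} := fun s =>
      ⟨fun i => ⟨s.1.1.1 i, hmemU s i⟩, by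
        apply LinearIndependent.of_comp U.subtype
        exact (linearIndependent_sum.1 (lag_frame_li ω halt s.1)).1⟩
    have hθinj : Function.Injective θ := by
      intro s s' hss
      apply Subtype.ext
      apply lag_frame_unique ω halt hnd d hdim
      · funext i
        have h1 := congrArg (fun t : {a : Fin d → U // LinearIndependent F a} => (t.1 i : V)) hss
        exact h1
      · rw [(hΦU s.1 s.2).2, (hΦU s'.1 s'.2).2]
    have hθsurj : Function.Surjective θ := by
      rintro ⟨a, ha⟩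
      obtain ⟨s, hs1, hs2, hs3⟩ := lag_frame_exists ω halt hnd d hdim U W hc hU hW
        (fun i => (a i : V)) (ha.map' U.subtype (Submodule.ker_subtype U)) (fun i => (a i).2)
      refine ⟨⟨s, ?_⟩, ?_⟩
      · apply Subtype.ext
        exact Prod.ext hs2 hs3
      · apply Subtype.ext
        funext i
        apply Subtype.ext
        exact congrFun hs1 i
    rw [Nat.card_congr (Equiv.ofBijective θ ⟨hθinj, hθsurj⟩), card_linearIndependent (le_of_eq hUd.symm),
      hUd]
  have h1 : Nat.card (SFrame ω d) = Nat.card (Σ p : P, {s : SFrame ω d // Φ s = p}) :=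
    Nat.card_congr (Equiv.sigmaFiberEquiv Φ).symm
  have : Fintype P := Fintype.ofFinite _
  rw [h1, Nat.card_sigma, Finset.sum_congr rfl (fun p _ => hfib p), Finset.sum_const,
    Finset.card_univ, smul_eq_mul, ← Nat.card_eq_fintype_card]

end finite

end Cfsg.Agent.Lib.helper24
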