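import Mathlib
import Cfsg.Agent.Lib.helper24.LagCountA
import Cfsg.Agent.Lib.helper17.SympBlock
import Cfsg.Agent.S0245

/-!
# Derangements of odd prime order of `Sp_{2d}(q)` on pairs of complementary totally isotropic
subspaces
-/

set_option autoImplicit false

namespace Cfsg.Agent.Lib.helper24

open Module Cfsg.Agent.Lib.helper50 Cfsg.Agent.Lib.helper17

section arith

theorem lag_prod_fin (q d : ℕ) :
    ∏ i : Fin d, (q ^ d - q ^ (i : ℕ)) =
      (∏ i ∈ Finset.range d, q ^ i) * ∏ i ∈ Finset.range d, (q ^ (i + 1) - 1) := by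
  rw [Fin.prod_univ_eq_prod_range (fun i => q ^ d - q ^ i) d]
  rw [← Finset.prod_range_reflect (fun i => q ^ (i + 1) - 1) d, ← Finset.prod_mul_distrib]
  apply Finset.prod_congr rfl
  intro i hi
  rw [Finset.mem_range] at hi
  have h1 : d - 1 - i + 1 = d - i := by omega
  rw [h1, Nat.mul_sub, mul_one, ← pow_add]
  congr 2
  omega

theorem lag_prod_sq (q d : ℕ) (hq : 1 ≤ q) :
    ∏ i ∈ Finset.range d, (q ^ (2 * (i + 1)) - 1) =
      (∏ i ∈ Finset.range d, (q ^ (i + 1) - 1)) * ∏ i ∈ Finset.range d, (q ^ (i + 1) + 1) := by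
  rw [← Finset.prod_mul_distrib]
  apply Finset.prod_congr rfl
  intro i _
  have h1 : 1 ≤ q ^ (i + 1) := Nat.one_le_pow _ _ hq
  obtain ⟨a, ha⟩ : ∃ a, q ^ (i + 1) = a + 1 := ⟨q ^ (i + 1) - 1, by omega⟩
  rw [mul_comm 2, pow_mul, ha]
  have h2 : (a + 1) ^ 2 = a * (a + 1 + 1) + 1 := by ring
  rw [h2, Nat.add_sub_cancel, Nat.add_sub_cancel]

theorem lag_arith (q d N r : ℕ) (hr : r.Prime) (hq : Odd q) (hq2 : 2 ≤ q) (hd : 1 ≤ d)
    (hrq : ¬ r ∣ q)
    (h : q ^ (d ^ 2) * ∏ i ∈ Finset.range d, (q ^ (2 * (i + 1)) - 1) =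
      N * ∏ i : Fin d, (q ^ d - q ^ (i : ℕ)))
    (hN : r ∣ N / 2) : ∃ j, 1 ≤ j ∧ j ≤ d ∧ r ∣ q ^ j + 1 := by
  rw [lag_prod_fin q d, lag_prod_sq q d (by omega)] at h
  have hB : 0 < ∏ i ∈ Finset.range d, (q ^ (i + 1) - 1) := by
    apply Finset.prod_pos
    intro i _
    have h1 : 2 ≤ q ^ (i + 1) := by
      calc 2 ≤ q := hq2
        _ = q ^ 1 := (pow_one q).symm
        _ ≤ q ^ (i + 1) := Nat.pow_le_pow_right (by omega) (by omega)
    omega
  have h2 : q ^ (d ^ 2) * ∏ i ∈ Finset.range d, (q ^ (i + 1) + 1) =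
      N * ∏ i ∈ Finset.range d, q ^ i := by
    apply Nat.eq_of_mul_eq_mul_right hB
    calc q ^ (d ^ 2) * (∏ i ∈ Finset.range d, (q ^ (i + 1) + 1)) *
          ∏ i ∈ Finset.range d, (q ^ (i + 1) - 1)
        = q ^ (d ^ 2) * ((∏ i ∈ Finset.range d, (q ^ (i + 1) - 1)) *
          ∏ i ∈ Finset.range d, (q ^ (i + 1) + 1)) := by ring
      _ = N * ((∏ i ∈ Finset.range d, q ^ i) * ∏ i ∈ Finset.range d, (q ^ (i + 1) - 1)) := h
      _ = N * (∏ i ∈ Finset.range d, q ^ i) * ∏ i ∈ Finset.range d, (q ^ (i + 1) - 1) := by ring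
  have hAodd : Odd (∏ i ∈ Finset.range d, q ^ i) := by
    apply Finset.prod_induction (fun i => q ^ i) (fun n => Odd n)
    · intro a b ha hb
      exact ha.mul hb
    · exact odd_one
    · intro i _
      exact hq.pow
  have hCeven : 2 ∣ ∏ i ∈ Finset.range d, (q ^ (i + 1) + 1) := by
    refine dvd_trans ?_ (Finset.dvd_prod_of_mem _ (Finset.mem_range.2 (show 0 < d by omega)))
    rw [zero_add, pow_one]
    obtain ⟨k, hk⟩ := hq
    exact ⟨k + 1, by omega⟩
  have hNeven : 2 ∣ N := by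
    have h3 : 2 ∣ N * ∏ i ∈ Finset.range d, q ^ i := by
      rw [← h2]
      exact Dvd.dvd.mul_left hCeven _
    rcases (Nat.Prime.dvd_mul Nat.prime_two).1 h3 with h4 | h4
    · exact h4
    · exfalso
      obtain ⟨k, hk⟩ := hAodd
      omega
  have hrN : r ∣ N := by
    have h3 : N = 2 * (N / 2) := (Nat.mul_div_cancel' hNeven).symm
    rw [h3]
    exact Dvd.dvd.mul_left hN _
  have h4 : r ∣ q ^ (d ^ 2) * ∏ i ∈ Finset.range d, (q ^ (i + 1) + 1) := by
    rw [h2]
    exact Dvd.dvd.mul_right hrN _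
  rcases (Nat.Prime.dvd_mul hr).1 h4 with h5 | h5
  · exact absurd (hr.dvd_of_dvd_pow h5) hrq
  · obtain ⟨i, hi, h6⟩ := (Prime.dvd_finsetProd_iff hr.prime _).1 h5
    rw [Finset.mem_range] at hi
    exact ⟨i + 1, by omega, by omega, h6⟩

theorem lag_order (q r j : ℕ) [hr : Fact r.Prime] (hr2 : r ≠ 2) (hq : 1 ≤ q) (hj : 1 ≤ j)
    (h : r ∣ q ^ j + 1) :
    ∃ e, 1 ≤ e ∧ e ≤ j ∧ r ∣ q ^ (2 * e) - 1 ∧
      ∀ ρ, 1 ≤ ρ → ((q : ℕ) : ZMod r) ^ ρ = 1 → 2 * e ≤ ρ := by
  have h1 : ((q : ℕ) : ZMod r) ^ j = -1 := by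
    have h0 := (ZMod.natCast_eq_zero_iff (q ^ j + 1) r).2 h
    push_cast at h0
    exact eq_neg_of_add_eq_zero_left h0
  have h2 : ((q : ℕ) : ZMod r) ^ (2 * j) = 1 := by
    rw [mul_comm, pow_mul, h1]
    norm_num
  have hne : (-1 : ZMod r) ≠ 1 := by
    intro h3
    have h4 : (2 : ZMod r) = 0 := by linear_combination (-1 : ZMod r) * h3
    have h5 : ((2 : ℕ) : ZMod r) = 0 := by exact_mod_cast h4
    rw [ZMod.natCast_eq_zero_iff] at h5
    exact hr2 ((Nat.prime_dvd_prime_iff_eq hr.out Nat.prime_two).1 h5)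
  have hi_dvd : orderOf ((q : ℕ) : ZMod r) ∣ 2 * j := orderOf_dvd_of_pow_eq_one h2
  have hi_ndvd : ¬ orderOf ((q : ℕ) : ZMod r) ∣ j := by
    rintro ⟨c, hc⟩
    apply hne
    rw [← h1, hc, pow_mul, pow_orderOf_eq_one, one_pow]
  have hi_even : 2 ∣ orderOf ((q : ℕ) : ZMod r) := by
    by_contra hcon
    have h3 : Nat.Coprime 2 (orderOf ((q : ℕ) : ZMod r)) :=
      (Nat.Prime.coprime_iff_not_dvd Nat.prime_two).2 hcon
    exact hi_ndvd (Nat.Coprime.dvd_of_dvd_mul_left h3.symm hi_dvd)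
  obtain ⟨e, he⟩ := hi_even
  have he_dvd : e ∣ j := by
    rw [he] at hi_dvd
    exact Nat.dvd_of_mul_dvd_mul_left (by norm_num) hi_dvd
  have he1 : 1 ≤ e := by
    rcases Nat.eq_zero_or_pos e with h3 | h3
    · exfalso
      rw [h3] at he_dvd
      have := Nat.eq_zero_of_zero_dvd he_dvd
      omega
    · exact h3
  refine ⟨e, he1, Nat.le_of_dvd hj he_dvd, ?_, ?_⟩
  · rw [← ZMod.natCast_eq_zero_iff, Nat.cast_sub (Nat.one_le_pow _ _ hq), Nat.cast_pow,
      Nat.cast_one, ← he, pow_orderOf_eq_one, sub_self]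
  · intro ρ hρ h3
    rw [← he]
    exact Nat.le_of_dvd hρ (orderOf_dvd_of_pow_eq_one h3)

end arith

section linear

variable {F : Type*} [Field F] {V : Type*} [AddCommGroup V] [Module F V]

theorem lag_fix_pow [Fintype F] [Finite V] (r : ℕ) [Fact r.Prime] (hrq : ¬ r ∣ Fintype.card F)
    (T : V →ₗ[F] V) (hT : T ^ r = 1) (U : Submodule F V) (hU : ∀ u ∈ U, T u ∈ U) :
    ((Fintype.card F : ℕ) : ZMod r) ^ finrank F (U.map (T - 1)) = 1 := by
  classical
  haveI : Fintype U := Fintype.ofFinite U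
  let f : Function.End U := fun u => ⟨T u.1, hU u.1 u.2⟩
  have hk : ∀ k : ℕ, ∀ u : U, ((f ^ k) u : V) = (T ^ k) u.1 := by
    intro k
    induction k with
    | zero =>
      intro u
      rw [pow_zero, pow_zero]
      rfl
    | succ k ih =>
      intro u
      rw [pow_succ, pow_succ]
      show ((f ^ k) (f u) : V) = (T ^ k) (T u.1)
      rw [ih]
  have hf : f ^ r ^ 1 = 1 := by
    rw [pow_one]
    funext u
    apply Subtype.ext
    rw [hk, hT]
    rfl
  have h1 := Equiv.Perm.card_fixedPoints_modEq (p := r) (n := 1) hf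
  obtain ⟨S, hS⟩ : ∃ S : U →ₗ[F] V, S = (T - 1).domRestrict U := ⟨_, rfl⟩
  have hfix : Function.fixedPoints f = (LinearMap.ker S : Set U) := by
    ext u
    rw [Function.mem_fixedPoints, Function.IsFixedPt, SetLike.mem_coe, LinearMap.mem_ker, hS]
    show f u = u ↔ (T - 1) u.1 = 0
    rw [LinearMap.sub_apply, sub_eq_zero, Subtype.ext_iff]
    rfl
  have hcardU : Fintype.card U = Fintype.card F ^ finrank F U := by
    rw [← Nat.card_eq_fintype_card, Module.natCard_eq_pow_finrank (K := F),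
      Nat.card_eq_fintype_card]
  have hcardK : Fintype.card (Function.fixedPoints f) =
      Fintype.card F ^ finrank F (LinearMap.ker S) := by
    rw [← Nat.card_eq_fintype_card, hfix]
    show Nat.card (LinearMap.ker S) = _
    rw [Module.natCard_eq_pow_finrank (K := F), Nat.card_eq_fintype_card]
  have hrn := LinearMap.finrank_range_add_finrank_ker S
  have hrange : LinearMap.range S = U.map (T - 1) := by
    rw [hS, LinearMap.range_domRestrict]
  rw [hrange] at hrn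
  rw [hcardU, hcardK] at h1
  have h4 := (ZMod.natCast_eq_natCast_iff _ _ _).2 h1
  rw [Nat.cast_pow, Nat.cast_pow] at h4
  have hq0 : ((Fintype.card F : ℕ) : ZMod r) ≠ 0 := by
    rw [Ne, ZMod.natCast_eq_zero_iff]
    exact hrq
  have h5 : ((Fintype.card F : ℕ) : ZMod r) ^ finrank F (U.map (T - 1)) *
      ((Fintype.card F : ℕ) : ZMod r) ^ finrank F (LinearMap.ker S) =
      1 * ((Fintype.card F : ℕ) : ZMod r) ^ finrank F (LinearMap.ker S) := by
    rw [← pow_add, hrn, one_mul]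
    exact h4
  exact mul_right_cancel₀ (pow_ne_zero _ hq0) h5

theorem lag_trivial_on_one [Fintype F] [Finite V] (r : ℕ) [Fact r.Prime]
    (hrq : ¬ r ∣ Fintype.card F) (T : V →ₗ[F] V)
    (hT : T ^ r = 1) (i : ℕ) (hi : 1 ≤ i)
    (hmin : ∀ ρ, 1 ≤ ρ → ((Fintype.card F : ℕ) : ZMod r) ^ ρ = 1 → i ≤ ρ)
    (hrank : finrank F (LinearMap.range (T - 1)) ≤ i)
    (U W : Submodule F V) (hUW : U ⊓ W = ⊥) (hU : ∀ u ∈ U, T u ∈ U) (hW : ∀ w ∈ W, T w ∈ W) :
    (∀ u ∈ U, T u = u) ∨ (∀ w ∈ W, T w = w) := by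
  have hA : U.map (T - 1) ≤ U := by
    rintro _ ⟨u, hu, rfl⟩
    rw [LinearMap.sub_apply]
    exact U.sub_mem (hU u hu) hu
  have hB : W.map (T - 1) ≤ W := by
    rintro _ ⟨u, hu, rfl⟩
    rw [LinearMap.sub_apply]
    exact W.sub_mem (hW u hu) hu
  have hAB : U.map (T - 1) ⊓ W.map (T - 1) = ⊥ := by
    rw [eq_bot_iff, ← hUW]
    exact inf_le_inf hA hB
  have hsup : U.map (T - 1) ⊔ W.map (T - 1) ≤ LinearMap.range (T - 1) :=
    sup_le LinearMap.map_le_range LinearMap.map_le_range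
  have hdim := Submodule.finrank_sup_add_finrank_inf_eq (U.map (T - 1)) (W.map (T - 1))
  rw [hAB, finrank_bot, add_zero] at hdim
  have hle := Submodule.finrank_mono hsup
  have ha := lag_fix_pow r hrq T hT U hU
  have hb := lag_fix_pow r hrq T hT W hW
  have key : finrank F (U.map (T - 1)) = 0 ∨ finrank F (W.map (T - 1)) = 0 := by
    by_contra hcon
    push Not at hcon
    have h1 := hmin _ (Nat.one_le_iff_ne_zero.2 hcon.1) ha
    have h2 := hmin _ (Nat.one_le_iff_ne_zero.2 hcon.2) hb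
    omega
  rcases key with h | h
  · left
    intro u hu
    have h1 : U.map (T - 1) = ⊥ := Submodule.finrank_eq_zero.1 h
    have h2 : (T - 1) u ∈ U.map (T - 1) := Submodule.mem_map_of_mem hu
    rw [h1, Submodule.mem_bot, LinearMap.sub_apply, sub_eq_zero] at h2
    exact h2
  · right
    intro u hu
    have h1 : W.map (T - 1) = ⊥ := Submodule.finrank_eq_zero.1 h
    have h2 : (T - 1) u ∈ W.map (T - 1) := Submodule.mem_map_of_mem hu
    rw [h1, Submodule.mem_bot, LinearMap.sub_apply, sub_eq_zero] at h2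
    exact h2

theorem lag_fix_all [Fintype F] [Finite V] (ω : V →ₗ[F] V →ₗ[F] F) (halt : ∀ v, ω v v = 0)
    (hnd : ∀ v, (∀ w, ω v w = 0) → v = 0) (T : V →ₗ[F] V)
    (hTω : ∀ u v, ω (T u) (T v) = ω u v)
    (U W : Submodule F V) (hc : IsCompl U W) (hW : ∀ u ∈ W, ∀ v ∈ W, ω u v = 0)
    (hWT : ∀ w ∈ W, T w ∈ W) (hUfix : ∀ u ∈ U, T u = u) : T = 1 := by
  have h1 : ∀ w ∈ W, T w = w := by
    intro w hw
    have h2 := lag_zero_of_orth ω halt hnd U W hc hW (T w - w) (W.sub_mem (hWT w hw) hw) (by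
      intro u hu
      rw [map_sub]
      nth_rewrite 1 [← hUfix u hu]
      rw [hTω, sub_self])
    exact sub_eq_zero.1 h2
  apply LinearMap.ext
  intro v
  have hv : v ∈ U ⊔ W := by
    rw [hc.sup_eq_top]
    trivial
  obtain ⟨u, hu, w, hw, rfl⟩ := Submodule.mem_sup.1 hv
  rw [map_add, hUfix u hu, h1 w hw]
  rfl

theorem lag_swap_eq (T : V →ₗ[F] V) (r : ℕ) (hr : Odd r) (hT : T ^ r = 1) (U W : Submodule F V)
    (h1 : U.map T = W) (h2 : W.map T = U) : U = W := by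
  obtain ⟨k, rfl⟩ := hr
  have h3 : ∀ k : ℕ, U.map (T ^ (2 * k)) = U := by
    intro k
    induction k with
    | zero =>
      rw [mul_zero, pow_zero, Module.End.one_eq_id, Submodule.map_id]
    | succ k ih =>
      have h4 : 2 * (k + 1) = 2 * k + 1 + 1 := by ring
      rw [h4, pow_succ', pow_succ', Module.End.mul_eq_comp, Module.End.mul_eq_comp,
        Submodule.map_comp, Submodule.map_comp, ih, h1, h2]
  have h4 : U.map (T ^ (2 * k + 1)) = W := by
    rw [pow_succ', Module.End.mul_eq_comp, Submodule.map_comp, h3, h1]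
  rw [hT, Module.End.one_eq_id, Submodule.map_id] at h4
  exact h4

end linear

section concrete

open Matrix

variable {F : Type*} [Field F]

theorem lag_card_pairs [Fintype F] (d : ℕ) :
    Nat.card (Matrix.symplecticGroup (Fin d) F) =
      Nat.card {P : Submodule F (Fin d ⊕ Fin d → F) × Submodule F (Fin d ⊕ Fin d → F) //
        IsCompl P.1 P.2 ∧ (∀ u ∈ P.1, ∀ v ∈ P.1, Cfsg.sympForm d F u v = 0) ∧
        (∀ u ∈ P.2, ∀ v ∈ P.2, Cfsg.sympForm d F u v = 0)} *
      ∏ i : Fin d, (Fintype.card F ^ d - Fintype.card F ^ (i : ℕ)) := by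
  rw [Nat.card_congr (Cfsg.Agent.S0245.spEquivSFrame d F)]
  have hdim : finrank F (Fin d ⊕ Fin d → F) = 2 * d := by
    rw [Module.finrank_fintype_fun_eq_card, Fintype.card_sum, Fintype.card_fin, two_mul]
  rw [card_lagPairs (Cfsg.Agent.S0245.omegaJ d F) (Cfsg.Agent.S0245.omegaJ_alt d F)
    (Cfsg.Agent.S0245.omegaJ_nondeg d F) d hdim]
  congr 1
  apply Nat.card_congr
  apply Equiv.subtypeEquivRight
  intro P
  simp only [Cfsg.Agent.S0245.omegaJ_apply]
  rfl

theorem lag_exists_order [Fintype F] (e r : ℕ) [Fact r.Prime] (he : 1 ≤ e)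
    (h : r ∣ Fintype.card F ^ (2 * e) - 1) :
    ∃ A : Matrix.symplecticGroup (Fin e) F, orderOf A = r := by
  apply exists_prime_orderOf_dvd_card' r
  rw [Cfsg.Agent.S0245.result rfl e]
  apply Dvd.dvd.mul_left
  refine dvd_trans ?_ (Finset.dvd_prod_of_mem _ (Finset.mem_range.2 (show e - 1 < e by omega)))
  have h1 : e - 1 + 1 = e := by omega
  rw [h1]
  exact h

theorem lag_block_fix (e d' : ℕ) (A : Matrix.symplecticGroup (Fin e) F)
    (u : Fin (e + d') ⊕ Fin (e + d') → F) (t : Fin d' ⊕ Fin d') :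
    ((blockSp e d' (A, 1)).1 *ᵥ u) (rho e d' (Sum.inr t)) = u (rho e d' (Sum.inr t)) := by
  rw [mulVec_rho, blockSp_coe]
  simp only [Matrix.submatrix_submatrix, Equiv.symm_comp_self, Matrix.submatrix_id_id]
  simp [Matrix.mulVec, dotProduct, Fintype.sum_sum_type, Matrix.one_apply]

theorem lag_block_range (e d' : ℕ) (A : Matrix.symplecticGroup (Fin e) F) :
    finrank F (LinearMap.range (Matrix.toLin' (blockSp e d' (A, 1)).1 - 1)) ≤ 2 * e := by
  have h0 : ∀ v ∈ LinearMap.range (Matrix.toLin' (blockSp e d' (A, 1)).1 - 1),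
      ∀ t : Fin d' ⊕ Fin d', v (rho e d' (Sum.inr t)) = 0 := by
    rintro _ ⟨u, rfl⟩ t
    rw [LinearMap.sub_apply, Matrix.toLin'_apply, Pi.sub_apply, lag_block_fix]
    exact sub_self _
  obtain ⟨π, hπ⟩ : ∃ π : (Fin (e + d') ⊕ Fin (e + d') → F) →ₗ[F] (Fin e ⊕ Fin e → F),
      π = LinearMap.funLeft F F (fun s => rho e d' (Sum.inl s)) := ⟨_, rfl⟩
  have hinj : Function.Injective
      (π.domRestrict (LinearMap.range (Matrix.toLin' (blockSp e d' (A, 1)).1 - 1))) := by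
    rw [injective_iff_map_eq_zero]
    rintro ⟨v, hv⟩ h1
    apply Subtype.ext
    show v = 0
    have h2 : π v = 0 := h1
    funext c
    obtain ⟨c', rfl⟩ := (rho e d').surjective c
    rcases c' with s | t
    · have h3 := congrFun h2 s
      rw [hπ] at h3
      exact h3
    · exact h0 v hv t
  have h1 := LinearMap.finrank_le_finrank_of_injective hinj
  have h2 : finrank F (Fin e ⊕ Fin e → F) = 2 * e := by
    rw [Module.finrank_fintype_fun_eq_card, Fintype.card_sum, Fintype.card_fin, two_mul]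
  rw [h2] at h1
  exact h1

theorem lag_not_scalar (d r : ℕ) (hd : 1 ≤ d) (hr : Odd r)
    (x : Matrix.symplecticGroup (Fin d) F) (hx : x ^ r = 1) (hx1 : x ≠ 1) (z : F) :
    (x : Matrix (Fin d ⊕ Fin d) (Fin d ⊕ Fin d) F) ≠
      z • (1 : Matrix (Fin d ⊕ Fin d) (Fin d ⊕ Fin d) F) := by
  classical
  intro h
  have hu : (Pi.single (Sum.inl ⟨0, hd⟩) 1 : Fin d ⊕ Fin d → F) ≠ 0 := by
    intro h1
    have h2 := congrFun h1 (Sum.inl ⟨0, hd⟩)
    rw [Pi.single_eq_same] at h2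
    exact one_ne_zero h2
  obtain ⟨w, hw⟩ := exists_sympForm_ne_zero d _ hu
  have h1 := sympForm_mulVec_of_mem d x.2 (Pi.single (Sum.inl ⟨0, hd⟩) 1) w
  rw [h, Matrix.smul_mulVec, Matrix.one_mulVec, Matrix.smul_mulVec, Matrix.one_mulVec,
    sympForm_smul_left, sympForm_smul_right, ← mul_assoc] at h1
  have hz2 : z * z = 1 := by
    have h2 : (z * z - 1) * Cfsg.sympForm d F (Pi.single (Sum.inl ⟨0, hd⟩) 1) w = 0 := by
      rw [sub_mul, h1, one_mul, sub_self]
    rcases mul_eq_zero.1 h2 with h3 | h3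
    · exact sub_eq_zero.1 h3
    · exact absurd h3 hw
  have hzr : z ^ r = 1 := by
    have h2 : ((x ^ r : Matrix.symplecticGroup (Fin d) F) :
        Matrix (Fin d ⊕ Fin d) (Fin d ⊕ Fin d) F) = 1 := by
      rw [hx]
      rfl
    rw [SubmonoidClass.coe_pow, h, smul_pow, one_pow] at h2
    have h3 := congrFun (congrFun h2 (Sum.inl ⟨0, hd⟩)) (Sum.inl ⟨0, hd⟩)
    rw [Matrix.smul_apply, Matrix.one_apply_eq, smul_eq_mul, mul_one] at h3
    exact h3
  have hz1 : z = 1 := by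
    obtain ⟨k, rfl⟩ := hr
    rw [pow_succ, pow_mul, pow_two, hz2, one_pow, one_mul] at hzr
    exact hzr
  apply hx1
  apply Subtype.ext
  rw [h, hz1, one_smul]
  rfl

theorem lag_main [Fintype F] {p : ℕ} [Fact p.Prime] [CharP F p]
    (d : ℕ) (hd : 1 ≤ d) (hodd : Odd (Fintype.card F))
    (r : ℕ) [Fact r.Prime] (hr2 : r ≠ 2) (hrp : r ≠ p)
    (hΩ : r ∣ Nat.card {P : Submodule F (Fin d ⊕ Fin d → F) × Submodule F (Fin d ⊕ Fin d → F) //
      IsCompl P.1 P.2 ∧ (∀ u ∈ P.1, ∀ v ∈ P.1, Cfsg.sympForm d F u v = 0) ∧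
      (∀ u ∈ P.2, ∀ v ∈ P.2, Cfsg.sympForm d F u v = 0)} / 2) :
    ∃ x : ↥(Matrix.symplecticGroup (Fin d) F),
      (∃ z : F, ((x ^ r : ↥(Matrix.symplecticGroup (Fin d) F)) :
        Matrix (Fin d ⊕ Fin d) (Fin d ⊕ Fin d) F) =
          z • (1 : Matrix (Fin d ⊕ Fin d) (Fin d ⊕ Fin d) F)) ∧
      (∀ z : F, (x : Matrix (Fin d ⊕ Fin d) (Fin d ⊕ Fin d) F) ≠
        z • (1 : Matrix (Fin d ⊕ Fin d) (Fin d ⊕ Fin d) F)) ∧
      ¬ (∃ U W : Submodule F (Fin d ⊕ Fin d → F), IsCompl U W ∧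
        (∀ u ∈ U, ∀ v ∈ U, Cfsg.sympForm d F u v = 0) ∧
        (∀ u ∈ W, ∀ v ∈ W, Cfsg.sympForm d F u v = 0) ∧
        ((U.map (Matrix.toLin' (x : Matrix (Fin d ⊕ Fin d) (Fin d ⊕ Fin d) F)) = U ∧
          W.map (Matrix.toLin' (x : Matrix (Fin d ⊕ Fin d) (Fin d ⊕ Fin d) F)) = W) ∨
         (U.map (Matrix.toLin' (x : Matrix (Fin d ⊕ Fin d) (Fin d ⊕ Fin d) F)) = W ∧
          W.map (Matrix.toLin' (x : Matrix (Fin d ⊕ Fin d) (Fin d ⊕ Fin d) F)) = U))) := by
  classical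
  have hrprime : r.Prime := Fact.out
  have hrodd : Odd r := hrprime.odd_of_ne_two hr2
  have hrq : ¬ r ∣ Fintype.card F := by
    obtain ⟨n, hp, hn⟩ := FiniteField.card F p
    rw [hn]
    intro h
    exact hrp ((Nat.prime_dvd_prime_iff_eq hrprime hp).1 (hrprime.dvd_of_dvd_pow h))
  have hq2 : 2 ≤ Fintype.card F := Fintype.one_lt_card
  have hcard := lag_card_pairs (F := F) d
  rw [Cfsg.Agent.S0245.result rfl d] at hcard
  obtain ⟨j, hj1, hjd, hj⟩ := lag_arith _ d _ r hrprime hodd hq2 hd hrq hcard hΩ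
  obtain ⟨e, he1, hej, hre, hmin⟩ := lag_order (Fintype.card F) r j hr2 (by omega) hj1 hj
  obtain ⟨A, hA⟩ := lag_exists_order (F := F) e r he1 hre
  obtain ⟨d', rfl⟩ : ∃ d', d = e + d' := ⟨d - e, by omega⟩
  have hxr : (blockSp e d' (A, 1)) ^ r = 1 := by
    rw [← map_pow, Prod.pow_mk, one_pow, ← hA, pow_orderOf_eq_one]
    exact map_one _
  have hx1 : blockSp e d' (A, 1) ≠ 1 := by
    intro h
    rw [← map_one (blockSp (F := F) e d')] at h
    have h1 := blockSp_injective e d' h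
    have h2 : A = 1 := congrArg Prod.fst h1
    rw [h2, orderOf_one] at hA
    exact hrprime.one_lt.ne hA
  refine ⟨blockSp e d' (A, 1), ⟨1, ?_⟩, ?_, ?_⟩
  · rw [hxr, one_smul]
    rfl
  · intro z
    exact lag_not_scalar (e + d') r hd hrodd _ hxr hx1 z
  · rintro ⟨U, W, hc, hU, hW, h⟩
    obtain ⟨T, hTdef⟩ : ∃ T : (Fin (e + d') ⊕ Fin (e + d') → F) →ₗ[F]
        (Fin (e + d') ⊕ Fin (e + d') → F), T = Matrix.toLin' (blockSp e d' (A, 1)).1 := ⟨_, rfl⟩
    rw [← hTdef] at h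
    have hT : T ^ r = 1 := by
      rw [hTdef, ← Matrix.toLin'_pow, ← SubmonoidClass.coe_pow, hxr]
      exact Matrix.toLin'_one
    have hTω : ∀ u v, Cfsg.Agent.S0245.omegaJ (e + d') F (T u) (T v) =
        Cfsg.Agent.S0245.omegaJ (e + d') F u v := by
      intro u v
      rw [Cfsg.Agent.S0245.omegaJ_apply, Cfsg.Agent.S0245.omegaJ_apply, hTdef,
        Matrix.toLin'_apply, Matrix.toLin'_apply]
      exact sympForm_mulVec_of_mem (e + d') (blockSp e d' (A, 1)).2 u v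
    have hU' : ∀ u ∈ U, ∀ v ∈ U, Cfsg.Agent.S0245.omegaJ (e + d') F u v = 0 := by
      intro u hu v hv
      rw [Cfsg.Agent.S0245.omegaJ_apply]
      exact hU u hu v hv
    have hW' : ∀ u ∈ W, ∀ v ∈ W, Cfsg.Agent.S0245.omegaJ (e + d') F u v = 0 := by
      intro u hu v hv
      rw [Cfsg.Agent.S0245.omegaJ_apply]
      exact hW u hu v hv
    have hTne : T ≠ 1 := by
      intro h1
      apply hx1
      apply Subtype.ext
      apply Matrix.toLin'.injective
      rw [← hTdef, h1]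
      exact Matrix.toLin'_one.symm
    rcases h with h | h
    · have hUT : ∀ u ∈ U, T u ∈ U := by
        intro u hu
        have h1 : T u ∈ U.map T := Submodule.mem_map_of_mem hu
        rw [h.1] at h1
        exact h1
      have hWT : ∀ u ∈ W, T u ∈ W := by
        intro u hu
        have h1 : T u ∈ W.map T := Submodule.mem_map_of_mem hu
        rw [h.2] at h1
        exact h1
      have hrank : finrank F (LinearMap.range (T - 1)) ≤ 2 * e := by
        rw [hTdef]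
        exact lag_block_range e d' A
      rcases lag_trivial_on_one r hrq T hT (2 * e) (by omega) hmin hrank U W hc.inf_eq_bot
        hUT hWT with h1 | h1
      · exact hTne (lag_fix_all (Cfsg.Agent.S0245.omegaJ (e + d') F)
          (Cfsg.Agent.S0245.omegaJ_alt (e + d') F) (Cfsg.Agent.S0245.omegaJ_nondeg (e + d') F)
          T hTω U W hc hW' hWT h1)
      · exact hTne (lag_fix_all (Cfsg.Agent.S0245.omegaJ (e + d') F)
          (Cfsg.Agent.S0245.omegaJ_alt (e + d') F) (Cfsg.Agent.S0245.omegaJ_nondeg (e + d') F)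
          T hTω W U hc.symm hU' hUT h1)
    · have hUW : U = W := lag_swap_eq T r hrodd hT U W h.1 h.2
      rw [← hUW] at hc
      have h1 : U = ⊥ := by
        have h2 := hc.inf_eq_bot
        rw [inf_idem] at h2
        exact h2
      have h2 : U = ⊤ := by
        have h3 := hc.sup_eq_top
        rw [sup_idem] at h3
        exact h3
      have h3 : (Pi.single (Sum.inl ⟨0, hd⟩) 1 : Fin (e + d') ⊕ Fin (e + d') → F) ∈ U := by
        rw [h2]
        trivial
      rw [h1, Submodule.mem_bot] at h3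
      have h4 := congrFun h3 (Sum.inl ⟨0, hd⟩)
      rw [Pi.single_eq_same] at h4
      exact one_ne_zero h4

end concrete

end Cfsg.Agent.Lib.helper24
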