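import Mathlib
import Cfsg.Agent.Lib.helper24.SpA
import Cfsg.Agent.Lib.helper24.LagCountB

/-!
# Elements of prime order of `Sp_{2d}(q)` with small range or small fixed space
-/

set_option autoImplicit false

namespace Cfsg.Agent.Lib.helper24

open Module Matrix Cfsg.Agent.Lib.helper50 Cfsg.Agent.Lib.helper17

section spe

variable {F : Type*} [Field F]

theorem sp_omega_eq (d : ℕ) (u v : Fin d ⊕ Fin d → F) :
    Cfsg.Agent.S0245.omegaJ d F u v = Cfsg.sympForm d F u v :=
  Cfsg.Agent.S0245.omegaJ_apply d F u v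

theorem sp_toLin_isom (d : ℕ) (x : Matrix.symplecticGroup (Fin d) F)
    (u v : Fin d ⊕ Fin d → F) :
    Cfsg.Agent.S0245.omegaJ d F (Matrix.toLin' x.1 u) (Matrix.toLin' x.1 v) =
      Cfsg.Agent.S0245.omegaJ d F u v := by
  rw [sp_omega_eq, sp_omega_eq, Matrix.toLin'_apply, Matrix.toLin'_apply]
  exact sympForm_mulVec_of_mem d x.2 u v

theorem sp_toLin_pow (d : ℕ) (x : Matrix.symplecticGroup (Fin d) F) (k : ℕ) :
    (Matrix.toLin' x.1) ^ k = Matrix.toLin' (x ^ k).1 := by
  rw [← Matrix.toLin'_pow]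
  rfl

theorem sp_toLin_eq_one (d : ℕ) (x : Matrix.symplecticGroup (Fin d) F)
    (h : Matrix.toLin' x.1 = 1) : x = 1 := by
  apply Subtype.ext
  apply Matrix.toLin'.injective
  rw [h]
  exact Matrix.toLin'_one.symm

theorem sp_finrank_std (d : ℕ) : finrank F (Fin d ⊕ Fin d → F) = 2 * d := by
  rw [Module.finrank_fintype_fun_eq_card, Fintype.card_sum, Fintype.card_fin, two_mul]

theorem sp_block_mulVec (e d₁ : ℕ) (g : Matrix.symplecticGroup (Fin e) F)
    (y : Matrix.symplecticGroup (Fin d₁) F) (u : Fin (e + d₁) ⊕ Fin (e + d₁) → F) :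
    ((blockSp e d₁ (g, y)).1 *ᵥ u) ∘ rho e d₁ =
      Sum.elim (g.1 *ᵥ (u ∘ rho e d₁ ∘ Sum.inl)) (y.1 *ᵥ (u ∘ rho e d₁ ∘ Sum.inr)) := by
  funext t
  rw [Function.comp_apply, mulVec_rho, blockSp_coe]
  simp only [Matrix.submatrix_submatrix, Equiv.symm_comp_self, Matrix.submatrix_id_id]
  rw [Matrix.fromBlocks_mulVec]
  rcases t with s | s
  · simp [Function.comp_def]
  · simp [Function.comp_def]

/-- Adding a fixed-point-free block does not enlarge the fixed space. -/
theorem sp_block_fix (e d₁ : ℕ) (g : Matrix.symplecticGroup (Fin e) F)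
    (y : Matrix.symplecticGroup (Fin d₁) F)
    (hg : LinearMap.ker (Matrix.toLin' g.1 - 1) = ⊥) :
    finrank F (LinearMap.ker (Matrix.toLin' (blockSp e d₁ (g, y)).1 - 1)) ≤
      finrank F (LinearMap.ker (Matrix.toLin' y.1 - 1)) := by
  obtain ⟨π, hπ⟩ : ∃ π : (Fin (e + d₁) ⊕ Fin (e + d₁) → F) →ₗ[F] (Fin d₁ ⊕ Fin d₁ → F),
      π = LinearMap.funLeft F F (fun s => rho e d₁ (Sum.inr s)) := ⟨_, rfl⟩
  have hfix : ∀ u ∈ LinearMap.ker (Matrix.toLin' (blockSp e d₁ (g, y)).1 - 1),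
      (blockSp e d₁ (g, y)).1 *ᵥ u = u := by
    intro u hu
    rw [LinearMap.mem_ker, LinearMap.sub_apply, Matrix.toLin'_apply, sub_eq_zero] at hu
    exact hu
  have hmem : ∀ u ∈ LinearMap.ker (Matrix.toLin' (blockSp e d₁ (g, y)).1 - 1),
      π u ∈ LinearMap.ker (Matrix.toLin' y.1 - 1) := by
    intro u hu
    rw [LinearMap.mem_ker, LinearMap.sub_apply, Matrix.toLin'_apply, sub_eq_zero]
    have h1 := sp_block_mulVec e d₁ g y u
    rw [hfix u hu] at h1
    funext s
    have h2 := congrFun h1 (Sum.inr s)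
    rw [Sum.elim_inr] at h2
    rw [hπ]
    exact h2.symm
  have hinj : Function.Injective
      ((π.domRestrict (LinearMap.ker (Matrix.toLin' (blockSp e d₁ (g, y)).1 - 1))).codRestrict
        (LinearMap.ker (Matrix.toLin' y.1 - 1)) (fun u => hmem u.1 u.2)) := by
    rw [injective_iff_map_eq_zero]
    rintro ⟨u, hu⟩ h1
    apply Subtype.ext
    show u = 0
    have h2 : π u = 0 := congrArg Subtype.val h1
    have h3 := sp_block_mulVec e d₁ g y u
    rw [hfix u hu] at h3
    have h4 : u ∘ rho e d₁ ∘ Sum.inl = 0 := by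
      have h5 : u ∘ rho e d₁ ∘ Sum.inl ∈ LinearMap.ker (Matrix.toLin' g.1 - 1) := by
        rw [LinearMap.mem_ker, LinearMap.sub_apply, Matrix.toLin'_apply, sub_eq_zero]
        funext s
        have h6 := congrFun h3 (Sum.inl s)
        rw [Sum.elim_inl] at h6
        exact h6.symm
      rw [hg] at h5
      exact (Submodule.mem_bot F).mp h5
    funext c
    obtain ⟨c', rfl⟩ := (rho e d₁).surjective c
    rcases c' with s | s
    · exact congrFun h4 s
    · have h5 := congrFun h2 s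
      rw [hπ] at h5
      exact h5
  exact LinearMap.finrank_le_finrank_of_injective hinj

end spe

section spe2

variable {F : Type*} [Field F] [Fintype F]

/-- A fixed-point-free element of order `r` in `Sp_c(q)`. -/
theorem sp_elt_order (r : ℕ) [Fact r.Prime] (hq0 : ((Fintype.card F : ℕ) : ZMod r) ≠ 0)
    (hrF : ((r : ℕ) : F) ≠ 0) (i c : ℕ) (hi : i = orderOf ((Fintype.card F : ℕ) : ZMod r))
    (hc : c = if Even i then i else 2 * i) (e : ℕ) (he : 1 ≤ e) (hce : c = 2 * e) :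
    ∃ g : Matrix.symplecticGroup (Fin e) F, g ^ r = 1 ∧ g ≠ 1 ∧
      LinearMap.ker (Matrix.toLin' g.1 - 1) = ⊥ := by
  have hr : r.Prime := Fact.out
  have hic : i ∣ c := by
    rw [hc]
    split_ifs with h
    · exact dvd_refl i
    · exact Dvd.intro_left 2 rfl
  have hdvd : r ∣ Fintype.card F ^ (2 * e) - 1 := by
    rw [← hce]
    have h1 : ((Fintype.card F : ℕ) : ZMod r) ^ c = 1 := by
      obtain ⟨k, hk⟩ := hic
      rw [hk, pow_mul, hi, pow_orderOf_eq_one, one_pow]
    have h2 : 1 ≤ Fintype.card F ^ c := Nat.one_le_pow _ _ Fintype.card_pos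
    rw [← ZMod.natCast_eq_zero_iff, Nat.cast_sub h2, Nat.cast_pow, h1, Nat.cast_one, sub_self]
  obtain ⟨g, hg⟩ := lag_exists_order (F := F) e r he hdvd
  have hgr : g ^ r = 1 := by
    rw [← hg]
    exact pow_orderOf_eq_one g
  have hg1 : g ≠ 1 := by
    intro h
    rw [h, orderOf_one] at hg
    exact hr.one_lt.ne hg
  refine ⟨g, hgr, hg1, ?_⟩
  have hTr : (Matrix.toLin' g.1) ^ r = 1 := by
    rw [sp_toLin_pow, hgr]
    exact Matrix.toLin'_one
  have h1 := sp_dvd (Cfsg.Agent.S0245.omegaJ e F) (Cfsg.Agent.S0245.omegaJ_alt e F)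
    (Cfsg.Agent.S0245.omegaJ_nondeg e F) (Matrix.toLin' g.1) (sp_toLin_isom e g) r hq0 hrF hTr
    i c hi hc
  rw [sp_finrank_std, ← hce] at h1
  have h2 : finrank F (LinearMap.ker (Matrix.toLin' g.1 - 1)) ≤ c := by
    have h3 := Submodule.finrank_le (LinearMap.ker (Matrix.toLin' g.1 - 1))
    rw [sp_finrank_std, ← hce] at h3
    exact h3
  rcases Nat.eq_zero_or_pos (finrank F (LinearMap.ker (Matrix.toLin' g.1 - 1))) with h0 | hpos
  · exact Submodule.finrank_eq_zero.mp h0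
  · exfalso
    apply hg1
    apply sp_toLin_eq_one
    have h4 : c - finrank F (LinearMap.ker (Matrix.toLin' g.1 - 1)) = 0 :=
      Nat.eq_zero_of_dvd_of_lt h1 (by omega)
    have h5 : LinearMap.ker (Matrix.toLin' g.1 - 1) = ⊤ := by
      apply Submodule.eq_top_of_finrank_eq
      rw [sp_finrank_std, ← hce]
      omega
    apply LinearMap.ext
    intro v
    have h6 : v ∈ LinearMap.ker (Matrix.toLin' g.1 - 1) := by
      rw [h5]
      trivial
    rw [LinearMap.mem_ker, LinearMap.sub_apply, sub_eq_zero] at h6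
    exact h6

/-- An element of order `r` with range of dimension at most `c`. -/
theorem sp_exists_x1 (r : ℕ) [Fact r.Prime] (hq0 : ((Fintype.card F : ℕ) : ZMod r) ≠ 0)
    (hrF : ((r : ℕ) : F) ≠ 0) (i c : ℕ) (hi : i = orderOf ((Fintype.card F : ℕ) : ZMod r))
    (hc : c = if Even i then i else 2 * i) (e : ℕ) (he : 1 ≤ e) (hce : c = 2 * e)
    (d : ℕ) (hed : e ≤ d) :
    ∃ x : Matrix.symplecticGroup (Fin d) F, x ^ r = 1 ∧ x ≠ 1 ∧
      finrank F (LinearMap.range (Matrix.toLin' x.1 - 1)) ≤ c := by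
  obtain ⟨g, hgr, hg1, -⟩ := sp_elt_order (F := F) r hq0 hrF i c hi hc e he hce
  obtain ⟨d', rfl⟩ : ∃ d', d = e + d' := ⟨d - e, by omega⟩
  refine ⟨blockSp e d' (g, 1), ?_, ?_, ?_⟩
  · rw [← map_pow, Prod.pow_mk, one_pow, hgr]
    exact map_one _
  · intro h
    rw [← map_one (blockSp (F := F) e d')] at h
    have h1 := blockSp_injective e d' h
    exact hg1 (congrArg Prod.fst h1)
  · rw [hce]
    exact lag_block_range e d' g

/-- An element of order `r` with small fixed space. -/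
theorem sp_exists_xb (r : ℕ) [Fact r.Prime] (hq0 : ((Fintype.card F : ℕ) : ZMod r) ≠ 0)
    (hrF : ((r : ℕ) : F) ≠ 0) (i c : ℕ) (hi : i = orderOf ((Fintype.card F : ℕ) : ZMod r))
    (hc : c = if Even i then i else 2 * i) (e : ℕ) (he : 1 ≤ e) (hce : c = 2 * e) :
    ∀ (b d : ℕ), e * b ≤ d →
      ∃ x : Matrix.symplecticGroup (Fin d) F, x ^ r = 1 ∧
        finrank F (LinearMap.ker (Matrix.toLin' x.1 - 1)) ≤ 2 * (d - e * b) := by
  obtain ⟨g, hgr, hg1, hgfix⟩ := sp_elt_order (F := F) r hq0 hrF i c hi hc e he hce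
  intro b
  induction b with
  | zero =>
    intro d _
    refine ⟨1, one_pow r, ?_⟩
    have h1 := Submodule.finrank_le
      (LinearMap.ker (Matrix.toLin' (1 : Matrix.symplecticGroup (Fin d) F).1 - 1))
    rw [sp_finrank_std] at h1
    rw [mul_zero, Nat.sub_zero]
    exact h1
  | succ b ih =>
    intro d hd
    have h0 : e * (b + 1) = e * b + e := by ring
    obtain ⟨d₁, rfl⟩ : ∃ d₁, d = e + d₁ := ⟨d - e, by omega⟩
    obtain ⟨y, hyr, hy⟩ := ih d₁ (by omega)
    refine ⟨blockSp e d₁ (g, y), ?_, ?_⟩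
    · rw [← map_pow, Prod.pow_mk, hyr, hgr]
      exact map_one _
    · have h1 := sp_block_fix e d₁ g y hgfix
      have h2 : e + d₁ - e * (b + 1) = d₁ - e * b := by omega
      rw [h2]
      exact le_trans h1 hy

end spe2

end Cfsg.Agent.Lib.helper24
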