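import Mathlib
import Cfsg.Agent.Lib.helper24.SpC
import Cfsg.Agent.Lib.helper24.SpE
import Cfsg.Agent.Lib.helper17.SympBasis
import Cfsg.Agent.Lib.helper17.IsoFrames

/-!
# Counting orthogonal decompositions of the standard symplectic space
-/

set_option autoImplicit false

namespace Cfsg.Agent.Lib.helper24

open Module Matrix Cfsg.Agent.Lib.helper50 Cfsg.Agent.Lib.helper17

section spf0

/-- `t!` divides the number of injective families closed under reindexing. -/
theorem sp_factorial_dvd {X : Type*} [Finite X] (t : ℕ) (P : (Fin t → X) → Prop)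
    (hperm : ∀ D (σ : Equiv.Perm (Fin t)), P D → P (D ∘ σ))
    (hinj : ∀ D, P D → Function.Injective D) :
    t.factorial ∣ Nat.card {D : Fin t → X // P D} := by
  classical
  obtain ⟨s, hs⟩ : ∃ s : Setoid {D : Fin t → X // P D},
      ∀ D D', s.r D D' ↔ ∃ σ : Equiv.Perm (Fin t), D'.1 = D.1 ∘ σ := by
    refine ⟨⟨fun D D' => ∃ σ : Equiv.Perm (Fin t), D'.1 = D.1 ∘ σ, ⟨?_, ?_, ?_⟩⟩,
      fun D D' => Iff.rfl⟩
    · intro D
      exact ⟨1, rfl⟩
    · rintro D D' ⟨σ, h⟩
      refine ⟨σ⁻¹, ?_⟩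
      rw [h]
      funext j
      simp
    · rintro D D' D'' ⟨σ, h⟩ ⟨σ', h'⟩
      refine ⟨σ * σ', ?_⟩
      rw [h', h]
      rfl
  haveI : Fintype (Quotient s) := Fintype.ofFinite _
  rw [Nat.card_congr (Equiv.sigmaFiberEquiv (Quotient.mk s)).symm, Nat.card_sigma]
  have key : ∀ q : Quotient s, Nat.card {D // Quotient.mk s D = q} = t.factorial := by
    intro q
    obtain ⟨D₀, hD₀⟩ : ∃ D₀, Quotient.mk s D₀ = q := Quotient.exists_rep q
    have hinj₀ : Function.Injective D₀.1 := hinj D₀.1 D₀.2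
    have hmem : ∀ σ : Equiv.Perm (Fin t), P (D₀.1 ∘ σ) := fun σ => hperm D₀.1 σ D₀.2
    have e : Equiv.Perm (Fin t) ≃ {D // Quotient.mk s D = q} := by
      refine Equiv.ofBijective (fun σ => ⟨⟨D₀.1 ∘ σ, hmem σ⟩, ?_⟩) ⟨?_, ?_⟩
      · rw [← hD₀]
        apply Quotient.sound
        refine (hs _ _).mpr ⟨σ⁻¹, ?_⟩
        funext j
        simp
      · intro σ σ' h
        have h1 : D₀.1 ∘ σ = D₀.1 ∘ σ' := congrArg (fun D => D.1.1) h
        apply Equiv.ext
        intro j
        exact hinj₀ (congrFun h1 j)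
      · rintro ⟨D, hD⟩
        rw [← hD₀] at hD
        have h1 : s.r D D₀ := Quotient.exact hD
        obtain ⟨σ, hσ⟩ := (hs _ _).mp h1
        refine ⟨σ⁻¹, ?_⟩
        apply Subtype.ext
        apply Subtype.ext
        show D₀.1 ∘ ⇑σ⁻¹ = D.1
        rw [hσ]
        funext j
        simp
    rw [Nat.card_congr e.symm, Nat.card_eq_fintype_card, Fintype.card_perm, Fintype.card_fin]
  simp only [key, Finset.sum_const, Finset.card_univ, smul_eq_mul]
  exact Dvd.intro_left _ rfl

end spf0

section spf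

variable {F : Type*} [Field F] {V : Type*} [AddCommGroup V] [Module F V]

/-- The Gram matrix of a symplectic basis. -/
def spG (a' : ℕ) (F : Type*) [Field F] : Fin a' ⊕ Fin a' → Fin a' ⊕ Fin a' → F
  | Sum.inl _, Sum.inl _ => 0
  | Sum.inl a, Sum.inr b => if a = b then 1 else 0
  | Sum.inr a, Sum.inl b => if a = b then -1 else 0
  | Sum.inr _, Sum.inr _ => 0

/-- A family adapted to an orthogonal decomposition, with standard Gram matrix. -/
theorem sp_dec_frame [FiniteDimensional F V] (ω : V →ₗ[F] V →ₗ[F] F) (halt : ∀ v, ω v v = 0)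
    (a' t : ℕ) (D : Fin t → Submodule F V) (hD : SpDecomp ω (2 * a') D) :
    ∃ x : Fin t × (Fin a' ⊕ Fin a') → V, LinearIndependent F x ∧
      (∀ j, Submodule.span F (Set.range (fun k => x (j, k))) = D j) ∧
      ∀ j k j' k', ω (x (j, k)) (x (j', k')) = if j = j' then spG a' F k k' else 0 := by
  classical
  choose e f hee hff hef using fun j => exists_symp_basis a' (ω.domRestrict₁₂ (D j) (D j))
    (fun v => halt v.1) (sp_nd_restrict ω (D j) (hD.nd j)) (hD.dim j)
  obtain ⟨x, hx⟩ : ∃ x : Fin t × (Fin a' ⊕ Fin a') → V, ∀ j k,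
      x (j, k) = Sum.elim (fun a => (e j a : V)) (fun a => (f j a : V)) k :=
    ⟨fun jk => Sum.elim (fun a => (e jk.1 a : V)) (fun a => (f jk.1 a : V)) jk.2,
      fun j k => rfl⟩
  have hxmem : ∀ j k, x (j, k) ∈ D j := by
    intro j k
    rw [hx]
    rcases k with a | a
    · exact (e j a).2
    · exact (f j a).2
  have hG : ∀ j k j' k', ω (x (j, k)) (x (j', k')) = if j = j' then spG a' F k k' else 0 := by
    intro j k j' k'
    by_cases hjj : j = j'
    · subst hjj
      rw [if_pos rfl, hx, hx]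
      rcases k with a | a <;> rcases k' with b | b
      · exact hee j a b
      · exact hef j a b
      · show ω (f j a : V) (e j b : V) = if a = b then -1 else 0
        rw [sp_skew ω halt]
        have h1 : ω (e j b : V) (f j a : V) = if b = a then 1 else 0 := hef j b a
        rw [h1]
        by_cases hab : a = b
        · rw [if_pos hab, if_pos hab.symm]
        · rw [if_neg hab, if_neg (fun h => hab h.symm), neg_zero]
      · exact hff j a b
    · rw [if_neg hjj]
      exact hD.orth j j' hjj _ (hxmem j k) _ (hxmem j' k')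
  have hLI : LinearIndependent F x := by
    obtain ⟨w, hw⟩ : ∃ w : Fin t × (Fin a' ⊕ Fin a') → V,
        (∀ j a, w (j, Sum.inl a) = - x (j, Sum.inr a)) ∧
        (∀ j a, w (j, Sum.inr a) = x (j, Sum.inl a)) :=
      ⟨fun jk => Sum.elim (fun a => - x (jk.1, Sum.inr a)) (fun a => x (jk.1, Sum.inl a)) jk.2,
        fun j a => rfl, fun j a => rfl⟩
    apply lag_li_of_dual ω x w
    rintro ⟨j, a | a⟩ ⟨j', b | b⟩
    · rw [hw.1, map_neg, LinearMap.neg_apply, hG]
      by_cases hjj : j = j'
      · by_cases hab : a = b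
        · subst hjj
          subst hab
          simp [spG]
        · subst hjj
          simp [spG, hab]
      · simp [hjj]
    · rw [hw.1, map_neg, LinearMap.neg_apply, hG]
      simp [spG]
    · rw [hw.2, hG]
      simp [spG]
    · rw [hw.2, hG]
      by_cases hjj : j = j'
      · by_cases hab : a = b
        · subst hjj
          subst hab
          simp [spG]
        · subst hjj
          simp [spG, hab]
      · simp [hjj]
  refine ⟨x, hLI, ?_, hG⟩
  intro j
  apply Submodule.eq_of_le_of_finrank_eq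
  · rw [Submodule.span_le]
    rintro _ ⟨k, rfl⟩
    exact hxmem j k
  · have h1 : LinearIndependent F (fun k => x (j, k)) :=
      hLI.comp (Prod.mk j) (Prod.mk_right_injective j)
    rw [finrank_span_eq_card h1, hD.dim j, Fintype.card_sum, Fintype.card_fin, two_mul]

/-- Isometries map orthogonal decompositions to orthogonal decompositions. -/
theorem sp_decomp_map [FiniteDimensional F V] (ω : V →ₗ[F] V →ₗ[F] F)
    (hnd : ∀ v, (∀ w, ω v w = 0) → v = 0) (T : Module.End F V)
    (hT : ∀ u v, ω (T u) (T v) = ω u v) (a : ℕ) {t : ℕ} (D : Fin t → Submodule F V)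
    (hD : SpDecomp ω a D) : SpDecomp ω a (fun j => (D j).map T) := by
  have hinj : Function.Injective T := by
    rw [injective_iff_map_eq_zero]
    intro u hu
    apply hnd
    intro w
    rw [← hT, hu, map_zero, LinearMap.zero_apply]
  have hsurj : Function.Surjective T := LinearMap.injective_iff_surjective.mp hinj
  have hdim : ∀ j, finrank F ((D j).map T) = a := by
    intro j
    rw [← hD.dim j]
    exact (Submodule.equivMapOfInjective T hinj (D j)).finrank_eq.symm
  have htop : (⨆ j, (D j).map T) = ⊤ := by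
    rw [← Submodule.map_iSup, hD.top, Submodule.map_top, LinearMap.range_eq_top]
    exact hsurj
  refine ⟨hdim, ?_, htop, ?_, ?_⟩
  · apply el_indep_of_finrank
    rw [htop, finrank_top, Finset.sum_congr rfl (fun j _ => hdim j)]
    have h1 := el_finrank_iSup D hD.indep
    rw [hD.top, finrank_top, Finset.sum_congr rfl (fun j _ => hD.dim j)] at h1
    rw [h1]
  · intro j u hu hu2
    obtain ⟨u₀, hu₀, rfl⟩ := hu
    have h1 : u₀ = 0 := by
      apply hD.nd j u₀ hu₀
      intro v hv
      rw [← hT]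
      exact hu2 (T v) (Submodule.mem_map_of_mem hv)
    rw [h1, map_zero]
  · intro j j' hne u hu v hv
    obtain ⟨u₀, hu₀, rfl⟩ := hu
    obtain ⟨v₀, hv₀, rfl⟩ := hv
    rw [hT]
    exact hD.orth j j' hne u₀ hu₀ v₀ hv₀

/-- `Sp` is transitive on ordered orthogonal decompositions. -/
theorem sp_trans (d a' t : ℕ) (D D' : Fin t → Submodule F (Fin d ⊕ Fin d → F))
    (hD : SpDecomp (Cfsg.Agent.S0245.omegaJ d F) (2 * a') D)
    (hD' : SpDecomp (Cfsg.Agent.S0245.omegaJ d F) (2 * a') D') :
    ∃ A : Matrix.symplecticGroup (Fin d) F, ∀ j, (D j).map (Matrix.toLin' A.1) = D' j := by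
  obtain ⟨x, hx, hxs, hxG⟩ := sp_dec_frame (Cfsg.Agent.S0245.omegaJ d F)
    (Cfsg.Agent.S0245.omegaJ_alt d F) a' t D hD
  obtain ⟨y, hy, hys, hyG⟩ := sp_dec_frame (Cfsg.Agent.S0245.omegaJ d F)
    (Cfsg.Agent.S0245.omegaJ_alt d F) a' t D' hD'
  obtain ⟨A, hA⟩ := sp_witt_family' d x y hx hy (by
    rintro ⟨j, k⟩ ⟨j', k'⟩
    rw [← sp_omega_eq, ← sp_omega_eq, hxG, hyG])
  refine ⟨A, fun j => ?_⟩
  rw [← hxs j, ← hys j, Submodule.map_span, ← Set.range_comp]
  have h1 : (⇑(Matrix.toLin' A.1) ∘ fun k => x (j, k)) = fun k => y (j, k) := by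
    funext k
    rw [Function.comp_apply, Matrix.toLin'_apply, hA]
  rw [h1]

/-- The action of `Sp` on families of subspaces. -/
def spAct (d t : ℕ) (F : Type*) [Field F] :
    MulAction (Matrix.symplecticGroup (Fin d) F) (Fin t → Submodule F (Fin d ⊕ Fin d → F)) where
  smul g D := fun j => (D j).map (Matrix.toLin' g.1)
  one_smul D := by
    funext j
    show (D j).map (Matrix.toLin' (1 : Matrix (Fin d ⊕ Fin d) (Fin d ⊕ Fin d) F)) = D j
    rw [Matrix.toLin'_one]
    exact Submodule.map_id _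
  mul_smul g h D := by
    funext j
    show (D j).map (Matrix.toLin' (g.1 * h.1)) =
      ((D j).map (Matrix.toLin' h.1)).map (Matrix.toLin' g.1)
    rw [Matrix.toLin'_mul, Submodule.map_comp]

/-- The number of ordered orthogonal decompositions divides `|Sp|`. -/
theorem sp_card_dvd (d a' t : ℕ) (D₀ : Fin t → Submodule F (Fin d ⊕ Fin d → F))
    (hD₀ : SpDecomp (Cfsg.Agent.S0245.omegaJ d F) (2 * a') D₀) :
    Nat.card {D : Fin t → Submodule F (Fin d ⊕ Fin d → F) //
        SpDecomp (Cfsg.Agent.S0245.omegaJ d F) (2 * a') D} ∣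
      Nat.card (Matrix.symplecticGroup (Fin d) F) := by
  letI := spAct d t F
  have hsmul : ∀ (g : Matrix.symplecticGroup (Fin d) F)
      (D : Fin t → Submodule F (Fin d ⊕ Fin d → F)),
      g • D = fun j => (D j).map (Matrix.toLin' g.1) := fun g D => rfl
  have h1 := card_eq_card_range_mul_card
    (MulAction.stabilizer (Matrix.symplecticGroup (Fin d) F) D₀) (fun g => g • D₀) (by
      intro g g'
      show g • D₀ = g' • D₀ ↔ g⁻¹ * g' ∈ MulAction.stabilizer _ D₀
      rw [MulAction.mem_stabilizer_iff, mul_smul, inv_smul_eq_iff]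
      exact eq_comm)
  have h2 : Set.range (fun g : Matrix.symplecticGroup (Fin d) F => g • D₀) =
      {D | SpDecomp (Cfsg.Agent.S0245.omegaJ d F) (2 * a') D} := by
    ext D
    constructor
    · rintro ⟨g, rfl⟩
      show SpDecomp (Cfsg.Agent.S0245.omegaJ d F) (2 * a') (g • D₀)
      rw [hsmul]
      exact sp_decomp_map (Cfsg.Agent.S0245.omegaJ d F) (Cfsg.Agent.S0245.omegaJ_nondeg d F)
        (Matrix.toLin' g.1) (sp_toLin_isom d g) (2 * a') D₀ hD₀
    · intro hD
      obtain ⟨A, hA⟩ := sp_trans d a' t D₀ D hD₀ hD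
      refine ⟨A, ?_⟩
      show A • D₀ = D
      rw [hsmul]
      funext j
      exact hA j
  rw [h2] at h1
  exact Dvd.intro _ h1.symm

/-- If `r` divides the number of unordered orthogonal decompositions then `c ≤ 2d`. -/
theorem sp_count_le [Fintype F] (d a' t : ℕ) (ha' : 1 ≤ a') (r : ℕ) [Fact r.Prime]
    (hq0 : ((Fintype.card F : ℕ) : ZMod r) ≠ 0) (i c : ℕ)
    (hi : i = orderOf ((Fintype.card F : ℕ) : ZMod r))
    (hc : c = if Even i then i else 2 * i)
    (D₀ : Fin t → Submodule F (Fin d ⊕ Fin d → F))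
    (hD₀ : SpDecomp (Cfsg.Agent.S0245.omegaJ d F) (2 * a') D₀)
    (hΩ : r ∣ Nat.card {D : Fin t → Submodule F (Fin d ⊕ Fin d → F) //
      SpDecomp (Cfsg.Agent.S0245.omegaJ d F) (2 * a') D} / t.factorial) : c ≤ 2 * d := by
  have hr : r.Prime := Fact.out
  have h1 : t.factorial ∣ Nat.card {D : Fin t → Submodule F (Fin d ⊕ Fin d → F) //
      SpDecomp (Cfsg.Agent.S0245.omegaJ d F) (2 * a') D} :=
    sp_factorial_dvd t _ (fun D σ hD => sp_decomp_perm _ _ D hD σ)
      (fun D hD => sp_decomp_inj _ _ (by omega) D hD)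
  have h3 : r ∣ Nat.card {D : Fin t → Submodule F (Fin d ⊕ Fin d → F) //
      SpDecomp (Cfsg.Agent.S0245.omegaJ d F) (2 * a') D} := by
    rw [← Nat.div_mul_cancel h1]
    exact Dvd.dvd.mul_right hΩ _
  have h4 := h3.trans (sp_card_dvd d a' t D₀ hD₀)
  rw [Cfsg.Agent.S0245.result rfl d] at h4
  have hrq : ¬ r ∣ Fintype.card F := by
    rwa [← ZMod.natCast_eq_zero_iff]
  rcases (Nat.Prime.dvd_mul hr).mp h4 with h5 | h5
  · exact absurd (hr.dvd_of_dvd_pow h5) hrq
  · obtain ⟨j, hj, hj2⟩ := (Prime.dvd_finsetProd_iff hr.prime _).mp h5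
    rw [Finset.mem_range] at hj
    have hle : 1 ≤ Fintype.card F ^ (2 * (j + 1)) := Nat.one_le_pow _ _ Fintype.card_pos
    have h6 := (ZMod.natCast_eq_zero_iff _ _).mpr hj2
    rw [Nat.cast_sub hle, Nat.cast_pow, Nat.cast_one, sub_eq_zero] at h6
    have h7 : i ∣ 2 * (j + 1) := by
      rw [hi]
      exact orderOf_dvd_of_pow_eq_one h6
    have h8 : c ≤ 2 * (j + 1) := by
      rw [hc]
      split_ifs with hev
      · exact Nat.le_of_dvd (by omega) h7
      · have hodd : Odd i := Nat.not_even_iff_odd.mp hev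
        have h9 : i ∣ j + 1 :=
          Nat.Coprime.dvd_of_dvd_mul_left (Nat.coprime_two_right.mpr hodd) h7
        have h10 := Nat.le_of_dvd (Nat.succ_pos j) h9
        omega
    omega

end spf

end Cfsg.Agent.Lib.helper24
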