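import Mathlib
import Cfsg.Agent.Lib.helper24.SqA

/-!
# Isometries with scalar square: invariant nondegenerate subspaces
-/

set_option autoImplicit false

namespace Cfsg.Agent.Lib.helper24

open Module

section sqb

variable {F : Type*} [Field F] {V : Type*} [AddCommGroup V] [Module F V]

/-- An eigenvector of an involutory isometry lies in an invariant nondegenerate plane. -/
theorem sq_eigen_plane (ω : V →ₗ[F] V →ₗ[F] F) (halt : ∀ v, ω v v = 0) (h2 : (2 : F) ≠ 0)
    (T : Module.End F V) (hT : ∀ u v, ω (T u) (T v) = ω u v) (hTT : ∀ v, T (T v) = v)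
    (W : Submodule F V) (hW : SpNd ω W) (hWinv : ∀ w ∈ W, T w ∈ W) (v : V) (hv : v ∈ W)
    (hv0 : v ≠ 0) (ε : F) (hε : ε * ε = 1) (hTv : T v = ε • v) :
    ∃ P : Submodule F V, P ≤ W ∧ SpNd ω P ∧ (∀ x ∈ P, T x ∈ P) ∧ finrank F P = 2 := by
  obtain ⟨w, hw, hvw⟩ := sq_partner ω W hW v hv hv0
  have h1 : ω v (T w) = ε * ω v w := by
    have h3 := hT v (T w)
    rw [hTT, hTv, map_smul, LinearMap.smul_apply, smul_eq_mul] at h3
    exact h3.symm
  have hne : ω v (w + ε • T w) ≠ 0 := by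
    rw [map_add, map_smul, smul_eq_mul, h1, ← mul_assoc, hε, one_mul]
    intro h
    have h4 : (2 : F) * ω v w = 0 := by linear_combination h
    rcases mul_eq_zero.mp h4 with h' | h'
    · exact h2 h'
    · exact hvw h'
  have hTw' : T (w + ε • T w) = ε • (w + ε • T w) := by
    rw [map_add, map_smul, hTT, smul_add, smul_smul, hε, one_smul, add_comm]
  obtain ⟨hnd, hdim⟩ := sq_pair ω halt v (w + ε • T w) hne
  refine ⟨Submodule.span F {v, w + ε • T w}, ?_, hnd, ?_, hdim⟩
  · rw [Submodule.span_le]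
    rintro x (rfl | rfl)
    · exact hv
    · exact W.add_mem hw (W.smul_mem _ (hWinv w hw))
  · intro x hx
    obtain ⟨α, β, rfl⟩ := Submodule.mem_span_pair.mp hx
    rw [map_add, map_smul, map_smul, hTv, hTw', Submodule.mem_span_pair]
    exact ⟨α * ε, β * ε, by rw [mul_smul, mul_smul]⟩

/-- An isometry with square `±1` has an invariant nondegenerate plane (odd characteristic). -/
theorem sq_peel2 (ω : V →ₗ[F] V →ₗ[F] F) (halt : ∀ v, ω v v = 0) (h2 : (2 : F) ≠ 0)
    (T : Module.End F V) (hT : ∀ u v, ω (T u) (T v) = ω u v) (z : F) (hz : z = 1 ∨ z = -1)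
    (hTT : ∀ v, T (T v) = z • v) (W : Submodule F V) (hW : SpNd ω W)
    (hWinv : ∀ w ∈ W, T w ∈ W) (hne : W ≠ ⊥) :
    ∃ P : Submodule F V, P ≤ W ∧ SpNd ω P ∧ (∀ x ∈ P, T x ∈ P) ∧ finrank F P = 2 := by
  obtain ⟨u, hu, hu0⟩ := Submodule.exists_mem_ne_zero_of_ne_bot hne
  rcases hz with rfl | rfl
  · have hTT1 : ∀ v, T (T v) = v := fun v => by rw [hTT, one_smul]
    by_cases h : T u + u = 0
    · refine sq_eigen_plane ω halt h2 T hT hTT1 W hW hWinv u hu hu0 (-1) (by ring) ?_
      rw [neg_one_smul]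
      exact eq_neg_of_add_eq_zero_left h
    · refine sq_eigen_plane ω halt h2 T hT hTT1 W hW hWinv (T u + u)
        (W.add_mem (hWinv u hu) hu) h 1 (by ring) ?_
      rw [map_add, hTT1, one_smul, add_comm]
  · have hTTn : ∀ v, T (T v) = - v := fun v => by rw [hTT, neg_one_smul]
    have hex : ∃ v ∈ W, ω v (T v) ≠ 0 := by
      by_contra hcon
      push Not at hcon
      obtain ⟨w, hw, huw⟩ := sq_partner ω W hW u hu hu0
      have h3 := hcon (u + T w) (W.add_mem hu (hWinv w hw))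
      have h4 := hcon u hu
      have h5 := hcon (T w) (hWinv w hw)
      simp only [map_add, LinearMap.add_apply] at h3
      rw [h4, h5, hTTn w, map_neg, hT w u, sp_skew ω halt w u] at h3
      have h6 : (2 : F) * ω u w = 0 := by linear_combination -h3
      rcases mul_eq_zero.mp h6 with h' | h'
      · exact h2 h'
      · exact huw h'
    obtain ⟨v, hv, hvT⟩ := hex
    obtain ⟨hnd, hdim⟩ := sq_pair ω halt v (T v) hvT
    refine ⟨Submodule.span F {v, T v}, ?_, hnd, ?_, hdim⟩
    · rw [Submodule.span_le]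
      rintro x (rfl | rfl)
      · exact hv
      · exact hWinv _ hv
    · intro x hx
      obtain ⟨α, β, rfl⟩ := Submodule.mem_span_pair.mp hx
      rw [map_add, map_smul, map_smul, hTTn, Submodule.mem_span_pair]
      exact ⟨-β, α, by rw [neg_smul, smul_neg]; abel⟩

/-- Isometries with square `±1` fix nondegenerate subspaces of every even dimension. -/
theorem sq_inv2 [FiniteDimensional F V] (ω : V →ₗ[F] V →ₗ[F] F) (halt : ∀ v, ω v v = 0)
    (h2 : (2 : F) ≠ 0) (T : Module.End F V) (hT : ∀ u v, ω (T u) (T v) = ω u v) (z : F)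
    (hz : z = 1 ∨ z = -1) (hTT : ∀ v, T (T v) = z • v) (r : ℕ) (hr : 1 ≤ r) (hTr : T ^ r = 1) :
    ∀ (j : ℕ) (W : Submodule F V), SpNd ω W → (∀ w ∈ W, T w ∈ W) → 2 * j ≤ finrank F W →
      ∃ D : Submodule F V, D ≤ W ∧ SpNd ω D ∧ (∀ d ∈ D, T d ∈ D) ∧ finrank F D = 2 * j := by
  intro j
  induction j with
  | zero =>
    intro W _ _ _
    refine ⟨⊥, bot_le, sq_bot_nd ω, fun d hd => ?_, by rw [finrank_bot]⟩
    rw [(Submodule.mem_bot F).mp hd, map_zero]
    exact Submodule.zero_mem _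
  | succ j ih =>
    intro W hW hWinv hj
    have hne : W ≠ ⊥ := by
      rintro rfl
      rw [finrank_bot] at hj
      omega
    obtain ⟨P, hPW, hP, hPinv, hPdim⟩ := sq_peel2 ω halt h2 T hT z hz hTT W hW hWinv hne
    obtain ⟨hW'nd, hsup, hinf, hdim⟩ := sq_rel ω halt W P hW hP hPW
    have hPmap : P.map T = P := sq_map_eq T r hr hTr P hPinv
    have hW'inv : ∀ w ∈ spPerp ω P ⊓ W, T w ∈ spPerp ω P ⊓ W := by
      intro w hw
      obtain ⟨hw1, hw2⟩ := Submodule.mem_inf.mp hw
      exact Submodule.mem_inf.mpr ⟨sp_perp_inv ω T hT P hPmap w hw1, hWinv w hw2⟩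
    obtain ⟨D', hD'W, hD', hD'inv, hD'dim⟩ := ih (spPerp ω P ⊓ W) hW'nd hW'inv (by omega)
    have horth : ∀ u ∈ P, ∀ v ∈ D', ω u v = 0 :=
      fun u hu v hv => (Submodule.mem_inf.mp (hD'W hv)).1 u hu
    obtain ⟨hDnd, hDdim⟩ := sq_sum ω halt P D' hP hD' horth
    refine ⟨P ⊔ D', sup_le hPW (hD'W.trans inf_le_right), hDnd,
      sq_sup_inv T P D' hPinv hD'inv, ?_⟩
    rw [hDdim, hPdim, hD'dim]
    ring

/-! ### Characteristic 2 -/

theorem sq_c2_nn (h2 : (2 : F) = 0) (T : Module.End F V) (hTT : ∀ v, T (T v) = v) (v : V) :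
    T (T v - v) = T v - v := by
  rw [map_sub, hTT]
  have h1 : (2 : F) • (v - T v) = 0 := by rw [h2, zero_smul]
  rw [two_smul] at h1
  have h3 : v - T v = (T v - v) + ((v - T v) + (v - T v)) := by abel
  rw [h3, h1, add_zero]

theorem sq_c2_adj (ω : V →ₗ[F] V →ₗ[F] F) (T : Module.End F V)
    (hT : ∀ u v, ω (T u) (T v) = ω u v) (hTT : ∀ v, T (T v) = v) (u v : V) :
    ω u (T v - v) = ω (T u - u) v := by
  have h1 : ω (T u) v = ω u (T v) := by
    have h3 := hT u (T v)
    rw [hTT] at h3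
    exact h3
  rw [map_sub, map_sub, LinearMap.sub_apply, h1]

theorem sq_c2_nn_orth (ω : V →ₗ[F] V →ₗ[F] F) (h2 : (2 : F) = 0) (T : Module.End F V)
    (hT : ∀ u v, ω (T u) (T v) = ω u v) (hTT : ∀ v, T (T v) = v) (u v : V) :
    ω (T u - u) (T v - v) = 0 := by
  have h1 : ω (T u) v = ω u (T v) := by
    have h3 := hT u (T v)
    rw [hTT] at h3
    exact h3
  simp only [map_sub, LinearMap.sub_apply]
  rw [hT, h1]
  linear_combination (ω u v - ω u (T v)) * h2

/-- An involutory isometry in characteristic 2 has an invariant nondegenerate subspace of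
dimension 2 or 4. -/
theorem sq_peel_c2 (ω : V →ₗ[F] V →ₗ[F] F) (halt : ∀ v, ω v v = 0) (h2 : (2 : F) = 0)
    (T : Module.End F V) (hT : ∀ u v, ω (T u) (T v) = ω u v) (hTT : ∀ v, T (T v) = v)
    (W : Submodule F V) (hW : SpNd ω W) (hWinv : ∀ w ∈ W, T w ∈ W) (hne : W ≠ ⊥)
    [FiniteDimensional F V] :
    ∃ U : Submodule F V, U ≤ W ∧ SpNd ω U ∧ (∀ x ∈ U, T x ∈ U) ∧
      (finrank F U = 2 ∨ finrank F U = 4) := by
  by_cases h : ∃ v ∈ W, ω v (T v - v) ≠ 0
  · obtain ⟨v, hv, hvN⟩ := h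
    obtain ⟨hnd, hdim⟩ := sq_pair ω halt v (T v - v) hvN
    refine ⟨Submodule.span F {v, T v - v}, ?_, hnd, ?_, Or.inl hdim⟩
    · rw [Submodule.span_le]
      rintro x (rfl | rfl)
      · exact hv
      · exact W.sub_mem (hWinv _ hv) hv
    · intro x hx
      obtain ⟨α, β, rfl⟩ := Submodule.mem_span_pair.mp hx
      rw [map_add, map_smul, map_smul, sq_c2_nn h2 T hTT, Submodule.mem_span_pair]
      exact ⟨α, α + β, by module⟩
  · push Not at h
    by_cases hN : ∃ v ∈ W, T v - v ≠ 0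
    · obtain ⟨v, hv, hNv⟩ := hN
      have hNvW : T v - v ∈ W := W.sub_mem (hWinv _ hv) hv
      obtain ⟨w, hw, hb⟩ := sq_partner ω W hW (T v - v) hNvW hNv
      have hNwW : T w - w ∈ W := W.sub_mem (hWinv _ hw) hw
      obtain ⟨b, hbdef⟩ : ∃ b, b = ω (T v - v) w := ⟨_, rfl⟩
      obtain ⟨α, hαdef⟩ : ∃ α, α = ω v w := ⟨_, rfl⟩
      rw [← hbdef] at hb
      have hvNw : ω v (T w - w) = b := by rw [sq_c2_adj ω T hT hTT, hbdef]
      obtain ⟨e₂, he₂⟩ : ∃ e₂, e₂ = w + (α / b) • (T w - w) := ⟨_, rfl⟩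
      have he₂W : e₂ ∈ W := by
        rw [he₂]
        exact W.add_mem hw (W.smul_mem _ hNwW)
      have h11 : ω v (T w - w) ≠ 0 := by rw [hvNw]; exact hb
      have hwNv : ω w (T v - v) = - b := by rw [sp_skew ω halt, hbdef]
      have hNN : ω (T w - w) (T v - v) = 0 := sq_c2_nn_orth ω h2 T hT hTT w v
      have h22 : ω e₂ (T v - v) ≠ 0 := by
        rw [he₂, map_add, LinearMap.add_apply, map_smul, LinearMap.smul_apply, hNN, smul_zero,
          add_zero, hwNv]
        exact neg_ne_zero.mpr hb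
      obtain ⟨hnd1, hdim1⟩ := sq_pair ω halt v (T w - w) h11
      obtain ⟨hnd2, hdim2⟩ := sq_pair ω halt e₂ (T v - v) h22
      have o1 : ω v e₂ = 0 := by
        rw [he₂, map_add, map_smul, hvNw, ← hαdef, smul_eq_mul, div_mul_cancel₀ _ hb]
        linear_combination α * h2
      have o2 : ω v (T v - v) = 0 := h v hv
      have o3 : ω (T w - w) e₂ = 0 := by
        rw [he₂, map_add, map_smul, halt, smul_zero, add_zero, sp_skew ω halt, h w hw, neg_zero]
      have o4 : ω (T w - w) (T v - v) = 0 := hNN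
      have horth : ∀ x ∈ Submodule.span F {v, T w - w}, ∀ y ∈ Submodule.span F {e₂, T v - v},
          ω x y = 0 := by
        intro x hx y hy
        obtain ⟨a₁, b₁, rfl⟩ := Submodule.mem_span_pair.mp hx
        obtain ⟨a₂, b₂, rfl⟩ := Submodule.mem_span_pair.mp hy
        simp only [map_add, map_smul, LinearMap.add_apply, LinearMap.smul_apply, o1, o2, o3, o4,
          smul_zero, add_zero]
      obtain ⟨hnd, hdim⟩ := sq_sum ω halt _ _ hnd1 hnd2 horth
      have hle1 : Submodule.span F {v, T w - w} ≤ W := by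
        rw [Submodule.span_le]
        rintro x (rfl | rfl)
        · exact hv
        · exact hNwW
      have hle2 : Submodule.span F {e₂, T v - v} ≤ W := by
        rw [Submodule.span_le]
        rintro x (rfl | rfl)
        · exact he₂W
        · exact hNvW
      have hTe₂ : T e₂ = e₂ + (T w - w) := by
        rw [he₂, map_add, map_smul, sq_c2_nn h2 T hTT]
        abel
      refine ⟨Submodule.span F {v, T w - w} ⊔ Submodule.span F {e₂, T v - v}, sup_le hle1 hle2,
        hnd, ?_, Or.inr (by rw [hdim, hdim1, hdim2])⟩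
      intro x hx
      obtain ⟨x₁, hx₁, x₂, hx₂, rfl⟩ := Submodule.mem_sup.mp hx
      obtain ⟨a₁, b₁, rfl⟩ := Submodule.mem_span_pair.mp hx₁
      obtain ⟨a₂, b₂, rfl⟩ := Submodule.mem_span_pair.mp hx₂
      have hv1 : v ∈ Submodule.span F {v, T w - w} := Submodule.subset_span (by simp)
      have hv2 : T w - w ∈ Submodule.span F {v, T w - w} := Submodule.subset_span (by simp)
      have hv3 : e₂ ∈ Submodule.span F {e₂, T v - v} := Submodule.subset_span (by simp)
      have hv4 : T v - v ∈ Submodule.span F {e₂, T v - v} := Submodule.subset_span (by simp)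
      have hexp : T (a₁ • v + b₁ • (T w - w) + (a₂ • e₂ + b₂ • (T v - v))) =
          (a₁ • v + (b₁ + a₂) • (T w - w)) + (a₂ • e₂ + (a₁ + b₂) • (T v - v)) := by
        simp only [map_add, map_smul, sq_c2_nn h2 T hTT, hTe₂]
        have h9 : T v = v + (T v - v) := by abel
        rw [h9]
        module
      rw [hexp]
      exact Submodule.add_mem_sup
        (Submodule.add_mem _ (Submodule.smul_mem _ _ hv1) (Submodule.smul_mem _ _ hv2))
        (Submodule.add_mem _ (Submodule.smul_mem _ _ hv3) (Submodule.smul_mem _ _ hv4))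
    · push Not at hN
      obtain ⟨u, hu, hu0⟩ := Submodule.exists_mem_ne_zero_of_ne_bot hne
      obtain ⟨w, hw, huw⟩ := sq_partner ω W hW u hu hu0
      obtain ⟨hnd, hdim⟩ := sq_pair ω halt u w huw
      have hle : Submodule.span F {u, w} ≤ W := by
        rw [Submodule.span_le]
        rintro x (rfl | rfl)
        · exact hu
        · exact hw
      refine ⟨Submodule.span F {u, w}, hle, hnd, ?_, Or.inl hdim⟩
      intro x hx
      have h3 := hN x (hle hx)
      rw [sub_eq_zero] at h3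
      rw [h3]
      exact hx

/-- Involutory isometries in characteristic 2: sufficiency. -/
theorem sq_c2_suff [FiniteDimensional F V] (ω : V →ₗ[F] V →ₗ[F] F) (halt : ∀ v, ω v v = 0)
    (h2 : (2 : F) = 0) (T : Module.End F V) (hT : ∀ u v, ω (T u) (T v) = ω u v)
    (hTr : T ^ 2 = 1) :
    ∀ (n : ℕ) (W : Submodule F V), finrank F W ≤ n → SpNd ω W → (∀ w ∈ W, T w ∈ W) →
      ∀ j, 2 * j ≤ finrank F W → (Even j ∨ finrank F W % 4 = 2) →
      ∃ D : Submodule F V, D ≤ W ∧ SpNd ω D ∧ (∀ d ∈ D, T d ∈ D) ∧ finrank F D = 2 * j := by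
  have hTT : ∀ v, T (T v) = v := by
    intro v
    have h1 := congrArg (fun φ : Module.End F V => φ v) hTr
    simpa [pow_two] using h1
  have hbot : ∀ W : Submodule F V, ∃ D : Submodule F V, D ≤ W ∧ SpNd ω D ∧ (∀ d ∈ D, T d ∈ D) ∧
      finrank F D = 2 * 0 := by
    intro W
    refine ⟨⊥, bot_le, sq_bot_nd ω, fun d hd => ?_, by rw [finrank_bot]⟩
    rw [(Submodule.mem_bot F).mp hd, map_zero]
    exact Submodule.zero_mem _
  intro n
  induction n with
  | zero =>
    intro W hWn hW hWinv j hj _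
    have hj0 : j = 0 := by omega
    subst hj0
    exact hbot W
  | succ n ih =>
    intro W hWn hW hWinv j hj hcond
    rcases Nat.eq_zero_or_pos j with hj0 | hjpos
    · subst hj0
      exact hbot W
    have hne : W ≠ ⊥ := by
      rintro rfl
      rw [finrank_bot] at hj
      omega
    have hev : Even (finrank F W) := sp_even ω halt W hW
    obtain ⟨U, hUW, hU, hUinv, hUdim⟩ := sq_peel_c2 ω halt h2 T hT hTT W hW hWinv hne
    obtain ⟨hW'nd, hsup, hinf, hdim⟩ := sq_rel ω halt W U hW hU hUW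
    have hUmap : U.map T = U := sq_map_eq T 2 (by omega) hTr U hUinv
    have hW'inv : ∀ w ∈ spPerp ω U ⊓ W, T w ∈ spPerp ω U ⊓ W := by
      intro w hw
      obtain ⟨hw1, hw2⟩ := Submodule.mem_inf.mp hw
      exact Submodule.mem_inf.mpr ⟨sp_perp_inv ω T hT U hUmap w hw1, hWinv w hw2⟩
    have hglue : ∀ (j' : ℕ) (D' : Submodule F V), D' ≤ spPerp ω U ⊓ W → SpNd ω D' →
        (∀ d ∈ D', T d ∈ D') → finrank F D' = 2 * j' →
        ∃ D : Submodule F V, D ≤ W ∧ SpNd ω D ∧ (∀ d ∈ D, T d ∈ D) ∧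
          finrank F D = finrank F U + 2 * j' := by
      intro j' D' hD'W hD' hD'inv hD'dim
      have horth : ∀ u ∈ U, ∀ v ∈ D', ω u v = 0 :=
        fun u hu v hv => (Submodule.mem_inf.mp (hD'W hv)).1 u hu
      obtain ⟨hDnd, hDdim⟩ := sq_sum ω halt U D' hU hD' horth
      exact ⟨U ⊔ D', sup_le hUW (hD'W.trans inf_le_right), hDnd,
        sq_sup_inv T U D' hUinv hD'inv, by rw [hDdim, hD'dim]⟩
    obtain ⟨e, he⟩ := hev
    rcases hUdim with hU2 | hU4
    · by_cases hje : Even j
      · by_cases hfull : 2 * j = finrank F W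
        · exact ⟨W, le_refl W, hW, hWinv, hfull.symm⟩
        · obtain ⟨D', hD'W, hD', hD'inv, hD'dim⟩ := ih (spPerp ω U ⊓ W) (by omega) hW'nd hW'inv j
            (by omega) (Or.inl hje)
          exact ⟨D', hD'W.trans inf_le_right, hD', hD'inv, hD'dim⟩
      · have hmod : finrank F W % 4 = 2 := by
          rcases hcond with h | h
          · exact absurd h hje
          · exact h
        have hjo : Odd j := Nat.not_even_iff_odd.mp hje
        obtain ⟨j₀, hj₀⟩ := hjo
        obtain ⟨D', hD'W, hD', hD'inv, hD'dim⟩ := ih (spPerp ω U ⊓ W) (by omega) hW'nd hW'inv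
          (2 * j₀) (by omega) (Or.inl (even_two_mul j₀))
        obtain ⟨D, hDW, hD, hDinv, hDdim⟩ := hglue (2 * j₀) D' hD'W hD' hD'inv hD'dim
        exact ⟨D, hDW, hD, hDinv, by rw [hDdim, hU2, hj₀]; ring⟩
    · by_cases hj2 : 2 ≤ j
      · have hcond' : Even (j - 2) ∨ finrank F ↥(spPerp ω U ⊓ W) % 4 = 2 := by
          rcases hcond with h | h
          · left
            obtain ⟨j₀, hj₀⟩ := h
            exact ⟨j₀ - 1, by omega⟩
          · right
            omega
        obtain ⟨D', hD'W, hD', hD'inv, hD'dim⟩ := ih (spPerp ω U ⊓ W) (by omega) hW'nd hW'inv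
          (j - 2) (by omega) hcond'
        obtain ⟨D, hDW, hD, hDinv, hDdim⟩ := hglue (j - 2) D' hD'W hD' hD'inv hD'dim
        exact ⟨D, hDW, hD, hDinv, by rw [hDdim, hU4]; omega⟩
      · have hj1 : j = 1 := by omega
        subst hj1
        have hmod : finrank F W % 4 = 2 := by
          rcases hcond with h | h
          · exact absurd h (by decide)
          · exact h
        obtain ⟨D', hD'W, hD', hD'inv, hD'dim⟩ := ih (spPerp ω U ⊓ W) (by omega) hW'nd hW'inv 1
          (by omega) (Or.inr (by omega))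
        exact ⟨D', hD'W.trans inf_le_right, hD', hD'inv, hD'dim⟩

/-- Involutory isometries in characteristic 2 with totally isotropic fixed space and alternating
`ω(v, Tv - v)`: invariant nondegenerate subspaces have dimension divisible by 4. -/
theorem sq_c2_nec [FiniteDimensional F V] (ω : V →ₗ[F] V →ₗ[F] F) (halt : ∀ v, ω v v = 0)
    (h2 : (2 : F) = 0) (T : Module.End F V) (hT : ∀ u v, ω (T u) (T v) = ω u v)
    (hTT : ∀ v, T (T v) = v) (hiso : ∀ u v, T u = u → T v = v → ω u v = 0)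
    (hβ : ∀ v, ω v (T v - v) = 0) (W : Submodule F V) (hW : SpNd ω W)
    (hWinv : ∀ w ∈ W, T w ∈ W) (j : ℕ) (hdim : finrank F W = 2 * j) : Even j := by
  obtain ⟨K, hK⟩ : ∃ K : Submodule F V, K = LinearMap.ker (T - 1) ⊓ W := ⟨_, rfl⟩
  have hKmem : ∀ x, x ∈ K ↔ T x = x ∧ x ∈ W := by
    intro x
    rw [hK, Submodule.mem_inf, LinearMap.mem_ker, LinearMap.sub_apply, Module.End.one_apply,
      sub_eq_zero]
  have hKW : K ≤ W := by
    rw [hK]
    exact inf_le_right
  have hKti : ∀ u ∈ K, ∀ v ∈ K, ω u v = 0 :=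
    fun u hu v hv => hiso u v ((hKmem u).mp hu).1 ((hKmem v).mp hv).1
  have h1 : 2 * finrank F K ≤ finrank F W := sq_ti_le ω W K hW hKW hKti
  have h3 := sq_rank_nullity (T - 1) W
  rw [← hK] at h3
  have h4 : W.map (T - 1) ≤ K := by
    rintro _ ⟨w, hw, rfl⟩
    rw [hKmem, LinearMap.sub_apply, Module.End.one_apply]
    exact ⟨sq_c2_nn h2 T hTT w, W.sub_mem (hWinv w hw) hw⟩
  have h5 := Submodule.finrank_mono h4
  have hKdim : finrank F K = j := by omega
  obtain ⟨C, hCW, hinf, hsup⟩ := sq_exists_compl K W hKW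
  have h6 := Submodule.finrank_sup_add_finrank_inf_eq K C
  rw [hsup, hinf, finrank_bot, add_zero] at h6
  have hCdim : finrank F C = j := by omega
  have hβ' : ∀ v, (ω.compl₂ (T - 1)) v v = 0 := by
    intro v
    rw [LinearMap.compl₂_apply, LinearMap.sub_apply, Module.End.one_apply]
    exact hβ v
  have hCnd : SpNd (ω.compl₂ (T - 1)) C := by
    intro c hc hc2
    have hc0 : T c - c = 0 := by
      apply hW (T c - c) (W.sub_mem (hWinv c (hCW hc)) (hCW hc))
      intro w hw
      rw [← hsup] at hw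
      obtain ⟨k, hk, c₂, hc₂, rfl⟩ := Submodule.mem_sup.mp hw
      rw [← sq_c2_adj ω T hT hTT]
      have h7 := hc2 c₂ hc₂
      rw [LinearMap.compl₂_apply, LinearMap.sub_apply, Module.End.one_apply] at h7
      have h8 : T (k + c₂) - (k + c₂) = T c₂ - c₂ := by
        rw [map_add, ((hKmem k).mp hk).1]
        abel
      rw [h8]
      exact h7
    have hcK : c ∈ K := (hKmem c).mpr ⟨sub_eq_zero.mp hc0, hCW hc⟩
    have hc3 : c ∈ K ⊓ C := Submodule.mem_inf.mpr ⟨hcK, hc⟩
    rw [hinf] at hc3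
    exact (Submodule.mem_bot F).mp hc3
  have h8 := sp_even (ω.compl₂ (T - 1)) hβ' C hCnd
  rw [hCdim] at h8
  exact h8

end sqb

end Cfsg.Agent.Lib.helper24
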