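import Mathlib
import Cfsg.Agent.Lib.helper24.SqB
import Cfsg.Agent.Lib.helper24.SqE
import Cfsg.Agent.Lib.helper24.SpF

/-!
# The standard symplectic space: counting nondegenerate subspaces, a special involution
-/

set_option autoImplicit false

namespace Cfsg.Agent.Lib.helper24

open Module Matrix Cfsg.Agent.Lib.helper50 Cfsg.Agent.Lib.helper17

section sqf

variable {F : Type*} [Field F]

theorem sq_toLin_inv (d : ℕ) (g : Matrix.symplecticGroup (Fin d) F) (v : Fin d ⊕ Fin d → F) :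
    Matrix.toLin' g⁻¹.1 (Matrix.toLin' g.1 v) = v := by
  have h1 : Matrix.toLin' (g⁻¹ * g).1 = Matrix.toLin' g⁻¹.1 ∘ₗ Matrix.toLin' g.1 :=
    Matrix.toLin'_mul g⁻¹.1 g.1
  rw [← LinearMap.comp_apply, ← h1, inv_mul_cancel]
  show Matrix.toLin' (1 : Matrix (Fin d ⊕ Fin d) (Fin d ⊕ Fin d) F) v = v
  rw [Matrix.toLin'_one]
  rfl

theorem sq_toLin_inv' (d : ℕ) (g : Matrix.symplecticGroup (Fin d) F) (v : Fin d ⊕ Fin d → F) :
    Matrix.toLin' g.1 (Matrix.toLin' g⁻¹.1 v) = v := by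
  have h1 := sq_toLin_inv d g⁻¹ v
  rw [inv_inv] at h1
  exact h1

theorem sq_toLin_mul (d : ℕ) (g h : Matrix.symplecticGroup (Fin d) F) (v : Fin d ⊕ Fin d → F) :
    (g * h).1 *ᵥ v = Matrix.toLin' g.1 (Matrix.toLin' h.1 v) := by
  rw [← Matrix.toLin'_apply]
  have h1 : Matrix.toLin' (g * h).1 = Matrix.toLin' g.1 ∘ₗ Matrix.toLin' h.1 :=
    Matrix.toLin'_mul g.1 h.1
  rw [h1]
  rfl

/-- Images of the standard nondegenerate subspace. -/
theorem sq_std_map (k e : ℕ) (W : Submodule F (Fin (k + e) ⊕ Fin (k + e) → F))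
    (hWdim : finrank F W = 2 * k) (hW : SpNd (Cfsg.Agent.S0245.omegaJ (k + e) F) W) :
    ∃ A : Matrix.symplecticGroup (Fin (k + e)) F,
      (stdSub F (k + e) k).map (Matrix.toLin' A.1) = W := by
  obtain ⟨A, hA⟩ := exists_sp_map_stdSub k e W hWdim (by
    intro u hu hu2
    apply hW u hu
    intro v hv
    rw [sp_omega_eq]
    exact hu2 v hv)
  refine ⟨A, ?_⟩
  apply le_antisymm
  · rintro _ ⟨w, hw, rfl⟩
    rw [Matrix.toLin'_apply]
    exact (hA w).mp hw
  · intro w hw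
    refine ⟨Matrix.toLin' A⁻¹.1 w, ?_, sq_toLin_inv' (k + e) A w⟩
    show Matrix.toLin' A⁻¹.1 w ∈ stdSub F (k + e) k
    rw [hA, ← Matrix.toLin'_apply, sq_toLin_inv']
    exact hw

theorem sq_std_dim (k e : ℕ) : finrank F (stdSub F (k + e) k) = 2 * k := by
  obtain ⟨W, hW, hWdim⟩ := sp_exists_nd k (Fin (k + e) ⊕ Fin (k + e) → F)
    (Cfsg.Agent.S0245.omegaJ (k + e) F) (Cfsg.Agent.S0245.omegaJ_alt (k + e) F)
    (Cfsg.Agent.S0245.omegaJ_nondeg (k + e) F) (by rw [sp_finrank_std]; omega)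
  obtain ⟨A, hA⟩ := sq_std_map k e W hWdim hW
  have hinj : Function.Injective (Matrix.toLin' A.1) := by
    intro u v huv
    have h1 := congrArg (Matrix.toLin' A⁻¹.1) huv
    rwa [sq_toLin_inv, sq_toLin_inv] at h1
  rw [← hWdim, ← hA]
  exact (Submodule.equivMapOfInjective _ hinj _).finrank_eq

theorem sq_std_nd (k e : ℕ) : SpNd (Cfsg.Agent.S0245.omegaJ (k + e) F) (stdSub F (k + e) k) := by
  intro u hu hu2
  by_contra hu0
  obtain ⟨w, hw, hne⟩ := stdSub_nondeg (k + e) k u hu hu0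
  apply hne
  rw [← sp_omega_eq]
  exact hu2 w hw

/-- The number of nondegenerate `2k`-subspaces of the standard symplectic space. -/
theorem sq_count (k e : ℕ) :
    Nat.card {W : Submodule F (Fin (k + e) ⊕ Fin (k + e) → F) //
        finrank F W = 2 * k ∧ SpNd (Cfsg.Agent.S0245.omegaJ (k + e) F) W} *
      (Nat.card (Matrix.symplecticGroup (Fin k) F) *
        Nat.card (Matrix.symplecticGroup (Fin e) F)) =
    Nat.card (Matrix.symplecticGroup (Fin (k + e)) F) := by
  classical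
  obtain ⟨W₀, hW₀⟩ : ∃ W₀, W₀ = stdSub F (k + e) k := ⟨_, rfl⟩
  obtain ⟨f, hf⟩ : ∃ f : Matrix.symplecticGroup (Fin (k + e)) F →
      Submodule F (Fin (k + e) ⊕ Fin (k + e) → F),
      f = fun g => W₀.map (Matrix.toLin' g.1) := ⟨_, rfl⟩
  have hfiber : ∀ g g', f g = f g' ↔ g⁻¹ * g' ∈ Cfsg.stabilizing (Cfsg.spToMat (k + e) F)
      (W₀ : Set (Fin (k + e) ⊕ Fin (k + e) → F)) := by
    intro g g'
    rw [hf]
    show W₀.map (Matrix.toLin' g.1) = W₀.map (Matrix.toLin' g'.1) ↔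
      ∀ v, v ∈ (W₀ : Set (Fin (k + e) ⊕ Fin (k + e) → F)) ↔
        (g⁻¹ * g').1 *ᵥ v ∈ (W₀ : Set (Fin (k + e) ⊕ Fin (k + e) → F))
    constructor
    · intro h v
      rw [sq_toLin_mul, SetLike.mem_coe, SetLike.mem_coe]
      constructor
      · intro hv
        have h1 : Matrix.toLin' g'.1 v ∈ W₀.map (Matrix.toLin' g.1) := by
          rw [h]
          exact Submodule.mem_map_of_mem hv
        obtain ⟨w, hw, hwe⟩ := h1
        rw [← hwe, sq_toLin_inv]
        exact hw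
      · intro hv
        have h1 : Matrix.toLin' g'.1 v ∈ W₀.map (Matrix.toLin' g'.1) := by
          rw [← h]
          exact ⟨_, hv, sq_toLin_inv' (k + e) g _⟩
        obtain ⟨w, hw, hwe⟩ := h1
        have h2 : w = v := by
          have h3 := congrArg (Matrix.toLin' g'⁻¹.1) hwe
          rwa [sq_toLin_inv, sq_toLin_inv] at h3
        rw [← h2]
        exact hw
    · intro h
      apply le_antisymm
      · rintro _ ⟨w, hw, rfl⟩
        refine ⟨Matrix.toLin' g'⁻¹.1 (Matrix.toLin' g.1 w), ?_, sq_toLin_inv' (k + e) g' _⟩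
        have h1 := (h (Matrix.toLin' g'⁻¹.1 (Matrix.toLin' g.1 w))).mpr
        apply h1
        rw [sq_toLin_mul, sq_toLin_inv', sq_toLin_inv]
        exact hw
      · rintro _ ⟨w, hw, rfl⟩
        refine ⟨Matrix.toLin' g⁻¹.1 (Matrix.toLin' g'.1 w), ?_, sq_toLin_inv' (k + e) g _⟩
        have h1 := (h w).mp hw
        rw [sq_toLin_mul] at h1
        exact h1
  have h1 := card_eq_card_range_mul_card _ f hfiber
  have hrange : Set.range f = {W : Submodule F (Fin (k + e) ⊕ Fin (k + e) → F) |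
      finrank F W = 2 * k ∧ SpNd (Cfsg.Agent.S0245.omegaJ (k + e) F) W} := by
    ext W
    constructor
    · rintro ⟨g, rfl⟩
      rw [hf]
      have hinj : Function.Injective (Matrix.toLin' g.1) := by
        intro u v huv
        have h1 := congrArg (Matrix.toLin' g⁻¹.1) huv
        rwa [sq_toLin_inv, sq_toLin_inv] at h1
      refine ⟨?_, ?_⟩
      · rw [← sq_std_dim (F := F) k e, ← hW₀]
        exact (Submodule.equivMapOfInjective _ hinj _).finrank_eq.symm
      · intro u hu hu2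
        obtain ⟨u₀, hu₀, rfl⟩ := hu
        have h3 : u₀ = 0 := by
          rw [hW₀] at hu₀
          apply sq_std_nd k e u₀ hu₀
          intro v hv
          rw [← sp_toLin_isom (k + e) g]
          apply hu2
          rw [hW₀]
          exact Submodule.mem_map_of_mem hv
        rw [h3, map_zero]
    · rintro ⟨hWdim, hWnd⟩
      obtain ⟨A, hA⟩ := sq_std_map k e W hWdim hWnd
      refine ⟨A, ?_⟩
      rw [hf, hW₀]
      exact hA
  rw [hrange, hW₀, ← Nat.card_congr (stabStdEquiv k e).toEquiv, Nat.card_prod] at h1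
  exact h1.symm

/-- If `r` divides the number of nondegenerate `2k`-subspaces, some `q^{2j} - 1` with
`e < j ≤ k + e` is divisible by `r`. -/
theorem sq_count_arith [Fintype F] (k e : ℕ) (r : ℕ) [Fact r.Prime]
    (hrq : ¬ r ∣ Fintype.card F)
    (hΩ : r ∣ Nat.card {W : Submodule F (Fin (k + e) ⊕ Fin (k + e) → F) //
        finrank F W = 2 * k ∧ SpNd (Cfsg.Agent.S0245.omegaJ (k + e) F) W}) :
    ∃ j, e < j ∧ j ≤ k + e ∧ r ∣ Fintype.card F ^ (2 * j) - 1 := by
  have hr : r.Prime := Fact.out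
  have h1 := sq_count (F := F) k e
  rw [Cfsg.Agent.S0245.result rfl (k + e), Cfsg.Agent.S0245.result rfl e, Nat.add_comm k e,
    Finset.prod_range_add] at h1
  obtain ⟨q, hq⟩ : ∃ q, q = Fintype.card F := ⟨_, rfl⟩
  rw [← hq] at h1 hrq ⊢
  have hq2 : 2 ≤ q := by
    rw [hq]
    exact Fintype.one_lt_card
  have hPpos : 0 < ∏ i ∈ Finset.range e, (q ^ (2 * (i + 1)) - 1) := by
    apply Finset.prod_pos
    intro i _
    have h3 : 2 ≤ q ^ (2 * (i + 1)) := by
      calc 2 ≤ q := hq2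
        _ = q ^ 1 := (pow_one q).symm
        _ ≤ q ^ (2 * (i + 1)) := Nat.pow_le_pow_right (by omega) (by omega)
    omega
  have h2 : Nat.card {W : Submodule F (Fin (e + k) ⊕ Fin (e + k) → F) //
        finrank F W = 2 * k ∧ SpNd (Cfsg.Agent.S0245.omegaJ (e + k) F) W} *
      (Nat.card (Matrix.symplecticGroup (Fin k) F) * q ^ (e ^ 2)) =
      q ^ ((e + k) ^ 2) * ∏ i ∈ Finset.range k, (q ^ (2 * (e + i + 1)) - 1) := by
    apply Nat.eq_of_mul_eq_mul_right hPpos
    have key : ∀ a b c d f g : ℕ, a * (b * (c * d)) = f * (d * g) → a * (b * c) * d = f * g * d := by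
      intro a b c d f g h
      calc a * (b * c) * d = a * (b * (c * d)) := by ring
        _ = f * (d * g) := h
        _ = f * g * d := by ring
    exact key _ _ _ _ _ _ h1
  rw [Nat.add_comm k e] at hΩ
  have h3 : r ∣ q ^ ((e + k) ^ 2) * ∏ i ∈ Finset.range k, (q ^ (2 * (e + i + 1)) - 1) := by
    rw [← h2]
    exact Dvd.dvd.mul_right hΩ _
  rcases (Nat.Prime.dvd_mul hr).mp h3 with h5 | h5
  · exact absurd (hr.dvd_of_dvd_pow h5) hrq
  · obtain ⟨j, hj, hj2⟩ := (Prime.dvd_finsetProd_iff hr.prime _).mp h5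
    rw [Finset.mem_range] at hj
    exact ⟨e + j + 1, by omega, by omega, hj2⟩

end sqf

section sqf2

variable {F : Type*} [Field F]

theorem sq_symp_formula (d : ℕ) (u v : Fin d ⊕ Fin d → F) :
    Cfsg.sympForm d F u v =
      ∑ i : Fin d, (u (Sum.inr i) * v (Sum.inl i) - u (Sum.inl i) * v (Sum.inr i)) := by
  unfold Cfsg.sympForm
  rw [dotProduct, Fintype.sum_sum_type, ← Finset.sum_add_distrib]
  apply Finset.sum_congr rfl
  intro i _
  rw [J_mulVec_inl, J_mulVec_inr]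
  ring

/-- The fixed-point-free involution `2l ↔ 2l+1` of `Fin d`, `d` even. -/
def sqSwap (d : ℕ) (hd : Even d) (i : Fin d) : Fin d :=
  if h : (i : ℕ) % 2 = 0 then ⟨(i : ℕ) + 1, by
    obtain ⟨e, he⟩ := hd
    have := i.2
    omega⟩ else ⟨(i : ℕ) - 1, by
    have := i.2
    omega⟩

theorem sqSwap_val (d : ℕ) (hd : Even d) (i : Fin d) :
    ((sqSwap d hd i : Fin d) : ℕ) = if (i : ℕ) % 2 = 0 then (i : ℕ) + 1 else (i : ℕ) - 1 := by
  unfold sqSwap
  split_ifs <;> rfl

theorem sqSwap_invol (d : ℕ) (hd : Even d) (i : Fin d) : sqSwap d hd (sqSwap d hd i) = i := by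
  apply Fin.ext
  rw [sqSwap_val, sqSwap_val]
  split_ifs <;> omega

theorem sqSwap_ne (d : ℕ) (hd : Even d) (i : Fin d) : sqSwap d hd i ≠ i := by
  intro h
  have h1 := congrArg Fin.val h
  rw [sqSwap_val] at h1
  split_ifs at h1 <;> omega

/-- The involution `(a, b) ↦ (a + b ∘ σ, b)`. -/
def sqTB (d : ℕ) (hd : Even d) (F : Type*) [Field F] :
    (Fin d ⊕ Fin d → F) →ₗ[F] (Fin d ⊕ Fin d → F) where
  toFun u := Sum.elim (fun i => u (Sum.inl i) + u (Sum.inr (sqSwap d hd i)))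
    (fun i => u (Sum.inr i))
  map_add' := by
    intro u v
    funext s
    rcases s with i | i
    · simp only [Sum.elim_inl, Pi.add_apply]
      ring
    · simp only [Sum.elim_inr, Pi.add_apply]
  map_smul' := by
    intro c u
    funext s
    rcases s with i | i
    · simp only [Sum.elim_inl, Pi.smul_apply, smul_eq_mul, RingHom.id_apply]
      ring
    · simp only [Sum.elim_inr, Pi.smul_apply, smul_eq_mul, RingHom.id_apply]

theorem sqTB_inl (d : ℕ) (hd : Even d) (u : Fin d ⊕ Fin d → F) (i : Fin d) :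
    sqTB d hd F u (Sum.inl i) = u (Sum.inl i) + u (Sum.inr (sqSwap d hd i)) := rfl

theorem sqTB_inr (d : ℕ) (hd : Even d) (u : Fin d ⊕ Fin d → F) (i : Fin d) :
    sqTB d hd F u (Sum.inr i) = u (Sum.inr i) := rfl

theorem sqTB_isom (d : ℕ) (hd : Even d) (u v : Fin d ⊕ Fin d → F) :
    Cfsg.sympForm d F (sqTB d hd F u) (sqTB d hd F v) = Cfsg.sympForm d F u v := by
  rw [sq_symp_formula, sq_symp_formula]
  simp only [sqTB_inl, sqTB_inr]
  have h1 : ∑ i : Fin d, u (Sum.inr i) * v (Sum.inr (sqSwap d hd i)) =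
      ∑ i : Fin d, u (Sum.inr (sqSwap d hd i)) * v (Sum.inr i) := by
    have h2 := Equiv.sum_comp (Function.Involutive.toPerm (sqSwap d hd) (sqSwap_invol d hd))
      (fun i => u (Sum.inr i) * v (Sum.inr (sqSwap d hd i)))
    rw [← h2]
    apply Finset.sum_congr rfl
    intro i _
    show u (Sum.inr (sqSwap d hd i)) * v (Sum.inr (sqSwap d hd (sqSwap d hd i))) = _
    rw [sqSwap_invol]
  have h3 : ∀ i : Fin d, u (Sum.inr i) * (v (Sum.inl i) + v (Sum.inr (sqSwap d hd i))) -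
      (u (Sum.inl i) + u (Sum.inr (sqSwap d hd i))) * v (Sum.inr i) =
      (u (Sum.inr i) * v (Sum.inl i) - u (Sum.inl i) * v (Sum.inr i)) +
      (u (Sum.inr i) * v (Sum.inr (sqSwap d hd i)) -
        u (Sum.inr (sqSwap d hd i)) * v (Sum.inr i)) := by
    intro i
    ring
  rw [Finset.sum_congr rfl (fun i _ => h3 i), Finset.sum_add_distrib]
  have h4 : ∑ i : Fin d, (u (Sum.inr i) * v (Sum.inr (sqSwap d hd i)) -
      u (Sum.inr (sqSwap d hd i)) * v (Sum.inr i)) = 0 := by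
    rw [Finset.sum_sub_distrib, h1, sub_self]
  rw [h4, add_zero]

/-- The special involution of `Sp_{2d}(F)`, `d` even, in characteristic 2. -/
theorem sq_exists_invol (d : ℕ) (hd2 : 2 ≤ d) (hd : Even d) (h2 : (2 : F) = 0) :
    ∃ x : Matrix.symplecticGroup (Fin d) F, x ^ 2 = 1 ∧
      (∀ z : F, x.1 ≠ z • (1 : Matrix (Fin d ⊕ Fin d) (Fin d ⊕ Fin d) F)) ∧
      (∀ u v, Matrix.toLin' x.1 u = u → Matrix.toLin' x.1 v = v →
        Cfsg.Agent.S0245.omegaJ d F u v = 0) ∧
      (∀ v, Cfsg.Agent.S0245.omegaJ d F v (Matrix.toLin' x.1 v - v) = 0) := by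
  classical
  have hmem : LinearMap.toMatrix' (sqTB d hd F) ∈ Matrix.symplecticGroup (Fin d) F := by
    apply mem_symplectic_of_preserves
    intro u v
    rw [← Matrix.toLin'_apply, ← Matrix.toLin'_apply, Matrix.toLin'_toMatrix']
    exact sqTB_isom d hd u v
  have hlin : Matrix.toLin' (⟨LinearMap.toMatrix' (sqTB d hd F), hmem⟩ :
      Matrix.symplecticGroup (Fin d) F).1 = sqTB d hd F := Matrix.toLin'_toMatrix' _
  have hsq : ∀ u, sqTB d hd F (sqTB d hd F u) = u := by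
    intro u
    funext s
    rcases s with i | i
    · rw [sqTB_inl, sqTB_inl, sqTB_inr]
      have h3 : u (Sum.inr (sqSwap d hd i)) + u (Sum.inr (sqSwap d hd i)) = 0 := by
        linear_combination u (Sum.inr (sqSwap d hd i)) * h2
      rw [add_assoc, h3, add_zero]
    · rw [sqTB_inr, sqTB_inr]
  refine ⟨⟨LinearMap.toMatrix' (sqTB d hd F), hmem⟩, ?_, ?_, ?_, ?_⟩
  · apply sp_toLin_eq_one
    rw [← sp_toLin_pow, hlin]
    apply LinearMap.ext
    intro u
    rw [pow_two, Module.End.mul_apply, hsq]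
    rfl
  · intro z hz
    have h3 : ∀ u, sqTB d hd F u = z • u := by
      intro u
      rw [← hlin, Matrix.toLin'_apply]
      show (LinearMap.toMatrix' (sqTB d hd F)) *ᵥ u = z • u
      have hz' : LinearMap.toMatrix' (sqTB d hd F) =
          z • (1 : Matrix (Fin d ⊕ Fin d) (Fin d ⊕ Fin d) F) := hz
      rw [hz', Matrix.smul_mulVec, Matrix.one_mulVec]
    obtain ⟨j₀, hj₀⟩ : ∃ j₀ : Fin d, j₀ = ⟨0, by omega⟩ := ⟨_, rfl⟩
    have h4 := congrFun (h3 (Pi.single (Sum.inr j₀) 1)) (Sum.inl (sqSwap d hd j₀))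
    rw [sqTB_inl, sqSwap_invol, Pi.smul_apply, Pi.single_eq_same,
      Pi.single_eq_of_ne Sum.inl_ne_inr, smul_zero, zero_add] at h4
    exact one_ne_zero h4
  · intro u v hu hv
    rw [hlin] at hu hv
    have hzero : ∀ (w : Fin d ⊕ Fin d → F), sqTB d hd F w = w → ∀ j, w (Sum.inr j) = 0 := by
      intro w hw j
      have h3 := congrFun hw (Sum.inl (sqSwap d hd j))
      rw [sqTB_inl, sqSwap_invol] at h3
      exact left_eq_add.mp h3.symm
    rw [sp_omega_eq, sq_symp_formula]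
    apply Finset.sum_eq_zero
    intro i _
    rw [hzero u hu i, hzero v hv i, zero_mul, mul_zero, sub_zero]
  · intro v
    rw [hlin, sp_omega_eq, sq_symp_formula]
    have h3 : ∀ i : Fin d, v (Sum.inr i) * (sqTB d hd F v - v) (Sum.inl i) -
        v (Sum.inl i) * (sqTB d hd F v - v) (Sum.inr i) =
        v (Sum.inr i) * v (Sum.inr (sqSwap d hd i)) := by
      intro i
      rw [Pi.sub_apply, Pi.sub_apply, sqTB_inl, sqTB_inr]
      ring
    rw [Finset.sum_congr rfl (fun i _ => h3 i)]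
    apply Finset.sum_involution (fun i _ => sqSwap d hd i)
    · intro i _
      rw [sqSwap_invol]
      linear_combination (v (Sum.inr i) * v (Sum.inr (sqSwap d hd i))) * h2
    · intro i _ _
      exact sqSwap_ne d hd i
    · intro i _
      exact Finset.mem_univ _
    · intro i _
      exact sqSwap_invol d hd i

end sqf2

section sqf3

variable {F : Type*} [Field F] {V : Type*} [AddCommGroup V] [Module F V]

theorem sq_D_mono (μ : Multiset ℕ) :
    (μ.map (fun b => min 1 b)).sum ≤ (μ.map (fun b => min 2 b)).sum := by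
  induction μ using Multiset.induction_on with
  | empty => simp
  | cons b μ ih =>
    rw [Multiset.map_cons, Multiset.sum_cons, Multiset.map_cons, Multiset.sum_cons]
    have h1 : min 1 b ≤ min 2 b := by omega
    omega

theorem sq_D12 (μ : Multiset ℕ)
    (h : (μ.map (fun b => min 1 b)).sum = (μ.map (fun b => min 2 b)).sum) : ∀ b ∈ μ, b ≤ 1 := by
  induction μ using Multiset.induction_on with
  | empty =>
    intro b hb
    exact absurd hb (Multiset.notMem_zero b)
  | cons a μ ih =>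
    rw [Multiset.map_cons, Multiset.sum_cons, Multiset.map_cons, Multiset.sum_cons] at h
    have h1 := sq_D_mono μ
    have h2 : min 1 a ≤ min 2 a := by omega
    intro b hb
    rcases Multiset.mem_cons.mp hb with rfl | hb'
    · omega
    · exact ih (by omega) b hb'

/-- The Jordan type of an invariant nondegenerate subspace is a sub-multiset. -/
theorem sq_type_sub [FiniteDimensional F V] (ω : V →ₗ[F] V →ₗ[F] F) (halt : ∀ v, ω v v = 0)
    (hnd : ∀ v, (∀ w, ω v w = 0) → v = 0) (h2 : (2 : F) ≠ 0) (T : Module.End F V)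
    (hT : ∀ u v, ω (T u) (T v) = ω u v) (p : ℕ) [Fact p.Prime] [CharP F p] (hTp : T ^ p = 1)
    (μ : Multiset ℕ) (hμpos : ∀ a ∈ μ, 0 < a)
    (hμ : ∀ j : ℕ, finrank F (LinearMap.ker ((T - 1) ^ j)) = (μ.map (fun b => min j b)).sum)
    (W : Submodule F V) (hW : SpNd ω W) (hWinv : ∀ w ∈ W, T w ∈ W) :
    ∃ ν : Multiset ℕ, ν ≤ μ ∧ ν.sum = finrank F W ∧ ∀ a, Odd a → Even (ν.count a) := by
  have hpp : p.Prime := Fact.out
  have hNp : (T - 1) ^ p = 0 := sq_unip p T hTp
  have hstruct := sq_struct ω halt h2 T hT p hpp.one_le hTp p hNp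
  have hndtop : SpNd ω ⊤ := fun u _ hu => hnd u (fun w => hu w Submodule.mem_top)
  obtain ⟨hW'nd, hsup, hinf, hdim⟩ := sq_rel ω halt ⊤ W hndtop hW le_top
  have hWmap : W.map T = W := sq_map_eq T p hpp.one_le hTp W hWinv
  have hW'inv : ∀ w ∈ spPerp ω W ⊓ ⊤, T w ∈ spPerp ω W ⊓ ⊤ := by
    intro w hw
    obtain ⟨hw1, hw2⟩ := Submodule.mem_inf.mp hw
    exact Submodule.mem_inf.mpr ⟨sp_perp_inv ω T hT W hWmap w hw1, Submodule.mem_top⟩
  obtain ⟨μ₁, hμ₁1, hμ₁2, hμ₁3, -⟩ := hstruct (finrank F W) W le_rfl hW hWinv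
  obtain ⟨μ₂, hμ₂1, hμ₂2, hμ₂3, -⟩ := hstruct (finrank F ↥(spPerp ω W ⊓ ⊤)) _ le_rfl hW'nd hW'inv
  have hNinv : ∀ (X : Submodule F V), (∀ u ∈ X, T u ∈ X) → ∀ j : ℕ, ∀ u ∈ X,
      ((T - 1) ^ j) u ∈ X := by
    intro X hX j
    apply sq_pow_inv
    intro u hu
    rw [LinearMap.sub_apply, Module.End.one_apply]
    exact X.sub_mem (hX u hu) hu
  have hsum : μ₁ + μ₂ = μ := by
    apply sq_D_inj (μ₁ + μ₂) μ _ hμpos
    · intro j
      rw [Multiset.map_add, Multiset.sum_add, ← hμ₁3 j, ← hμ₂3 j,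
        ← sq_ker_add ((T - 1) ^ j) W _ hinf (hNinv W hWinv j) (hNinv _ hW'inv j), hsup,
        inf_top_eq, hμ j]
    · intro a ha
      rcases Multiset.mem_add.mp ha with h | h
      · exact (hμ₁1 a h).1
      · exact (hμ₂1 a h).1
  refine ⟨μ₁, ?_, ?_, hμ₁2⟩
  · rw [← hsum]
    exact Multiset.le_add_right _ _
  · have h3 := hμ₁3 p
    rw [sq_D_top μ₁ p (fun a ha => (hμ₁1 a ha).2), hNp, LinearMap.ker_zero, top_inf_eq] at h3
    exact h3.symm

end sqf3

end Cfsg.Agent.Lib.helper24
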