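import Mathlib
import Cfsg.Agent.Lib.helper24.SoB
import Cfsg.Agent.Lib.helper24.SqF
import Cfsg.Agent.Lib.helper42.FormsNondeg
import Cfsg.Agent.S0788
import Cfsg.Prelude.Def_GeometricClasses

/-!
# Symmetric forms: transfer to the standard hyperbolic quadratic form and `Ω⁺`
-/

set_option autoImplicit false

namespace Cfsg.Agent.Lib.helper24

open Module Polynomial

universe u

section soc0

variable {F : Type*} [Field F] {V : Type*} [AddCommGroup V] [Module F V]

/-- The Jordan type of the restriction of a unipotent isometry of a symmetric form to an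
invariant nondegenerate subspace. -/
theorem so_type_sub [FiniteDimensional F V] (ω : V →ₗ[F] V →ₗ[F] F)
    (hsym : ∀ u v, ω u v = ω v u)
    (hnd : ∀ v, (∀ w, ω v w = 0) → v = 0) (h2 : (2 : F) ≠ 0) (T : Module.End F V)
    (hT : ∀ u v, ω (T u) (T v) = ω u v) (p : ℕ) [Fact p.Prime] [CharP F p] (hTp : T ^ p = 1)
    (μ : Multiset ℕ) (hμpos : ∀ a ∈ μ, 0 < a)
    (hμ : ∀ j : ℕ, finrank F (LinearMap.ker ((T - 1) ^ j)) = (μ.map (fun b => min j b)).sum)
    (W : Submodule F V) (hW : SpNd ω W) (hWinv : ∀ w ∈ W, T w ∈ W) :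
    ∃ ν : Multiset ℕ, ν ≤ μ ∧ ν.sum = finrank F W ∧ ∀ a, Even a → Even (ν.count a) := by
  have hpp : p.Prime := Fact.out
  have hNp : (T - 1) ^ p = 0 := sq_unip p T hTp
  have hstruct := so_struct ω hsym h2 T hT p hpp.one_le hTp p hNp
  have hndtop : SpNd ω ⊤ := fun u _ hu => hnd u (fun w => hu w Submodule.mem_top)
  obtain ⟨hW'nd, hsup, hinf, hdim⟩ := so_rel ω hsym ⊤ W hndtop hW le_top
  have hWmap : W.map T = W := sq_map_eq T p hpp.one_le hTp W hWinv
  have hW'inv : ∀ w ∈ spPerp ω W ⊓ ⊤, T w ∈ spPerp ω W ⊓ ⊤ := by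
    intro w hw
    obtain ⟨hw1, hw2⟩ := Submodule.mem_inf.mp hw
    exact Submodule.mem_inf.mpr ⟨sp_perp_inv ω T hT W hWmap w hw1, Submodule.mem_top⟩
  obtain ⟨μ₁, hμ₁1, hμ₁2, hμ₁3, -⟩ := hstruct (finrank F W) W le_rfl hW hWinv
  obtain ⟨μ₂, hμ₂1, hμ₂2, hμ₂3, -⟩ := hstruct (finrank F ↥(spPerp ω W ⊓ ⊤)) _ le_rfl hW'nd hW'inv
  have hNinv : ∀ (X : Submodule F V), (∀ u ∈ X, T u ∈ X) → ∀ j : ℕ, ∀ u ∈ X,
      ((T - 1) ^ j) u ∈ X := by
    intro X hX j
    apply sq_pow_inv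
    intro u hu
    rw [LinearMap.sub_apply, Module.End.one_apply]
    exact X.sub_mem (hX u hu) hu
  have hsum : μ₁ + μ₂ = μ := by
    apply sq_D_inj (μ₁ + μ₂) μ _ hμpos
    · intro j
      rw [Multiset.map_add, Multiset.sum_add, ← hμ₁3 j, ← hμ₂3 j,
        ← sq_ker_add ((T - 1) ^ j) W _ hinf (hNinv W hWinv j) (hNinv _ hW'inv j), hsup,
        inf_top_eq, hμ j]
    · intro a ha
      rcases Multiset.mem_add.mp ha with h | h
      · exact (hμ₁1 a h).1
      · exact (hμ₂1 a h).1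
  refine ⟨μ₁, ?_, ?_, hμ₁2⟩
  · rw [← hsum]
    exact Multiset.le_add_right _ _
  · have h3 := hμ₁3 p
    rw [sq_D_top μ₁ p (fun a ha => (hμ₁1 a ha).2), hNp, LinearMap.ker_zero, top_inf_eq] at h3
    exact h3.symm

/-- A nondegenerate symmetric space of dimension `2d` with a totally isotropic subspace of
dimension `d` is isometric to the standard hyperbolic space. -/
theorem so_hyp_basis [FiniteDimensional F V] (ω : V →ₗ[F] V →ₗ[F] F)
    (hsym : ∀ u v, ω u v = ω v u) (hnd : ∀ v, (∀ w, ω v w = 0) → v = 0) (h2 : (2 : F) ≠ 0)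
    (d : ℕ) (hdim : finrank F V = 2 * d) (U : Submodule F V)
    (hU : ∀ u ∈ U, ∀ v ∈ U, ω u v = 0) (hUdim : finrank F U = d) :
    ∃ φ : V ≃ₗ[F] (Fin d ⊕ Fin d → F), ∀ v, 2 * Cfsg.quadFormPlus d F (φ v) = ω v v := by
  classical
  obtain ⟨b⟩ : Nonempty (Basis (Fin d) F U) := ⟨Module.finBasisOfFinrankEq F U hUdim⟩
  obtain ⟨e, he⟩ : ∃ e : Fin d → V, e = fun i => (b i : V) := ⟨_, rfl⟩
  have hei : ∀ i, e i = (b i : V) := fun i => by rw [he]
  have heU : ∀ i, e i ∈ U := fun i => by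
    rw [hei]
    exact (b i).2
  have hee : ∀ i l, ω (e i) (e l) = 0 := fun i l => hU _ (heU i) _ (heU l)
  have hinj : Function.Injective ω.flip := by
    rw [injective_iff_map_eq_zero]
    intro v hv
    apply hnd
    intro w
    rw [hsym]
    have h1 := congrArg (fun ψ : V →ₗ[F] F => ψ w) hv
    simpa using h1
  have hdual : finrank F V = finrank F (V →ₗ[F] F) := Subspace.dual_finrank_eq.symm
  obtain ⟨E, hE⟩ : ∃ E : V ≃ₗ[F] (V →ₗ[F] F), ∀ v, E v = ω.flip v :=
    ⟨LinearMap.linearEquivOfInjective ω.flip hinj hdual,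
      fun v => LinearMap.linearEquivOfInjective_apply hinj hdual v⟩
  have hex : ∀ j : Fin d, ∃ f : V, ∀ i, ω (e i) f = if i = j then 1 else 0 := by
    intro j
    obtain ⟨ψ, hψ⟩ := LinearMap.exists_extend (b.coord j)
    refine ⟨E.symm ψ, fun i => ?_⟩
    have h1 : ω.flip (E.symm ψ) = ψ := by rw [← hE, LinearEquiv.apply_symm_apply]
    have h3 : ω (e i) (E.symm ψ) = ψ (e i) :=
      congrArg (fun χ : V →ₗ[F] F => χ (e i)) h1
    have h4 : ψ (e i) = b.coord j (b i) := by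
      rw [← hψ, hei]
      rfl
    rw [h3, h4, Basis.coord_apply, Basis.repr_self, Finsupp.single_apply]
  choose f hf using hex
  obtain ⟨c, hc⟩ : ∃ c : Fin d → Fin d → F, c = fun j l => ω (f j) (f l) / 2 := ⟨_, rfl⟩
  have hcc : ∀ j l, c j l = ω (f j) (f l) / 2 := fun j l => by rw [hc]
  obtain ⟨f', hf'⟩ : ∃ f' : Fin d → V, f' = fun j => f j - ∑ l, c j l • e l := ⟨_, rfl⟩
  have hf'j : ∀ j, f' j = f j - ∑ l, c j l • e l := fun j => by rw [hf']
  have hef : ∀ i j, ω (e i) (f' j) = if i = j then 1 else 0 := by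
    intro i j
    rw [hf'j]
    simp only [map_sub, map_sum, map_smul, smul_eq_mul, hee, mul_zero, Finset.sum_const_zero,
      sub_zero]
    exact hf j i
  have hfe : ∀ j i, ω (f' j) (e i) = if i = j then 1 else 0 := fun j i => by rw [hsym, hef]
  have hff : ∀ j k, ω (f' j) (f' k) = 0 := by
    intro j k
    have h1 : ω (f' j) (f' k) = ω (f' j) (f k) - c k j := by
      have h3 : ω (f' j) (f' k) = ω (f' j) (f k) - ∑ l, c k l * ω (f' j) (e l) := by
        rw [hf'j k]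
        simp only [map_sub, map_sum, map_smul, smul_eq_mul]
      rw [h3]
      congr 1
      simp only [hfe, mul_ite, mul_one, mul_zero, Finset.sum_ite_eq', Finset.mem_univ, if_true]
    have h4 : ω (f' j) (f k) = ω (f j) (f k) - c j k := by
      have h3 : ω (f' j) (f k) = ω (f j) (f k) - ∑ l, c j l * ω (e l) (f k) := by
        rw [hf'j j]
        simp only [map_sub, map_sum, map_smul, LinearMap.sub_apply, LinearMap.sum_apply,
          LinearMap.smul_apply, smul_eq_mul]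
      rw [h3]
      congr 1
      simp only [hf, mul_ite, mul_one, mul_zero, Finset.sum_ite_eq', Finset.mem_univ, if_true]
    rw [h1, h4, hcc, hcc, hsym (f k) (f j)]
    field_simp
    ring
  obtain ⟨S, hS⟩ : ∃ S : (Fin d ⊕ Fin d → F) →ₗ[F] V,
      ∀ x, S x = ∑ i, x (Sum.inl i) • e i + ∑ j, x (Sum.inr j) • f' j := by
    refine ⟨∑ i, (LinearMap.proj (Sum.inl i)).smulRight (e i)
      + ∑ j, (LinearMap.proj (Sum.inr j)).smulRight (f' j), fun x => ?_⟩
    simp only [LinearMap.add_apply, LinearMap.sum_apply, LinearMap.smulRight_apply,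
      LinearMap.proj_apply]
  have hSe : ∀ x i, ω (S x) (e i) = x (Sum.inr i) := by
    intro x i
    rw [hS]
    simp only [map_add, map_sum, map_smul, LinearMap.add_apply, LinearMap.sum_apply,
      LinearMap.smul_apply, smul_eq_mul, hee, hfe, mul_zero, Finset.sum_const_zero, zero_add,
      mul_ite, mul_one, Finset.sum_ite_eq, Finset.mem_univ, if_true]
  have hSf : ∀ x j, ω (S x) (f' j) = x (Sum.inl j) := by
    intro x j
    rw [hS]
    simp only [map_add, map_sum, map_smul, LinearMap.add_apply, LinearMap.sum_apply,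
      LinearMap.smul_apply, smul_eq_mul, hef, hff, mul_zero, Finset.sum_const_zero, add_zero,
      mul_ite, mul_one, Finset.sum_ite_eq', Finset.mem_univ, if_true]
  have hQ : ∀ x, 2 * Cfsg.quadFormPlus d F x = ω (S x) (S x) := by
    intro x
    have h1 : ω (S x) (S x) = ∑ i, x (Sum.inl i) * ω (S x) (e i)
        + ∑ j, x (Sum.inr j) * ω (S x) (f' j) := by
      nth_rewrite 2 [hS x]
      simp only [map_add, map_sum, map_smul, smul_eq_mul]
    rw [h1]
    simp only [hSe, hSf]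
    unfold Cfsg.quadFormPlus
    rw [two_mul]
    congr 1
    apply Finset.sum_congr rfl
    intro i _
    ring
  have hSinj : Function.Injective S := by
    rw [injective_iff_map_eq_zero]
    intro x hx
    funext k
    rcases k with j | i
    · have h1 := hSf x j
      rw [hx, map_zero, LinearMap.zero_apply] at h1
      exact h1.symm
    · have h1 := hSe x i
      rw [hx, map_zero, LinearMap.zero_apply] at h1
      exact h1.symm
  have hdim' : finrank F (Fin d ⊕ Fin d → F) = finrank F V := by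
    rw [hdim, Module.finrank_fintype_fun_eq_card, Fintype.card_sum, Fintype.card_fin]
    omega
  refine ⟨(LinearMap.linearEquivOfInjective S hSinj hdim').symm, fun v => ?_⟩
  rw [hQ, ← LinearMap.linearEquivOfInjective_apply hSinj hdim', LinearEquiv.apply_symm_apply]

end soc0

section soc

variable {F : Type u} [Field F] [Fintype F]

/-- Transport of a realisation to `Ω⁺_{2d}(F)`. -/
theorem so_real_plus (p : ℕ) [Fact p.Prime] [CharP F p] (hp2 : p ≠ 2) (μ : Multiset ℕ)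
    (hμ : SoReal F p μ) (hparts : ∀ a ∈ μ, a ≤ p) (d : ℕ) (hd : 1 ≤ d) (hsum : μ.sum = 2 * d) :
    ∃ g : GL (Fin d ⊕ Fin d) F, g ∈ Cfsg.Geo.omegaGL (Cfsg.quadFormPlus d F) ∧ g ^ p = 1 ∧
      ∀ j : ℕ, finrank F (LinearMap.ker
        ((Matrix.toLin' (g : Matrix (Fin d ⊕ Fin d) (Fin d ⊕ Fin d) F) - 1) ^ j)) =
        (μ.map (fun b => min j b)).sum := by
  classical
  obtain ⟨V, _, _, _, ω, T, U, hsym, hnd, hiso, hTp, hU, hUdim, hker⟩ := hμ
  have hpp : p.Prime := Fact.out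
  have h2 : (2 : F) ≠ 0 := sq_two_ne p hp2
  have hNp := sq_unip p T hTp
  have hfin : finrank F V = 2 * d := by
    have h3 := hker p
    rw [hNp, LinearMap.ker_zero, finrank_top, sq_D_top μ p hparts, hsum] at h3
    exact h3
  obtain ⟨φ, hφ⟩ := so_hyp_basis ω hsym hnd h2 d hfin U hU (by omega)
  obtain ⟨T', hT'⟩ : ∃ T' : Module.End F V, T' = T ^ (p - 1) := ⟨_, rfl⟩
  have hTT' : T * T' = 1 := by rw [hT', ← pow_succ', Nat.sub_add_cancel hpp.one_le, hTp]
  have hT'T : T' * T = 1 := by rw [hT', ← pow_succ, Nat.sub_add_cancel hpp.one_le, hTp]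
  obtain ⟨L, hL⟩ : ∃ L : Module.End F (Fin d ⊕ Fin d → F),
      L = φ.toLinearMap ∘ₗ T ∘ₗ φ.symm.toLinearMap := ⟨_, rfl⟩
  obtain ⟨L', hL'⟩ : ∃ L' : Module.End F (Fin d ⊕ Fin d → F),
      L' = φ.toLinearMap ∘ₗ T' ∘ₗ φ.symm.toLinearMap := ⟨_, rfl⟩
  have hLx : ∀ x, L x = φ (T (φ.symm x)) := fun x => by rw [hL]; rfl
  have hL'x : ∀ x, L' x = φ (T' (φ.symm x)) := fun x => by rw [hL']; rfl
  have hLL' : L * L' = 1 := by
    apply LinearMap.ext
    intro x
    rw [Module.End.mul_apply, hLx, hL'x, LinearEquiv.symm_apply_apply,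
      sq_inv_apply T T' hTT', LinearEquiv.apply_symm_apply, Module.End.one_apply]
  have hL'L : L' * L = 1 := by
    apply LinearMap.ext
    intro x
    rw [Module.End.mul_apply, hLx, hL'x, LinearEquiv.symm_apply_apply,
      sq_inv_apply T' T hT'T, LinearEquiv.apply_symm_apply, Module.End.one_apply]
  obtain ⟨g, hg⟩ : ∃ g : GL (Fin d ⊕ Fin d) F,
      (g : Matrix (Fin d ⊕ Fin d) (Fin d ⊕ Fin d) F) = LinearMap.toMatrix' L :=
    ⟨⟨LinearMap.toMatrix' L, LinearMap.toMatrix' L',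
      by rw [← LinearMap.toMatrix'_mul, hLL', LinearMap.toMatrix'_one],
      by rw [← LinearMap.toMatrix'_mul, hL'L, LinearMap.toMatrix'_one]⟩, rfl⟩
  have hgL : Matrix.toLin' (g : Matrix (Fin d ⊕ Fin d) (Fin d ⊕ Fin d) F) = L := by
    rw [hg, Matrix.toLin'_toMatrix']
  have hLφ : ∀ v, L (φ v) = φ (T v) := by
    intro v
    rw [hLx, LinearEquiv.symm_apply_apply]
  have hpowL : ∀ (m : ℕ) (v : V), (L ^ m) (φ v) = φ ((T ^ m) v) := by
    intro m
    induction m with
    | zero =>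
      intro v
      simp
    | succ m ih =>
      intro v
      rw [pow_succ, Module.End.mul_apply, hLφ, ih, pow_succ, Module.End.mul_apply]
  have hLp : L ^ p = 1 := by
    apply LinearMap.ext
    intro x
    obtain ⟨v, rfl⟩ := φ.surjective x
    rw [hpowL, hTp]
    rfl
  have hpowM : ∀ m : ℕ, (LinearMap.toMatrix' L) ^ m = LinearMap.toMatrix' (L ^ m) := by
    intro m
    induction m with
    | zero => rw [pow_zero, pow_zero, LinearMap.toMatrix'_one]
    | succ m ih => rw [pow_succ, ih, pow_succ, LinearMap.toMatrix'_mul]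
  have hgp : g ^ p = 1 := by
    apply Units.ext
    rw [Units.val_pow_eq_pow_val, Units.val_one, hg, hpowM, hLp, LinearMap.toMatrix'_one]
  have key : ∀ x : Fin d ⊕ Fin d → F, Cfsg.quadFormPlus d F
      ((g : Matrix (Fin d ⊕ Fin d) (Fin d ⊕ Fin d) F).mulVec x) = Cfsg.quadFormPlus d F x := by
    intro x
    obtain ⟨v, rfl⟩ := φ.surjective x
    have h3 : (g : Matrix (Fin d ⊕ Fin d) (Fin d ⊕ Fin d) F).mulVec (φ v) = φ (T v) := by
      rw [← Matrix.toLin'_apply, hgL, hLφ]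
    rw [h3]
    have h4 := hφ (T v)
    have h5 := hφ v
    rw [hiso] at h4
    exact mul_left_cancel₀ h2 (h4.trans h5.symm)
  have hgiso : g ∈ Cfsg.isometryGroup F (Cfsg.quadFormPlus d F) := fun u _ => key u
  have hQnd := Cfsg.Agent.Lib.helper42.plusForm_nondegenerate (F := F) d
  obtain ⟨x, hx⟩ : ∃ x : ↥(Cfsg.isometryGroup F ⇑(Cfsg.Agent.Lib.helper49.plusForm d F)),
      (x : GL (Fin d ⊕ Fin d) F) = g := ⟨⟨g, hgiso⟩, rfl⟩
  have hxp : x ^ p = 1 := by
    apply Subtype.ext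
    rw [Subgroup.coe_pow, hx, hgp]
    rfl
  have hΦp : (Cfsg.Agent.S0788.Phi (Cfsg.Agent.Lib.helper49.plusForm d F) x) ^ p = 1 := by
    rw [← map_pow, hxp, map_one]
  have hcard : 2 ≤ Fintype.card (Fin d ⊕ Fin d) := by
    rw [Fintype.card_sum, Fintype.card_fin]
    omega
  have hΦ2 : (Cfsg.Agent.S0788.Phi (Cfsg.Agent.Lib.helper49.plusForm d F) x) ^ 2 = 1 := by
    have hmem : Cfsg.Agent.S0788.Phi (Cfsg.Agent.Lib.helper49.plusForm d F) x ∈
        ((Cfsg.Agent.S0788.Phi (Cfsg.Agent.Lib.helper49.plusForm d F)).range : Set (Fˣ × ℤˣ)) :=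
      ⟨x, rfl⟩
    rw [Cfsg.Agent.S0788.range_Phi h2 _ hQnd hcard] at hmem
    obtain ⟨h1, -⟩ := hmem
    apply Prod.ext
    · show (Cfsg.Agent.S0788.Phi (Cfsg.Agent.Lib.helper49.plusForm d F) x).1 ^ 2 = 1
      rcases h1 with h | h
      · rw [h, one_pow]
      · rw [Set.mem_singleton_iff] at h
        rw [h]
        simp
    · show (Cfsg.Agent.S0788.Phi (Cfsg.Agent.Lib.helper49.plusForm d F) x).2 ^ 2 = 1
      exact Int.units_sq _
  have hΦ1 : Cfsg.Agent.S0788.Phi (Cfsg.Agent.Lib.helper49.plusForm d F) x = 1 := by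
    have h1 := orderOf_dvd_of_pow_eq_one hΦp
    have h2' := orderOf_dvd_of_pow_eq_one hΦ2
    have h3 := Nat.dvd_gcd h1 h2'
    have h4 : Nat.gcd p 2 = 1 := (Nat.coprime_primes hpp Nat.prime_two).mpr hp2
    rw [h4, Nat.dvd_one] at h3
    exact orderOf_eq_one_iff.mp h3
  have hxΩ : x ∈ Cfsg.Omega F ⇑(Cfsg.Agent.Lib.helper49.plusForm d F) := by
    rw [Cfsg.Agent.S0788.Omega_eq_ker h2 _ hQnd]
    exact MonoidHom.mem_ker.mpr hΦ1
  refine ⟨g, ⟨x, hxΩ, hx⟩, hgp, fun j => ?_⟩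
  rw [hgL, ← hker j]
  exact sq_conj_ker φ T L hLφ j

end soc

end Cfsg.Agent.Lib.helper24
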