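import Mathlib
import Cfsg.Agent.Lib.helper24.SoC

/-!
# `Ω⁺_{2d}(q)`, `q` odd: elements of order `p` and invariant nondegenerate subspaces
-/

set_option autoImplicit false

namespace Cfsg.Agent.Lib.helper24

open Module Polynomial

universe u

section sod0

variable {F : Type*} [Field F]

theorem so_toLin_pow {ι : Type*} [Fintype ι] [DecidableEq ι] (A : Matrix ι ι F) (m : ℕ) :
    (Matrix.toLin' A) ^ m = Matrix.toLin' (A ^ m) := by
  induction m with
  | zero =>
    rw [pow_zero, pow_zero, Matrix.toLin'_one]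
    rfl
  | succ m ih =>
    rw [pow_succ, ih, pow_succ, Matrix.toLin'_mul]
    rfl

/-- A scalar unipotent map has all Jordan blocks of size one. -/
theorem so_scalar_parts {ι : Type*} [Fintype ι] [DecidableEq ι] (A : Matrix ι ι F) (z : F)
    (hz : A = z • (1 : Matrix ι ι F)) (μ : Multiset ℕ)
    (hker : ∀ j : ℕ, finrank F (LinearMap.ker ((Matrix.toLin' A - 1) ^ j)) =
      (μ.map (fun b => min j b)).sum) : ∀ b ∈ μ, b ≤ 1 := by
  have hT1 : Matrix.toLin' A - 1 = (z - 1) • (1 : Module.End F (ι → F)) := by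
    rw [hz, map_smul, Matrix.toLin'_one]
    apply LinearMap.ext
    intro u
    simp only [LinearMap.sub_apply, LinearMap.smul_apply, LinearMap.id_coe, id_eq,
      Module.End.one_apply, sub_smul, one_smul]
  have hkk : LinearMap.ker ((Matrix.toLin' A - 1) ^ 1) =
      LinearMap.ker ((Matrix.toLin' A - 1) ^ 2) := by
    rw [hT1]
    by_cases hz1 : z - 1 = 0
    · rw [hz1, zero_smul, pow_one, zero_pow (by omega)]
    · ext u
      have hk : ∀ n : ℕ, (((z - 1) • (1 : Module.End F (ι → F))) ^ n) u =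
          (z - 1) ^ n • u := by
        intro n
        rw [_root_.smul_pow, one_pow, LinearMap.smul_apply, Module.End.one_apply]
      rw [LinearMap.mem_ker, LinearMap.mem_ker, hk, hk, smul_eq_zero, smul_eq_zero]
      constructor
      · rintro (h | h)
        · exact absurd h (pow_ne_zero 1 hz1)
        · exact Or.inr h
      · rintro (h | h)
        · exact absurd h (pow_ne_zero 2 hz1)
        · exact Or.inr h
  have h12 : (μ.map (fun b => min 1 b)).sum = (μ.map (fun b => min 2 b)).sum := by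
    rw [← hker 1, ← hker 2, hkk]
  exact sq_D12 μ h12

end sod0

section sod

variable {F : Type u} [Field F] [Fintype F]

/-- If every element of order `p` of `Ω⁺_{2d}(q)` (`q` odd) fixes a nondegenerate `m`-space,
then every admissible partition of `2d` contains an admissible partition of `m`. -/
theorem so_main_plus {p : ℕ} [Fact p.Prime] [CharP F p] (hp2 : p ≠ 2) (d m : ℕ) (hd : 1 ≤ d)
    (hmd : m ≤ 2 * d)
    (H : ∀ x : GL (Fin d ⊕ Fin d) F, x ∈ Cfsg.Geo.omegaGL (Cfsg.quadFormPlus d F) →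
      (∃ z : F, ((x ^ p : GL (Fin d ⊕ Fin d) F) : Matrix (Fin d ⊕ Fin d) (Fin d ⊕ Fin d) F) =
        z • (1 : Matrix (Fin d ⊕ Fin d) (Fin d ⊕ Fin d) F)) →
      (∀ z : F, (x : Matrix (Fin d ⊕ Fin d) (Fin d ⊕ Fin d) F) ≠
        z • (1 : Matrix (Fin d ⊕ Fin d) (Fin d ⊕ Fin d) F)) →
      ∃ W : Submodule F (Fin d ⊕ Fin d → F), Module.finrank F ↥W = m ∧
        Cfsg.Geo.IsNondegenerateOn (QuadraticMap.polar (Cfsg.quadFormPlus d F)) W ∧
        W.map (Matrix.toLin' (x : Matrix (Fin d ⊕ Fin d) (Fin d ⊕ Fin d) F)) ≤ W) :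
    ∀ μ : Multiset ℕ, (∀ e ∈ μ, 0 < e ∧ e ≤ p) → (∀ e : ℕ, Even e → Even (μ.count e)) →
      μ.sum = 2 * d →
      ∃ ν : Multiset ℕ, ν ≤ μ ∧ ν.sum = m ∧ ∀ e : ℕ, Even e → Even (ν.count e) := by
  classical
  intro μ hparts hcount hsum
  have hpp : p.Prime := Fact.out
  have h2 : (2 : F) ≠ 0 := sq_two_ne p hp2
  by_cases hall : ∀ b ∈ μ, b = 1
  · have hrep := Multiset.eq_replicate_card.mpr hall
    have hcard : Multiset.card μ = 2 * d := by
      rw [hrep, Multiset.sum_replicate, smul_eq_mul, mul_one] at hsum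
      exact hsum
    refine ⟨Multiset.replicate m 1, ?_, ?_, ?_⟩
    · rw [hrep, Multiset.replicate_le_replicate]
      omega
    · rw [Multiset.sum_replicate, smul_eq_mul, mul_one]
    · intro a ha
      rw [Multiset.count_replicate]
      split_ifs with h
      · subst h
        exact absurd ha (by decide)
      · exact Even.zero
  · push Not at hall
    obtain ⟨b₀, hb₀, hb₀1⟩ := hall
    have hreal := so_real_all (F := F) p hp2 (Multiset.card μ) μ rfl hparts hcount
      ⟨d, by omega⟩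
    obtain ⟨g, hgΩ, hgp, hgker⟩ := so_real_plus p hp2 μ hreal (fun a ha => (hparts a ha).2) d hd
      hsum
    have hns : ∀ z : F, (g : Matrix (Fin d ⊕ Fin d) (Fin d ⊕ Fin d) F) ≠
        z • (1 : Matrix (Fin d ⊕ Fin d) (Fin d ⊕ Fin d) F) := by
      intro z hz
      have h3 := so_scalar_parts _ z hz μ hgker b₀ hb₀
      have h4 := (hparts b₀ hb₀).1
      omega
    obtain ⟨W, hWdim, hWnd, hWinv⟩ := H g hgΩ ⟨1, by rw [hgp, one_smul]; rfl⟩ hns
    obtain ⟨x, hxΩ, hxg⟩ := Subgroup.mem_map.mp hgΩ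
    have hQg : ∀ u : Fin d ⊕ Fin d → F, Cfsg.Agent.Lib.helper49.plusForm d F
        ((g : Matrix (Fin d ⊕ Fin d) (Fin d ⊕ Fin d) F).mulVec u) =
        Cfsg.Agent.Lib.helper49.plusForm d F u := by
      intro u
      rw [← hxg]
      exact x.2 u u
    have hTp : (Matrix.toLin' (g : Matrix (Fin d ⊕ Fin d) (Fin d ⊕ Fin d) F)) ^ p = 1 := by
      have h3 : (g : Matrix (Fin d ⊕ Fin d) (Fin d ⊕ Fin d) F) ^ p = 1 := by
        rw [← Units.val_pow_eq_pow_val, hgp, Units.val_one]
      rw [so_toLin_pow, h3, Matrix.toLin'_one]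
      rfl
    have hsym₀ : ∀ u v, QuadraticMap.polarBilin (Cfsg.Agent.Lib.helper49.plusForm d F) u v =
        QuadraticMap.polarBilin (Cfsg.Agent.Lib.helper49.plusForm d F) v u := by
      intro u v
      rw [QuadraticMap.polarBilin_apply_apply, QuadraticMap.polarBilin_apply_apply,
        QuadraticMap.polar_comm]
    have hnd₀ : ∀ v, (∀ w, QuadraticMap.polarBilin (Cfsg.Agent.Lib.helper49.plusForm d F) v w
        = 0) → v = 0 := by
      intro v hv
      exact (Cfsg.Agent.Lib.helper42.plusForm_nondegenerate (F := F) d).1 v hv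
    have hiso₀ : ∀ u v, QuadraticMap.polarBilin (Cfsg.Agent.Lib.helper49.plusForm d F)
        (Matrix.toLin' (g : Matrix (Fin d ⊕ Fin d) (Fin d ⊕ Fin d) F) u)
        (Matrix.toLin' (g : Matrix (Fin d ⊕ Fin d) (Fin d ⊕ Fin d) F) v) =
        QuadraticMap.polarBilin (Cfsg.Agent.Lib.helper49.plusForm d F) u v := by
      intro u v
      rw [QuadraticMap.polarBilin_apply_apply, QuadraticMap.polarBilin_apply_apply]
      unfold QuadraticMap.polar
      rw [← map_add, Matrix.toLin'_apply, Matrix.toLin'_apply, Matrix.toLin'_apply, hQg, hQg,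
        hQg]
    have hWnd' : SpNd (QuadraticMap.polarBilin (Cfsg.Agent.Lib.helper49.plusForm d F)) W := by
      intro u hu hu2
      by_contra hu0
      obtain ⟨-, ⟨y, hy, hne⟩⟩ := hWnd u hu hu0
      apply hne
      have h3 := hu2 y hy
      rw [QuadraticMap.polarBilin_apply_apply] at h3
      exact h3
    obtain ⟨ν, hν1, hν2, hν3⟩ := so_type_sub
      (QuadraticMap.polarBilin (Cfsg.Agent.Lib.helper49.plusForm d F)) hsym₀ hnd₀ h2
      (Matrix.toLin' (g : Matrix (Fin d ⊕ Fin d) (Fin d ⊕ Fin d) F)) hiso₀ p hTp μ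
      (fun a ha => (hparts a ha).1) hgker W hWnd'
      (fun w hw => hWinv (Submodule.mem_map_of_mem hw))
    exact ⟨ν, hν1, by rw [hν2, hWdim], hν3⟩

end sod

end Cfsg.Agent.Lib.helper24
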