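import Mathlib
import Cfsg.Agent.Lib.helper24.SoB

/-!
# Symmetric forms: realising Jordan types by unipotent isometries of elliptic spaces
-/

set_option autoImplicit false

namespace Cfsg.Agent.Lib.helper24

open Module Polynomial

universe u

section soe

variable {F : Type u} [Field F]

/-- A Jordan type is realised by a unipotent isometry of a nondegenerate symmetric space
which is the orthogonal sum of a hyperbolic space and an anisotropic plane. -/
def SoRealM (F : Type u) [Field F] (p : ℕ) (μ : Multiset ℕ) : Prop :=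
  ∃ (V : Type u) (_ : AddCommGroup V) (_ : Module F V) (_ : FiniteDimensional F V)
    (ω : V →ₗ[F] V →ₗ[F] F) (T : Module.End F V) (U : Submodule F V) (w₁ w₂ : V),
    (∀ u v, ω u v = ω v u) ∧ (∀ v, (∀ w, ω v w = 0) → v = 0) ∧ (∀ v w, ω (T v) (T w) = ω v w) ∧
    T ^ p = 1 ∧ (∀ u ∈ U, ∀ v ∈ U, ω u v = 0) ∧ 2 * finrank F U + 2 = finrank F V ∧
    (∀ u ∈ U, ω u w₁ = 0) ∧ (∀ u ∈ U, ω u w₂ = 0) ∧ ω w₁ w₂ = 0 ∧
    (∀ x y : F, x ^ 2 * ω w₁ w₁ + y ^ 2 * ω w₂ w₂ = 0 → x = 0 ∧ y = 0) ∧
    ∀ j : ℕ, finrank F (LinearMap.ker ((T - 1) ^ j)) = (μ.map (fun b => min j b)).sum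

theorem SoRealM.add_hyp {p : ℕ} {μ₁ μ₂ : Multiset ℕ} (h1 : SoRealM F p μ₁)
    (h2 : SoReal F p μ₂) : SoRealM F p (μ₁ + μ₂) := by
  obtain ⟨V, _, _, _, ω, T, U, w₁, w₂, hsym, hnd, hiso, hTp, hU, hUdim, hUw₁, hUw₂, hw12, han,
    hker⟩ := h1
  obtain ⟨V', _, _, _, ω', T', U', hsym', hnd', hiso', hTp', hU', hUdim', hker'⟩ := h2
  refine ⟨V × V', inferInstance, inferInstance, inferInstance,
    ω.compl₁₂ (LinearMap.fst F V V') (LinearMap.fst F V V')
      + ω'.compl₁₂ (LinearMap.snd F V V') (LinearMap.snd F V V'),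
    LinearMap.prodMap T T', U.prod U', (w₁, 0), (w₂, 0), ?_, ?_, ?_, ?_, ?_, ?_, ?_, ?_, ?_, ?_,
    ?_⟩
  · intro u v
    simp only [LinearMap.add_apply, LinearMap.compl₁₂_apply, LinearMap.fst_apply,
      LinearMap.snd_apply]
    rw [hsym, hsym']
  · intro v hv
    have h1 : v.1 = 0 := by
      apply hnd
      intro w'
      have := hv (w', 0)
      simpa only [LinearMap.add_apply, LinearMap.compl₁₂_apply, LinearMap.fst_apply,
        LinearMap.snd_apply, map_zero, add_zero] using this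
    have h2 : v.2 = 0 := by
      apply hnd'
      intro w'
      have := hv (0, w')
      simpa only [LinearMap.add_apply, LinearMap.compl₁₂_apply, LinearMap.fst_apply,
        LinearMap.snd_apply, map_zero, zero_add] using this
    exact Prod.ext h1 h2
  · intro v w
    simp only [LinearMap.add_apply, LinearMap.compl₁₂_apply, LinearMap.fst_apply,
      LinearMap.snd_apply, LinearMap.prodMap_apply]
    rw [hiso, hiso']
  · rw [Cfsg.Agent.Lib.helper45.prodMap_pow, hTp, hTp']
    exact LinearMap.prodMap_one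
  · intro u hu v hv
    obtain ⟨hu1, hu2⟩ := Submodule.mem_prod.mp hu
    obtain ⟨hv1, hv2⟩ := Submodule.mem_prod.mp hv
    simp only [LinearMap.add_apply, LinearMap.compl₁₂_apply, LinearMap.fst_apply,
      LinearMap.snd_apply]
    rw [hU u.1 hu1 v.1 hv1, hU' u.2 hu2 v.2 hv2, add_zero]
  · rw [so_finrank_prod, Module.finrank_prod]
    omega
  · intro u hu
    obtain ⟨hu1, hu2⟩ := Submodule.mem_prod.mp hu
    simp only [LinearMap.add_apply, LinearMap.compl₁₂_apply, LinearMap.fst_apply,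
      LinearMap.snd_apply, map_zero, add_zero]
    exact hUw₁ u.1 hu1
  · intro u hu
    obtain ⟨hu1, hu2⟩ := Submodule.mem_prod.mp hu
    simp only [LinearMap.add_apply, LinearMap.compl₁₂_apply, LinearMap.fst_apply,
      LinearMap.snd_apply, map_zero, add_zero]
    exact hUw₂ u.1 hu1
  · simp only [LinearMap.add_apply, LinearMap.compl₁₂_apply, LinearMap.fst_apply,
      LinearMap.snd_apply, map_zero, add_zero]
    exact hw12
  · intro x y hxy
    simp only [LinearMap.add_apply, LinearMap.compl₁₂_apply, LinearMap.fst_apply,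
      LinearMap.snd_apply, map_zero, add_zero] at hxy
    exact han x y hxy
  · intro j
    have hsub : LinearMap.prodMap T T' - 1 = LinearMap.prodMap (T - 1) (T' - 1) := by
      apply LinearMap.ext
      rintro ⟨a, b⟩
      rfl
    rw [hsub, Cfsg.Agent.Lib.helper45.prodMap_pow, sq_ker_prod, hker j, hker' j,
      Multiset.map_add, Multiset.sum_add]

/-- Two Jordan blocks of odd sizes are realised on an elliptic space. -/
theorem so_realM_two (p : ℕ) [Fact p.Prime] (δ : F) (hδ : ¬ IsSquare δ) (b₁ b₂ : ℕ)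
    (h1 : SoSingle F p b₁) (h2 : SoSingle F p b₂) (ho1 : Odd b₁) (ho2 : Odd b₂) :
    SoRealM F p {b₁, b₂} := by
  obtain ⟨V, _, _, _, ω, T, hsym, hnd, hiso, hTp, hdim, hker⟩ := h1
  obtain ⟨V', _, _, _, ω', T', hsym', hnd', hiso', hTp', hdim', hker'⟩ := h2
  obtain ⟨e, he⟩ := ho1
  obtain ⟨e', he'⟩ := ho2
  subst he
  subst he'
  have hpp : p.Prime := Fact.out
  obtain ⟨S, w, hSS, hSdim, hwS, hSw, hww⟩ :=
    so_single_ts p hpp.one_le ω T hsym hnd hiso hTp e hdim hker
  obtain ⟨S', w', hSS', hSdim', hwS', hSw', hww'⟩ :=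
    so_single_ts p hpp.one_le ω' T' hsym' hnd' hiso' hTp' e' hdim' hker'
  have hδ0 : δ ≠ 0 := by
    rintro rfl
    exact hδ ⟨0, by ring⟩
  obtain ⟨c, hc⟩ : ∃ c : F, c = - δ * ω w w / ω' w' w' := ⟨_, rfl⟩
  have hc0 : c ≠ 0 := by
    rw [hc]
    exact div_ne_zero (mul_ne_zero (neg_ne_zero.mpr hδ0) hww) hww'
  have hcw : c * ω' w' w' = - δ * ω w w := by
    rw [hc]
    field_simp
  obtain ⟨Ω, hΩ⟩ : ∃ Ω : (V × V') →ₗ[F] (V × V') →ₗ[F] F,
      Ω = ω.compl₁₂ (LinearMap.fst F V V') (LinearMap.fst F V V')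
        + c • ω'.compl₁₂ (LinearMap.snd F V V') (LinearMap.snd F V V') := ⟨_, rfl⟩
  have hΩa : ∀ x y : V × V', Ω x y = ω x.1 y.1 + c * ω' x.2 y.2 := by
    intro x y
    rw [hΩ]
    simp only [LinearMap.add_apply, LinearMap.smul_apply, LinearMap.compl₁₂_apply,
      LinearMap.fst_apply, LinearMap.snd_apply, smul_eq_mul]
  have hΩnd : ∀ v, (∀ x, Ω v x = 0) → v = 0 := by
    intro v hv
    have h1 : v.1 = 0 := by
      apply hnd
      intro x
      have h3 := hv (x, 0)
      rw [hΩa] at h3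
      simpa using h3
    have h2 : v.2 = 0 := by
      apply hnd'
      intro x
      have h3 := hv (0, x)
      rw [hΩa] at h3
      simp only [map_zero, zero_add] at h3
      rcases mul_eq_zero.mp h3 with h | h
      · exact absurd h hc0
      · exact h
    exact Prod.ext h1 h2
  refine ⟨V × V', inferInstance, inferInstance, inferInstance, Ω, LinearMap.prodMap T T',
    S.prod S', (w, 0), (0, w'), ?_, hΩnd, ?_, ?_, ?_, ?_, ?_, ?_, ?_, ?_, ?_⟩
  · intro x y
    rw [hΩa, hΩa, hsym, hsym']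
  · intro x y
    rw [hΩa, hΩa]
    show ω (T x.1) (T y.1) + c * ω' (T' x.2) (T' y.2) = ω x.1 y.1 + c * ω' x.2 y.2
    rw [hiso, hiso']
  · rw [Cfsg.Agent.Lib.helper45.prodMap_pow, hTp, hTp']
    exact LinearMap.prodMap_one
  · intro x hx y hy
    obtain ⟨hx1, hx2⟩ := Submodule.mem_prod.mp hx
    obtain ⟨hy1, hy2⟩ := Submodule.mem_prod.mp hy
    rw [hΩa, hSS x.1 hx1 y.1 hy1, hSS' x.2 hx2 y.2 hy2, mul_zero, add_zero]
  · rw [so_finrank_prod, Module.finrank_prod, hSdim, hSdim', hdim, hdim']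
    omega
  · intro x hx
    obtain ⟨hx1, hx2⟩ := Submodule.mem_prod.mp hx
    rw [hΩa]
    show ω x.1 w + c * ω' x.2 0 = 0
    rw [hSw x.1 hx1, map_zero, mul_zero, add_zero]
  · intro x hx
    obtain ⟨hx1, hx2⟩ := Submodule.mem_prod.mp hx
    rw [hΩa]
    show ω x.1 0 + c * ω' x.2 w' = 0
    rw [hSw' x.2 hx2, map_zero, mul_zero, add_zero]
  · rw [hΩa]
    show ω w 0 + c * ω' 0 w' = 0
    rw [map_zero, map_zero, LinearMap.zero_apply, mul_zero, add_zero]
  · intro x y hxy
    rw [hΩa, hΩa] at hxy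
    have h3 : x ^ 2 * ω w w + y ^ 2 * (c * ω' w' w') = 0 := by
      have h4 : ω (w, (0 : V')).1 (w, (0 : V')).1 = ω w w := rfl
      have h5 : ω' (w, (0 : V')).2 (w, (0 : V')).2 = 0 := by
        show ω' 0 0 = 0
        rw [map_zero]
      have h6 : ω ((0 : V), w').1 ((0 : V), w').1 = 0 := by
        show ω 0 0 = 0
        rw [map_zero]
      have h7 : ω' ((0 : V), w').2 ((0 : V), w').2 = ω' w' w' := rfl
      rw [h4, h5, h6, h7] at hxy
      linear_combination hxy
    rw [hcw] at h3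
    have h4 : (x ^ 2 - δ * y ^ 2) * ω w w = 0 := by linear_combination h3
    have h5 : x ^ 2 = δ * y ^ 2 := by
      rcases mul_eq_zero.mp h4 with h | h
      · exact sub_eq_zero.mp h
      · exact absurd h hww
    have hy : y = 0 := by
      by_contra hy0
      apply hδ
      refine ⟨x / y, ?_⟩
      rw [div_mul_div_comm, eq_div_iff (mul_ne_zero hy0 hy0)]
      linear_combination -h5
    have hx : x = 0 := by
      rw [hy] at h5
      have h6 : x ^ 2 = 0 := by rw [h5]; ring
      exact pow_eq_zero_iff (by norm_num) |>.mp h6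
    exact ⟨hx, hy⟩
  · intro j
    have hsub : LinearMap.prodMap T T' - 1 = LinearMap.prodMap (T - 1) (T' - 1) := by
      apply LinearMap.ext
      rintro ⟨a, b⟩
      rfl
    rw [hsub, Cfsg.Agent.Lib.helper45.prodMap_pow, sq_ker_prod, hker j, hker' j]
    simp only [Multiset.insert_eq_cons, Multiset.map_cons, Multiset.map_singleton,
      Multiset.sum_cons, Multiset.sum_singleton]

/-- Every admissible Jordan type of even total size with an odd part is realised on an
elliptic space (finite fields of odd characteristic). -/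
theorem so_realM_all [Finite F] (p : ℕ) [Fact p.Prime] [CharP F p] (hp2 : p ≠ 2)
    (μ : Multiset ℕ) (hparts : ∀ a ∈ μ, 0 < a ∧ a ≤ p)
    (hcount : ∀ a, Even a → Even (μ.count a)) (hsum : Even μ.sum) (a : ℕ) (ha : a ∈ μ)
    (hodd : Odd a) : SoRealM F p μ := by
  have hsum1 : μ.sum = a + (μ.erase a).sum := by
    rw [← Multiset.sum_cons, Multiset.cons_erase ha]
  obtain ⟨s, hs⟩ := hsum
  obtain ⟨a', ha', hodd'⟩ : ∃ a' ∈ μ.erase a, Odd a' := by
    by_contra hcon
    push Not at hcon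
    have h3 : 2 ∣ (μ.erase a).sum := by
      apply Multiset.dvd_sum
      intro x hx
      exact even_iff_two_dvd.mp (Nat.not_odd_iff_even.mp (hcon x hx))
    obtain ⟨e, he⟩ := hodd
    omega
  have hsum2 : (μ.erase a).sum = a' + ((μ.erase a).erase a').sum := by
    rw [← Multiset.sum_cons, Multiset.cons_erase ha']
  have ha'μ : a' ∈ μ := Multiset.mem_of_mem_erase ha'
  have h1 : μ = {a, a'} + (μ.erase a).erase a' := by
    rw [Multiset.insert_eq_cons, Multiset.cons_add, Multiset.singleton_add,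
      Multiset.cons_erase ha', Multiset.cons_erase ha]
  have hchar : ringChar F ≠ 2 := by
    rw [ringChar.eq F p]
    exact hp2
  obtain ⟨δ, hδ⟩ := FiniteField.exists_nonsquare hchar
  rw [h1]
  apply SoRealM.add_hyp (so_realM_two p δ hδ a a'
    (so_single p hp2 a (hparts a ha).1 (hparts a ha).2 hodd)
    (so_single p hp2 a' (hparts a' ha'μ).1 (hparts a' ha'μ).2 hodd') hodd hodd')
  apply so_real_all p hp2 _ ((μ.erase a).erase a') rfl
  · intro b hb
    exact hparts b (Multiset.mem_of_mem_erase (Multiset.mem_of_mem_erase hb))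
  · intro b hb
    have hba : b ≠ a := by
      rintro rfl
      exact (Nat.not_even_iff_odd.mpr hodd) hb
    have hba' : b ≠ a' := by
      rintro rfl
      exact (Nat.not_even_iff_odd.mpr hodd') hb
    rw [Multiset.count_erase_of_ne hba', Multiset.count_erase_of_ne hba]
    exact hcount b hb
  · obtain ⟨e, he⟩ := hodd
    obtain ⟨e', he'⟩ := hodd'
    exact ⟨s - e - e' - 1, by omega⟩

end soe

end Cfsg.Agent.Lib.helper24
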