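import Mathlib
import Cfsg.Agent.Lib.helper24.SoD
import Cfsg.Agent.Lib.helper24.SoE
import Cfsg.Agent.Lib.helper45.QWitt

/-!
# Symmetric forms: transfer to standard quadratic forms (generic), elliptic case
-/

set_option autoImplicit false

namespace Cfsg.Agent.Lib.helper24

open Module Polynomial

universe u

section sof0

variable {F : Type*} [Field F] [Fintype F]

/-- Elements of odd prime order of the isometry group lie in `Ω`. -/
theorem so_omega_of_odd {ι : Type} [Fintype ι] [DecidableEq ι] (h2 : (2 : F) ≠ 0)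
    (Q : QuadraticForm F (ι → F)) (hQ : (QuadraticMap.polarBilin Q).Nondegenerate)
    (hι : 2 ≤ Fintype.card ι) (p : ℕ) (hp : p.Prime) (hp2 : p ≠ 2) (g : GL ι F)
    (hg : g ∈ Cfsg.isometryGroup F ⇑Q) (hgp : g ^ p = 1) : g ∈ Cfsg.Geo.omegaGL ⇑Q := by
  classical
  obtain ⟨x, hx⟩ : ∃ x : ↥(Cfsg.isometryGroup F ⇑Q), (x : GL ι F) = g := ⟨⟨g, hg⟩, rfl⟩
  have hxp : x ^ p = 1 := by
    apply Subtype.ext
    rw [Subgroup.coe_pow, hx, hgp]
    rfl
  have hΦp : (Cfsg.Agent.S0788.Phi Q x) ^ p = 1 := by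
    rw [← map_pow, hxp, map_one]
  have hΦ2 : (Cfsg.Agent.S0788.Phi Q x) ^ 2 = 1 := by
    have hmem : Cfsg.Agent.S0788.Phi Q x ∈
        ((Cfsg.Agent.S0788.Phi Q).range : Set (Fˣ × ℤˣ)) := ⟨x, rfl⟩
    rw [Cfsg.Agent.S0788.range_Phi h2 _ hQ hι] at hmem
    obtain ⟨h1, -⟩ := hmem
    apply Prod.ext
    · show (Cfsg.Agent.S0788.Phi Q x).1 ^ 2 = 1
      rcases h1 with h | h
      · rw [h, one_pow]
      · rw [Set.mem_singleton_iff] at h
        rw [h]
        simp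
    · show (Cfsg.Agent.S0788.Phi Q x).2 ^ 2 = 1
      exact Int.units_sq _
  have hΦ1 : Cfsg.Agent.S0788.Phi Q x = 1 := by
    have h1 := orderOf_dvd_of_pow_eq_one hΦp
    have h2' := orderOf_dvd_of_pow_eq_one hΦ2
    have h3 := Nat.dvd_gcd h1 h2'
    have h4 : Nat.gcd p 2 = 1 := (Nat.coprime_primes hp Nat.prime_two).mpr hp2
    rw [h4, Nat.dvd_one] at h3
    exact orderOf_eq_one_iff.mp h3
  have hxΩ : x ∈ Cfsg.Omega F ⇑Q := by
    rw [Cfsg.Agent.S0788.Omega_eq_ker h2 _ hQ]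
    exact MonoidHom.mem_ker.mpr hΦ1
  exact ⟨x, hxΩ, hx⟩

/-- Transfer of a unipotent isometry along an isometry to a standard quadratic space. -/
theorem so_transfer {ι : Type} [Fintype ι] [DecidableEq ι] (Q : QuadraticForm F (ι → F))
    (hQ : (QuadraticMap.polarBilin Q).Nondegenerate) (hι : 2 ≤ Fintype.card ι)
    (p : ℕ) [Fact p.Prime] [CharP F p] (hp2 : p ≠ 2)
    {V : Type*} [AddCommGroup V] [Module F V] [FiniteDimensional F V]
    (ω : V →ₗ[F] V →ₗ[F] F) (T : Module.End F V) (hiso : ∀ v w, ω (T v) (T w) = ω v w)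
    (hTp : T ^ p = 1) (φ : V ≃ₗ[F] (ι → F)) (hφ : ∀ v, 2 * Q (φ v) = ω v v) :
    ∃ g : GL ι F, g ∈ Cfsg.Geo.omegaGL ⇑Q ∧ g ^ p = 1 ∧
      ∀ j : ℕ, finrank F (LinearMap.ker ((Matrix.toLin' (g : Matrix ι ι F) - 1) ^ j)) =
        finrank F (LinearMap.ker ((T - 1) ^ j)) := by
  classical
  have hpp : p.Prime := Fact.out
  have h2 : (2 : F) ≠ 0 := sq_two_ne p hp2
  obtain ⟨T', hT'⟩ : ∃ T' : Module.End F V, T' = T ^ (p - 1) := ⟨_, rfl⟩
  have hTT' : T * T' = 1 := by rw [hT', ← pow_succ', Nat.sub_add_cancel hpp.one_le, hTp]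
  have hT'T : T' * T = 1 := by rw [hT', ← pow_succ, Nat.sub_add_cancel hpp.one_le, hTp]
  obtain ⟨L, hL⟩ : ∃ L : Module.End F (ι → F),
      L = φ.toLinearMap ∘ₗ T ∘ₗ φ.symm.toLinearMap := ⟨_, rfl⟩
  obtain ⟨L', hL'⟩ : ∃ L' : Module.End F (ι → F),
      L' = φ.toLinearMap ∘ₗ T' ∘ₗ φ.symm.toLinearMap := ⟨_, rfl⟩
  have hLx : ∀ x, L x = φ (T (φ.symm x)) := fun x => by rw [hL]; rfl
  have hL'x : ∀ x, L' x = φ (T' (φ.symm x)) := fun x => by rw [hL']; rfl
  have hLL' : L * L' = 1 := by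
    apply LinearMap.ext
    intro x
    rw [Module.End.mul_apply, hLx, hL'x, LinearEquiv.symm_apply_apply,
      sq_inv_apply T T' hTT', LinearEquiv.apply_symm_apply, Module.End.one_apply]
  have hL'L : L' * L = 1 := by
    apply LinearMap.ext
    intro x
    rw [Module.End.mul_apply, hLx, hL'x, LinearEquiv.symm_apply_apply,
      sq_inv_apply T' T hT'T, LinearEquiv.apply_symm_apply, Module.End.one_apply]
  obtain ⟨g, hg⟩ : ∃ g : GL ι F, (g : Matrix ι ι F) = LinearMap.toMatrix' L :=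
    ⟨⟨LinearMap.toMatrix' L, LinearMap.toMatrix' L',
      by rw [← LinearMap.toMatrix'_mul, hLL', LinearMap.toMatrix'_one],
      by rw [← LinearMap.toMatrix'_mul, hL'L, LinearMap.toMatrix'_one]⟩, rfl⟩
  have hgL : Matrix.toLin' (g : Matrix ι ι F) = L := by
    rw [hg, Matrix.toLin'_toMatrix']
  have hLφ : ∀ v, L (φ v) = φ (T v) := by
    intro v
    rw [hLx, LinearEquiv.symm_apply_apply]
  have hpowL : ∀ (m : ℕ) (v : V), (L ^ m) (φ v) = φ ((T ^ m) v) := by
    intro m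
    induction m with
    | zero =>
      intro v
      simp
    | succ m ih =>
      intro v
      rw [pow_succ, Module.End.mul_apply, hLφ, ih, pow_succ, Module.End.mul_apply]
  have hLp : L ^ p = 1 := by
    apply LinearMap.ext
    intro x
    obtain ⟨v, rfl⟩ := φ.surjective x
    rw [hpowL, hTp]
    rfl
  have hpowM : ∀ m : ℕ, (LinearMap.toMatrix' L) ^ m = LinearMap.toMatrix' (L ^ m) := by
    intro m
    induction m with
    | zero => rw [pow_zero, pow_zero, LinearMap.toMatrix'_one]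
    | succ m ih => rw [pow_succ, ih, pow_succ, LinearMap.toMatrix'_mul]
  have hgp : g ^ p = 1 := by
    apply Units.ext
    rw [Units.val_pow_eq_pow_val, Units.val_one, hg, hpowM, hLp, LinearMap.toMatrix'_one]
  have key : ∀ x : ι → F, Q ((g : Matrix ι ι F).mulVec x) = Q x := by
    intro x
    obtain ⟨v, rfl⟩ := φ.surjective x
    have h3 : (g : Matrix ι ι F).mulVec (φ v) = φ (T v) := by
      rw [← Matrix.toLin'_apply, hgL, hLφ]
    rw [h3]
    have h4 := hφ (T v)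
    have h5 := hφ v
    rw [hiso] at h4
    exact mul_left_cancel₀ h2 (h4.trans h5.symm)
  have hgiso : g ∈ Cfsg.isometryGroup F ⇑Q := fun u _ => key u
  refine ⟨g, so_omega_of_odd h2 Q hQ hι p hpp hp2 g hgiso hgp, hgp, fun j => ?_⟩
  rw [hgL]
  exact sq_conj_ker φ T L hLφ j

end sof0

section sof1

variable {F : Type u} [Field F] [Fintype F]

/-- A nondegenerate symmetric space of dimension `2k+2` which is the orthogonal sum of a
hyperbolic space and an anisotropic plane is isometric to the standard elliptic space. -/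
theorem so_minus_basis {V : Type u} [AddCommGroup V] [Module F V] [FiniteDimensional F V]
    (ω : V →ₗ[F] V →ₗ[F] F)
    (hsym : ∀ u v, ω u v = ω v u) (hnd : ∀ v, (∀ w, ω v w = 0) → v = 0) (h2 : (2 : F) ≠ 0)
    (k : ℕ) (hdim : finrank F V = 2 * k + 2) (U : Submodule F V)
    (hU : ∀ u ∈ U, ∀ v ∈ U, ω u v = 0) (hUdim : finrank F U = k) (w₁ w₂ : V)
    (hUw₁ : ∀ u ∈ U, ω u w₁ = 0) (hUw₂ : ∀ u ∈ U, ω u w₂ = 0) (hw12 : ω w₁ w₂ = 0)
    (han : ∀ x y : F, x ^ 2 * ω w₁ w₁ + y ^ 2 * ω w₂ w₂ = 0 → x = 0 ∧ y = 0)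
    (a b : F) (hab : ∀ x y : F, x ^ 2 + a * x * y + b * y ^ 2 = 0 → x = 0 ∧ y = 0) :
    ∃ φ : V ≃ₗ[F] ((Fin k ⊕ Fin k) ⊕ Fin 2 → F),
      ∀ v, 2 * Cfsg.quadFormMinus k F a b (φ v) = ω v v := by
  classical
  have hw11 : ω w₁ w₁ ≠ 0 := by
    intro h
    have h3 := han 1 0 (by rw [h]; ring)
    exact one_ne_zero h3.1
  have hw22 : ω w₂ w₂ ≠ 0 := by
    intro h
    have h3 := han 0 1 (by rw [h]; ring)
    exact one_ne_zero h3.2
  have hw21 : ω w₂ w₁ = 0 := by rw [hsym, hw12]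
  obtain ⟨A, hA⟩ : ∃ A : Submodule F V, A = Submodule.span F {w₁, w₂} := ⟨_, rfl⟩
  have hAmem : ∀ v ∈ A, ∃ x y : F, v = x • w₁ + y • w₂ := by
    intro v hv
    rw [hA] at hv
    obtain ⟨x, y, rfl⟩ := Submodule.mem_span_pair.mp hv
    exact ⟨x, y, rfl⟩
  have hw₁A : w₁ ∈ A := by
    rw [hA]
    exact Submodule.subset_span (by simp)
  have hw₂A : w₂ ∈ A := by
    rw [hA]
    exact Submodule.subset_span (by simp)
  have hAnd : SpNd ω A := by
    intro u hu hu2
    obtain ⟨x, y, rfl⟩ := hAmem u hu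
    have e1 := hu2 w₁ hw₁A
    have e2 := hu2 w₂ hw₂A
    simp only [map_add, map_smul, LinearMap.add_apply, LinearMap.smul_apply, smul_eq_mul, hw12,
      hw21, mul_zero, add_zero, zero_add] at e1 e2
    have hx : x = 0 := (mul_eq_zero.mp e1).resolve_right hw11
    have hy : y = 0 := (mul_eq_zero.mp e2).resolve_right hw22
    rw [hx, hy, zero_smul, zero_smul, add_zero]
  have hAan : ∀ v ∈ A, ω v v = 0 → v = 0 := by
    intro v hv hvv
    obtain ⟨x, y, rfl⟩ := hAmem v hv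
    simp only [map_add, map_smul, LinearMap.add_apply, LinearMap.smul_apply, smul_eq_mul, hw12,
      hw21, mul_zero, add_zero, zero_add] at hvv
    obtain ⟨hx, hy⟩ := han x y (by linear_combination hvv)
    rw [hx, hy, zero_smul, zero_smul, add_zero]
  have hAdim : finrank F A = 2 := by
    have hli : LinearIndependent F ![w₁, w₂] := by
      rw [LinearIndependent.pair_iff]
      intro s t hst
      have e1 := congrArg (fun x => ω x w₁) hst
      have e2 := congrArg (fun x => ω x w₂) hst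
      simp only [map_add, map_smul, LinearMap.add_apply, LinearMap.smul_apply, smul_eq_mul,
        hw12, hw21, mul_zero, add_zero, zero_add, map_zero, LinearMap.zero_apply] at e1 e2
      exact ⟨(mul_eq_zero.mp e1).resolve_right hw11, (mul_eq_zero.mp e2).resolve_right hw22⟩
    have h3 := finrank_span_eq_card hli
    rw [Fintype.card_fin] at h3
    have h4 : Set.range ![w₁, w₂] = {w₁, w₂} := by
      ext x
      simp only [Set.mem_range, Set.mem_insert_iff, Set.mem_singleton_iff]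
      constructor
      · rintro ⟨i, rfl⟩
        fin_cases i
        · left; rfl
        · right; rfl
      · rintro (rfl | rfl)
        · exact ⟨0, rfl⟩
        · exact ⟨1, rfl⟩
    rw [h4] at h3
    rw [hA]
    exact h3
  have hndtop : SpNd ω ⊤ := fun u _ hu => hnd u (fun w => hu w Submodule.mem_top)
  obtain ⟨P, hP⟩ : ∃ P : Submodule F V, P = spPerp ω A ⊓ ⊤ := ⟨_, rfl⟩
  obtain ⟨hPnd, hsup, hinf, hPdim⟩ := so_rel ω hsym ⊤ A hndtop hAnd le_top
  rw [← hP] at hPnd hsup hinf hPdim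
  rw [finrank_top, hdim, hAdim] at hPdim
  have hAP : ∀ x ∈ A, ∀ y ∈ P, ω x y = 0 := by
    intro x hx y hy
    rw [hP] at hy
    exact (Submodule.mem_inf.mp hy).1 x hx
  have hUP : U ≤ P := by
    intro u hu
    rw [hP]
    refine Submodule.mem_inf.mpr ⟨?_, Submodule.mem_top⟩
    intro x hx
    obtain ⟨s, t, rfl⟩ := hAmem x hx
    simp only [map_add, map_smul, LinearMap.add_apply, LinearMap.smul_apply, smul_eq_mul]
    rw [hsym w₁ u, hsym w₂ u, hUw₁ u hu, hUw₂ u hu]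
    ring
  obtain ⟨φ₁, hφ₁⟩ := so_hyp_basis (ω.domRestrict₁₂ P P) (fun u v => hsym u.1 v.1)
    (sp_nd_restrict ω P hPnd) h2 k (by omega) (U.comap P.subtype)
    (fun u hu v hv => hU u.1 hu v.1 hv)
    (by rw [(Submodule.comapSubtypeEquivOfLe hUP).finrank_eq, hUdim])
  obtain ⟨QA, hQA⟩ : ∃ QA : QuadraticForm F A, ∀ v : A, QA v = 2⁻¹ * ω v.1 v.1 :=
    ⟨LinearMap.BilinMap.toQuadraticMap ((2⁻¹ : F) • ω.domRestrict₁₂ A A), fun v => by
      rw [LinearMap.BilinMap.toQuadraticMap_apply]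
      rfl⟩
  have hQApolar : ∀ u v : A, QuadraticMap.polar QA u v = ω u.1 v.1 := by
    intro u v
    unfold QuadraticMap.polar
    rw [hQA, hQA, hQA]
    simp only [Submodule.coe_add, map_add, LinearMap.add_apply]
    rw [hsym v.1 u.1]
    field_simp
    ring
  obtain ⟨φ₂, hφ₂⟩ := Cfsg.Agent.Lib.helper45.aniso_planes_isometric QA
    (Cfsg.Agent.Lib.helper45.binForm a b)
    (by
      intro v hv
      apply Subtype.ext
      apply hAnd v.1 v.2
      intro w hw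
      have h3 := hv ⟨w, hw⟩
      rw [hQApolar] at h3
      exact h3)
    (Cfsg.Agent.Lib.helper45.binForm_nondeg a b hab)
    (by
      intro v hv
      apply Subtype.ext
      apply hAan v.1 v.2
      rw [hQA] at hv
      rcases mul_eq_zero.mp hv with h | h
      · exact absurd h (inv_ne_zero h2)
      · exact h)
    (Cfsg.Agent.Lib.helper45.binForm_aniso a b hab) hAdim
    (by rw [Module.finrank_fintype_fun_eq_card, Fintype.card_fin])
  obtain ⟨S, hS⟩ : ∃ S : ((Fin k ⊕ Fin k) ⊕ Fin 2 → F) →ₗ[F] V,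
      ∀ u, S u = (φ₁.symm (u ∘ Sum.inl) : V) + (φ₂.symm (u ∘ Sum.inr) : V) :=
    ⟨P.subtype ∘ₗ φ₁.symm.toLinearMap ∘ₗ LinearMap.funLeft F F Sum.inl
      + A.subtype ∘ₗ φ₂.symm.toLinearMap ∘ₗ LinearMap.funLeft F F Sum.inr, fun u => rfl⟩
  have hQS : ∀ u, 2 * Cfsg.quadFormMinus k F a b u = ω (S u) (S u) := by
    intro u
    rw [hS]
    obtain ⟨x, hx⟩ : ∃ x : P, x = φ₁.symm (u ∘ Sum.inl) := ⟨_, rfl⟩
    obtain ⟨y, hy⟩ : ∃ y : A, y = φ₂.symm (u ∘ Sum.inr) := ⟨_, rfl⟩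
    rw [← hx, ← hy]
    have e1 : 2 * Cfsg.quadFormPlus k F (φ₁ x) = ω x.1 x.1 := hφ₁ x
    have e2 := hφ₂ y
    have e1' : φ₁ x = u ∘ Sum.inl := by rw [hx, LinearEquiv.apply_symm_apply]
    have e2' : φ₂ y = u ∘ Sum.inr := by rw [hy, LinearEquiv.apply_symm_apply]
    rw [e1'] at e1
    rw [e2', Cfsg.Agent.Lib.helper45.binForm_apply, hQA] at e2
    simp only [map_add, LinearMap.add_apply]
    rw [hAP y.1 y.2 x.1 x.2, hsym x.1 y.1, hAP y.1 y.2 x.1 x.2, add_zero, zero_add, ← e1]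
    have e3 : ω y.1 y.1 = 2 * ((u ∘ Sum.inr) 0 ^ 2 + a * (u ∘ Sum.inr) 0 * (u ∘ Sum.inr) 1
        + b * (u ∘ Sum.inr) 1 ^ 2) := by
      rw [e2]
      field_simp
    rw [e3]
    unfold Cfsg.quadFormMinus Cfsg.quadFormPlus
    simp only [Function.comp_apply]
    ring
  have hSinj : Function.Injective S := by
    rw [injective_iff_map_eq_zero]
    intro u hu
    rw [hS] at hu
    have hx0 : ((φ₁.symm (u ∘ Sum.inl) : P) : V) ∈ A ⊓ P := by
      refine Submodule.mem_inf.mpr ⟨?_, (φ₁.symm (u ∘ Sum.inl)).2⟩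
      rw [eq_neg_of_add_eq_zero_left hu]
      exact A.neg_mem (φ₂.symm (u ∘ Sum.inr)).2
    rw [hinf, Submodule.mem_bot] at hx0
    have hy0 : ((φ₂.symm (u ∘ Sum.inr) : A) : V) = 0 := by
      rw [hx0, zero_add] at hu
      exact hu
    have h3 : u ∘ Sum.inl = 0 := by
      have h4 : φ₁.symm (u ∘ Sum.inl) = 0 := Subtype.ext hx0
      exact (LinearEquiv.map_eq_zero_iff φ₁.symm).mp h4
    have h5 : u ∘ Sum.inr = 0 := by
      have h4 : φ₂.symm (u ∘ Sum.inr) = 0 := Subtype.ext hy0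
      exact (LinearEquiv.map_eq_zero_iff φ₂.symm).mp h4
    funext j
    rcases j with j | j
    · exact congrFun h3 j
    · exact congrFun h5 j
  have hdim' : finrank F ((Fin k ⊕ Fin k) ⊕ Fin 2 → F) = finrank F V := by
    rw [hdim, Module.finrank_fintype_fun_eq_card, Fintype.card_sum, Fintype.card_sum,
      Fintype.card_fin, Fintype.card_fin]
    omega
  refine ⟨(LinearMap.linearEquivOfInjective S hSinj hdim').symm, fun v => ?_⟩
  rw [hQS, ← LinearMap.linearEquivOfInjective_apply hSinj hdim', LinearEquiv.apply_symm_apply]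

/-- Transport of an elliptic realisation to `Ω⁻_{2k+2}(F)`. -/
theorem so_real_minus (p : ℕ) [Fact p.Prime] [CharP F p] (hp2 : p ≠ 2) (μ : Multiset ℕ)
    (hμ : SoRealM F p μ) (hparts : ∀ a ∈ μ, a ≤ p) (k : ℕ) (hsum : μ.sum = 2 * k + 2)
    (a b : F) (hab : ∀ x y : F, x ^ 2 + a * x * y + b * y ^ 2 = 0 → x = 0 ∧ y = 0) :
    ∃ g : GL ((Fin k ⊕ Fin k) ⊕ Fin 2) F,
      g ∈ Cfsg.Geo.omegaGL (Cfsg.quadFormMinus k F a b) ∧ g ^ p = 1 ∧
      ∀ j : ℕ, finrank F (LinearMap.ker ((Matrix.toLin'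
        (g : Matrix ((Fin k ⊕ Fin k) ⊕ Fin 2) ((Fin k ⊕ Fin k) ⊕ Fin 2) F) - 1) ^ j)) =
        (μ.map (fun b => min j b)).sum := by
  classical
  obtain ⟨V, _, _, _, ω, T, U, w₁, w₂, hsym, hnd, hiso, hTp, hU, hUdim, hUw₁, hUw₂, hw12, han,
    hker⟩ := hμ
  have h2 : (2 : F) ≠ 0 := sq_two_ne p hp2
  have hNp := sq_unip p T hTp
  have hfin : finrank F V = 2 * k + 2 := by
    have h3 := hker p
    rw [hNp, LinearMap.ker_zero, finrank_top, sq_D_top μ p hparts, hsum] at h3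
    exact h3
  obtain ⟨φ, hφ⟩ := so_minus_basis ω hsym hnd h2 k hfin U hU (by omega) w₁ w₂ hUw₁ hUw₂ hw12 han
    a b hab
  have hι : 2 ≤ Fintype.card ((Fin k ⊕ Fin k) ⊕ Fin 2) := by
    rw [Fintype.card_sum, Fintype.card_fin]
    omega
  obtain ⟨g, hgΩ, hgp, hgker⟩ := so_transfer (Cfsg.Agent.Lib.helper49.minusForm k F a b)
    (Cfsg.Agent.Lib.helper42.minusForm_nondegenerate k a b hab) hι p hp2 ω T hiso hTp φ hφ
  exact ⟨g, hgΩ, hgp, fun j => by rw [hgker j, hker j]⟩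

end sof1

end Cfsg.Agent.Lib.helper24
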