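import Mathlib
import Cfsg.Agent.Lib.helper24.SoF

/-!
# `Ω⁻_{2d}(q)`, `q` odd: elements of order `p` and invariant elliptic subspaces
-/

set_option autoImplicit false

namespace Cfsg.Agent.Lib.helper24

open Module Polynomial

universe u

section sog0

variable {F : Type*} [Field F] {V : Type*} [AddCommGroup V] [Module F V]

/-- `so_type_sub` together with the kernel dimensions on the subspace. -/
theorem so_type_sub' [FiniteDimensional F V] (ω : V →ₗ[F] V →ₗ[F] F)
    (hsym : ∀ u v, ω u v = ω v u)
    (hnd : ∀ v, (∀ w, ω v w = 0) → v = 0) (h2 : (2 : F) ≠ 0) (T : Module.End F V)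
    (hT : ∀ u v, ω (T u) (T v) = ω u v) (p : ℕ) [Fact p.Prime] [CharP F p] (hTp : T ^ p = 1)
    (μ : Multiset ℕ) (hμpos : ∀ a ∈ μ, 0 < a)
    (hμ : ∀ j : ℕ, finrank F (LinearMap.ker ((T - 1) ^ j)) = (μ.map (fun b => min j b)).sum)
    (W : Submodule F V) (hW : SpNd ω W) (hWinv : ∀ w ∈ W, T w ∈ W) :
    ∃ ν : Multiset ℕ, ν ≤ μ ∧ ν.sum = finrank F W ∧ (∀ a, Even a → Even (ν.count a)) ∧
      ∀ j : ℕ, finrank F ↥(LinearMap.ker ((T - 1) ^ j) ⊓ W) =
        (ν.map (fun b => min j b)).sum := by
  have hpp : p.Prime := Fact.out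
  have hNp : (T - 1) ^ p = 0 := sq_unip p T hTp
  have hstruct := so_struct ω hsym h2 T hT p hpp.one_le hTp p hNp
  have hndtop : SpNd ω ⊤ := fun u _ hu => hnd u (fun w => hu w Submodule.mem_top)
  obtain ⟨hW'nd, hsup, hinf, hdim⟩ := so_rel ω hsym ⊤ W hndtop hW le_top
  have hWmap : W.map T = W := sq_map_eq T p hpp.one_le hTp W hWinv
  have hW'inv : ∀ w ∈ spPerp ω W ⊓ ⊤, T w ∈ spPerp ω W ⊓ ⊤ := by
    intro w hw
    obtain ⟨hw1, hw2⟩ := Submodule.mem_inf.mp hw
    exact Submodule.mem_inf.mpr ⟨sp_perp_inv ω T hT W hWmap w hw1, Submodule.mem_top⟩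
  obtain ⟨μ₁, hμ₁1, hμ₁2, hμ₁3, -⟩ := hstruct (finrank F W) W le_rfl hW hWinv
  obtain ⟨μ₂, hμ₂1, hμ₂2, hμ₂3, -⟩ := hstruct (finrank F ↥(spPerp ω W ⊓ ⊤)) _ le_rfl hW'nd hW'inv
  have hNinv : ∀ (X : Submodule F V), (∀ u ∈ X, T u ∈ X) → ∀ j : ℕ, ∀ u ∈ X,
      ((T - 1) ^ j) u ∈ X := by
    intro X hX j
    apply sq_pow_inv
    intro u hu
    rw [LinearMap.sub_apply, Module.End.one_apply]
    exact X.sub_mem (hX u hu) hu
  have hsum : μ₁ + μ₂ = μ := by
    apply sq_D_inj (μ₁ + μ₂) μ _ hμpos
    · intro j
      rw [Multiset.map_add, Multiset.sum_add, ← hμ₁3 j, ← hμ₂3 j,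
        ← sq_ker_add ((T - 1) ^ j) W _ hinf (hNinv W hWinv j) (hNinv _ hW'inv j), hsup,
        inf_top_eq, hμ j]
    · intro a ha
      rcases Multiset.mem_add.mp ha with h | h
      · exact (hμ₁1 a h).1
      · exact (hμ₂1 a h).1
  refine ⟨μ₁, ?_, ?_, hμ₁2, hμ₁3⟩
  · rw [← hsum]
    exact Multiset.le_add_right _ _
  · have h3 := hμ₁3 p
    rw [sq_D_top μ₁ p (fun a ha => (hμ₁1 a ha).2), hNp, LinearMap.ker_zero, top_inf_eq] at h3
    exact h3.symm

/-- An invariant subspace on which `(T-1)^2 = 0` and whose fixed space has half the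
dimension contains a totally isotropic subspace of half the dimension. -/
theorem so_half_ts [FiniteDimensional F V] (ω : V →ₗ[F] V →ₗ[F] F) (T T' : Module.End F V)
    (hT : ∀ u v, ω (T u) (T v) = ω u v) (hTT' : T * T' = 1) (hT'T : T' * T = 1)
    (W : Submodule F V) (hWinv : ∀ w ∈ W, T w ∈ W)
    (h1 : 2 * finrank F ↥(LinearMap.ker (T - 1) ⊓ W) = finrank F W)
    (h2 : ∀ w ∈ W, ((T - 1) ^ (2 : ℕ)) w = 0) :
    ∃ U : Submodule F V, U ≤ W ∧ (∀ u ∈ U, ∀ v ∈ U, ω u v = 0) ∧
      2 * finrank F U = finrank F W := by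
  refine ⟨W.map (T - 1), ?_, ?_, ?_⟩
  · rintro _ ⟨w, hw, rfl⟩
    rw [LinearMap.sub_apply, Module.End.one_apply]
    exact W.sub_mem (hWinv w hw) hw
  · rintro _ ⟨x, hx, rfl⟩ _ ⟨y, hy, rfl⟩
    have h3 := sq_gram0 ω T T' hT hTT' hT'T 2 1 1 (by omega) x y (h2 y hy)
    rw [pow_one] at h3
    exact h3
  · have h3 := sq_rank_nullity (T - 1) W
    omega

end sog0

section sogmult

theorem so_sum_le3 (ν : Multiset ℕ) (h : ∀ a ∈ ν, 1 ≤ a ∧ a ≤ 3) :
    ν.sum = ν.count 1 + 2 * ν.count 2 + 3 * ν.count 3 := by
  induction ν using Multiset.induction_on with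
  | empty => simp
  | cons a ν ih =>
    have h1 := ih (fun x hx => h x (Multiset.mem_cons_of_mem hx))
    obtain ⟨ha1, ha3⟩ := h a (Multiset.mem_cons_self a ν)
    rw [Multiset.sum_cons, h1]
    interval_cases a
    · rw [Multiset.count_cons_self, Multiset.count_cons_of_ne (by decide),
        Multiset.count_cons_of_ne (by decide)]
      omega
    · rw [Multiset.count_cons_self, Multiset.count_cons_of_ne (by decide),
        Multiset.count_cons_of_ne (by decide)]
      omega
    · rw [Multiset.count_cons_self, Multiset.count_cons_of_ne (by decide),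
        Multiset.count_cons_of_ne (by decide)]
      omega

theorem so_four_dvd : ∀ (n : ℕ) (ν : Multiset ℕ), Multiset.card ν = n → (∀ a ∈ ν, Even a) →
    (∀ a, Even a → Even (ν.count a)) → 4 ∣ ν.sum := by
  intro n
  induction n using Nat.strong_induction_on with
  | _ n ih =>
    intro ν hcard hall hcount
    by_cases h0 : ν = 0
    · rw [h0, Multiset.sum_zero]
      exact dvd_zero 4
    obtain ⟨a, ha⟩ := Multiset.exists_mem_of_ne_zero h0
    have hev := hall a ha
    have hc1 : 1 ≤ ν.count a := Multiset.count_pos.mpr ha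
    obtain ⟨e, he⟩ := hcount a hev
    have ha1 : a ∈ ν.erase a := by
      rw [← Multiset.count_pos, Multiset.count_erase_self]
      omega
    have hce : Multiset.card (ν.erase a) = Multiset.card ν - 1 := by
      rw [Multiset.card_erase_of_mem ha]
      rfl
    have hce2 : Multiset.card ((ν.erase a).erase a) = Multiset.card ν - 2 := by
      rw [Multiset.card_erase_of_mem ha1, hce]
      rfl
    have hc2 : 2 ≤ Multiset.card ν := by
      have h5 := Multiset.count_le_card a ν
      omega
    have hsum1 : ν.sum = a + (ν.erase a).sum := by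
      rw [← Multiset.sum_cons, Multiset.cons_erase ha]
    have hsum2 : (ν.erase a).sum = a + ((ν.erase a).erase a).sum := by
      rw [← Multiset.sum_cons, Multiset.cons_erase ha1]
    have h3 : 4 ∣ ((ν.erase a).erase a).sum := by
      apply ih (n - 2) (by omega) ((ν.erase a).erase a) (by omega)
      · intro b hb
        exact hall b (Multiset.mem_of_mem_erase (Multiset.mem_of_mem_erase hb))
      · intro b hb
        by_cases hba : b = a
        · subst hba
          rw [Multiset.count_erase_self, Multiset.count_erase_self]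
          exact ⟨e - 1, by omega⟩
        · rw [Multiset.count_erase_of_ne hba, Multiset.count_erase_of_ne hba]
          exact hcount b hb
    obtain ⟨t, ht⟩ := hev
    obtain ⟨s, hs⟩ := h3
    exact ⟨t + s, by omega⟩

/-- Reduction of the sub-partition property for partitions with all parts even to partitions
having an odd part. -/
theorem so_even_reduce (p m : ℕ) (hpodd : Odd p) (hme : Even m) (μ : Multiset ℕ)
    (hparts : ∀ e ∈ μ, 0 < e ∧ e ≤ p) (hcount : ∀ e : ℕ, Even e → Even (μ.count e))
    (hall : ∀ a ∈ μ, Even a) (hμ0 : μ ≠ 0)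
    (H : ∀ μ' : Multiset ℕ, (∀ e ∈ μ', 0 < e ∧ e ≤ p) →
      (∀ e : ℕ, Even e → Even (μ'.count e)) → μ'.sum = μ.sum → (∃ a ∈ μ', Odd a) →
      ∃ ν : Multiset ℕ, ν ≤ μ' ∧ ν.sum = m ∧ ∀ e : ℕ, Even e → Even (ν.count e)) :
    ∃ ν : Multiset ℕ, ν ≤ μ ∧ ν.sum = m ∧ ∀ e : ℕ, Even e → Even (ν.count e) := by
  obtain ⟨k, hk⟩ := Multiset.exists_mem_of_ne_zero hμ0
  have hkev := hall k hk
  obtain ⟨hk0, hkp⟩ := hparts k hk
  have hk2 : 2 ≤ k := by
    obtain ⟨t, ht⟩ := hkev
    omega
  have hkp' : k + 1 ≤ p := by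
    obtain ⟨t, ht⟩ := hkev
    obtain ⟨s, hs⟩ := hpodd
    omega
  have hc1 : 1 ≤ μ.count k := Multiset.count_pos.mpr hk
  obtain ⟨e, he⟩ := hcount k hkev
  have hk1 : k ∈ μ.erase k := by
    rw [← Multiset.count_pos, Multiset.count_erase_self]
    omega
  obtain ⟨R, hR⟩ : ∃ R : Multiset ℕ, R = (μ.erase k).erase k := ⟨_, rfl⟩
  have hμR : μ = k ::ₘ k ::ₘ R := by
    rw [hR, Multiset.cons_erase hk1, Multiset.cons_erase hk]
  have hRμ : R ≤ μ := by
    rw [hR]
    exact (Multiset.erase_le _ _).trans (Multiset.erase_le _ _)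
  have hRev : ∀ a ∈ R, Even a := fun a ha => hall a (Multiset.mem_of_le hRμ ha)
  have hkp1odd : Odd (k + 1) := by
    obtain ⟨t, ht⟩ := hkev
    exact ⟨t, by omega⟩
  have hkm1odd : Odd (k - 1) := by
    obtain ⟨t, ht⟩ := hkev
    exact ⟨t - 1, by omega⟩
  have hRp : Multiset.count (k + 1) R = 0 :=
    Multiset.count_eq_zero_of_notMem (fun h => (Nat.not_even_iff_odd.mpr hkp1odd) (hRev _ h))
  have hRm : Multiset.count (k - 1) R = 0 :=
    Multiset.count_eq_zero_of_notMem (fun h => (Nat.not_even_iff_odd.mpr hkm1odd) (hRev _ h))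
  have hne : k + 1 ≠ k - 1 := by omega
  have hRcount : ∀ b, Even b → Even (R.count b) := by
    intro b hb
    by_cases hbk : b = k
    · subst hbk
      rw [hR, Multiset.count_erase_self, Multiset.count_erase_self]
      exact ⟨e - 1, by omega⟩
    · rw [hR, Multiset.count_erase_of_ne hbk, Multiset.count_erase_of_ne hbk]
      exact hcount b hb
  have hμsum : μ.sum = k + (k + R.sum) := by
    rw [hμR, Multiset.sum_cons, Multiset.sum_cons]
  obtain ⟨ν', hν'1, hν'2, hν'3⟩ := H ((k + 1) ::ₘ (k - 1) ::ₘ R)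
    (by
      intro b hb
      rcases Multiset.mem_cons.mp hb with rfl | hb'
      · exact ⟨by omega, hkp'⟩
      · rcases Multiset.mem_cons.mp hb' with rfl | hb''
        · exact ⟨by omega, by omega⟩
        · exact hparts b (Multiset.mem_of_le hRμ hb''))
    (by
      intro b hb
      have h1 : b ≠ k + 1 := by
        rintro rfl
        exact (Nat.not_even_iff_odd.mpr hkp1odd) hb
      have h2 : b ≠ k - 1 := by
        rintro rfl
        exact (Nat.not_even_iff_odd.mpr hkm1odd) hb
      rw [Multiset.count_cons_of_ne h1, Multiset.count_cons_of_ne h2]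
      exact hRcount b hb)
    (by
      rw [Multiset.sum_cons, Multiset.sum_cons, hμsum]
      omega)
    ⟨k + 1, Multiset.mem_cons_self _ _, hkp1odd⟩
  have hcp : ν'.count (k + 1) ≤ 1 := by
    have h1 := Multiset.le_iff_count.mp hν'1 (k + 1)
    rw [Multiset.count_cons_self, Multiset.count_cons_of_ne hne, hRp] at h1
    exact h1
  have hcm : ν'.count (k - 1) ≤ 1 := by
    have h1 := Multiset.le_iff_count.mp hν'1 (k - 1)
    rw [Multiset.count_cons_of_ne hne.symm, Multiset.count_cons_self, hRm] at h1
    exact h1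
  have hother : ∀ b, b ≠ k + 1 → b ≠ k - 1 → ν'.count b ≤ R.count b := by
    intro b h1 h2
    have h3 := Multiset.le_iff_count.mp hν'1 b
    rw [Multiset.count_cons_of_ne h1, Multiset.count_cons_of_ne h2] at h3
    exact h3
  by_cases hp0 : ν'.count (k + 1) = 0
  · by_cases hm0 : ν'.count (k - 1) = 0
    · -- neither odd part used
      have hle : ν' ≤ R := by
        rw [Multiset.le_iff_count]
        intro b
        by_cases h1 : b = k + 1
        · rw [h1, hp0]
          exact Nat.zero_le _
        by_cases h2 : b = k - 1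
        · rw [h2, hm0]
          exact Nat.zero_le _
        exact hother b h1 h2
      exact ⟨ν', hle.trans hRμ, hν'2, hν'3⟩
    · -- only `k - 1` used: parity contradiction
      exfalso
      have hmem : k - 1 ∈ ν' := Multiset.count_pos.mp (by omega)
      have hle : ν'.erase (k - 1) ≤ R := by
        rw [Multiset.le_iff_count]
        intro b
        by_cases h1 : b = k + 1
        · rw [h1, Multiset.count_erase_of_ne hne, hp0]
          exact Nat.zero_le _
        by_cases h2 : b = k - 1
        · rw [h2, Multiset.count_erase_self]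
          omega
        rw [Multiset.count_erase_of_ne h2]
        exact hother b h1 h2
      have h4 : 4 ∣ (ν'.erase (k - 1)).sum := by
        apply so_four_dvd _ _ rfl
        · intro b hb
          exact hRev b (Multiset.mem_of_le hle hb)
        · intro b hb
          have h2 : b ≠ k - 1 := by
            rintro rfl
            exact (Nat.not_even_iff_odd.mpr hkm1odd) hb
          rw [Multiset.count_erase_of_ne h2]
          exact hν'3 b hb
      have hs : ν'.sum = (k - 1) + (ν'.erase (k - 1)).sum := by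
        rw [← Multiset.sum_cons, Multiset.cons_erase hmem]
      obtain ⟨t, ht⟩ := h4
      obtain ⟨s, hs'⟩ := hme
      obtain ⟨u, hu⟩ := hkm1odd
      omega
  · have hmemp : k + 1 ∈ ν' := Multiset.count_pos.mp (by omega)
    have hsp : ν'.sum = (k + 1) + (ν'.erase (k + 1)).sum := by
      rw [← Multiset.sum_cons, Multiset.cons_erase hmemp]
    by_cases hm0 : ν'.count (k - 1) = 0
    · -- only `k + 1` used: parity contradiction
      exfalso
      have hle : ν'.erase (k + 1) ≤ R := by
        rw [Multiset.le_iff_count]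
        intro b
        by_cases h1 : b = k + 1
        · rw [h1, Multiset.count_erase_self]
          omega
        by_cases h2 : b = k - 1
        · rw [h2, Multiset.count_erase_of_ne hne.symm, hm0]
          exact Nat.zero_le _
        rw [Multiset.count_erase_of_ne h1]
        exact hother b h1 h2
      have h4 : 4 ∣ (ν'.erase (k + 1)).sum := by
        apply so_four_dvd _ _ rfl
        · intro b hb
          exact hRev b (Multiset.mem_of_le hle hb)
        · intro b hb
          have h2 : b ≠ k + 1 := by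
            rintro rfl
            exact (Nat.not_even_iff_odd.mpr hkp1odd) hb
          rw [Multiset.count_erase_of_ne h2]
          exact hν'3 b hb
      obtain ⟨t, ht⟩ := h4
      obtain ⟨s, hs'⟩ := hme
      obtain ⟨u, hu⟩ := hkp1odd
      omega
    · -- both used: replace by `k, k`
      have hmemm : k - 1 ∈ ν'.erase (k + 1) := by
        rw [← Multiset.count_pos, Multiset.count_erase_of_ne hne.symm]
        omega
      have hsm : (ν'.erase (k + 1)).sum = (k - 1) + ((ν'.erase (k + 1)).erase (k - 1)).sum := by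
        rw [← Multiset.sum_cons, Multiset.cons_erase hmemm]
      have hle : (ν'.erase (k + 1)).erase (k - 1) ≤ R := by
        rw [Multiset.le_iff_count]
        intro b
        by_cases h1 : b = k + 1
        · rw [h1, Multiset.count_erase_of_ne hne, Multiset.count_erase_self]
          omega
        by_cases h2 : b = k - 1
        · rw [h2, Multiset.count_erase_self, Multiset.count_erase_of_ne hne.symm]
          omega
        rw [Multiset.count_erase_of_ne h2, Multiset.count_erase_of_ne h1]
        exact hother b h1 h2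
      refine ⟨k ::ₘ k ::ₘ ((ν'.erase (k + 1)).erase (k - 1)), ?_, ?_, ?_⟩
      · rw [hμR]
        exact Multiset.cons_le_cons k (Multiset.cons_le_cons k hle)
      · rw [Multiset.sum_cons, Multiset.sum_cons]
        omega
      · intro b hb
        have h1 : b ≠ k + 1 := by
          rintro rfl
          exact (Nat.not_even_iff_odd.mpr hkp1odd) hb
        have h2 : b ≠ k - 1 := by
          rintro rfl
          exact (Nat.not_even_iff_odd.mpr hkm1odd) hb
        have h3 : Multiset.count b ((ν'.erase (k + 1)).erase (k - 1)) = ν'.count b := by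
          rw [Multiset.count_erase_of_ne h2, Multiset.count_erase_of_ne h1]
        obtain ⟨t, ht⟩ := hν'3 b hb
        by_cases hbk : b = k
        · subst hbk
          rw [Multiset.count_cons_self, Multiset.count_cons_self, h3]
          exact ⟨t + 1, by omega⟩
        · rw [Multiset.count_cons_of_ne hbk, Multiset.count_cons_of_ne hbk, h3]
          exact ⟨t, ht⟩

end sogmult

end Cfsg.Agent.Lib.helper24
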