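import Mathlib
import Cfsg.Agent.Lib.helper24.SoG

/-!
# `Ω⁻_{2k+2}(q)`, `q` odd: necessary conditions for elements of order `p` to fix an elliptic
`m`-space
-/

set_option autoImplicit false

namespace Cfsg.Agent.Lib.helper24

open Module Polynomial

universe u

section soh

variable {F : Type u} [Field F] [Fintype F]

/-- Realise a partition with an odd part in `Ω⁻` and restrict to an invariant elliptic
subspace. -/
theorem so_minus_sub {p : ℕ} [Fact p.Prime] [CharP F p] (hp2 : p ≠ 2) (k m : ℕ) (a b : F)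
    (hab : ∀ x y : F, x ^ 2 + a * x * y + b * y ^ 2 = 0 → x = 0 ∧ y = 0)
    (H : ∀ x : GL ((Fin k ⊕ Fin k) ⊕ Fin 2) F,
      x ∈ Cfsg.Geo.omegaGL (Cfsg.quadFormMinus k F a b) →
      (∃ z : F, ((x ^ p : GL ((Fin k ⊕ Fin k) ⊕ Fin 2) F) :
        Matrix ((Fin k ⊕ Fin k) ⊕ Fin 2) ((Fin k ⊕ Fin k) ⊕ Fin 2) F) =
        z • (1 : Matrix ((Fin k ⊕ Fin k) ⊕ Fin 2) ((Fin k ⊕ Fin k) ⊕ Fin 2) F)) →
      (∀ z : F, (x : Matrix ((Fin k ⊕ Fin k) ⊕ Fin 2) ((Fin k ⊕ Fin k) ⊕ Fin 2) F) ≠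
        z • (1 : Matrix ((Fin k ⊕ Fin k) ⊕ Fin 2) ((Fin k ⊕ Fin k) ⊕ Fin 2) F)) →
      ∃ W : Submodule F ((Fin k ⊕ Fin k) ⊕ Fin 2 → F), (Module.finrank F ↥W = m ∧
        Cfsg.Geo.IsNondegenerateOn (QuadraticMap.polar (Cfsg.quadFormMinus k F a b)) W ∧
        ¬ Cfsg.Geo.IsPlusTypeOn (Cfsg.quadFormMinus k F a b) W) ∧
        W.map (Matrix.toLin'
          (x : Matrix ((Fin k ⊕ Fin k) ⊕ Fin 2) ((Fin k ⊕ Fin k) ⊕ Fin 2) F)) ≤ W)
    (μ : Multiset ℕ) (hparts : ∀ e ∈ μ, 0 < e ∧ e ≤ p)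
    (hcount : ∀ e : ℕ, Even e → Even (μ.count e)) (hsum : μ.sum = 2 * k + 2)
    (a₀ : ℕ) (ha₀ : a₀ ∈ μ) (hodd : Odd a₀) (b₀ : ℕ) (hb₀ : b₀ ∈ μ) (hb₀1 : b₀ ≠ 1) :
    ∃ ν : Multiset ℕ, ν ≤ μ ∧ ν.sum = m ∧ (∀ e : ℕ, Even e → Even (ν.count e)) ∧
      ¬ (∀ c ∈ ν, c = 2) := by
  classical
  have hpp : p.Prime := Fact.out
  have h2 : (2 : F) ≠ 0 := sq_two_ne p hp2
  have hreal := so_realM_all (F := F) p hp2 μ hparts hcount ⟨k + 1, by omega⟩ a₀ ha₀ hodd
  obtain ⟨g, hgΩ, hgp, hgker⟩ := so_real_minus p hp2 μ hreal (fun c hc => (hparts c hc).2) k hsum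
    a b hab
  have hns : ∀ z : F, (g : Matrix ((Fin k ⊕ Fin k) ⊕ Fin 2) ((Fin k ⊕ Fin k) ⊕ Fin 2) F) ≠
      z • (1 : Matrix ((Fin k ⊕ Fin k) ⊕ Fin 2) ((Fin k ⊕ Fin k) ⊕ Fin 2) F) := by
    intro z hz
    have h3 := so_scalar_parts _ z hz μ hgker b₀ hb₀
    have h4 := (hparts b₀ hb₀).1
    omega
  obtain ⟨W, ⟨hWdim, hWnd, hWnp⟩, hWinv⟩ := H g hgΩ ⟨1, by rw [hgp, one_smul]; rfl⟩ hns
  obtain ⟨x, hxΩ, hxg⟩ := Subgroup.mem_map.mp hgΩ
  have hQg : ∀ u : (Fin k ⊕ Fin k) ⊕ Fin 2 → F, Cfsg.Agent.Lib.helper49.minusForm k F a b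
      ((g : Matrix ((Fin k ⊕ Fin k) ⊕ Fin 2) ((Fin k ⊕ Fin k) ⊕ Fin 2) F).mulVec u) =
      Cfsg.Agent.Lib.helper49.minusForm k F a b u := by
    intro u
    rw [← hxg]
    exact x.2 u u
  obtain ⟨T, hTdef⟩ : ∃ T : Module.End F ((Fin k ⊕ Fin k) ⊕ Fin 2 → F), T = Matrix.toLin'
      (g : Matrix ((Fin k ⊕ Fin k) ⊕ Fin 2) ((Fin k ⊕ Fin k) ⊕ Fin 2) F) := ⟨_, rfl⟩
  rw [← hTdef] at hgker hWinv
  have hTp : T ^ p = 1 := by
    have h3 : (g : Matrix ((Fin k ⊕ Fin k) ⊕ Fin 2) ((Fin k ⊕ Fin k) ⊕ Fin 2) F) ^ p = 1 := by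
      rw [← Units.val_pow_eq_pow_val, hgp, Units.val_one]
    rw [hTdef, so_toLin_pow, h3, Matrix.toLin'_one]
    rfl
  have hTT' : T * T ^ (p - 1) = 1 := by
    rw [← pow_succ', Nat.sub_add_cancel hpp.one_le, hTp]
  have hT'T : T ^ (p - 1) * T = 1 := by
    rw [← pow_succ, Nat.sub_add_cancel hpp.one_le, hTp]
  obtain ⟨ω₀, hω₀⟩ : ∃ ω₀ : ((Fin k ⊕ Fin k) ⊕ Fin 2 → F) →ₗ[F]
      ((Fin k ⊕ Fin k) ⊕ Fin 2 → F) →ₗ[F] F,
      ω₀ = QuadraticMap.polarBilin (Cfsg.Agent.Lib.helper49.minusForm k F a b) := ⟨_, rfl⟩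
  have hω₀a : ∀ u v, ω₀ u v =
      QuadraticMap.polar (Cfsg.Agent.Lib.helper49.minusForm k F a b) u v := by
    intro u v
    rw [hω₀, QuadraticMap.polarBilin_apply_apply]
  have hsym₀ : ∀ u v, ω₀ u v = ω₀ v u := by
    intro u v
    rw [hω₀a, hω₀a, QuadraticMap.polar_comm]
  have hnd₀ : ∀ v, (∀ w, ω₀ v w = 0) → v = 0 := by
    intro v hv
    rw [hω₀] at hv
    exact (Cfsg.Agent.Lib.helper42.minusForm_nondegenerate (F := F) k a b hab).1 v hv
  have hiso₀ : ∀ u v, ω₀ (T u) (T v) = ω₀ u v := by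
    intro u v
    rw [hω₀a, hω₀a]
    unfold QuadraticMap.polar
    rw [← map_add, hTdef, Matrix.toLin'_apply, Matrix.toLin'_apply, Matrix.toLin'_apply, hQg,
      hQg, hQg]
  have hWnd' : SpNd ω₀ W := by
    intro u hu hu2
    by_contra hu0
    obtain ⟨-, ⟨y, hy, hne⟩⟩ := hWnd u hu hu0
    apply hne
    have h3 := hu2 y hy
    rw [hω₀a] at h3
    exact h3
  have hWinv' : ∀ w ∈ W, T w ∈ W := fun w hw => hWinv (Submodule.mem_map_of_mem hw)
  obtain ⟨ν, hν1, hν2, hν3, hν4⟩ := so_type_sub' ω₀ hsym₀ hnd₀ h2 T hiso₀ p hTp μ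
    (fun c hc => (hparts c hc).1) hgker W hWnd' hWinv'
  refine ⟨ν, hν1, by rw [hν2, hWdim], hν3, ?_⟩
  intro hall2
  apply hWnp
  obtain ⟨n, hn⟩ : ∃ n, n = Multiset.card ν := ⟨_, rfl⟩
  have hrep : ν = Multiset.replicate n 2 := by
    rw [hn]
    exact Multiset.eq_replicate_card.mpr hall2
  have hk1 : finrank F ↥(LinearMap.ker (T - 1) ⊓ W) = n := by
    have h3 := hν4 1
    rw [pow_one, hrep, Multiset.map_replicate, Multiset.sum_replicate, smul_eq_mul] at h3
    rw [h3]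
    norm_num
  have hk2 : finrank F ↥(LinearMap.ker ((T - 1) ^ (2 : ℕ)) ⊓ W) = 2 * n := by
    have h3 := hν4 2
    rw [hrep, Multiset.map_replicate, Multiset.sum_replicate, smul_eq_mul] at h3
    rw [h3]
    norm_num
    ring
  have hWn : finrank F W = 2 * n := by
    rw [← hν2, hrep, Multiset.sum_replicate, smul_eq_mul]
    ring
  have hW2 : ∀ w ∈ W, ((T - 1) ^ (2 : ℕ)) w = 0 := by
    have hle : LinearMap.ker ((T - 1) ^ (2 : ℕ)) ⊓ W = W :=
      Submodule.eq_of_le_of_finrank_eq inf_le_right (by rw [hk2, hWn])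
    intro w hw
    have h3 : w ∈ LinearMap.ker ((T - 1) ^ (2 : ℕ)) ⊓ W := by
      rw [hle]
      exact hw
    exact LinearMap.mem_ker.mp (Submodule.mem_inf.mp h3).1
  obtain ⟨U, hUW, hUti, hUdim⟩ := so_half_ts ω₀ T (T ^ (p - 1)) hiso₀ hTT' hT'T W hWinv'
    (by rw [hk1, hWn]) hW2
  refine ⟨U, hUW, ?_, hUdim⟩
  intro w hw
  have h3 := hUti w hw w hw
  rw [hω₀a, QuadraticMap.polar_self, two_nsmul] at h3
  have h4 : 2 * Cfsg.Agent.Lib.helper49.minusForm k F a b w = 0 := by linear_combination h3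
  exact (mul_eq_zero.mp h4).resolve_left h2

/-- The sub-partition property for partitions having an odd part. -/
theorem so_minus_part {p : ℕ} [Fact p.Prime] [CharP F p] (hp2 : p ≠ 2) (k m : ℕ) (a b : F)
    (hab : ∀ x y : F, x ^ 2 + a * x * y + b * y ^ 2 = 0 → x = 0 ∧ y = 0)
    (H : ∀ x : GL ((Fin k ⊕ Fin k) ⊕ Fin 2) F,
      x ∈ Cfsg.Geo.omegaGL (Cfsg.quadFormMinus k F a b) →
      (∃ z : F, ((x ^ p : GL ((Fin k ⊕ Fin k) ⊕ Fin 2) F) :
        Matrix ((Fin k ⊕ Fin k) ⊕ Fin 2) ((Fin k ⊕ Fin k) ⊕ Fin 2) F) =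
        z • (1 : Matrix ((Fin k ⊕ Fin k) ⊕ Fin 2) ((Fin k ⊕ Fin k) ⊕ Fin 2) F)) →
      (∀ z : F, (x : Matrix ((Fin k ⊕ Fin k) ⊕ Fin 2) ((Fin k ⊕ Fin k) ⊕ Fin 2) F) ≠
        z • (1 : Matrix ((Fin k ⊕ Fin k) ⊕ Fin 2) ((Fin k ⊕ Fin k) ⊕ Fin 2) F)) →
      ∃ W : Submodule F ((Fin k ⊕ Fin k) ⊕ Fin 2 → F), (Module.finrank F ↥W = m ∧
        Cfsg.Geo.IsNondegenerateOn (QuadraticMap.polar (Cfsg.quadFormMinus k F a b)) W ∧
        ¬ Cfsg.Geo.IsPlusTypeOn (Cfsg.quadFormMinus k F a b) W) ∧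
        W.map (Matrix.toLin'
          (x : Matrix ((Fin k ⊕ Fin k) ⊕ Fin 2) ((Fin k ⊕ Fin k) ⊕ Fin 2) F)) ≤ W)
    (hm2 : m ≤ 2 * k + 2)
    (μ : Multiset ℕ) (hparts : ∀ e ∈ μ, 0 < e ∧ e ≤ p)
    (hcount : ∀ e : ℕ, Even e → Even (μ.count e)) (hsum : μ.sum = 2 * k + 2)
    (a₀ : ℕ) (ha₀ : a₀ ∈ μ) (hodd : Odd a₀) :
    ∃ ν : Multiset ℕ, ν ≤ μ ∧ ν.sum = m ∧ ∀ e : ℕ, Even e → Even (ν.count e) := by
  by_cases hall : ∀ c ∈ μ, c = 1
  · have hrep := Multiset.eq_replicate_card.mpr hall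
    have hcard : Multiset.card μ = 2 * k + 2 := by
      rw [hrep, Multiset.sum_replicate, smul_eq_mul, mul_one] at hsum
      exact hsum
    refine ⟨Multiset.replicate m 1, ?_, ?_, ?_⟩
    · rw [hrep, Multiset.replicate_le_replicate]
      omega
    · rw [Multiset.sum_replicate, smul_eq_mul, mul_one]
    · intro e he
      rw [Multiset.count_replicate]
      split_ifs with h
      · subst h
        exact absurd he (by decide)
      · exact Even.zero
  · push Not at hall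
    obtain ⟨b₀, hb₀, hb₀1⟩ := hall
    obtain ⟨ν, h1, h2, h3, -⟩ := so_minus_sub hp2 k m a b hab H μ hparts hcount hsum a₀ ha₀ hodd
      b₀ hb₀ hb₀1
    exact ⟨ν, h1, h2, h3⟩

/-- Necessary conditions for every element of order `p` of `Ω⁻_{2k+2}(q)` (`q` odd) to fix an
elliptic `m`-space. -/
theorem so_main_minus {p : ℕ} [Fact p.Prime] [CharP F p] (hp2 : p ≠ 2) (k m : ℕ) (hk : 3 ≤ k)
    (hme : Even m) (hmn : m ≤ 2 * k) (a b : F)
    (hab : ∀ x y : F, x ^ 2 + a * x * y + b * y ^ 2 = 0 → x = 0 ∧ y = 0)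
    (H : ∀ x : GL ((Fin k ⊕ Fin k) ⊕ Fin 2) F,
      x ∈ Cfsg.Geo.omegaGL (Cfsg.quadFormMinus k F a b) →
      (∃ z : F, ((x ^ p : GL ((Fin k ⊕ Fin k) ⊕ Fin 2) F) :
        Matrix ((Fin k ⊕ Fin k) ⊕ Fin 2) ((Fin k ⊕ Fin k) ⊕ Fin 2) F) =
        z • (1 : Matrix ((Fin k ⊕ Fin k) ⊕ Fin 2) ((Fin k ⊕ Fin k) ⊕ Fin 2) F)) →
      (∀ z : F, (x : Matrix ((Fin k ⊕ Fin k) ⊕ Fin 2) ((Fin k ⊕ Fin k) ⊕ Fin 2) F) ≠
        z • (1 : Matrix ((Fin k ⊕ Fin k) ⊕ Fin 2) ((Fin k ⊕ Fin k) ⊕ Fin 2) F)) →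
      ∃ W : Submodule F ((Fin k ⊕ Fin k) ⊕ Fin 2 → F), (Module.finrank F ↥W = m ∧
        Cfsg.Geo.IsNondegenerateOn (QuadraticMap.polar (Cfsg.quadFormMinus k F a b)) W ∧
        ¬ Cfsg.Geo.IsPlusTypeOn (Cfsg.quadFormMinus k F a b) W) ∧
        W.map (Matrix.toLin'
          (x : Matrix ((Fin k ⊕ Fin k) ⊕ Fin 2) ((Fin k ⊕ Fin k) ⊕ Fin 2) F)) ≤ W) :
    (2 * k + 2) % 4 = m % 4 ∧
    (∀ μ : Multiset ℕ, (∀ e ∈ μ, 0 < e ∧ e ≤ p) → (∀ e : ℕ, Even e → Even (μ.count e)) →
      μ.sum = 2 * k + 2 →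
      ∃ ν : Multiset ℕ, ν ≤ μ ∧ ν.sum = m ∧ ∀ e : ℕ, Even e → Even (ν.count e)) := by
  have hpp : p.Prime := Fact.out
  have hpodd : Odd p := hpp.odd_of_ne_two hp2
  have hp3 : 3 ≤ p := by
    have := hpp.two_le
    omega
  constructor
  · rcases Nat.even_or_odd k with hkev | hkodd
    · -- `2k + 2 ≡ 2 (mod 4)`: test partition `(2^k, 1, 1)`
      obtain ⟨ν, hν1, hν2, hν3, hν4⟩ := so_minus_sub hp2 k m a b hab H
        (1 ::ₘ 1 ::ₘ Multiset.replicate k 2)
        (by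
          intro e he
          rcases Multiset.mem_cons.mp he with rfl | he'
          · omega
          · rcases Multiset.mem_cons.mp he' with rfl | he''
            · omega
            · rw [Multiset.eq_of_mem_replicate he'']
              omega)
        (by
          intro e he
          have he1 : e ≠ 1 := by
            rintro rfl
            exact absurd he (by decide)
          rw [Multiset.count_cons_of_ne he1, Multiset.count_cons_of_ne he1,
            Multiset.count_replicate]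
          split_ifs
          · exact hkev
          · exact Even.zero)
        (by
          rw [Multiset.sum_cons, Multiset.sum_cons, Multiset.sum_replicate, smul_eq_mul]
          omega)
        1 (Multiset.mem_cons_self _ _) odd_one
        2 (Multiset.mem_cons_of_mem (Multiset.mem_cons_of_mem
          (Multiset.mem_replicate.mpr ⟨by omega, rfl⟩))) (by decide)
      have hmem : ∀ c ∈ ν, c = 1 ∨ c = 2 := by
        intro c hc
        have h3 := Multiset.mem_of_le hν1 hc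
        rcases Multiset.mem_cons.mp h3 with rfl | h3'
        · left; rfl
        · rcases Multiset.mem_cons.mp h3' with rfl | h3''
          · left; rfl
          · right
            exact Multiset.eq_of_mem_replicate h3''
      have hs := so_sum_le3 ν (fun c hc => by rcases hmem c hc with h | h <;> omega)
      have hc1 : ν.count 1 ≤ 2 := by
        have h3 := Multiset.le_iff_count.mp hν1 1
        rw [Multiset.count_cons_self, Multiset.count_cons_self, Multiset.count_replicate,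
          if_neg (by decide)] at h3
        exact h3
      have hc3 : ν.count 3 = 0 := by
        apply Multiset.count_eq_zero_of_notMem
        intro h3
        rcases hmem 3 h3 with h | h <;> omega
      obtain ⟨t, ht⟩ := hν3 2 even_two
      by_cases hc0 : ν.count 1 = 0
      · exfalso
        apply hν4
        intro c hc
        rcases hmem c hc with h | h
        · rw [h] at hc
          have h5 := Multiset.count_pos.mpr hc
          omega
        · exact h
      · obtain ⟨s, hs'⟩ := hme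
        obtain ⟨r, hr⟩ := hkev
        omega
    · -- `2k + 2 ≡ 0 (mod 4)`: test partition `(3, 2^(k-1), 1)`
      obtain ⟨ν, hν1, hν2, hν3, -⟩ := so_minus_sub hp2 k m a b hab H
        (3 ::ₘ 1 ::ₘ Multiset.replicate (k - 1) 2)
        (by
          intro e he
          rcases Multiset.mem_cons.mp he with rfl | he'
          · omega
          · rcases Multiset.mem_cons.mp he' with rfl | he''
            · omega
            · rw [Multiset.eq_of_mem_replicate he'']
              omega)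
        (by
          intro e he
          have he1 : e ≠ 1 := by
            rintro rfl
            exact absurd he (by decide)
          have he3 : e ≠ 3 := by
            rintro rfl
            exact absurd he (by decide)
          rw [Multiset.count_cons_of_ne he3, Multiset.count_cons_of_ne he1,
            Multiset.count_replicate]
          split_ifs
          · obtain ⟨r, hr⟩ := hkodd
            exact ⟨r, by omega⟩
          · exact Even.zero)
        (by
          rw [Multiset.sum_cons, Multiset.sum_cons, Multiset.sum_replicate, smul_eq_mul]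
          omega)
        3 (Multiset.mem_cons_self _ _) (by decide)
        3 (Multiset.mem_cons_self _ _) (by decide)
      have hmem : ∀ c ∈ ν, c = 1 ∨ c = 2 ∨ c = 3 := by
        intro c hc
        have h3 := Multiset.mem_of_le hν1 hc
        rcases Multiset.mem_cons.mp h3 with rfl | h3'
        · right; right; rfl
        · rcases Multiset.mem_cons.mp h3' with rfl | h3''
          · left; rfl
          · right; left
            exact Multiset.eq_of_mem_replicate h3''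
      have hs := so_sum_le3 ν (fun c hc => by rcases hmem c hc with h | h | h <;> omega)
      have hc1 : ν.count 1 ≤ 1 := by
        have h3 := Multiset.le_iff_count.mp hν1 1
        rw [Multiset.count_cons_of_ne (by decide), Multiset.count_cons_self,
          Multiset.count_replicate, if_neg (by decide)] at h3
        exact h3
      have hc3 : ν.count 3 ≤ 1 := by
        have h3 := Multiset.le_iff_count.mp hν1 3
        rw [Multiset.count_cons_self, Multiset.count_cons_of_ne (by decide),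
          Multiset.count_replicate, if_neg (by decide)] at h3
        exact h3
      obtain ⟨t, ht⟩ := hν3 2 even_two
      obtain ⟨s, hs'⟩ := hme
      obtain ⟨r, hr⟩ := hkodd
      have h13 : ν.count 1 = ν.count 3 := by omega
      have hcase : ν.count 3 = 0 ∨ ν.count 3 = 1 := by omega
      rcases hcase with h | h
      · have hm4 : m = 4 * t := by omega
        have hk4 : 2 * k + 2 = 4 * (r + 1) := by omega
        rw [hm4, hk4, Nat.mul_mod_right, Nat.mul_mod_right]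
      · have hm4 : m = 4 * (t + 1) := by omega
        have hk4 : 2 * k + 2 = 4 * (r + 1) := by omega
        rw [hm4, hk4, Nat.mul_mod_right, Nat.mul_mod_right]
  · intro μ hparts hcount hsum
    by_cases hodd : ∃ a₀ ∈ μ, Odd a₀
    · obtain ⟨a₀, ha₀, hodd⟩ := hodd
      exact so_minus_part hp2 k m a b hab H (by omega) μ hparts hcount hsum a₀ ha₀ hodd
    · push Not at hodd
      have hall : ∀ c ∈ μ, Even c := fun c hc => Nat.not_odd_iff_even.mp (hodd c hc)
      have hμ0 : μ ≠ 0 := by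
        rintro rfl
        rw [Multiset.sum_zero] at hsum
        omega
      apply so_even_reduce p m hpodd hme μ hparts hcount hall hμ0
      intro μ' hparts' hcount' hsum' hodd'
      obtain ⟨a₀, ha₀, hodd'⟩ := hodd'
      exact so_minus_part hp2 k m a b hab H (by omega) μ' hparts' hcount' (by rw [hsum', hsum])
        a₀ ha₀ hodd'

end soh

end Cfsg.Agent.Lib.helper24
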