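import Mathlib
import Cfsg.Agent.Lib.helper24.SoH
import Cfsg.Agent.Lib.helper45.OEven
import Cfsg.Agent.Lib.helper49.Eichler

/-! Semisimple orthogonal toolkit, part A: the type of a nondegenerate even-dimensional
quadratic subspace over a finite field (via value distributions), orthogonal sums, and
existence of subspaces of a given type. -/

set_option autoImplicit false
set_option linter.unusedSectionVars false
set_option linter.style.haveILetI false
set_option linter.unusedVariables false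

namespace Cfsg.Agent.Lib.helper24

open Module Cfsg.Agent.Lib.helper45

universe u

section sra0

/-- Fixed points of a map of prime order. -/
theorem sr_fixed_mod {α : Type*} [Finite α] (f : α → α) (r : ℕ) [Fact r.Prime]
    (hf : ∀ a, f^[r] a = a) : Nat.card α ≡ Nat.card {a : α // f a = a} [MOD r] := by
  classical
  haveI := Fintype.ofFinite α
  obtain ⟨g, hg⟩ : ∃ g : Function.End α, g = f := ⟨f, rfl⟩
  have h1 : g ^ r ^ 1 = 1 := by
    rw [pow_one]
    funext a
    have h2 : (g ^ r) a = f^[r] a := by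
      rw [← hg]
      rfl
    rw [h2, hf]
    rfl
  have h3 := Equiv.Perm.card_fixedPoints_modEq (f := g) (p := r) (n := 1) h1
  rw [Nat.card_eq_fintype_card]
  have h4 : Nat.card {a : α // f a = a} = Fintype.card ↑(Function.fixedPoints g) := by
    rw [← Nat.card_eq_fintype_card]
    apply Nat.card_congr
    rw [hg]
    exact Equiv.refl _
  rw [h4]
  exact h3

end sra0

section sra1

variable {F : Type u} [Field F] [Fintype F] {V : Type u} [AddCommGroup V] [Module F V]
  [FiniteDimensional F V]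

/-- The value distribution of `Q` on a subspace. -/
noncomputable def srNu (Q : QuadraticForm F V) (W : Submodule F V) (c : F) : ℕ :=
  Nat.card {w : W // (Q.comp W.subtype) w = c}

/-- The type `ε = ±1` of an even-dimensional subspace, through its value distribution. -/
def SrTy (Q : QuadraticForm F V) (W : Submodule F V) (ε : ℤ) : Prop :=
  Unif (ε * (Fintype.card F : ℤ) ^ (finrank F W / 2)) (srNu Q W)

/-- Plus type: a totally singular subspace of half the dimension. -/
def SrPlus (Q : QuadraticForm F V) (W : Submodule F V) : Prop :=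
  ∃ U : Submodule F V, U ≤ W ∧ (∀ u ∈ U, Q u = 0) ∧ 2 * finrank F U = finrank F W

theorem sr_polar_comp (Q : QuadraticForm F V) (W : Submodule F V) (v w : W) :
    QuadraticMap.polar (Q.comp W.subtype) v w = QuadraticMap.polar Q (v : V) (w : V) := by
  unfold QuadraticMap.polar
  rw [QuadraticMap.comp_apply, QuadraticMap.comp_apply, QuadraticMap.comp_apply, map_add]
  rfl

theorem sr_sym (Q : QuadraticForm F V) (u v : V) :
    QuadraticMap.polarBilin Q u v = QuadraticMap.polarBilin Q v u := by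
  rw [QuadraticMap.polarBilin_apply_apply, QuadraticMap.polarBilin_apply_apply,
    QuadraticMap.polar_comm]

theorem sr_restr_nd (Q : QuadraticForm F V) (W : Submodule F V)
    (hW : SpNd (QuadraticMap.polarBilin Q) W) :
    ∀ v : W, (∀ w : W, QuadraticMap.polar (Q.comp W.subtype) v w = 0) → v = 0 := by
  intro v hv
  apply Subtype.ext
  apply hW v.1 v.2
  intro w hw
  have h := hv ⟨w, hw⟩
  rw [sr_polar_comp] at h
  rw [QuadraticMap.polarBilin_apply_apply]
  exact h

theorem sr_pow_ne (n : ℕ) : (1 : ℤ) * (Fintype.card F : ℤ) ^ n ≠ -(Fintype.card F : ℤ) ^ n := by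
  have h1 : (0 : ℤ) < (Fintype.card F : ℤ) ^ n := by
    apply pow_pos
    exact_mod_cast Fintype.card_pos
  omega

/-- The two possible types. -/
theorem sr_ty_or (Q : QuadraticForm F V) (W : Submodule F V)
    (hW : SpNd (QuadraticMap.polarBilin Q) W) (n : ℕ) (hdim : finrank F W = 2 * n) :
    SrTy Q W 1 ∨ SrTy Q W (-1) := by
  have h2n : finrank F W / 2 = n := by omega
  rcases witt_class (Q.comp W.subtype) (sr_restr_nd Q W hW) n hdim with ⟨h, -⟩ | ⟨h, -⟩
  · left
    unfold SrTy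
    rw [h2n, one_mul]
    exact h
  · right
    unfold SrTy
    rw [h2n, neg_one_mul]
    exact h

theorem sr_plus_iso (Q : QuadraticForm F V) (W : Submodule F V)
    (hW : SpNd (QuadraticMap.polarBilin Q) W) (n : ℕ) (hdim : finrank F W = 2 * n)
    (hty : SrTy Q W 1) :
    ∃ T : W ≃ₗ[F] (Fin n ⊕ Fin n → F), ∀ v, Cfsg.quadFormPlus n F (T v) = (Q.comp W.subtype) v := by
  have h2n : finrank F W / 2 = n := by omega
  rcases witt_class (Q.comp W.subtype) (sr_restr_nd Q W hW) n hdim with ⟨-, h⟩ | ⟨h, -⟩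
  · exact h
  · exfalso
    unfold SrTy at hty
    rw [h2n] at hty
    exact sr_pow_ne n (Unif.unique hty h)

theorem sr_minus_iso (Q : QuadraticForm F V) (W : Submodule F V)
    (hW : SpNd (QuadraticMap.polarBilin Q) W) (n : ℕ) (hdim : finrank F W = 2 * n)
    (hty : SrTy Q W (-1)) :
    ∃ k, k + 1 = n ∧ ∀ a c : F,
      (∀ z₁ z₂ : F, z₁ ^ 2 + a * z₁ * z₂ + c * z₂ ^ 2 = 0 → z₁ = 0 ∧ z₂ = 0) →
      ∃ T : W ≃ₗ[F] ((Fin k ⊕ Fin k) ⊕ Fin 2 → F),
        ∀ v, Cfsg.quadFormMinus k F a c (T v) = (Q.comp W.subtype) v := by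
  have h2n : finrank F W / 2 = n := by omega
  rcases witt_class (Q.comp W.subtype) (sr_restr_nd Q W hW) n hdim with ⟨h, -⟩ | ⟨-, h⟩
  · exfalso
    unfold SrTy at hty
    rw [h2n, neg_one_mul] at hty
    have h3 := Unif.unique h hty
    have h4 := sr_pow_ne (F := F) n
    rw [one_mul] at h4
    exact h4 h3
  · exact h

/-- The standard totally singular subspace of the hyperbolic space. -/
theorem sr_std_ts (n : ℕ) : ∃ S : Submodule F (Fin n ⊕ Fin n → F), finrank F S = n ∧
    ∀ f ∈ S, Cfsg.quadFormPlus n F f = 0 := by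
  obtain ⟨L, hL⟩ : ∃ L : (Fin n → F) →ₗ[F] (Fin n ⊕ Fin n → F),
      ∀ g, L g = Sum.elim g 0 :=
    ⟨{ toFun := fun g => Sum.elim g 0
       map_add' := by
         intro a b
         funext x
         cases x <;> simp
       map_smul' := by
         intro c a
         funext x
         cases x <;> simp }, fun g => rfl⟩
  have hinj : Function.Injective L := by
    intro a b hab
    rw [hL, hL] at hab
    funext j
    have := congrFun hab (Sum.inl j)
    simpa using this
  refine ⟨LinearMap.range L, ?_, ?_⟩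
  · rw [LinearMap.finrank_range_of_inj hinj, Module.finrank_fintype_fun_eq_card, Fintype.card_fin]
  · rintro _ ⟨g, rfl⟩
    rw [hL]
    unfold Cfsg.quadFormPlus
    apply Finset.sum_eq_zero
    intro j _
    simp

theorem sr_ty_plus (Q : QuadraticForm F V) (W : Submodule F V)
    (hW : SpNd (QuadraticMap.polarBilin Q) W) (hev : Even (finrank F W)) (hty : SrTy Q W 1) :
    SrPlus Q W := by
  obtain ⟨n, hn⟩ := hev
  have hdim : finrank F W = 2 * n := by omega
  obtain ⟨T, hT⟩ := sr_plus_iso Q W hW n hdim hty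
  obtain ⟨S, hSdim, hS⟩ := sr_std_ts (F := F) n
  refine ⟨(S.map T.symm.toLinearMap).map W.subtype, Submodule.map_subtype_le _ _, ?_, ?_⟩
  · rintro _ ⟨w, ⟨f, hf, rfl⟩, rfl⟩
    have h1 := hT (T.symm f)
    rw [LinearEquiv.apply_symm_apply, hS f hf] at h1
    rw [QuadraticMap.comp_apply] at h1
    exact h1.symm
  · rw [Submodule.finrank_map_subtype_eq]
    have h1 := LinearEquiv.finrank_map_eq T.symm S
    rw [h1, hSdim, hdim]

theorem sr_plus_ty (Q : QuadraticForm F V) (h2 : (2 : F) ≠ 0) (W : Submodule F V)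
    (hW : SpNd (QuadraticMap.polarBilin Q) W) (hpl : SrPlus Q W) : SrTy Q W 1 := by
  obtain ⟨U, hUW, hU, hUdim⟩ := hpl
  obtain ⟨e, he⟩ : ∃ e, e = finrank F U := ⟨_, rfl⟩
  have hdim : finrank F W = 2 * e := by omega
  obtain ⟨ω, hω⟩ : ∃ ω : V →ₗ[F] V →ₗ[F] F, ω = QuadraticMap.polarBilin Q := ⟨_, rfl⟩
  have hωa : ∀ u v, ω u v = QuadraticMap.polar Q u v := by
    intro u v
    rw [hω, QuadraticMap.polarBilin_apply_apply]
  have hsym : ∀ u v : W, ω.domRestrict₁₂ W W u v = ω.domRestrict₁₂ W W v u := by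
    intro u v
    show ω u.1 v.1 = ω v.1 u.1
    rw [hωa, hωa, QuadraticMap.polar_comm]
  have hnd : ∀ v : W, (∀ w : W, ω.domRestrict₁₂ W W v w = 0) → v = 0 := by
    rw [hω]
    exact sp_nd_restrict _ W hW
  have hU' : ∀ u ∈ U.comap W.subtype, ∀ v ∈ U.comap W.subtype, ω.domRestrict₁₂ W W u v = 0 := by
    intro u hu v hv
    show ω u.1 v.1 = 0
    rw [hωa]
    have e1 : Q ((u : V) + (v : V)) = 0 := hU _ (U.add_mem hu hv)
    have e2 : Q (u : V) = 0 := hU _ hu
    have e3 : Q (v : V) = 0 := hU _ hv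
    unfold QuadraticMap.polar
    rw [e1, e2, e3]
    ring
  have hU'dim : finrank F (U.comap W.subtype) = e := by
    rw [he]
    exact LinearEquiv.finrank_eq (Submodule.comapSubtypeEquivOfLe hUW)
  obtain ⟨φ, hφ⟩ := so_hyp_basis (ω.domRestrict₁₂ W W) hsym hnd h2 e hdim (U.comap W.subtype)
    hU' hU'dim
  have hφ' : ∀ v : W, Cfsg.quadFormPlus e F (φ v) = (Q.comp W.subtype) v := by
    intro v
    have h1 := hφ v
    have h3 : ω.domRestrict₁₂ W W v v = 2 * Q (v : V) := by
      show ω v.1 v.1 = _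
      rw [hωa, QuadraticMap.polar_self, two_nsmul, two_mul]
    rw [h3] at h1
    rw [QuadraticMap.comp_apply]
    exact mul_left_cancel₀ h2 h1
  have hnu : srNu Q W = fun c : F =>
      Nat.card {v : Fin e ⊕ Fin e → F // Cfsg.Agent.Lib.helper49.plusForm e F v = c} := by
    funext c
    unfold srNu
    apply Nat.card_congr
    refine Equiv.subtypeEquiv φ.toEquiv (fun v => ?_)
    rw [← hφ' v]
    rfl
  have h2e : finrank F W / 2 = e := by omega
  unfold SrTy
  rw [h2e, one_mul, hnu]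
  exact unif_plus_std e

theorem sr_ty_not_plus (Q : QuadraticForm F V) (h2 : (2 : F) ≠ 0) (W : Submodule F V)
    (hW : SpNd (QuadraticMap.polarBilin Q) W) (hty : SrTy Q W (-1)) : ¬ SrPlus Q W := by
  intro hpl
  have h1 := sr_plus_ty Q h2 W hW hpl
  unfold SrTy at h1 hty
  rw [neg_one_mul] at hty
  exact sr_pow_ne _ (Unif.unique h1 hty)

/-- Value distribution of an orthogonal direct sum. -/
theorem sr_nu_sum (Q : QuadraticForm F V) (W₁ W₂ : Submodule F V)
    (horth : ∀ u ∈ W₁, ∀ v ∈ W₂, QuadraticMap.polar Q u v = 0) (hdis : W₁ ⊓ W₂ = ⊥) :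
    srNu Q (W₁ ⊔ W₂) = vconv (srNu Q W₁) (srNu Q W₂) := by
  haveI : Finite V := Module.finite_of_finite F
  funext c
  unfold vconv srNu
  rw [← card_prod_fiber (fun w : W₁ => (Q.comp W₁.subtype) w) (fun w : W₂ => (Q.comp W₂.subtype) w) c]
  symm
  have hQ : ∀ (u : W₁) (v : W₂), Q ((u : V) + (v : V)) = Q (u : V) + Q (v : V) := by
    intro u v
    rw [QuadraticMap.map_add (⇑Q), horth u.1 u.2 v.1 v.2, add_zero]
  apply Nat.card_congr
  refine Equiv.ofBijective (fun p => ⟨⟨p.1.1.1 + p.1.2.1,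
    Submodule.add_mem _ (Submodule.mem_sup_left p.1.1.2) (Submodule.mem_sup_right p.1.2.2)⟩, ?_⟩)
    ⟨?_, ?_⟩
  · have h1 := p.2
    rw [QuadraticMap.comp_apply, QuadraticMap.comp_apply] at h1
    rw [QuadraticMap.comp_apply]
    show Q (p.1.1.1 + p.1.2.1) = c
    rw [hQ]
    exact h1
  · rintro ⟨⟨u, v⟩, hp⟩ ⟨⟨u', v'⟩, hp'⟩ h
    have h1 : u.1 + v.1 = u'.1 + v'.1 := congrArg (fun x => (x.1 : V)) h
    have h3 : u.1 - u'.1 ∈ W₁ ⊓ W₂ := by
      refine Submodule.mem_inf.mpr ⟨W₁.sub_mem u.2 u'.2, ?_⟩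
      have h4 : u.1 - u'.1 = v'.1 - v.1 := by
        rw [sub_eq_sub_iff_add_eq_add, add_comm v'.1]
        exact h1
      rw [h4]
      exact W₂.sub_mem v'.2 v.2
    rw [hdis, Submodule.mem_bot, sub_eq_zero] at h3
    have h5 : v.1 = v'.1 := by
      rw [h3] at h1
      exact add_left_cancel h1
    have hu : u = u' := Subtype.ext h3
    have hv : v = v' := Subtype.ext h5
    subst hu
    subst hv
    rfl
  · rintro ⟨⟨w, hw⟩, hwc⟩
    obtain ⟨u, hu, v, hv, rfl⟩ := Submodule.mem_sup.mp hw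
    refine ⟨⟨(⟨u, hu⟩, ⟨v, hv⟩), ?_⟩, rfl⟩
    rw [QuadraticMap.comp_apply] at hwc
    rw [QuadraticMap.comp_apply, QuadraticMap.comp_apply]
    have := hQ ⟨u, hu⟩ ⟨v, hv⟩
    exact this.symm.trans hwc

theorem sr_ty_sum (Q : QuadraticForm F V) (W₁ W₂ : Submodule F V)
    (horth : ∀ u ∈ W₁, ∀ v ∈ W₂, QuadraticMap.polar Q u v = 0) (hdis : W₁ ⊓ W₂ = ⊥)
    (ε₁ ε₂ : ℤ) (h1 : SrTy Q W₁ ε₁) (h2 : SrTy Q W₂ ε₂) (he1 : Even (finrank F W₁))
    (he2 : Even (finrank F W₂)) : SrTy Q (W₁ ⊔ W₂) (ε₁ * ε₂) := by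
  have hdim := Submodule.finrank_sup_add_finrank_inf_eq W₁ W₂
  rw [hdis, finrank_bot, add_zero] at hdim
  obtain ⟨a, ha⟩ := he1
  obtain ⟨b, hb⟩ := he2
  unfold SrTy at h1 h2 ⊢
  rw [sr_nu_sum Q W₁ W₂ horth hdis, hdim]
  have e1 : finrank F W₁ / 2 = a := by omega
  have e2 : finrank F W₂ / 2 = b := by omega
  have e3 : (finrank F W₁ + finrank F W₂) / 2 = a + b := by omega
  rw [e1] at h1
  rw [e2] at h2
  rw [e3]
  have h3 := Unif.conv h1 h2
  have e4 : ε₁ * ε₂ * (Fintype.card F : ℤ) ^ (a + b)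
      = ε₁ * (Fintype.card F : ℤ) ^ a * (ε₂ * (Fintype.card F : ℤ) ^ b) := by
    rw [pow_add]
    ring
  rw [e4]
  exact h3

/-- Fixed-point-free isometries of prime order act freely on the vectors of nonzero norm. -/
theorem sr_free_dvd (Q : QuadraticForm F V) (T : Module.End F V) (hT : ∀ v, Q (T v) = Q v)
    (r : ℕ) [Fact r.Prime] (hTr : T ^ r = 1) (W : Submodule F V) (hWinv : ∀ w ∈ W, T w ∈ W)
    (hfix : LinearMap.ker (T - 1) ⊓ W = ⊥) (c : F) (hc : c ≠ 0) : r ∣ srNu Q W c := by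
  haveI : Finite V := Module.finite_of_finite F
  unfold srNu
  obtain ⟨f, hf⟩ : ∃ f : {w : W // (Q.comp W.subtype) w = c} → {w : W // (Q.comp W.subtype) w = c},
      ∀ w, ((f w).1 : V) = T w.1.1 :=
    ⟨fun w => ⟨⟨T w.1.1, hWinv _ w.1.2⟩, by
      have h1 := w.2
      rw [QuadraticMap.comp_apply] at h1 ⊢
      show Q (T w.1.1) = c
      rw [hT]
      exact h1⟩, fun w => rfl⟩
  have hiter : ∀ (k : ℕ) (w : {w : W // (Q.comp W.subtype) w = c}),
      (((f^[k]) w).1 : V) = (T ^ k) w.1.1 := by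
    intro k
    induction k with
    | zero =>
      intro w
      rw [pow_zero, Module.End.one_apply]
      rfl
    | succ k ih =>
      intro w
      rw [Function.iterate_succ_apply', hf, ih, pow_succ', Module.End.mul_apply]
  have h1 := sr_fixed_mod f r (fun w => by
    apply Subtype.ext
    apply Subtype.ext
    rw [hiter, hTr, Module.End.one_apply])
  have h2 : IsEmpty {a : {w : W // (Q.comp W.subtype) w = c} // f a = a} := by
    refine ⟨fun ⟨a, ha⟩ => ?_⟩
    have h3 : T a.1.1 = a.1.1 := by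
      rw [← hf, ha]
    have h4 : a.1.1 ∈ LinearMap.ker (T - 1) ⊓ W := by
      refine Submodule.mem_inf.mpr ⟨?_, a.1.2⟩
      rw [LinearMap.mem_ker, LinearMap.sub_apply, h3, Module.End.one_apply, sub_self]
    rw [hfix, Submodule.mem_bot] at h4
    have h5 := a.2
    rw [QuadraticMap.comp_apply] at h5
    have h6 : Q (a.1 : V) = 0 := by rw [h4, QuadraticMap.map_zero]
    apply hc
    rw [← h5]
    exact h6
  have h3 : Nat.card {a : {w : W // (Q.comp W.subtype) w = c} // f a = a} = 0 :=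
    Nat.card_of_isEmpty
  rw [h3] at h1
  exact (Nat.modEq_zero_iff_dvd).mp h1

/-- The type of a fixed-point-free invariant subspace: `ε q^e ≡ 1 (mod r)`. -/
theorem sr_ty_cong (Q : QuadraticForm F V) (T : Module.End F V) (hT : ∀ v, Q (T v) = Q v)
    (r : ℕ) [Fact r.Prime] (hTr : T ^ r = 1) (W : Submodule F V) (hWinv : ∀ w ∈ W, T w ∈ W)
    (hfix : LinearMap.ker (T - 1) ⊓ W = ⊥) (ε : ℤ) (hε : ε = 1 ∨ ε = -1) (hty : SrTy Q W ε)
    (hq : ¬ (r : ℤ) ∣ (Fintype.card F : ℤ)) :
    (r : ℤ) ∣ ε * (Fintype.card F : ℤ) ^ (finrank F W / 2) - 1 := by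
  have hr : r.Prime := Fact.out
  have h1 := sr_free_dvd Q T hT r hTr W hWinv hfix 1 one_ne_zero
  have h2 := hty 1
  rw [if_neg one_ne_zero] at h2
  obtain ⟨s, hs⟩ : ∃ s : ℤ, s = ε * (Fintype.card F : ℤ) ^ (finrank F W / 2) := ⟨_, rfl⟩
  rw [← hs] at h2 ⊢
  have h3 : (r : ℤ) ∣ s * (s - 1) := by
    have h4 : s * (s - 1) = (Fintype.card F : ℤ) * (srNu Q W 1 : ℤ) := by
      rw [h2]
      ring
    rw [h4]
    apply Dvd.dvd.mul_left
    exact_mod_cast h1
  rcases Int.Prime.dvd_mul' hr h3 with h5 | h5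
  · exfalso
    rw [hs] at h5
    rcases Int.Prime.dvd_mul' hr h5 with h6 | h6
    · rcases hε with rfl | rfl
      · have := Int.eq_one_of_dvd_one (by norm_num) h6
        have h7 : (2 : ℤ) ≤ r := by exact_mod_cast hr.two_le
        omega
      · have h8 : (r : ℤ) ∣ 1 := (dvd_neg (a := (r : ℤ)) (b := (1 : ℤ))).mp h6
        have := Int.eq_one_of_dvd_one (by norm_num) h8
        have h7 : (2 : ℤ) ≤ r := by exact_mod_cast hr.two_le
        omega
    · exact hq (Int.Prime.dvd_pow' hr h6)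
  · exact h5

end sra1

end Cfsg.Agent.Lib.helper24
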