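import Mathlib
import Cfsg.Agent.Lib.helper24.SrA

/-! Semisimple orthogonal toolkit, part B: existence of nondegenerate subspaces of a given type,
invariant under an involution. -/

set_option autoImplicit false
set_option linter.unusedSectionVars false
set_option linter.style.haveILetI false
set_option linter.unusedVariables false

namespace Cfsg.Agent.Lib.helper24

open Module Cfsg.Agent.Lib.helper45

universe u

section srb1

variable {F : Type u} [Field F] [Fintype F] {V : Type u} [AddCommGroup V] [Module F V]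
  [FiniteDimensional F V]

theorem sr_exists_sing (Q : QuadraticForm F V) (X : Submodule F V) (h : 3 ≤ finrank F X) :
    ∃ v ∈ X, v ≠ 0 ∧ Q v = 0 := by
  obtain ⟨v, hv0, hv⟩ :=
    Cfsg.Agent.Lib.helper49.exists_singular_of_three_le_finrank (Q.comp X.subtype) h
  refine ⟨v.1, v.2, fun h0 => hv0 (Subtype.ext h0), ?_⟩
  rw [QuadraticMap.comp_apply] at hv
  exact hv

theorem sr_polar_self (Q : QuadraticForm F V) (v : V) : QuadraticMap.polar Q v v = 2 * Q v := by
  rw [QuadraticMap.polar_self, two_nsmul, two_mul]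

/-- A singular partner of a singular vector. -/
theorem sr_partner (Q : QuadraticForm F V) (X : Submodule F V)
    (hX : SpNd (QuadraticMap.polarBilin Q) X) (v : V) (hvX : v ∈ X) (hv0 : v ≠ 0)
    (hv : Q v = 0) (w : V) (hwX : w ∈ X) (hw : QuadraticMap.polar Q v w ≠ 0) :
    ∃ a b : F, QuadraticMap.polar Q v (a • w + b • v) = 1 ∧ Q (a • w + b • v) = 0 := by
  obtain ⟨t, ht⟩ : ∃ t : F, t = QuadraticMap.polar Q v w := ⟨_, rfl⟩
  rw [← ht] at hw
  refine ⟨t⁻¹, -(t⁻¹ * t⁻¹ * Q w), ?_, ?_⟩
  · rw [QuadraticMap.polar_add_right, QuadraticMap.polar_smul_right,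
      QuadraticMap.polar_smul_right, sr_polar_self, hv, ← ht, smul_eq_mul, smul_eq_mul,
      inv_mul_cancel₀ hw]
    ring
  · rw [QuadraticMap.map_add (⇑Q), QuadraticMap.map_smul, QuadraticMap.map_smul, hv,
      QuadraticMap.polar_smul_left, QuadraticMap.polar_smul_right, QuadraticMap.polar_comm,
      ← ht, smul_eq_mul, smul_eq_mul, smul_eq_mul, smul_eq_mul]
    field_simp
    ring

/-- A plane spanned by two vectors with invertible Gram matrix. -/
theorem sr_pair (Q : QuadraticForm F V) (u v : V)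
    (hD : QuadraticMap.polar Q u u * QuadraticMap.polar Q v v
      - QuadraticMap.polar Q u v * QuadraticMap.polar Q u v ≠ 0) :
    SpNd (QuadraticMap.polarBilin Q) (Submodule.span F {u, v}) ∧
      finrank F (Submodule.span F {u, v}) = 2 := by
  have key : ∀ a b : F, QuadraticMap.polar Q (a • u + b • v) u = 0 →
      QuadraticMap.polar Q (a • u + b • v) v = 0 → a = 0 ∧ b = 0 := by
    intro a b h1 h2
    rw [QuadraticMap.polar_add_left, QuadraticMap.polar_smul_left,
      QuadraticMap.polar_smul_left, smul_eq_mul, smul_eq_mul] at h1 h2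
    rw [QuadraticMap.polar_comm (⇑Q) v u] at h1
    have ha : a * (QuadraticMap.polar Q u u * QuadraticMap.polar Q v v
      - QuadraticMap.polar Q u v * QuadraticMap.polar Q u v) = 0 := by
      linear_combination QuadraticMap.polar Q v v * h1 - QuadraticMap.polar Q u v * h2
    have hb : b * (QuadraticMap.polar Q u u * QuadraticMap.polar Q v v
      - QuadraticMap.polar Q u v * QuadraticMap.polar Q u v) = 0 := by
      linear_combination QuadraticMap.polar Q u u * h2 - QuadraticMap.polar Q u v * h1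
    exact ⟨(mul_eq_zero.mp ha).resolve_right hD, (mul_eq_zero.mp hb).resolve_right hD⟩
  refine ⟨?_, ?_⟩
  · intro x hx hx2
    obtain ⟨a, b, rfl⟩ := Submodule.mem_span_pair.mp hx
    have h1 := hx2 u (Submodule.subset_span (by simp))
    have h2 := hx2 v (Submodule.subset_span (by simp))
    rw [QuadraticMap.polarBilin_apply_apply] at h1 h2
    obtain ⟨ha, hb⟩ := key a b h1 h2
    rw [ha, hb, zero_smul, zero_smul, add_zero]
  · have hli : LinearIndependent F ![u, v] := by
      rw [LinearIndependent.pair_iff]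
      intro a b hab
      apply key a b
      · rw [hab, QuadraticMap.polar_zero_left]
      · rw [hab, QuadraticMap.polar_zero_left]
    have h1 := finrank_span_eq_card hli
    rw [Matrix.range_cons_cons_empty, Fintype.card_fin] at h1
    exact h1

theorem sr_exists_nonsing (Q : QuadraticForm F V) (Y : Submodule F V)
    (hY : SpNd (QuadraticMap.polarBilin Q) Y) (hne : Y ≠ ⊥) : ∃ z ∈ Y, Q z ≠ 0 := by
  by_contra hcon
  push Not at hcon
  obtain ⟨x, hx, hx0⟩ := (Submodule.ne_bot_iff Y).mp hne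
  apply hx0
  apply hY x hx
  intro y hy
  rw [QuadraticMap.polarBilin_apply_apply]
  unfold QuadraticMap.polar
  rw [hcon _ (Y.add_mem hx hy), hcon x hx, hcon y hy]
  ring

theorem sr_iso_polar (Q : QuadraticForm F V) (T : Module.End F V) (hT : ∀ v, Q (T v) = Q v)
    (u v : V) : QuadraticMap.polar Q (T u) (T v) = QuadraticMap.polar Q u v := by
  unfold QuadraticMap.polar
  rw [← map_add, hT, hT, hT]

theorem sr_iso_bilin (Q : QuadraticForm F V) (T : Module.End F V) (hT : ∀ v, Q (T v) = Q v)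
    (u v : V) : QuadraticMap.polarBilin Q (T u) (T v) = QuadraticMap.polarBilin Q u v := by
  rw [QuadraticMap.polarBilin_apply_apply, QuadraticMap.polarBilin_apply_apply,
    sr_iso_polar Q T hT]

/-- A hyperbolic plane inside an eigenspace containing a given singular eigenvector. -/
theorem sr_hyp_eig (Q : QuadraticForm F V) (h2 : (2 : F) ≠ 0) (T : Module.End F V)
    (hT : ∀ v, Q (T v) = Q v) (hT2 : T * T = 1) (X : Submodule F V)
    (hX : SpNd (QuadraticMap.polarBilin Q) X) (hXinv : ∀ x ∈ X, T x ∈ X) (σ : F)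
    (hσ : σ * σ = 1) (u : V) (huX : u ∈ X) (hu0 : u ≠ 0) (hu : Q u = 0) (hTu : T u = σ • u) :
    ∃ H : Submodule F V, H ≤ X ∧ SpNd (QuadraticMap.polarBilin Q) H ∧ (∀ h ∈ H, T h ∈ H) ∧
      finrank F H = 2 ∧ SrTy Q H 1 := by
  have hTT : ∀ x, T (T x) = x := by
    intro x
    rw [← Module.End.mul_apply, hT2, Module.End.one_apply]
  obtain ⟨w, hwX, hw⟩ : ∃ w ∈ X, QuadraticMap.polar Q u w ≠ 0 := by
    by_contra hcon
    push Not at hcon
    apply hu0
    apply hX u huX
    intro y hy
    rw [QuadraticMap.polarBilin_apply_apply]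
    exact hcon y hy
  obtain ⟨w', hw'⟩ : ∃ w' : V, w' = w + σ • T w := ⟨_, rfl⟩
  have hw'X : w' ∈ X := by
    rw [hw']
    exact X.add_mem hwX (X.smul_mem _ (hXinv w hwX))
  have hTw' : T w' = σ • w' := by
    rw [hw', map_add, map_smul, hTT, smul_add, smul_smul, hσ, one_smul, add_comm]
  have hpol : QuadraticMap.polar Q u w' = 2 * QuadraticMap.polar Q u w := by
    have h1 : QuadraticMap.polar Q u (T w) = σ * QuadraticMap.polar Q u w := by
      have h3 : u = σ • T u := by
        rw [hTu, smul_smul, hσ, one_smul]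
      nth_rewrite 1 [h3]
      rw [QuadraticMap.polar_smul_left, sr_iso_polar Q T hT, smul_eq_mul]
    rw [hw', QuadraticMap.polar_add_right, QuadraticMap.polar_smul_right, h1, smul_eq_mul,
      ← mul_assoc, hσ]
    ring
  have hpol0 : QuadraticMap.polar Q u w' ≠ 0 := by
    rw [hpol]
    exact mul_ne_zero h2 hw
  obtain ⟨a, b, hab1, hab2⟩ := sr_partner Q X hX u huX hu0 hu w' hw'X hpol0
  obtain ⟨u', hu'⟩ : ∃ u' : V, u' = a • w' + b • u := ⟨_, rfl⟩
  rw [← hu'] at hab1 hab2
  have hu'X : u' ∈ X := by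
    rw [hu']
    exact X.add_mem (X.smul_mem _ hw'X) (X.smul_mem _ huX)
  have hTu' : T u' = σ • u' := by
    rw [hu', map_add, map_smul, map_smul, hTw', hTu, smul_add, smul_comm a σ, smul_comm b σ]
  have hD : QuadraticMap.polar Q u u * QuadraticMap.polar Q u' u'
      - QuadraticMap.polar Q u u' * QuadraticMap.polar Q u u' ≠ 0 := by
    rw [sr_polar_self, sr_polar_self, hu, hab2, hab1]
    norm_num
  obtain ⟨hnd, hdim⟩ := sr_pair Q u u' hD
  have hHX : Submodule.span F {u, u'} ≤ X := by
    rw [Submodule.span_le]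
    intro x hx
    rcases hx with rfl | rfl
    · exact huX
    · exact hu'X
  have hHT : ∀ h ∈ Submodule.span F {u, u'}, T h = σ • h := by
    intro h hh
    obtain ⟨c, d, rfl⟩ := Submodule.mem_span_pair.mp hh
    rw [map_add, map_smul, map_smul, hTu, hTu', smul_add, smul_comm c σ, smul_comm d σ]
  refine ⟨Submodule.span F {u, u'}, hHX, hnd, ?_, hdim, ?_⟩
  · intro h hh
    rw [hHT h hh]
    exact Submodule.smul_mem _ _ hh
  · apply sr_plus_ty Q h2 _ hnd
    refine ⟨Submodule.span F {u}, ?_, ?_, ?_⟩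
    · apply Submodule.span_mono
      simp
    · intro x hx
      obtain ⟨c, rfl⟩ := Submodule.mem_span_singleton.mp hx
      rw [QuadraticMap.map_smul, hu, smul_zero]
    · rw [finrank_span_singleton hu0, hdim]

/-- An involution-invariant hyperbolic plane. -/
theorem sr_inv_hyp (Q : QuadraticForm F V) (h2 : (2 : F) ≠ 0) (T : Module.End F V)
    (hT : ∀ v, Q (T v) = Q v) (hT2 : T * T = 1) (X : Submodule F V)
    (hX : SpNd (QuadraticMap.polarBilin Q) X) (hXinv : ∀ x ∈ X, T x ∈ X)
    (hdim : 3 ≤ finrank F X) :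
    ∃ H : Submodule F V, H ≤ X ∧ SpNd (QuadraticMap.polarBilin Q) H ∧ (∀ h ∈ H, T h ∈ H) ∧
      finrank F H = 2 ∧ SrTy Q H 1 := by
  have hTT : ∀ x, T (T x) = x := by
    intro x
    rw [← Module.End.mul_apply, hT2, Module.End.one_apply]
  obtain ⟨v, hvX, hv0, hv⟩ := sr_exists_sing Q X hdim
  obtain ⟨a, ha⟩ : ∃ a : V, a = v + T v := ⟨_, rfl⟩
  obtain ⟨b, hb⟩ : ∃ b : V, b = v - T v := ⟨_, rfl⟩
  have haX : a ∈ X := by rw [ha]; exact X.add_mem hvX (hXinv v hvX)
  have hbX : b ∈ X := by rw [hb]; exact X.sub_mem hvX (hXinv v hvX)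
  have hTa : T a = (1 : F) • a := by
    rw [ha, map_add, hTT, one_smul, add_comm]
  have hTb : T b = (-1 : F) • b := by
    rw [hb, map_sub, hTT, neg_one_smul, neg_sub]
  have hab : QuadraticMap.polar Q a b = 0 := by
    have h1 := sr_iso_polar Q T hT a b
    rw [hTa, hTb, one_smul, QuadraticMap.polar_smul_right, smul_eq_mul] at h1
    have h3 : (2 : F) * QuadraticMap.polar Q a b = 0 := by linear_combination -h1
    exact (mul_eq_zero.mp h3).resolve_left h2
  have hsum : a + b = (2 : F) • v := by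
    rw [ha, hb, two_smul]
    abel
  have hQsum : Q a + Q b = 0 := by
    have h1 := QuadraticMap.map_add (⇑Q) a b
    rw [hab, add_zero, hsum, QuadraticMap.map_smul, hv, smul_zero] at h1
    exact h1.symm
  have hsum0 : a + b ≠ 0 := by
    rw [hsum]
    exact smul_ne_zero h2 hv0
  by_cases hQa : Q a = 0
  · have hQb : Q b = 0 := by rw [hQa, zero_add] at hQsum; exact hQsum
    by_cases ha0 : a = 0
    · have hb0 : b ≠ 0 := by
        intro hb0
        apply hsum0
        rw [ha0, hb0, add_zero]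
      exact sr_hyp_eig Q h2 T hT hT2 X hX hXinv (-1) (by norm_num) b hbX hb0 hQb hTb
    · exact sr_hyp_eig Q h2 T hT hT2 X hX hXinv 1 (by norm_num) a haX ha0 hQa hTa
  · have hQb : Q b ≠ 0 := by
      intro hQb
      apply hQa
      rw [hQb, add_zero] at hQsum
      exact hQsum
    have hD : QuadraticMap.polar Q a a * QuadraticMap.polar Q b b
        - QuadraticMap.polar Q a b * QuadraticMap.polar Q a b ≠ 0 := by
      rw [sr_polar_self, sr_polar_self, hab, mul_zero, sub_zero]
      exact mul_ne_zero (mul_ne_zero h2 hQa) (mul_ne_zero h2 hQb)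
    obtain ⟨hnd, hdim2⟩ := sr_pair Q a b hD
    have hHX : Submodule.span F {a, b} ≤ X := by
      rw [Submodule.span_le]
      intro x hx
      rcases hx with rfl | rfl
      · exact haX
      · exact hbX
    refine ⟨Submodule.span F {a, b}, hHX, hnd, ?_, hdim2, ?_⟩
    · intro h hh
      obtain ⟨c, d, rfl⟩ := Submodule.mem_span_pair.mp hh
      rw [map_add, map_smul, map_smul, hTa, hTb, one_smul]
      apply Submodule.add_mem
      · exact Submodule.smul_mem _ _ (Submodule.subset_span (by simp))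
      · exact Submodule.smul_mem _ _ (Submodule.smul_mem _ _ (Submodule.subset_span (by simp)))
    · apply sr_plus_ty Q h2 _ hnd
      refine ⟨Submodule.span F {a + b}, ?_, ?_, ?_⟩
      · rw [Submodule.span_le]
        intro x hx
        rw [Set.mem_singleton_iff] at hx
        rw [hx]
        exact Submodule.add_mem _ (Submodule.subset_span (by simp))
          (Submodule.subset_span (by simp))
      · intro x hx
        obtain ⟨c, rfl⟩ := Submodule.mem_span_singleton.mp hx
        rw [QuadraticMap.map_smul, QuadraticMap.map_add (⇑Q), hab, add_zero, hQsum, smul_zero]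
      · rw [finrank_span_singleton hsum0, hdim2]

theorem sr_perp_inv2 (Q : QuadraticForm F V) (T : Module.End F V) (hT : ∀ v, Q (T v) = Q v)
    (k : ℕ) (hk : k ≠ 0) (hTk : T ^ k = 1) (H X : Submodule F V) (hH : ∀ h ∈ H, T h ∈ H)
    (hX : ∀ x ∈ X, T x ∈ X) :
    ∀ x ∈ spPerp (QuadraticMap.polarBilin Q) H ⊓ X,
      T x ∈ spPerp (QuadraticMap.polarBilin Q) H ⊓ X := by
  haveI : Finite V := Module.finite_of_finite F
  intro x hx
  rw [Submodule.mem_inf] at hx ⊢
  exact ⟨sp_perp_inv _ T (sr_iso_bilin Q T hT) H (sp_map_eq T k hk hTk H hH) x hx.1,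
    hX x hx.2⟩

/-- Involution-invariant nondegenerate plus-type subspaces of every even dimension. -/
theorem sr_exists_plus (Q : QuadraticForm F V) (h2 : (2 : F) ≠ 0) (T : Module.End F V)
    (hT : ∀ v, Q (T v) = Q v) (hT2 : T * T = 1) :
    ∀ (e : ℕ) (X : Submodule F V), SpNd (QuadraticMap.polarBilin Q) X → (∀ x ∈ X, T x ∈ X) →
      2 * e + 1 ≤ finrank F X →
      ∃ W : Submodule F V, W ≤ X ∧ SpNd (QuadraticMap.polarBilin Q) W ∧ (∀ w ∈ W, T w ∈ W) ∧
        finrank F W = 2 * e ∧ SrTy Q W 1 := by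
  intro e
  induction e with
  | zero =>
    intro X hX hXinv hdim
    refine ⟨⊥, bot_le, ?_, ?_, by simp, ?_⟩
    · intro u hu _
      exact (Submodule.mem_bot F).mp hu
    · intro w hw
      rw [(Submodule.mem_bot F).mp hw, map_zero]
      exact Submodule.zero_mem _
    · apply sr_plus_ty Q h2 ⊥
      · intro u hu _
        exact (Submodule.mem_bot F).mp hu
      · exact ⟨⊥, le_refl _, fun u hu => by
          rw [(Submodule.mem_bot F).mp hu, QuadraticMap.map_zero], by simp⟩
  | succ e ih =>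
    intro X hX hXinv hdim
    obtain ⟨H, hHX, hHnd, hHinv, hHdim, hHty⟩ :=
      sr_inv_hyp Q h2 T hT hT2 X hX hXinv (by omega)
    obtain ⟨hX'nd, hsup, hinf, hdim'⟩ :=
      so_rel (QuadraticMap.polarBilin Q) (sr_sym Q) X H hX hHnd hHX
    have hX'inv := sr_perp_inv2 Q T hT 2 (by norm_num) (by rw [pow_two, hT2]) H X hHinv hXinv
    obtain ⟨W', hW'X, hW'nd, hW'inv, hW'dim, hW'ty⟩ :=
      ih (spPerp (QuadraticMap.polarBilin Q) H ⊓ X) hX'nd hX'inv (by omega)
    have horth : ∀ u ∈ H, ∀ v ∈ W', QuadraticMap.polarBilin Q u v = 0 := by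
      intro u hu v hv
      exact (Submodule.mem_inf.mp (hW'X hv)).1 u hu
    have horth' : ∀ u ∈ H, ∀ v ∈ W', QuadraticMap.polar Q u v = 0 := by
      intro u hu v hv
      have := horth u hu v hv
      rwa [QuadraticMap.polarBilin_apply_apply] at this
    have hdis : H ⊓ W' = ⊥ := by
      rw [eq_bot_iff, ← hinf]
      exact inf_le_inf_left H hW'X
    obtain ⟨hWnd, hWdim⟩ := so_sum (QuadraticMap.polarBilin Q) (sr_sym Q) H W' hHnd hW'nd horth
    refine ⟨H ⊔ W', sup_le hHX (hW'X.trans inf_le_right), hWnd, ?_, by omega, ?_⟩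
    · intro w hw
      obtain ⟨h, hh, w', hw', rfl⟩ := Submodule.mem_sup.mp hw
      rw [map_add]
      exact Submodule.add_mem _ (Submodule.mem_sup_left (hHinv h hh))
        (Submodule.mem_sup_right (hW'inv w' hw'))
    · have := sr_ty_sum Q H W' horth' hdis 1 1 hHty hW'ty (by rw [hHdim]; decide)
        (by rw [hW'dim]; exact even_two_mul e)
      rwa [one_mul] at this

/-- An anisotropic plane in a nondegenerate space of dimension at least three. -/
theorem sr_exists_aniso (Q : QuadraticForm F V) (h2 : (2 : F) ≠ 0) (X : Submodule F V)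
    (hX : SpNd (QuadraticMap.polarBilin Q) X) (hdim : 3 ≤ finrank F X) :
    ∃ P : Submodule F V, P ≤ X ∧ SpNd (QuadraticMap.polarBilin Q) P ∧ finrank F P = 2 ∧
      SrTy Q P (-1) := by
  obtain ⟨u, huX, hu0, hu⟩ := sr_exists_sing Q X hdim
  obtain ⟨w₀, hw₀X, hw₀⟩ : ∃ w ∈ X, QuadraticMap.polar Q u w ≠ 0 := by
    by_contra hcon
    push Not at hcon
    apply hu0
    apply hX u huX
    intro y hy
    rw [QuadraticMap.polarBilin_apply_apply]
    exact hcon y hy
  obtain ⟨a, b, hab1, hab2⟩ := sr_partner Q X hX u huX hu0 hu w₀ hw₀X hw₀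
  obtain ⟨v, hv⟩ : ∃ v : V, v = a • w₀ + b • u := ⟨_, rfl⟩
  rw [← hv] at hab1 hab2
  have hvX : v ∈ X := by
    rw [hv]
    exact X.add_mem (X.smul_mem _ hw₀X) (X.smul_mem _ huX)
  have hD : QuadraticMap.polar Q u u * QuadraticMap.polar Q v v
      - QuadraticMap.polar Q u v * QuadraticMap.polar Q u v ≠ 0 := by
    rw [sr_polar_self, sr_polar_self, hu, hab2, hab1]
    norm_num
  obtain ⟨hHnd, hHdim⟩ := sr_pair Q u v hD
  have hHX : Submodule.span F {u, v} ≤ X := by
    rw [Submodule.span_le]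
    intro x hx
    rcases hx with rfl | rfl
    · exact huX
    · exact hvX
  obtain ⟨hX'nd, hsup, hinf, hdim'⟩ :=
    so_rel (QuadraticMap.polarBilin Q) (sr_sym Q) X _ hX hHnd hHX
  have hX'ne : spPerp (QuadraticMap.polarBilin Q) (Submodule.span F {u, v}) ⊓ X ≠ ⊥ := by
    intro h
    rw [h, finrank_bot] at hdim'
    omega
  obtain ⟨z, hzX', hz⟩ := sr_exists_nonsing Q _ hX'nd hX'ne
  have hzX : z ∈ X := (Submodule.mem_inf.mp hzX').2
  have huz : QuadraticMap.polar Q u z = 0 := by
    have := (Submodule.mem_inf.mp hzX').1 u (Submodule.subset_span (by simp))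
    rwa [QuadraticMap.polarBilin_apply_apply] at this
  have hvz : QuadraticMap.polar Q v z = 0 := by
    have := (Submodule.mem_inf.mp hzX').1 v (Submodule.subset_span (by simp))
    rwa [QuadraticMap.polarBilin_apply_apply] at this
  have hchar : ringChar F ≠ 2 := by
    intro h
    apply h2
    have := CharP.cast_eq_zero F (ringChar F)
    rw [h] at this
    exact_mod_cast this
  obtain ⟨δ, hδ⟩ := FiniteField.exists_nonsquare hchar
  obtain ⟨w, hw⟩ : ∃ w : V, w = u + (-(δ * Q z)) • v := ⟨_, rfl⟩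
  have hwX : w ∈ X := by
    rw [hw]
    exact X.add_mem huX (X.smul_mem _ hvX)
  have hQw : Q w = -(δ * Q z) := by
    rw [hw, QuadraticMap.map_add (⇑Q), QuadraticMap.map_smul, hu, hab2,
      QuadraticMap.polar_smul_right, hab1, smul_eq_mul, smul_eq_mul]
    ring
  have hwz : QuadraticMap.polar Q w z = 0 := by
    rw [hw, QuadraticMap.polar_add_left, QuadraticMap.polar_smul_left, huz, hvz, smul_zero,
      add_zero]
  have hδ0 : δ ≠ 0 := by
    rintro rfl
    exact hδ ⟨0, by ring⟩
  have hD2 : QuadraticMap.polar Q w w * QuadraticMap.polar Q z z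
      - QuadraticMap.polar Q w z * QuadraticMap.polar Q w z ≠ 0 := by
    rw [sr_polar_self, sr_polar_self, hwz, mul_zero, sub_zero, hQw]
    exact mul_ne_zero (mul_ne_zero h2 (neg_ne_zero.mpr (mul_ne_zero hδ0 hz))) (mul_ne_zero h2 hz)
  obtain ⟨hPnd, hPdim⟩ := sr_pair Q w z hD2
  have hPX : Submodule.span F {w, z} ≤ X := by
    rw [Submodule.span_le]
    intro x hx
    rcases hx with rfl | rfl
    · exact hwX
    · exact hzX
  refine ⟨Submodule.span F {w, z}, hPX, hPnd, hPdim, ?_⟩
  have han : ∀ x : ↥(Submodule.span F {w, z}),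
      (Q.comp (Submodule.span F {w, z}).subtype) x = 0 → x = 0 := by
    intro x hx
    rw [QuadraticMap.comp_apply] at hx
    obtain ⟨α, β, hαβ⟩ := Submodule.mem_span_pair.mp x.2
    have h1 : Q (α • w + β • z) = Q z * (β * β - δ * (α * α)) := by
      rw [QuadraticMap.map_add (⇑Q), QuadraticMap.map_smul, QuadraticMap.map_smul,
        QuadraticMap.polar_smul_left, QuadraticMap.polar_smul_right, hwz, hQw, smul_eq_mul,
        smul_eq_mul, smul_eq_mul, smul_eq_mul]
      ring
    have h3 : Q z * (β * β - δ * (α * α)) = 0 := by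
      rw [← h1, hαβ]
      exact hx
    have h4 : β * β = δ * (α * α) := by
      have := (mul_eq_zero.mp h3).resolve_left hz
      linear_combination this
    have hα : α = 0 := by
      by_contra hα
      apply hδ
      refine ⟨β / α, ?_⟩
      field_simp
      linear_combination -h4
    rw [hα] at h4
    have hβ : β = 0 := by
      have h5 : β * β = 0 := by rw [h4]; ring
      exact mul_self_eq_zero.mp h5
    apply Subtype.ext
    rw [← hαβ, hα, hβ, zero_smul, zero_smul, add_zero]
    rfl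
  have h5 := unif_aniso_plane (Q.comp (Submodule.span F {w, z}).subtype)
    (sr_restr_nd Q _ hPnd) han hPdim
  unfold SrTy
  rw [hPdim]
  have e1 : (-1 : ℤ) * (Fintype.card F : ℤ) ^ (2 / 2) = -(Fintype.card F : ℤ) := by
    norm_num
  rw [e1]
  exact h5

/-- Nondegenerate subspaces of every even dimension and type. -/
theorem sr_exists_ty (Q : QuadraticForm F V) (h2 : (2 : F) ≠ 0) (ε : ℤ) (hε : ε = 1 ∨ ε = -1)
    (e : ℕ) (X : Submodule F V) (hX : SpNd (QuadraticMap.polarBilin Q) X)
    (hdim : 2 * e + 1 ≤ finrank F X) (he : ε = -1 → 1 ≤ e) :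
    ∃ W : Submodule F V, W ≤ X ∧ SpNd (QuadraticMap.polarBilin Q) W ∧ finrank F W = 2 * e ∧
      SrTy Q W ε := by
  have hT1 : ∀ v, Q ((1 : Module.End F V) v) = Q v := fun v => rfl
  rcases hε with rfl | rfl
  · obtain ⟨W, hWX, hWnd, -, hWdim, hWty⟩ :=
      sr_exists_plus Q h2 1 hT1 (one_mul 1) e X hX (fun x hx => hx) hdim
    exact ⟨W, hWX, hWnd, hWdim, hWty⟩
  · have he1 := he rfl
    obtain ⟨P, hPX, hPnd, hPdim, hPty⟩ := sr_exists_aniso Q h2 X hX (by omega)
    obtain ⟨hX'nd, hsup, hinf, hdim'⟩ :=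
      so_rel (QuadraticMap.polarBilin Q) (sr_sym Q) X P hX hPnd hPX
    obtain ⟨W', hW'X, hW'nd, -, hW'dim, hW'ty⟩ :=
      sr_exists_plus Q h2 1 hT1 (one_mul 1) (e - 1) _ hX'nd (fun x hx => hx) (by omega)
    have horth : ∀ u ∈ P, ∀ v ∈ W', QuadraticMap.polarBilin Q u v = 0 := by
      intro u hu v hv
      exact (Submodule.mem_inf.mp (hW'X hv)).1 u hu
    have horth' : ∀ u ∈ P, ∀ v ∈ W', QuadraticMap.polar Q u v = 0 := by
      intro u hu v hv
      have := horth u hu v hv
      rwa [QuadraticMap.polarBilin_apply_apply] at this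
    have hdis : P ⊓ W' = ⊥ := by
      rw [eq_bot_iff, ← hinf]
      exact inf_le_inf_left P hW'X
    obtain ⟨hWnd, hWdim⟩ := so_sum (QuadraticMap.polarBilin Q) (sr_sym Q) P W' hPnd hW'nd horth
    refine ⟨P ⊔ W', sup_le hPX (hW'X.trans inf_le_right), hWnd, by omega, ?_⟩
    have := sr_ty_sum Q P W' horth' hdis (-1) 1 hPty hW'ty (by rw [hPdim]; decide)
      (by rw [hW'dim]; exact even_two_mul _)
    rwa [mul_one] at this

end srb1

end Cfsg.Agent.Lib.helper24
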