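import Mathlib
import Cfsg.Agent.Lib.helper24.SrB

/-! Semisimple orthogonal toolkit, part C: isometries of odd prime order `r ≠ p` of a
nondegenerate quadratic space. -/

set_option autoImplicit false
set_option linter.unusedSectionVars false
set_option linter.style.haveILetI false
set_option linter.unusedVariables false

namespace Cfsg.Agent.Lib.helper24

open Module Cfsg.Agent.Lib.helper45

universe u

section src1

variable {F : Type u} [Field F] [Fintype F] {V : Type u} [AddCommGroup V] [Module F V]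
  [FiniteDimensional F V]

/-- The alternating form `(u, v) ↦ B((T - T⁻¹) u, v)`. -/
noncomputable def srAlt (Q : QuadraticForm F V) (T T' : Module.End F V) : V →ₗ[F] V →ₗ[F] F :=
  (QuadraticMap.polarBilin Q).comp (T - T')

theorem srAlt_apply (Q : QuadraticForm F V) (T T' : Module.End F V) (u v : V) :
    srAlt Q T T' u v = QuadraticMap.polar Q (T u - T' u) v := by
  unfold srAlt
  rw [LinearMap.comp_apply, QuadraticMap.polarBilin_apply_apply, LinearMap.sub_apply]

theorem srAlt_alt (Q : QuadraticForm F V) (T T' : Module.End F V) (hT : ∀ v, Q (T v) = Q v)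
    (hTT' : T * T' = 1) (v : V) : srAlt Q T T' v v = 0 := by
  rw [srAlt_apply, QuadraticMap.polar_sub_left]
  have h1 : QuadraticMap.polar Q (T' v) v = QuadraticMap.polar Q (T v) v := by
    rw [← sr_iso_polar Q T hT (T' v) v, ← Module.End.mul_apply, hTT', Module.End.one_apply,
      QuadraticMap.polar_comm]
  rw [h1, sub_self]

theorem srAlt_iso (Q : QuadraticForm F V) (T T' : Module.End F V) (hT : ∀ v, Q (T v) = Q v)
    (hTT' : T * T' = 1) (hT'T : T' * T = 1) (u v : V) :
    srAlt Q T T' (T u) (T v) = srAlt Q T T' u v := by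
  rw [srAlt_apply, srAlt_apply]
  have h1 : T (T u) - T' (T u) = T (T u - T' u) := by
    rw [map_sub, ← Module.End.mul_apply T' T, hT'T, ← Module.End.mul_apply T T', hTT']
  rw [h1, sr_iso_polar Q T hT]

theorem sr_pow_mem (T : Module.End F V) (M : Submodule F V) (hM : ∀ m ∈ M, T m ∈ M) (k : ℕ) :
    ∀ m ∈ M, (T ^ k) m ∈ M := by
  induction k with
  | zero => intro m hm; simpa using hm
  | succ k ih =>
    intro m hm
    rw [pow_succ', Module.End.mul_apply]
    exact hM _ (ih m hm)

/-- `T - T⁻¹` is injective off the fixed space (odd order). -/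
theorem sr_inj (T T' : Module.End F V) (hTT' : T * T' = 1) (r : ℕ) (hrodd : Odd r)
    (hTr : T ^ r = 1) (u : V) (hu : T u - T' u = 0) : T u = u := by
  have h1 : T (T u) = u := by
    rw [sub_eq_zero] at hu
    rw [hu, ← Module.End.mul_apply, hTT', Module.End.one_apply]
  obtain ⟨k, hk⟩ := hrodd
  have h2 : ∀ j : ℕ, (T ^ (2 * j)) u = u := by
    intro j
    induction j with
    | zero => simp
    | succ j ih =>
      rw [show 2 * (j + 1) = 2 * j + 2 by ring, pow_add, Module.End.mul_apply, pow_two,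
        Module.End.mul_apply, h1, ih]
  have h3 : (T ^ r) u = T u := by
    rw [hk, pow_succ', Module.End.mul_apply, h2]
  rw [hTr, Module.End.one_apply] at h3
  exact h3.symm

/-- Nondegeneracy for the symmetric and for the alternating form agree on invariant subspaces
without fixed vectors. -/
theorem sr_nd_iff (Q : QuadraticForm F V) (T T' : Module.End F V) (hTT' : T * T' = 1)
    (r : ℕ) (hrodd : Odd r) (hTr : T ^ r = 1) (M : Submodule F V) (hM : ∀ m ∈ M, T m ∈ M)
    (hM' : ∀ m ∈ M, T' m ∈ M) (hfix : LinearMap.ker (T - 1) ⊓ M = ⊥) :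
    SpNd (QuadraticMap.polarBilin Q) M ↔ SpNd (srAlt Q T T') M := by
  have hinj : ∀ u ∈ M, T u - T' u = 0 → u = 0 := by
    intro u hu h0
    have h1 := sr_inj T T' hTT' r hrodd hTr u h0
    have h3 : u ∈ LinearMap.ker (T - 1) ⊓ M := by
      refine Submodule.mem_inf.mpr ⟨?_, hu⟩
      rw [LinearMap.mem_ker, LinearMap.sub_apply, h1, Module.End.one_apply, sub_self]
    rw [hfix] at h3
    exact (Submodule.mem_bot F).mp h3
  constructor
  · intro h u hu hu2
    apply hinj u hu
    apply h _ (M.sub_mem (hM u hu) (hM' u hu))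
    intro v hv
    have := hu2 v hv
    rw [srAlt_apply] at this
    rw [QuadraticMap.polarBilin_apply_apply]
    exact this
  · intro h u hu hu2
    have hL : ∀ m ∈ M, (T - T') m ∈ M := by
      intro m hm
      rw [LinearMap.sub_apply]
      exact M.sub_mem (hM m hm) (hM' m hm)
    have hLinj : Function.Injective ((T - T').restrict hL) := by
      rw [injective_iff_map_eq_zero]
      intro x hx
      apply Subtype.ext
      apply hinj x.1 x.2
      have := congrArg Subtype.val hx
      rw [LinearMap.restrict_coe_apply, LinearMap.sub_apply] at this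
      exact this
    have hLsurj := LinearMap.injective_iff_surjective.mp hLinj
    obtain ⟨u', hu'⟩ := hLsurj ⟨u, hu⟩
    have hu'' : T u'.1 - T' u'.1 = u := by
      have := congrArg Subtype.val hu'
      rw [LinearMap.restrict_coe_apply, LinearMap.sub_apply] at this
      exact this
    have h0 : u'.1 = 0 := by
      apply h u'.1 u'.2
      intro v hv
      rw [srAlt_apply, hu'']
      have := hu2 v hv
      rwa [QuadraticMap.polarBilin_apply_apply] at this
    rw [← hu'', h0, map_zero, map_zero, sub_zero]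

variable (Q : QuadraticForm F V) (hnd : ∀ v, (∀ w, QuadraticMap.polar Q v w = 0) → v = 0)
  (T : Module.End F V) (hT : ∀ v, Q (T v) = Q v) (r : ℕ) (hTr : T ^ r = 1)
  (hrF : ((r : ℕ) : F) ≠ 0)

include hnd hT hTr hrF

theorem sr_K_nd : SpNd (QuadraticMap.polarBilin Q) (LinearMap.ker (T - 1)) := by
  apply sp_fix_nd (QuadraticMap.polarBilin Q) _ T (sr_iso_bilin Q T hT) r hTr hrF
  intro v hv
  apply hnd v
  intro w
  have := hv w
  rwa [QuadraticMap.polarBilin_apply_apply] at this

omit hnd hrF hTr in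
theorem sr_KR_orth : ∀ k ∈ LinearMap.ker (T - 1), ∀ x ∈ LinearMap.range (T - 1),
    QuadraticMap.polar Q k x = 0 := by
  rintro k hk _ ⟨y, rfl⟩
  have hk' : T k = k := by
    rw [LinearMap.mem_ker, LinearMap.sub_apply, Module.End.one_apply, sub_eq_zero] at hk
    exact hk
  have := sp_fix_orth (QuadraticMap.polarBilin Q) T (sr_iso_bilin Q T hT) k hk' y
  rw [QuadraticMap.polarBilin_apply_apply] at this
  rw [LinearMap.sub_apply, Module.End.one_apply]
  exact this

omit hnd hT in
theorem sr_KR_bot : LinearMap.ker (T - 1) ⊓ LinearMap.range (T - 1) = ⊥ := by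
  have h1 := sp_fix_range_top T r hTr hrF
  have h2 := Submodule.finrank_sup_add_finrank_inf_eq (LinearMap.ker (T - 1))
    (LinearMap.range (T - 1))
  have h3 := LinearMap.finrank_range_add_finrank_ker (T - 1)
  rw [h1, finrank_top] at h2
  apply Submodule.finrank_eq_zero.mp
  omega

theorem sr_R_nd : SpNd (QuadraticMap.polarBilin Q) (LinearMap.range (T - 1)) := by
  intro u hu hu2
  apply hnd u
  intro w
  have hw : w ∈ LinearMap.ker (T - 1) ⊔ LinearMap.range (T - 1) := by
    rw [sp_fix_range_top T r hTr hrF]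
    exact Submodule.mem_top
  obtain ⟨k, hk, x, hx, rfl⟩ := Submodule.mem_sup.mp hw
  rw [QuadraticMap.polar_add_right]
  have h1 := sr_KR_orth Q T hT k hk u hu
  rw [QuadraticMap.polar_comm] at h1
  have h3 := hu2 x hx
  rw [QuadraticMap.polarBilin_apply_apply] at h3
  rw [h1, h3, add_zero]

omit hnd hT hrF hTr in
theorem sr_R_inv : ∀ x ∈ LinearMap.range (T - 1), T x ∈ LinearMap.range (T - 1) := by
  rintro _ ⟨y, rfl⟩
  refine ⟨T y, ?_⟩
  rw [LinearMap.sub_apply, LinearMap.sub_apply, Module.End.one_apply, Module.End.one_apply,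
    map_sub]

/-- Splitting of invariant subspaces. -/
theorem sr_split (W : Submodule F V) (hW : ∀ w ∈ W, T w ∈ W) :
    (W ⊓ LinearMap.ker (T - 1)) ⊔ (W ⊓ LinearMap.range (T - 1)) = W ∧
    finrank F ↥(W ⊓ LinearMap.ker (T - 1)) + finrank F ↥(W ⊓ LinearMap.range (T - 1))
      = finrank F W := by
  have hsup : (W ⊓ LinearMap.ker (T - 1)) ⊔ (W ⊓ LinearMap.range (T - 1)) = W := by
    apply le_antisymm
    · exact sup_le inf_le_left inf_le_left
    · intro w hw
      have h1 := sp_fix_range_top (T.restrict hW) r (el_restrict_pow T r hTr W hW) hrF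
      have h3 : (⟨w, hw⟩ : W) ∈ LinearMap.ker (T.restrict hW - 1) ⊔
          LinearMap.range (T.restrict hW - 1) := by
        rw [h1]
        exact Submodule.mem_top
      obtain ⟨k, hk, x, hx, hkx⟩ := Submodule.mem_sup.mp h3
      have hw' : w = k.1 + x.1 := by
        have := congrArg Subtype.val hkx
        exact this.symm
      rw [hw']
      apply Submodule.add_mem
      · apply Submodule.mem_sup_left
        refine Submodule.mem_inf.mpr ⟨k.2, ?_⟩
        rw [LinearMap.mem_ker] at hk ⊢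
        have := congrArg Subtype.val hk
        rw [LinearMap.sub_apply, Module.End.one_apply] at this ⊢
        exact this
      · apply Submodule.mem_sup_right
        refine Submodule.mem_inf.mpr ⟨x.2, ?_⟩
        obtain ⟨y, rfl⟩ := hx
        refine ⟨y.1, ?_⟩
        rw [LinearMap.sub_apply, LinearMap.sub_apply, Module.End.one_apply, Module.End.one_apply]
        rfl
  refine ⟨hsup, ?_⟩
  have h2 := Submodule.finrank_sup_add_finrank_inf_eq (W ⊓ LinearMap.ker (T - 1))
    (W ⊓ LinearMap.range (T - 1))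
  have h3 : (W ⊓ LinearMap.ker (T - 1)) ⊓ (W ⊓ LinearMap.range (T - 1)) = ⊥ := by
    rw [eq_bot_iff, ← sr_KR_bot T r hTr hrF]
    exact inf_le_inf inf_le_right inf_le_right
  rw [hsup, h3, finrank_bot, add_zero] at h2
  exact h2.symm

theorem sr_split_nd (W : Submodule F V) (hW : ∀ w ∈ W, T w ∈ W)
    (hWnd : SpNd (QuadraticMap.polarBilin Q) W) :
    SpNd (QuadraticMap.polarBilin Q) (W ⊓ LinearMap.ker (T - 1)) ∧
    SpNd (QuadraticMap.polarBilin Q) (W ⊓ LinearMap.range (T - 1)) := by
  obtain ⟨hsup, -⟩ := sr_split Q hnd T hT r hTr hrF W hW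
  refine ⟨?_, ?_⟩
  · intro u hu hu2
    apply hWnd u (Submodule.mem_inf.mp hu).1
    intro w hw
    rw [← hsup] at hw
    obtain ⟨k, hk, x, hx, rfl⟩ := Submodule.mem_sup.mp hw
    rw [map_add, hu2 k hk, QuadraticMap.polarBilin_apply_apply,
      sr_KR_orth Q T hT u (Submodule.mem_inf.mp hu).2 x (Submodule.mem_inf.mp hx).2, add_zero]
  · intro u hu hu2
    apply hWnd u (Submodule.mem_inf.mp hu).1
    intro w hw
    rw [← hsup] at hw
    obtain ⟨k, hk, x, hx, rfl⟩ := Submodule.mem_sup.mp hw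
    rw [map_add, hu2 x hx, QuadraticMap.polarBilin_apply_apply, QuadraticMap.polar_comm,
      sr_KR_orth Q T hT k (Submodule.mem_inf.mp hk).2 u (Submodule.mem_inf.mp hu).2, add_zero]

end src1

section src2

variable {F : Type u} [Field F] [Fintype F] {V : Type u} [AddCommGroup V] [Module F V]
  [FiniteDimensional F V]

variable (Q : QuadraticForm F V) (hnd : ∀ v, (∀ w, QuadraticMap.polar Q v w = 0) → v = 0)
  (T : Module.End F V) (hT : ∀ v, Q (T v) = Q v)
  (p f' : ℕ) [Fact p.Prime] (hF : Fintype.card F = p ^ f') (r : ℕ) [Fact r.Prime]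
  (hpr : p.Coprime r) (hr2 : r ≠ 2) (hTr : T ^ r = 1)
  (i c : ℕ) (hi : i = orderOf ((Fintype.card F : ℕ) : ZMod r))
  (hc : c = if Even i then i else 2 * i)

include hnd hT hF hpr hr2 hTr hi hc

/-- `c` divides the dimension of invariant nondegenerate subspaces without fixed vectors. -/
theorem sr_dvd (D : Submodule F V) (hD : SpNd (QuadraticMap.polarBilin Q) D)
    (hDinv : ∀ d ∈ D, T d ∈ D) (hfix : LinearMap.ker (T - 1) ⊓ D = ⊥) : c ∣ finrank F D := by
  haveI : Finite V := Module.finite_of_finite F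
  have hr : r.Prime := Fact.out
  have hq0 := el_card_ne_zero p f' hF r hpr
  have hrF := el_natCast_ne_zero (F := F) p f' hF r hpr
  have hrodd : Odd r := hr.odd_of_ne_two hr2
  obtain ⟨T', hT'⟩ : ∃ T' : Module.End F V, T' = T ^ (r - 1) := ⟨_, rfl⟩
  have hTT' : T * T' = 1 := by rw [hT', ← pow_succ', Nat.sub_add_cancel hr.one_le, hTr]
  have hT'T : T' * T = 1 := by rw [hT', ← pow_succ, Nat.sub_add_cancel hr.one_le, hTr]
  have hD' : ∀ d ∈ D, T' d ∈ D := by
    rw [hT']
    exact sr_pow_mem T D hDinv (r - 1)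
  have h1 := (sr_nd_iff Q T T' hTT' r hrodd hTr D hDinv hD' hfix).mp hD
  have h3 := sp_dvd_rel (srAlt Q T T') (srAlt_alt Q T T' hT hTT') T
    (srAlt_iso Q T T' hT hTT' hT'T) r hq0 hrF hTr i c hi hc D h1 hDinv
  rw [hfix, finrank_bot, Nat.sub_zero] at h3
  exact h3

/-- Invariant nondegenerate subspaces of `[V, T]` of every dimension `c * b`. -/
theorem sr_inv_nd (b : ℕ) (hb : c * b ≤ finrank F (LinearMap.range (T - 1))) :
    ∃ M : Submodule F V, M ≤ LinearMap.range (T - 1) ∧ SpNd (QuadraticMap.polarBilin Q) M ∧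
      (∀ m ∈ M, T m ∈ M) ∧ finrank F M = c * b := by
  haveI : Finite V := Module.finite_of_finite F
  have hr : r.Prime := Fact.out
  have hq0 := el_card_ne_zero p f' hF r hpr
  have hrF := el_natCast_ne_zero (F := F) p f' hF r hpr
  have hrodd : Odd r := hr.odd_of_ne_two hr2
  obtain ⟨T', hT'⟩ : ∃ T' : Module.End F V, T' = T ^ (r - 1) := ⟨_, rfl⟩
  have hTT' : T * T' = 1 := by rw [hT', ← pow_succ', Nat.sub_add_cancel hr.one_le, hTr]
  have hT'T : T' * T = 1 := by rw [hT', ← pow_succ, Nat.sub_add_cancel hr.one_le, hTr]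
  obtain ⟨R, hR⟩ : ∃ R : Submodule F V, R = LinearMap.range (T - 1) := ⟨_, rfl⟩
  rw [← hR] at hb ⊢
  have hRinv : ∀ x ∈ R, T x ∈ R := by
    rw [hR]
    exact sr_R_inv T
  have hRinv' : ∀ x ∈ R, T' x ∈ R := by
    rw [hT']
    exact sr_pow_mem T R hRinv (r - 1)
  have hKR : LinearMap.ker (T - 1) ⊓ R = ⊥ := by
    rw [hR]
    exact sr_KR_bot T r hTr hrF
  have hRnd : SpNd (QuadraticMap.polarBilin Q) R := by
    rw [hR]
    exact sr_R_nd Q hnd T hT r hTr hrF
  have hRalt := (sr_nd_iff Q T T' hTT' r hrodd hTr R hRinv hRinv' hKR).mp hRnd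
  have hi1 : 1 ≤ i := by
    rw [hi]
    exact sp_order_pos r hq0
  have hc1 : 1 ≤ c := by
    rw [hc]
    split_ifs with h
    · exact hi1
    · omega
  have hfix' : LinearMap.ker (T.restrict hRinv - 1) = ⊥ := by
    rw [eq_bot_iff]
    intro x hx
    rw [LinearMap.mem_ker] at hx
    have h1 := congrArg Subtype.val hx
    rw [LinearMap.sub_apply, Module.End.one_apply] at h1
    have h3 : x.1 ∈ LinearMap.ker (T - 1) ⊓ R := by
      refine Submodule.mem_inf.mpr ⟨?_, x.2⟩
      rw [LinearMap.mem_ker, LinearMap.sub_apply, Module.End.one_apply]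
      exact h1
    rw [hKR] at h3
    rw [Submodule.mem_bot]
    exact Subtype.ext ((Submodule.mem_bot F).mp h3)
  obtain ⟨M', hM'nd, hM'inv, hM'dim⟩ := sp_nd_mult p f' hF r hpr hr2 i c hi hc hc1 b ↥R
    ((srAlt Q T T').domRestrict₁₂ R R) (fun v => srAlt_alt Q T T' hT hTT' v.1)
    (sp_nd_restrict (srAlt Q T T') R hRalt) (T.restrict hRinv)
    (fun u v => srAlt_iso Q T T' hT hTT' hT'T u.1 v.1) (el_restrict_pow T r hTr R hRinv)
    hfix' hb
  have hMle : M'.map R.subtype ≤ R := Submodule.map_subtype_le R M'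
  have hMinv : ∀ m ∈ M'.map R.subtype, T m ∈ M'.map R.subtype := by
    rintro _ ⟨m, hm, rfl⟩
    exact ⟨T.restrict hRinv m, hM'inv m hm, rfl⟩
  have hMinv' : ∀ m ∈ M'.map R.subtype, T' m ∈ M'.map R.subtype := by
    rw [hT']
    exact sr_pow_mem T _ hMinv (r - 1)
  have hMfix : LinearMap.ker (T - 1) ⊓ M'.map R.subtype = ⊥ := by
    rw [eq_bot_iff, ← hKR]
    exact inf_le_inf_left _ hMle
  refine ⟨M'.map R.subtype, hMle, ?_, hMinv, ?_⟩
  · exact (sr_nd_iff Q T T' hTT' r hrodd hTr _ hMinv hMinv' hMfix).mpr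
      (sp_nd_map (srAlt Q T T') R M' hM'nd)
  · rw [Submodule.finrank_map_subtype_eq, hM'dim]

omit hnd hi hc in
/-- The type of an invariant nondegenerate subspace without fixed vectors. -/
theorem sr_ty_free (M : Submodule F V) (hM : SpNd (QuadraticMap.polarBilin Q) M)
    (hMinv : ∀ m ∈ M, T m ∈ M) (hfix : LinearMap.ker (T - 1) ⊓ M = ⊥) (e : ℕ)
    (hdim : finrank F M = 2 * e) :
    ∃ δ : ℤ, (δ = 1 ∨ δ = -1) ∧ SrTy Q M δ ∧
      ((δ : ℤ) : ZMod r) * ((Fintype.card F : ℕ) : ZMod r) ^ e = 1 := by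
  have hr : r.Prime := Fact.out
  have hq0 := el_card_ne_zero p f' hF r hpr
  have hq : ¬ (r : ℤ) ∣ (Fintype.card F : ℤ) := by
    intro h
    apply hq0
    rw [ZMod.natCast_eq_zero_iff]
    exact_mod_cast h
  have h2e : finrank F M / 2 = e := by omega
  have key : ∀ δ : ℤ, (δ = 1 ∨ δ = -1) → SrTy Q M δ →
      ((δ : ℤ) : ZMod r) * ((Fintype.card F : ℕ) : ZMod r) ^ e = 1 := by
    intro δ hδ hty
    have h1 := sr_ty_cong Q T hT r hTr M hMinv hfix δ hδ hty hq
    rw [h2e] at h1
    have h3 := (ZMod.intCast_zmod_eq_zero_iff_dvd _ r).mpr h1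
    push_cast at h3
    exact sub_eq_zero.mp h3
  rcases sr_ty_or Q M hM e hdim with h | h
  · exact ⟨1, Or.inl rfl, h, key 1 (Or.inl rfl) h⟩
  · exact ⟨-1, Or.inr rfl, h, key (-1) (Or.inr rfl) h⟩

omit hnd hT hF hpr hTr hi hc in
theorem sr_pm_eq (δ ε : ℤ) (hδ : δ = 1 ∨ δ = -1) (hε : ε = 1 ∨ ε = -1)
    (h : ((δ : ℤ) : ZMod r) = ((ε : ℤ) : ZMod r)) : δ = ε := by
  have hr : r.Prime := Fact.out
  have hne : ((1 : ℤ) : ZMod r) ≠ ((-1 : ℤ) : ZMod r) := by
    intro h1
    have h3 : (((2 : ℕ) : ℤ) : ZMod r) = 0 := by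
      push_cast at h1 ⊢
      linear_combination h1
    rw [Int.cast_natCast, ZMod.natCast_eq_zero_iff] at h3
    have := Nat.le_of_dvd (by norm_num) h3
    have := hr.two_le
    omega
  rcases hδ with rfl | rfl <;> rcases hε with rfl | rfl
  · rfl
  · exact absurd h hne
  · exact absurd h.symm hne
  · rfl

end src2

end Cfsg.Agent.Lib.helper24
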