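import Mathlib
import Cfsg.Agent.Lib.helper24.SrC
import Cfsg.Agent.S0750
import Cfsg.Agent.Lib.helper17.IsoFrames

/-! Semisimple orthogonal toolkit, part D: sufficiency / necessity for invariant nondegenerate
subspaces of a given type, and the counting lemma. -/

set_option autoImplicit false
set_option linter.unusedSectionVars false
set_option linter.style.haveILetI false
set_option linter.unusedVariables false
set_option linter.deprecated false

namespace Cfsg.Agent.Lib.helper24

open Module Cfsg.Agent.Lib.helper45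

universe u

section srd1

variable {F : Type u} [Field F] [Fintype F] {V : Type u} [AddCommGroup V] [Module F V]
  [FiniteDimensional F V]

theorem sr_sub_nd (Q : QuadraticForm F V) (K : Submodule F V) (W' : Submodule F K) :
    SpNd (QuadraticMap.polarBilin (Q.comp K.subtype)) W' ↔
      SpNd (QuadraticMap.polarBilin Q) (W'.map K.subtype) := by
  constructor
  · intro h u hu hu2
    obtain ⟨u', hu', rfl⟩ := hu
    have h1 : u' = 0 := by
      apply h u' hu'
      intro v' hv'
      have := hu2 (K.subtype v') ⟨v', hv', rfl⟩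
      rw [QuadraticMap.polarBilin_apply_apply] at this ⊢
      rw [sr_polar_comp]
      exact this
    rw [h1, map_zero]
  · intro h u' hu' hu2
    have h1 : K.subtype u' = 0 := by
      apply h _ ⟨u', hu', rfl⟩
      rintro _ ⟨v', hv', rfl⟩
      have := hu2 v' hv'
      rw [QuadraticMap.polarBilin_apply_apply] at this ⊢
      rw [sr_polar_comp] at this
      exact this
    exact Subtype.ext h1

theorem sr_sub_nu (Q : QuadraticForm F V) (K : Submodule F V) (W' : Submodule F K) :
    srNu (Q.comp K.subtype) W' = srNu Q (W'.map K.subtype) := by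
  funext c
  unfold srNu
  apply Nat.card_congr
  refine Equiv.ofBijective (fun w => ⟨⟨w.1.1.1, ⟨w.1.1, w.1.2, rfl⟩⟩, ?_⟩) ⟨?_, ?_⟩
  · have h1 := w.2
    rw [QuadraticMap.comp_apply, QuadraticMap.comp_apply] at h1
    rw [QuadraticMap.comp_apply]
    exact h1
  · intro w w' h
    have h1 : (w.1.1.1 : V) = w'.1.1.1 := congrArg (fun x => (x.1 : V)) h
    exact Subtype.ext (Subtype.ext (Subtype.ext h1))
  · rintro ⟨⟨w, hw⟩, hwc⟩
    obtain ⟨k, hk, rfl⟩ := hw
    refine ⟨⟨⟨k, hk⟩, ?_⟩, rfl⟩
    rw [QuadraticMap.comp_apply] at hwc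
    rw [QuadraticMap.comp_apply, QuadraticMap.comp_apply]
    exact hwc

theorem sr_sub_ty (Q : QuadraticForm F V) (K : Submodule F V) (W' : Submodule F K) (ε : ℤ) :
    SrTy (Q.comp K.subtype) W' ε ↔ SrTy Q (W'.map K.subtype) ε := by
  unfold SrTy
  rw [sr_sub_nu, Submodule.finrank_map_subtype_eq]

/-- Isometries preserve dimension, nondegeneracy and type. -/
theorem sr_map_mem (Q : QuadraticForm F V) (g : V ≃ₗ[F] V) (hg : ∀ v, Q (g v) = Q v)
    (W : Submodule F V) (m : ℕ) (ε : ℤ)
    (h : finrank F W = m ∧ SpNd (QuadraticMap.polarBilin Q) W ∧ SrTy Q W ε) :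
    finrank F ↥(W.map (g : V →ₗ[F] V)) = m ∧
      SpNd (QuadraticMap.polarBilin Q) (W.map (g : V →ₗ[F] V)) ∧
      SrTy Q (W.map (g : V →ₗ[F] V)) ε := by
  obtain ⟨h1, h2, h3⟩ := h
  have hdim : finrank F ↥(W.map (g : V →ₗ[F] V)) = finrank F W := LinearEquiv.finrank_map_eq g W
  refine ⟨by rw [hdim, h1], ?_, ?_⟩
  · rintro _ ⟨w, hw, rfl⟩ hu2
    have h0 : w = 0 := by
      apply h2 w hw
      intro w' hw'
      have := hu2 (g w') ⟨w', hw', rfl⟩
      rw [QuadraticMap.polarBilin_apply_apply] at this ⊢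
      have h5 := sr_iso_polar Q (g : V →ₗ[F] V) hg w w'
      rw [← h5]
      exact this
    rw [h0, map_zero]
  · unfold SrTy at h3 ⊢
    rw [hdim]
    have hnu : srNu Q (W.map (g : V →ₗ[F] V)) = srNu Q W := by
      funext c
      unfold srNu
      symm
      apply Nat.card_congr
      refine Equiv.subtypeEquiv (g.submoduleMap W).toEquiv (fun w => ?_)
      rw [QuadraticMap.comp_apply, QuadraticMap.comp_apply]
      show Q (w : V) = c ↔ Q ((g.submoduleMap W w : _) : V) = c
      rw [LinearEquiv.submoduleMap_apply, hg]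
    rw [hnu]
    exact h3

end srd1

section srd2

variable {F : Type u} [Field F] [Fintype F] {V : Type u} [AddCommGroup V] [Module F V]
  [FiniteDimensional F V]

variable (Q : QuadraticForm F V) (hnd : ∀ v, (∀ w, QuadraticMap.polar Q v w = 0) → v = 0)
  (T : Module.End F V) (hT : ∀ v, Q (T v) = Q v)
  (p f' : ℕ) [Fact p.Prime] (hF : Fintype.card F = p ^ f') (r : ℕ) [Fact r.Prime]
  (hpr : p.Coprime r) (hr2 : r ≠ 2) (hTr : T ^ r = 1)
  (i c : ℕ) (hi : i = orderOf ((Fintype.card F : ℕ) : ZMod r))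
  (hc : c = if Even i then i else 2 * i)

include hnd hT hF hpr hr2 hTr hi hc

omit hnd hT hTr [FiniteDimensional F V] in
theorem sr_c_even : Even c := by
  rw [hc]
  split_ifs with h
  · exact h
  · exact even_two_mul i

/-- Sufficiency: an invariant nondegenerate subspace of dimension `m` and type `ε`. -/
theorem sr_suff (h2 : (2 : F) ≠ 0) (ε : ℤ) (hε : ε = 1 ∨ ε = -1) (m b : ℕ) (hme : Even m)
    (hb : c * b ≤ finrank F (LinearMap.range (T - 1)))
    (hcase : (m = c * b ∧ ((ε : ℤ) : ZMod r) * ((Fintype.card F : ℕ) : ZMod r) ^ (m / 2) = 1) ∨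
      (c * b < m ∧ m - c * b + 1 ≤ finrank F (LinearMap.ker (T - 1)))) :
    ∃ W : Submodule F V, finrank F W = m ∧ SpNd (QuadraticMap.polarBilin Q) W ∧
      (∀ w ∈ W, T w ∈ W) ∧ SrTy Q W ε := by
  have hr : r.Prime := Fact.out
  have hq0 := el_card_ne_zero p f' hF r hpr
  have hrF := el_natCast_ne_zero (F := F) p f' hF r hpr
  have hcev : Even c := sr_c_even p f' hF r hpr hr2 i c hi hc
  obtain ⟨M, hMR, hMnd, hMinv, hMdim⟩ :=
    sr_inv_nd Q hnd T hT p f' hF r hpr hr2 hTr i c hi hc b hb
  have hKR := sr_KR_bot T r hTr hrF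
  have hMfix : LinearMap.ker (T - 1) ⊓ M = ⊥ := by
    rw [eq_bot_iff, ← hKR]
    exact inf_le_inf_left _ hMR
  obtain ⟨c', hc'⟩ := hcev
  have hMdim2 : finrank F M = 2 * (c' * b) := by
    rw [hMdim, hc']
    ring
  obtain ⟨δ, hδ, hMty, hδq⟩ := sr_ty_free Q T hT p f' hF r hpr hr2 hTr M hMnd hMinv hMfix
    (c' * b) hMdim2
  rcases hcase with ⟨hm, hεq⟩ | ⟨hlt, hK⟩
  · have hm2 : m / 2 = c' * b := by
      rw [hm, hc']
      have : (c' + c') * b = 2 * (c' * b) := by ring
      rw [this]
      omega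
    rw [hm2] at hεq
    have hδε : δ = ε := by
      apply sr_pm_eq r hr2 δ ε hδ hε
      have hunit : ((Fintype.card F : ℕ) : ZMod r) ^ (c' * b) ≠ 0 := pow_ne_zero _ hq0
      apply mul_right_cancel₀ hunit
      rw [hδq, hεq]
    refine ⟨M, by rw [hMdim, hm], hMnd, hMinv, ?_⟩
    rw [← hδε]
    exact hMty
  · obtain ⟨m', hm'⟩ := hme
    have hKnd := sr_K_nd Q hnd T hT r hTr hrF
    have hδ2 : δ * (ε * δ) = ε := by
      rcases hδ with rfl | rfl <;> ring
    have hεδ : ε * δ = 1 ∨ ε * δ = -1 := by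
      rcases hδ with rfl | rfl <;> rcases hε with rfl | rfl <;> simp
    obtain ⟨WK, hWKK, hWKnd, hWKdim, hWKty⟩ := sr_exists_ty Q h2 (ε * δ) hεδ (m' - c' * b)
      (LinearMap.ker (T - 1)) hKnd (by rw [hc'] at hK hlt; ring_nf at hK hlt ⊢; omega)
      (fun _ => by rw [hc'] at hlt; ring_nf at hlt ⊢; omega)
    have horth' : ∀ u ∈ M, ∀ v ∈ WK, QuadraticMap.polar Q u v = 0 := by
      intro u hu v hv
      rw [QuadraticMap.polar_comm]
      exact sr_KR_orth Q T hT v (hWKK hv) u (hMR hu)
    have horth : ∀ u ∈ M, ∀ v ∈ WK, QuadraticMap.polarBilin Q u v = 0 := by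
      intro u hu v hv
      rw [QuadraticMap.polarBilin_apply_apply]
      exact horth' u hu v hv
    have hdis : M ⊓ WK = ⊥ := by
      rw [eq_bot_iff, ← hKR, inf_comm]
      exact inf_le_inf hWKK hMR
    obtain ⟨hWnd, hWdim⟩ := so_sum (QuadraticMap.polarBilin Q) (sr_sym Q) M WK hMnd hWKnd horth
    refine ⟨M ⊔ WK, ?_, hWnd, ?_, ?_⟩
    · rw [hWdim, hMdim, hWKdim, hc']
      rw [hc'] at hlt
      ring_nf at hlt ⊢
      omega
    · intro w hw
      obtain ⟨u, hu, v, hv, rfl⟩ := Submodule.mem_sup.mp hw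
      rw [map_add]
      apply Submodule.add_mem
      · exact Submodule.mem_sup_left (hMinv u hu)
      · have hv' := hWKK hv
        rw [LinearMap.mem_ker, LinearMap.sub_apply, Module.End.one_apply, sub_eq_zero] at hv'
        rw [hv']
        exact Submodule.mem_sup_right hv
    · have := sr_ty_sum Q M WK horth' hdis δ (ε * δ) hMty hWKty (by rw [hMdim2]; exact even_two_mul _)
        (by rw [hWKdim]; exact even_two_mul _)
      rwa [hδ2] at this

/-- Necessity: the shape of an invariant nondegenerate subspace. -/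
theorem sr_nec (W : Submodule F V) (hWnd : SpNd (QuadraticMap.polarBilin Q) W)
    (hWinv : ∀ w ∈ W, T w ∈ W) :
    ∃ a b : ℕ, a + c * b = finrank F W ∧ a ≤ finrank F (LinearMap.ker (T - 1)) ∧
      (a = 0 → ∀ ε : ℤ, (ε = 1 ∨ ε = -1) → SrTy Q W ε → Even (finrank F W) →
        ((ε : ℤ) : ZMod r) * ((Fintype.card F : ℕ) : ZMod r) ^ (finrank F W / 2) = 1) := by
  have hr : r.Prime := Fact.out
  have hq0 := el_card_ne_zero p f' hF r hpr
  have hrF := el_natCast_ne_zero (F := F) p f' hF r hpr
  have hKR := sr_KR_bot T r hTr hrF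
  obtain ⟨hsup, hdim⟩ := sr_split Q hnd T hT r hTr hrF W hWinv
  obtain ⟨hKnd, hRnd⟩ := sr_split_nd Q hnd T hT r hTr hrF W hWinv hWnd
  have hDinv : ∀ d ∈ W ⊓ LinearMap.range (T - 1), T d ∈ W ⊓ LinearMap.range (T - 1) := by
    intro d hd
    rw [Submodule.mem_inf] at hd ⊢
    exact ⟨hWinv d hd.1, sr_R_inv T d hd.2⟩
  have hDfix : LinearMap.ker (T - 1) ⊓ (W ⊓ LinearMap.range (T - 1)) = ⊥ := by
    rw [eq_bot_iff, ← hKR]
    exact inf_le_inf_left _ inf_le_right
  obtain ⟨b, hb⟩ := sr_dvd Q hnd T hT p f' hF r hpr hr2 hTr i c hi hc _ hRnd hDinv hDfix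
  refine ⟨finrank F ↥(W ⊓ LinearMap.ker (T - 1)), b, by rw [← hb]; exact hdim,
    Submodule.finrank_mono inf_le_right, ?_⟩
  intro ha ε hε hty hev
  have hWK : LinearMap.ker (T - 1) ⊓ W = ⊥ := by
    rw [inf_comm]
    exact Submodule.finrank_eq_zero.mp ha
  obtain ⟨e, he⟩ := hev
  have hdim2 : finrank F W = 2 * e := by omega
  obtain ⟨δ, hδ, hδty, hδq⟩ := sr_ty_free Q T hT p f' hF r hpr hr2 hTr W hWnd hWinv hWK e hdim2
  have h2e : finrank F W / 2 = e := by omega
  rw [h2e]
  have hδε : δ = ε := by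
    unfold SrTy at hty hδty
    have h1 := Unif.unique hδty hty
    have hpos : (0 : ℤ) < (Fintype.card F : ℤ) ^ (finrank F W / 2) := by
      apply pow_pos
      exact_mod_cast Fintype.card_pos
    exact mul_right_cancel₀ hpos.ne' h1
  rw [← hδε]
  exact hδq

end srd2

section srd3

variable {F : Type u} [Field F] [Fintype F]

/-- The isometry group of a quadratic space, as a subgroup of the linear automorphisms. -/
def srIso {V : Type u} [AddCommGroup V] [Module F V] (Q : QuadraticForm F V) :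
    Subgroup (V ≃ₗ[F] V) where
  carrier := {g | ∀ v, Q (g v) = Q v}
  mul_mem' := by
    intro a b ha hb v
    rw [LinearEquiv.mul_apply, ha, hb]
  one_mem' := fun v => rfl
  inv_mem' := by
    intro a ha v
    have h1 := ha (a⁻¹ v)
    have h3 : a (a⁻¹ v) = v := by
      rw [← LinearEquiv.mul_apply, mul_inv_cancel]
      rfl
    rw [h3] at h1
    exact h1.symm

/-- The action on subspaces. -/
def srAct {V : Type u} [AddCommGroup V] [Module F V] (Q : QuadraticForm F V) :
    MulAction ↥(srIso Q) (Submodule F V) where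
  smul g W := W.map (g.1 : V →ₗ[F] V)
  one_smul W := Submodule.map_id W
  mul_smul g h W := by
    show W.map ((g.1 * h.1 : V ≃ₗ[F] V) : V →ₗ[F] V) =
      (W.map (h.1 : V →ₗ[F] V)).map (g.1 : V →ₗ[F] V)
    rw [← Submodule.map_comp]
    rfl

/-- Two nondegenerate subspaces of the same dimension and type are isometric. -/
theorem sr_isometric {V : Type u} [AddCommGroup V] [Module F V] [FiniteDimensional F V]
    (Q : QuadraticForm F V) (ε : ℤ) (hε : ε = 1 ∨ ε = -1) (m : ℕ) (hme : Even m)
    (W₀ W : Submodule F V)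
    (h0 : finrank F W₀ = m ∧ SpNd (QuadraticMap.polarBilin Q) W₀ ∧ SrTy Q W₀ ε)
    (h1 : finrank F W = m ∧ SpNd (QuadraticMap.polarBilin Q) W ∧ SrTy Q W ε) :
    ∃ φ : W₀ ≃ₗ[F] W, ∀ x : W₀, Q (φ x : V) = Q (x : V) := by
  obtain ⟨e, he⟩ := hme
  have hm : m = 2 * e := by omega
  rcases hε with rfl | rfl
  · obtain ⟨T₀, hT₀⟩ := sr_plus_iso Q W₀ h0.2.1 e (by rw [h0.1, hm]) h0.2.2
    obtain ⟨T₁, hT₁⟩ := sr_plus_iso Q W h1.2.1 e (by rw [h1.1, hm]) h1.2.2
    refine ⟨T₀.trans T₁.symm, fun x => ?_⟩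
    have h3 := hT₁ (T₁.symm (T₀ x))
    rw [LinearEquiv.apply_symm_apply, hT₀, QuadraticMap.comp_apply, QuadraticMap.comp_apply] at h3
    exact h3.symm
  · obtain ⟨a, c, hac⟩ := exists_aniso F
    obtain ⟨k₀, hk₀, hT₀⟩ := sr_minus_iso Q W₀ h0.2.1 e (by rw [h0.1, hm]) h0.2.2
    obtain ⟨k₁, hk₁, hT₁⟩ := sr_minus_iso Q W h1.2.1 e (by rw [h1.1, hm]) h1.2.2
    have hk : k₀ = k₁ := by omega
    subst hk
    obtain ⟨T₀, hT₀⟩ := hT₀ a c hac
    obtain ⟨T₁, hT₁⟩ := hT₁ a c hac
    refine ⟨T₀.trans T₁.symm, fun x => ?_⟩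
    have h3 := hT₁ (T₁.symm (T₀ x))
    rw [LinearEquiv.apply_symm_apply, hT₀, QuadraticMap.comp_apply, QuadraticMap.comp_apply] at h3
    exact h3.symm

/-- The number of nondegenerate subspaces of given dimension and type divides the order of the
isometry group. -/
theorem sr_card_dvd {V : Type u} [AddCommGroup V] [Module F V] [FiniteDimensional F V]
    (Q : QuadraticForm F V) (hnd : ∀ v, (∀ w, QuadraticMap.polar Q v w = 0) → v = 0)
    (ε : ℤ) (hε : ε = 1 ∨ ε = -1) (m : ℕ) (hme : Even m) (W₀ : Submodule F V)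
    (h0 : finrank F W₀ = m ∧ SpNd (QuadraticMap.polarBilin Q) W₀ ∧ SrTy Q W₀ ε) :
    Nat.card {W : Submodule F V // finrank F W = m ∧ SpNd (QuadraticMap.polarBilin Q) W ∧
      SrTy Q W ε} ∣ Nat.card ↥(srIso Q) := by
  letI := srAct Q
  have hsmul : ∀ (g : ↥(srIso Q)) (W : Submodule F V), g • W = W.map (g.1 : V →ₗ[F] V) :=
    fun g W => rfl
  have h1 := Cfsg.Agent.Lib.helper17.card_eq_card_range_mul_card
    (MulAction.stabilizer ↥(srIso Q) W₀) (fun g => g • W₀) (by
      intro g g'
      show g • W₀ = g' • W₀ ↔ g⁻¹ * g' ∈ MulAction.stabilizer _ W₀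
      rw [MulAction.mem_stabilizer_iff, mul_smul, inv_smul_eq_iff]
      exact eq_comm)
  have h2 : Set.range (fun g : ↥(srIso Q) => g • W₀) =
      {W : Submodule F V | finrank F W = m ∧ SpNd (QuadraticMap.polarBilin Q) W ∧
        SrTy Q W ε} := by
    ext W
    constructor
    · rintro ⟨g, rfl⟩
      show finrank F ↥(g • W₀) = m ∧ SpNd (QuadraticMap.polarBilin Q) (g • W₀) ∧
        SrTy Q (g • W₀) ε
      rw [hsmul]
      exact sr_map_mem Q g.1 g.2 W₀ m ε h0
    · intro hW
      obtain ⟨φ, hφ⟩ := sr_isometric Q ε hε m hme W₀ W h0 hW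
      obtain ⟨g, hg, hgφ⟩ := Cfsg.Agent.S0750.result Q (nondegenerate_of_forall Q hnd) W₀ W φ hφ
      refine ⟨⟨g, hg⟩, ?_⟩
      show (⟨g, hg⟩ : ↥(srIso Q)) • W₀ = W
      rw [hsmul]
      ext w
      constructor
      · rintro ⟨x, hx, rfl⟩
        have := hgφ ⟨x, hx⟩
        show g x ∈ W
        rw [this]
        exact (φ ⟨x, hx⟩).2
      · intro hw
        refine ⟨(φ.symm ⟨w, hw⟩ : V), (φ.symm ⟨w, hw⟩).2, ?_⟩
        show g (φ.symm ⟨w, hw⟩ : V) = w
        rw [hgφ, LinearEquiv.apply_symm_apply]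
  rw [h2] at h1
  exact Dvd.intro _ h1.symm

/-- The counting lemma: if `r` divides the number of nondegenerate `m`-subspaces of type `ε`
and `m < c`, then `n mod c ≤ m`. -/
theorem sr_count (h2 : (2 : F) ≠ 0) (p f' : ℕ) [Fact p.Prime] (hF : Fintype.card F = p ^ f')
    (r : ℕ) [Fact r.Prime] (hpr : p.Coprime r) (hr2 : r ≠ 2) (i c : ℕ)
    (hi : i = orderOf ((Fintype.card F : ℕ) : ZMod r)) (hc : c = if Even i then i else 2 * i)
    (ε : ℤ) (hε : ε = 1 ∨ ε = -1) (m : ℕ) (hme : Even m) (hm2 : 2 ≤ m) (hmc : m < c) :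
    ∀ (n : ℕ) (V : Type u) [AddCommGroup V] [Module F V] [FiniteDimensional F V]
      (Q : QuadraticForm F V), (∀ v, (∀ w, QuadraticMap.polar Q v w = 0) → v = 0) →
      finrank F V = n → Odd n →
      r ∣ Nat.card {W : Submodule F V // finrank F W = m ∧
        SpNd (QuadraticMap.polarBilin Q) W ∧ SrTy Q W ε} → n % c ≤ m := by
  have hr : r.Prime := Fact.out
  have hq0 := el_card_ne_zero p f' hF r hpr
  have hrF := el_natCast_ne_zero (F := F) p f' hF r hpr
  have hcev : Even c := sr_c_even p f' hF r hpr hr2 i c hi hc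
  intro n
  induction n using Nat.strong_induction_on with
  | _ n ih =>
    intro V _ _ _ Q hnd hdim hodd hdvd
    haveI : Finite V := Module.finite_of_finite F
    by_cases hex : ∃ T : Module.End F V, (∀ v, Q (T v) = Q v) ∧ T ^ r = 1 ∧ T ≠ 1
    · obtain ⟨T, hT, hTr, hT1⟩ := hex
      obtain ⟨T', hT'⟩ : ∃ T' : Module.End F V, T' = T ^ (r - 1) := ⟨_, rfl⟩
      have hTT' : T * T' = 1 := by rw [hT', ← pow_succ', Nat.sub_add_cancel hr.one_le, hTr]
      have hT'T : T' * T = 1 := by rw [hT', ← pow_succ, Nat.sub_add_cancel hr.one_le, hTr]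
      obtain ⟨K, hK⟩ : ∃ K : Submodule F V, K = LinearMap.ker (T - 1) := ⟨_, rfl⟩
      have hKnd : SpNd (QuadraticMap.polarBilin Q) K := by
        rw [hK]
        exact sr_K_nd Q hnd T hT r hTr hrF
      have hRnd := sr_R_nd Q hnd T hT r hTr hrF
      have hKR := sr_KR_bot T r hTr hrF
      obtain ⟨t, ht⟩ := sr_dvd Q hnd T hT p f' hF r hpr hr2 hTr i c hi hc _ hRnd (sr_R_inv T) hKR
      have hRne : finrank F (LinearMap.range (T - 1)) ≠ 0 := by
        intro h0
        apply hT1
        have := Submodule.finrank_eq_zero.mp h0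
        rw [LinearMap.range_eq_bot] at this
        exact sub_eq_zero.mp this
      have hsum := LinearMap.finrank_range_add_finrank_ker (T - 1)
      rw [hdim, ← hK] at hsum
      have hKfix : ∀ k ∈ K, T k = k := by
        intro k hk
        rw [hK, LinearMap.mem_ker, LinearMap.sub_apply, Module.End.one_apply, sub_eq_zero] at hk
        exact hk
      obtain ⟨g, hg⟩ : ∃ g : V ≃ₗ[F] V, (g : V →ₗ[F] V) = T :=
        ⟨LinearEquiv.ofLinear T T' hTT' hT'T, rfl⟩
      have hgiso : ∀ v, Q (g v) = Q v := by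
        intro v
        have : g v = T v := by rw [← hg]; rfl
        rw [this, hT]
      obtain ⟨σ, hσ⟩ : ∃ σ : {W : Submodule F V // finrank F W = m ∧
          SpNd (QuadraticMap.polarBilin Q) W ∧ SrTy Q W ε} →
          {W : Submodule F V // finrank F W = m ∧
          SpNd (QuadraticMap.polarBilin Q) W ∧ SrTy Q W ε}, ∀ W, (σ W).1 = W.1.map T :=
        ⟨fun W => ⟨W.1.map T, by
          have := sr_map_mem Q g hgiso W.1 m ε W.2
          rw [hg] at this
          exact this⟩, fun W => rfl⟩
      have hiter : ∀ (k : ℕ) W, ((σ^[k]) W).1 = W.1.map (T ^ k) := by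
        intro k
        induction k with
        | zero =>
          intro W
          rw [pow_zero]
          exact (Submodule.map_id _).symm
        | succ k ih2 =>
          intro W
          rw [Function.iterate_succ_apply', hσ, ih2, pow_succ', ← Submodule.map_comp]
          rfl
      have hmod := sr_fixed_mod σ r (fun W => by
        apply Subtype.ext
        rw [hiter, hTr]
        exact Submodule.map_id _)
      have hdvd2 := (Nat.ModEq.dvd_iff hmod (dvd_refl r)).mp hdvd
      have hcard : Nat.card {W' : Submodule F K // finrank F W' = m ∧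
          SpNd (QuadraticMap.polarBilin (Q.comp K.subtype)) W' ∧ SrTy (Q.comp K.subtype) W' ε} =
          Nat.card {a : {W : Submodule F V // finrank F W = m ∧
          SpNd (QuadraticMap.polarBilin Q) W ∧ SrTy Q W ε} // σ a = a} := by
        apply Nat.card_congr
        refine Equiv.ofBijective (fun W' => ⟨⟨W'.1.map K.subtype,
          by rw [Submodule.finrank_map_subtype_eq]; exact W'.2.1,
          (sr_sub_nd Q K W'.1).mp W'.2.2.1, (sr_sub_ty Q K W'.1 ε).mp W'.2.2.2⟩, ?_⟩) ⟨?_, ?_⟩
        · apply Subtype.ext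
          rw [hσ]
          show (W'.1.map K.subtype).map T = W'.1.map K.subtype
          ext x
          constructor
          · rintro ⟨_, ⟨k, hk, rfl⟩, rfl⟩
            refine ⟨k, hk, ?_⟩
            exact (hKfix k.1 k.2).symm
          · rintro ⟨k, hk, rfl⟩
            exact ⟨k.1, ⟨k, hk, rfl⟩, hKfix k.1 k.2⟩
        · intro W' W'' h
          have h1 : W'.1.map K.subtype = W''.1.map K.subtype :=
            congrArg (fun x => (x.1.1 : Submodule F V)) h
          exact Subtype.ext (Submodule.map_injective_of_injective K.injective_subtype h1)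
        · rintro ⟨⟨W, hW⟩, hfix⟩
          have hWT : W.map T = W := by
            have := congrArg Subtype.val hfix
            rw [hσ] at this
            exact this
          have hWinv : ∀ w ∈ W, T w ∈ W := by
            intro w hw
            rw [← hWT]
            exact ⟨w, hw, rfl⟩
          obtain ⟨a, b, hab, -, -⟩ := sr_nec Q hnd T hT p f' hF r hpr hr2 hTr i c hi hc W hW.2.1
            hWinv
          obtain ⟨hsup, hdimW⟩ := sr_split Q hnd T hT r hTr hrF W hWinv
          obtain ⟨-, hRnd'⟩ := sr_split_nd Q hnd T hT r hTr hrF W hWinv hW.2.1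
          have hDinv : ∀ d ∈ W ⊓ LinearMap.range (T - 1),
              T d ∈ W ⊓ LinearMap.range (T - 1) := by
            intro d hd
            rw [Submodule.mem_inf] at hd ⊢
            exact ⟨hWinv d hd.1, sr_R_inv T d hd.2⟩
          have hDfix : LinearMap.ker (T - 1) ⊓ (W ⊓ LinearMap.range (T - 1)) = ⊥ := by
            rw [eq_bot_iff, ← hKR]
            exact inf_le_inf_left _ inf_le_right
          obtain ⟨b', hb'⟩ := sr_dvd Q hnd T hT p f' hF r hpr hr2 hTr i c hi hc _ hRnd' hDinv
            hDfix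
          have hD0 : finrank F ↥(W ⊓ LinearMap.range (T - 1)) = 0 := by
            have hle : finrank F ↥(W ⊓ LinearMap.range (T - 1)) ≤ finrank F W :=
              Submodule.finrank_mono inf_le_left
            rw [hW.1] at hle
            rcases Nat.eq_zero_or_pos b' with h0 | hpos
            · rw [hb', h0, mul_zero]
            · exfalso
              have : c ≤ c * b' := Nat.le_mul_of_pos_right c hpos
              omega
          have hWK : W ≤ K := by
            rw [Submodule.finrank_eq_zero.mp hD0, sup_bot_eq] at hsup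
            rw [← hsup, hK]
            exact inf_le_right
          have hmc' : (W.comap K.subtype).map K.subtype = W := by
            rw [Submodule.map_comap_subtype]
            exact inf_eq_right.mpr hWK
          refine ⟨⟨W.comap K.subtype, ?_, ?_, ?_⟩, ?_⟩
          · rw [← Submodule.finrank_map_subtype_eq, hmc']
            exact hW.1
          · rw [sr_sub_nd, hmc']
            exact hW.2.1
          · rw [sr_sub_ty, hmc']
            exact hW.2.2
          · exact Subtype.ext (Subtype.ext hmc')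
      rw [← hcard] at hdvd2
      have hKlt : finrank F K < n := by omega
      have hKodd : Odd (finrank F K) := by
        obtain ⟨c', hc'⟩ := hcev
        obtain ⟨n', hn'⟩ := hodd
        have h3 : finrank F ↥(LinearMap.range (T - 1)) = 2 * (c' * t) := by
          rw [ht, hc']
          ring
        exact ⟨n' - c' * t, by omega⟩
      have h5 := ih (finrank F K) hKlt ↥K (Q.comp K.subtype) (sr_restr_nd Q K hKnd) rfl hKodd
        hdvd2
      have h6 : n % c = finrank F K % c := by
        rw [← hsum, ht, Nat.mul_add_mod]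
      rw [h6]
      exact h5
    · push Not at hex
      by_contra hlt
      push Not at hlt
      have hmn : m + 1 ≤ n := by
        have := Nat.mod_le n c
        omega
      have hTop : SpNd (QuadraticMap.polarBilin Q) ⊤ := by
        intro u _ hu2
        apply hnd u
        intro w
        have := hu2 w Submodule.mem_top
        rwa [QuadraticMap.polarBilin_apply_apply] at this
      obtain ⟨m', hm'⟩ := hme
      obtain ⟨W₀, -, hW₀nd, hW₀dim, hW₀ty⟩ := sr_exists_ty Q h2 ε hε m' ⊤ hTop
        (by rw [finrank_top, hdim]; omega) (fun _ => by omega)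
      have h0 : finrank F W₀ = m ∧ SpNd (QuadraticMap.polarBilin Q) W₀ ∧ SrTy Q W₀ ε :=
        ⟨by omega, hW₀nd, hW₀ty⟩
      have hdvdG := hdvd.trans (sr_card_dvd Q hnd ε hε m ⟨m', hm'⟩ W₀ h0)
      haveI : Finite (V ≃ₗ[F] V) :=
        Finite.of_injective (fun g : V ≃ₗ[F] V => (g : V → V)) DFunLike.coe_injective
      obtain ⟨g, hg⟩ := exists_prime_orderOf_dvd_card' r hdvdG
      have hpow : ∀ (k : ℕ) (v : V), ((g.1 : V →ₗ[F] V) ^ k) v = ((g ^ k).1 : V ≃ₗ[F] V) v := by
        intro k
        induction k with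
        | zero => intro v; rfl
        | succ k ih2 =>
          intro v
          rw [pow_succ, Module.End.mul_apply, ih2, pow_succ]
          rfl
      have hgr : g ^ r = 1 := by
        rw [← hg]
        exact pow_orderOf_eq_one g
      have h1 := hex (g.1 : V →ₗ[F] V) g.2 (by
        apply LinearMap.ext
        intro v
        rw [hpow, hgr]
        rfl)
      have hg1 : g = 1 := by
        apply Subtype.ext
        apply LinearEquiv.ext
        intro v
        have := congrArg (fun L : Module.End F V => L v) h1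
        exact this
      rw [hg1, orderOf_one] at hg
      exact hr.one_lt.ne hg

end srd3

end Cfsg.Agent.Lib.helper24
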