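import Mathlib
import Cfsg.Agent.Lib.helper24.SrD
import Cfsg.Agent.Lib.helper99.OjD

/-! Semisimple orthogonal toolkit, part E: realisations in `Ω_{2d+1}(q)`. -/

set_option autoImplicit false
set_option linter.unusedSectionVars false
set_option linter.style.haveILetI false
set_option linter.unusedVariables false
set_option linter.deprecated false

namespace Cfsg.Agent.Lib.helper24

open Module Cfsg.Agent.Lib.helper45 Cfsg.Agent.Lib.helper49

universe u

section sre1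

variable {F : Type u} [Field F] [Fintype F]

/-- Transfer of an isometry of odd prime order along an isometry to a standard quadratic
space. -/
theorem sr_transfer {ι : Type} [Fintype ι] [DecidableEq ι] (Q : QuadraticForm F (ι → F))
    (hQ : (QuadraticMap.polarBilin Q).Nondegenerate) (hι : 2 ≤ Fintype.card ι)
    (h2 : (2 : F) ≠ 0) (r : ℕ) (hr : r.Prime) (hr2 : r ≠ 2)
    {V : Type*} [AddCommGroup V] [Module F V] [FiniteDimensional F V]
    (ω : V →ₗ[F] V →ₗ[F] F) (T : Module.End F V) (hiso : ∀ v w, ω (T v) (T w) = ω v w)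
    (hTr : T ^ r = 1) (φ : V ≃ₗ[F] (ι → F)) (hφ : ∀ v, 2 * Q (φ v) = ω v v) :
    ∃ g : GL ι F, g ∈ Cfsg.Geo.omegaGL ⇑Q ∧ g ^ r = 1 ∧
      ∀ j : ℕ, finrank F (LinearMap.ker ((Matrix.toLin' (g : Matrix ι ι F) - 1) ^ j)) =
        finrank F (LinearMap.ker ((T - 1) ^ j)) := by
  classical
  obtain ⟨T', hT'⟩ : ∃ T' : Module.End F V, T' = T ^ (r - 1) := ⟨_, rfl⟩
  have hTT' : T * T' = 1 := by rw [hT', ← pow_succ', Nat.sub_add_cancel hr.one_le, hTr]
  have hT'T : T' * T = 1 := by rw [hT', ← pow_succ, Nat.sub_add_cancel hr.one_le, hTr]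
  obtain ⟨L, hL⟩ : ∃ L : Module.End F (ι → F),
      L = φ.toLinearMap ∘ₗ T ∘ₗ φ.symm.toLinearMap := ⟨_, rfl⟩
  obtain ⟨L', hL'⟩ : ∃ L' : Module.End F (ι → F),
      L' = φ.toLinearMap ∘ₗ T' ∘ₗ φ.symm.toLinearMap := ⟨_, rfl⟩
  have hLx : ∀ x, L x = φ (T (φ.symm x)) := fun x => by rw [hL]; rfl
  have hL'x : ∀ x, L' x = φ (T' (φ.symm x)) := fun x => by rw [hL']; rfl
  have hLL' : L * L' = 1 := by
    apply LinearMap.ext
    intro x
    rw [Module.End.mul_apply, hLx, hL'x, LinearEquiv.symm_apply_apply,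
      sq_inv_apply T T' hTT', LinearEquiv.apply_symm_apply, Module.End.one_apply]
  have hL'L : L' * L = 1 := by
    apply LinearMap.ext
    intro x
    rw [Module.End.mul_apply, hLx, hL'x, LinearEquiv.symm_apply_apply,
      sq_inv_apply T' T hT'T, LinearEquiv.apply_symm_apply, Module.End.one_apply]
  obtain ⟨g, hg⟩ : ∃ g : GL ι F, (g : Matrix ι ι F) = LinearMap.toMatrix' L :=
    ⟨⟨LinearMap.toMatrix' L, LinearMap.toMatrix' L',
      by rw [← LinearMap.toMatrix'_mul, hLL', LinearMap.toMatrix'_one],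
      by rw [← LinearMap.toMatrix'_mul, hL'L, LinearMap.toMatrix'_one]⟩, rfl⟩
  have hgL : Matrix.toLin' (g : Matrix ι ι F) = L := by
    rw [hg, Matrix.toLin'_toMatrix']
  have hLφ : ∀ v, L (φ v) = φ (T v) := by
    intro v
    rw [hLx, LinearEquiv.symm_apply_apply]
  have hpowL : ∀ (m : ℕ) (v : V), (L ^ m) (φ v) = φ ((T ^ m) v) := by
    intro m
    induction m with
    | zero =>
      intro v
      simp
    | succ m ih =>
      intro v
      rw [pow_succ, Module.End.mul_apply, hLφ, ih, pow_succ, Module.End.mul_apply]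
  have hLp : L ^ r = 1 := by
    apply LinearMap.ext
    intro x
    obtain ⟨v, rfl⟩ := φ.surjective x
    rw [hpowL, hTr]
    rfl
  have hpowM : ∀ m : ℕ, (LinearMap.toMatrix' L) ^ m = LinearMap.toMatrix' (L ^ m) := by
    intro m
    induction m with
    | zero => rw [pow_zero, pow_zero, LinearMap.toMatrix'_one]
    | succ m ih => rw [pow_succ, ih, pow_succ, LinearMap.toMatrix'_mul]
  have hgp : g ^ r = 1 := by
    apply Units.ext
    rw [Units.val_pow_eq_pow_val, Units.val_one, hg, hpowM, hLp, LinearMap.toMatrix'_one]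
  have key : ∀ x : ι → F, Q ((g : Matrix ι ι F).mulVec x) = Q x := by
    intro x
    obtain ⟨v, rfl⟩ := φ.surjective x
    have h3 : (g : Matrix ι ι F).mulVec (φ v) = φ (T v) := by
      rw [← Matrix.toLin'_apply, hgL, hLφ]
    rw [h3]
    have h4 := hφ (T v)
    have h5 := hφ v
    rw [hiso] at h4
    exact mul_left_cancel₀ h2 (h4.trans h5.symm)
  have hgiso : g ∈ Cfsg.isometryGroup F ⇑Q := fun u _ => key u
  refine ⟨g, so_omega_of_odd h2 Q hQ hι r hr hr2 g hgiso hgp, hgp, fun j => ?_⟩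
  rw [hgL]
  exact sq_conj_ker φ T L hLφ j

/-- Transfer of an abstract isometry of a `(2d+1)`-dimensional symmetric space to
`Ω_{2d+1}`. -/
theorem sr_to_odd (h2 : (2 : F) ≠ 0) (r : ℕ) (hr : r.Prime) (hr2 : r ≠ 2) (d : ℕ) (hd : 1 ≤ d)
    {V : Type*} [AddCommGroup V] [Module F V] [FiniteDimensional F V]
    (ω : V →ₗ[F] V →ₗ[F] F) (hsym : ∀ u v, ω u v = ω v u)
    (hnd : ∀ v, (∀ w, ω v w = 0) → v = 0) (T : Module.End F V)
    (hiso : ∀ v w, ω (T v) (T w) = ω v w) (hTr : T ^ r = 1)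
    (hdim : finrank F V = 2 * d + 1) :
    ∃ g : GL (Unit ⊕ (Fin d ⊕ Fin d)) F, g ∈ Cfsg.Geo.omegaGL (Cfsg.quadFormOdd d F) ∧
      g ^ r = 1 ∧ ∀ j : ℕ, finrank F (LinearMap.ker ((Matrix.toLin'
        (g : Matrix (Unit ⊕ (Fin d ⊕ Fin d)) (Unit ⊕ (Fin d ⊕ Fin d)) F) - 1) ^ j)) =
        finrank F (LinearMap.ker ((T - 1) ^ j)) := by
  classical
  obtain ⟨Qm, hQm⟩ : ∃ Qm : QuadraticForm F V, Qm = LinearMap.BilinMap.toQuadraticMap ω :=
    ⟨_, rfl⟩
  have hQnd : ∀ v, (∀ w, QuadraticMap.polar Qm v w = 0) → v = 0 := by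
    intro v hv
    apply hnd v
    intro w
    have h1 := hv w
    rw [hQm, LinearMap.BilinMap.polar_toQuadraticMap, hsym w v] at h1
    have h3 : (2 : F) * ω v w = 0 := by linear_combination h1
    exact (mul_eq_zero.mp h3).resolve_left h2
  obtain ⟨Tsim, κ, hsim⟩ := Cfsg.Agent.Lib.helper99.Oj.oj_simil h2 d Qm hQnd hdim
  have hQodd := nondegenerate_of_gram (oddForm d F) (gramOdd d F) (gramOddInv d F)
    (gramOdd_mul_inv d h2) (polar_oddForm d)
  have hι : 2 ≤ Fintype.card (Unit ⊕ (Fin d ⊕ Fin d)) := by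
    simp only [Fintype.card_sum, Fintype.card_unit, Fintype.card_fin]
    omega
  have hφ : ∀ v, 2 * oddForm d F (Tsim v) = ((2 * κ) • ω) v v := by
    intro v
    have h1 := hsim v
    rw [hQm, LinearMap.BilinMap.toQuadraticMap_apply] at h1
    rw [LinearMap.smul_apply, LinearMap.smul_apply, smul_eq_mul]
    show 2 * Cfsg.quadFormOdd d F (Tsim v) = _
    rw [h1]
    ring
  have hiso' : ∀ v w, ((2 * κ) • ω) (T v) (T w) = ((2 * κ) • ω) v w := by
    intro v w
    rw [LinearMap.smul_apply, LinearMap.smul_apply, LinearMap.smul_apply, LinearMap.smul_apply,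
      hiso]
  obtain ⟨g, hgΩ, hgr, hgker⟩ := sr_transfer (oddForm d F) hQodd hι h2 r hr hr2 ((2 * κ) • ω) T
    hiso' hTr Tsim hφ
  exact ⟨g, hgΩ, hgr, hgker⟩

/-- An element of order `r` of `Ω_{2d+1}(q)` with fixed space of dimension `(2d+1) mod c`. -/
theorem sr_real (h2 : (2 : F) ≠ 0) (p f' : ℕ) [Fact p.Prime] (hF : Fintype.card F = p ^ f')
    (r : ℕ) [Fact r.Prime] (hpr : p.Coprime r) (hr2 : r ≠ 2) (i c : ℕ)
    (hi : i = orderOf ((Fintype.card F : ℕ) : ZMod r)) (hc : c = if Even i then i else 2 * i)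
    (d : ℕ) (hd : 1 ≤ d) :
    ∃ g : GL (Unit ⊕ (Fin d ⊕ Fin d)) F, g ∈ Cfsg.Geo.omegaGL (Cfsg.quadFormOdd d F) ∧
      g ^ r = 1 ∧ finrank F (LinearMap.ker (Matrix.toLin'
        (g : Matrix (Unit ⊕ (Fin d ⊕ Fin d)) (Unit ⊕ (Fin d ⊕ Fin d)) F) - 1)) =
        (2 * d + 1) % c := by
  classical
  have hr : r.Prime := Fact.out
  have hq0 := el_card_ne_zero p f' hF r hpr
  have hrF := el_natCast_ne_zero (F := F) p f' hF r hpr
  have hrodd : Odd r := hr.odd_of_ne_two hr2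
  have hcev : Even c := sr_c_even p f' hF r hpr hr2 i c hi hc
  have hi1 : 1 ≤ i := by
    rw [hi]
    exact sp_order_pos r hq0
  have hc1 : 1 ≤ c := by
    rw [hc]
    split_ifs with h
    · exact hi1
    · omega
  obtain ⟨e, he⟩ := hcev
  have hce : c = 2 * e := by omega
  have he1 : 1 ≤ e := by omega
  obtain ⟨A, hA⟩ : ∃ A, A = (2 * d + 1) / c := ⟨_, rfl⟩
  obtain ⟨s, hs⟩ : ∃ s, s = (2 * d + 1) % c := ⟨_, rfl⟩
  have hdiv : c * A + s = 2 * d + 1 := by
    rw [hA, hs]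
    exact Nat.div_add_mod _ _
  rw [← hs]
  obtain ⟨x, hxr, hxk⟩ := sp_exists_xb r hq0 hrF i c hi hc e he1 hce A (e * A) le_rfl
  obtain ⟨Ts, hTs⟩ : ∃ Ts : Module.End F (Fin (e * A) ⊕ Fin (e * A) → F),
      Ts = Matrix.toLin' x.1 := ⟨_, rfl⟩
  have hTsr : Ts ^ r = 1 := by
    rw [hTs, sp_toLin_pow, hxr]
    exact Matrix.toLin'_one
  have hker0 : LinearMap.ker (Ts - 1) = ⊥ := by
    rw [hTs]
    apply Submodule.finrank_eq_zero.mp
    omega
  obtain ⟨Ts', hTs'⟩ : ∃ Ts' : Module.End F (Fin (e * A) ⊕ Fin (e * A) → F),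
      Ts' = Ts ^ (r - 1) := ⟨_, rfl⟩
  have hTT' : Ts * Ts' = 1 := by rw [hTs', ← pow_succ', Nat.sub_add_cancel hr.one_le, hTsr]
  have hT'T : Ts' * Ts = 1 := by rw [hTs', ← pow_succ, Nat.sub_add_cancel hr.one_le, hTsr]
  obtain ⟨B, hB⟩ : ∃ B : (Fin (e * A) ⊕ Fin (e * A) → F) →ₗ[F]
      (Fin (e * A) ⊕ Fin (e * A) → F) →ₗ[F] F, B = Cfsg.Agent.S0245.omegaJ (e * A) F := ⟨_, rfl⟩
  have hBiso : ∀ u v, B (Ts u) (Ts v) = B u v := by
    rw [hB, hTs]
    exact sp_toLin_isom (e * A) x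
  have hBalt : ∀ v, B v v = 0 := by
    rw [hB]
    exact Cfsg.Agent.S0245.omegaJ_alt (e * A) F
  have hBnd : ∀ v, (∀ w, B v w = 0) → v = 0 := by
    rw [hB]
    exact Cfsg.Agent.S0245.omegaJ_nondeg (e * A) F
  have hBskew := sp_skew B hBalt
  have hBT' : ∀ u v, B (Ts' u) v = B u (Ts v) := by
    intro u v
    rw [← hBiso (Ts' u) v, sq_inv_apply Ts Ts' hTT']
  have hBT : ∀ u v, B (Ts u) v = B u (Ts' v) := by
    intro u v
    rw [← hBiso u (Ts' v), sq_inv_apply Ts Ts' hTT']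
  obtain ⟨ωs, hωs⟩ : ∃ ωs : (Fin (e * A) ⊕ Fin (e * A) → F) →ₗ[F]
      (Fin (e * A) ⊕ Fin (e * A) → F) →ₗ[F] F, ωs = B.comp (Ts - Ts') := ⟨_, rfl⟩
  have hωsa : ∀ u v, ωs u v = B (Ts u) v - B (Ts' u) v := by
    intro u v
    rw [hωs, LinearMap.comp_apply, LinearMap.sub_apply, map_sub, LinearMap.sub_apply]
  have hsyms : ∀ u v, ωs u v = ωs v u := by
    intro u v
    rw [hωsa, hωsa, hBT u v, hBT' u v, hBskew u (Ts' v), hBskew u (Ts v)]
    ring
  have hnds : ∀ v, (∀ w, ωs v w = 0) → v = 0 := by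
    intro v hv
    have h1 : Ts v - Ts' v = 0 := by
      apply hBnd
      intro w
      have := hv w
      rw [hωsa] at this
      rw [map_sub, LinearMap.sub_apply]
      exact this
    have h3 := sr_inj Ts Ts' hTT' r hrodd hTsr v h1
    have h4 : v ∈ LinearMap.ker (Ts - 1) := by
      rw [LinearMap.mem_ker, LinearMap.sub_apply, h3, Module.End.one_apply, sub_self]
    rw [hker0] at h4
    exact (Submodule.mem_bot F).mp h4
  have hisos : ∀ u v, ωs (Ts u) (Ts v) = ωs u v := by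
    intro u v
    rw [hωsa, hωsa, hBiso, sq_inv_apply Ts' Ts hT'T, hBT' u v]
  obtain ⟨ωK, hωK⟩ : ∃ ωK : (Fin s → F) →ₗ[F] (Fin s → F) →ₗ[F] F,
      ωK = dotProductBilin F F := ⟨_, rfl⟩
  have hωKa : ∀ u v, ωK u v = u ⬝ᵥ v := by
    intro u v
    rw [hωK]
    rfl
  obtain ⟨ωm, hωm⟩ : ∃ ωm : ((Fin (e * A) ⊕ Fin (e * A) → F) × (Fin s → F)) →ₗ[F]
      ((Fin (e * A) ⊕ Fin (e * A) → F) × (Fin s → F)) →ₗ[F] F,
      ωm = ωs.compl₁₂ (LinearMap.fst F _ _) (LinearMap.fst F _ _)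
        + ωK.compl₁₂ (LinearMap.snd F _ _) (LinearMap.snd F _ _) := ⟨_, rfl⟩
  have hωma : ∀ u v, ωm u v = ωs u.1 v.1 + u.2 ⬝ᵥ v.2 := by
    intro u v
    rw [hωm, LinearMap.add_apply, LinearMap.add_apply, LinearMap.compl₁₂_apply,
      LinearMap.compl₁₂_apply, hωKa]
    rfl
  obtain ⟨Tm, hTm⟩ : ∃ Tm : Module.End F ((Fin (e * A) ⊕ Fin (e * A) → F) × (Fin s → F)),
      Tm = LinearMap.prodMap Ts 1 := ⟨_, rfl⟩
  have hsymm : ∀ u v, ωm u v = ωm v u := by
    intro u v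
    rw [hωma, hωma, hsyms, dotProduct_comm]
  have hndm : ∀ v, (∀ w, ωm v w = 0) → v = 0 := by
    intro v hv
    have h1 : v.1 = 0 := by
      apply hnds
      intro w
      have := hv (w, 0)
      rw [hωma] at this
      simpa using this
    have h3 : v.2 = 0 := by
      funext j
      have := hv (0, Pi.single j 1)
      rw [hωma] at this
      simpa using this
    exact Prod.ext h1 h3
  have hisom : ∀ u v, ωm (Tm u) (Tm v) = ωm u v := by
    intro u v
    rw [hωma, hωma, hTm]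
    simp only [LinearMap.prodMap_apply, Module.End.one_apply]
    rw [hisos]
  have hTmr : Tm ^ r = 1 := by
    rw [hTm, prodMap_pow, hTsr, one_pow]
    exact LinearMap.prodMap_one
  have hdimm : finrank F ((Fin (e * A) ⊕ Fin (e * A) → F) × (Fin s → F)) = 2 * d + 1 := by
    rw [Module.finrank_prod, Module.finrank_fintype_fun_eq_card,
      Module.finrank_fintype_fun_eq_card, Fintype.card_sum, Fintype.card_fin, Fintype.card_fin]
    have : c * A = e * A + e * A := by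
      rw [hce]
      ring
    omega
  have hkerm : finrank F (LinearMap.ker (Tm - 1)) = s := by
    have hsub : Tm - 1 = LinearMap.prodMap (Ts - 1) (0 : Module.End F (Fin s → F)) := by
      rw [hTm]
      apply LinearMap.ext
      rintro ⟨a, b⟩
      simp
    rw [hsub, sq_ker_prod, hker0, finrank_bot, LinearMap.ker_zero, finrank_top,
      Module.finrank_fintype_fun_eq_card, Fintype.card_fin, zero_add]
  obtain ⟨g, hgΩ, hgr, hgker⟩ := sr_to_odd h2 r hr hr2 d hd ωm hsymm hndm Tm hisom hTmr hdimm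
  refine ⟨g, hgΩ, hgr, ?_⟩
  have := hgker 1
  rw [pow_one, pow_one] at this
  rw [this, hkerm]

/-- A unipotent element of `Ω_{2d+1}(q)` with prescribed Jordan type `μ₁ + {b}`. -/
theorem sr_real_unip (p : ℕ) [Fact p.Prime] [CharP F p] (hp2 : p ≠ 2) (d : ℕ) (hd : 1 ≤ d)
    (μ₁ : Multiset ℕ) (b : ℕ) (hμ₁ : SoReal F p μ₁) (hparts : ∀ a ∈ μ₁, a ≤ p)
    (hb : SoSingle F p b) (hsum : μ₁.sum + b = 2 * d + 1) :
    ∃ g : GL (Unit ⊕ (Fin d ⊕ Fin d)) F, g ∈ Cfsg.Geo.omegaGL (Cfsg.quadFormOdd d F) ∧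
      g ^ p = 1 ∧ ∀ j : ℕ, finrank F (LinearMap.ker ((Matrix.toLin'
        (g : Matrix (Unit ⊕ (Fin d ⊕ Fin d)) (Unit ⊕ (Fin d ⊕ Fin d)) F) - 1) ^ j)) =
        ((μ₁ + {b}).map (fun a => min j a)).sum := by
  classical
  have hpp : p.Prime := Fact.out
  have h2 : (2 : F) ≠ 0 := sq_two_ne p hp2
  obtain ⟨V, _, _, _, ω, T, U, hsym, hnd, hiso, hTp, hU, hUdim, hker⟩ := hμ₁
  obtain ⟨V', _, _, _, ω', T', hsym', hnd', hiso', hTp', hdim', hker'⟩ := hb
  have hNp : (T - 1) ^ p = 0 := sq_unip p T hTp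
  have hdimV : finrank F V = μ₁.sum := by
    have h1 := hker p
    rw [hNp, LinearMap.ker_zero, finrank_top] at h1
    rw [h1]
    congr 1
    conv_rhs => rw [← Multiset.map_id μ₁]
    apply Multiset.map_congr rfl
    intro a ha
    rw [id, min_eq_right (hparts a ha)]
  obtain ⟨ωm, hωm⟩ : ∃ ωm : (V × V') →ₗ[F] (V × V') →ₗ[F] F,
      ωm = ω.compl₁₂ (LinearMap.fst F V V') (LinearMap.fst F V V')
        + ω'.compl₁₂ (LinearMap.snd F V V') (LinearMap.snd F V V') := ⟨_, rfl⟩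
  have hωma : ∀ u v, ωm u v = ω u.1 v.1 + ω' u.2 v.2 := by
    intro u v
    rw [hωm]
    rfl
  have hsymm : ∀ u v, ωm u v = ωm v u := by
    intro u v
    rw [hωma, hωma, hsym, hsym']
  have hndm : ∀ v, (∀ w, ωm v w = 0) → v = 0 := by
    intro v hv
    have h1 : v.1 = 0 := by
      apply hnd
      intro w
      have := hv (w, 0)
      rw [hωma] at this
      simpa using this
    have h3 : v.2 = 0 := by
      apply hnd'
      intro w
      have := hv (0, w)
      rw [hωma] at this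
      simpa using this
    exact Prod.ext h1 h3
  have hisom : ∀ u v, ωm (LinearMap.prodMap T T' u) (LinearMap.prodMap T T' v) = ωm u v := by
    intro u v
    rw [hωma, hωma]
    simp only [LinearMap.prodMap_apply]
    rw [hiso, hiso']
  have hTmp : (LinearMap.prodMap T T') ^ p = 1 := by
    rw [prodMap_pow, hTp, hTp']
    exact LinearMap.prodMap_one
  have hdimm : finrank F (V × V') = 2 * d + 1 := by
    rw [Module.finrank_prod, hdimV, hdim', hsum]
  obtain ⟨g, hgΩ, hgr, hgker⟩ := sr_to_odd h2 p hpp hp2 d hd ωm hsymm hndm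
    (LinearMap.prodMap T T') hisom hTmp hdimm
  refine ⟨g, hgΩ, hgr, fun j => ?_⟩
  rw [hgker j]
  have hsub : LinearMap.prodMap T T' - 1 = LinearMap.prodMap (T - 1) (T' - 1) := by
    apply LinearMap.ext
    rintro ⟨a, b⟩
    rfl
  rw [hsub, prodMap_pow, sq_ker_prod, hker j, hker' j, Multiset.map_add, Multiset.sum_add,
    Multiset.map_singleton, Multiset.sum_singleton]

end sre1

end Cfsg.Agent.Lib.helper24
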