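import Mathlib
import Cfsg.Agent.Lib.helper24.SrE

/-! Semisimple orthogonal toolkit, part F: `Ω_{2d+1}(q)` acting on nondegenerate even-dimensional
subspaces of plus / minus type. -/

set_option autoImplicit false
set_option linter.unusedSectionVars false
set_option linter.style.haveILetI false
set_option linter.unusedVariables false
set_option linter.deprecated false

namespace Cfsg.Agent.Lib.helper24

open Module Cfsg.Agent.Lib.helper45 Cfsg.Agent.Lib.helper49

universe u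

section srf0

variable {F : Type u} [Field F] [Fintype F] {V : Type u} [AddCommGroup V] [Module F V]
  [FiniteDimensional F V]

/-- Involution-invariant nondegenerate subspaces of every even dimension and type. -/
theorem srf_inv_ty (Q : QuadraticForm F V)
    (hnd : ∀ v, (∀ w, QuadraticMap.polar Q v w = 0) → v = 0)
    (h2 : (2 : F) ≠ 0) (T : Module.End F V) (hT : ∀ v, Q (T v) = Q v) (hT2 : T * T = 1)
    (ε : ℤ) (hε : ε = 1 ∨ ε = -1) (e : ℕ) (hdim : 2 * e + 1 ≤ finrank F V)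
    (he : ε = -1 → 1 ≤ e ∧ 5 ≤ finrank F V) :
    ∃ W : Submodule F V, SpNd (QuadraticMap.polarBilin Q) W ∧ (∀ w ∈ W, T w ∈ W) ∧
      finrank F W = 2 * e ∧ SrTy Q W ε := by
  have hTop : SpNd (QuadraticMap.polarBilin Q) ⊤ := by
    intro u _ hu
    apply hnd u
    intro w
    have := hu w Submodule.mem_top
    rwa [QuadraticMap.polarBilin_apply_apply] at this
  have hTopinv : ∀ x ∈ (⊤ : Submodule F V), T x ∈ (⊤ : Submodule F V) :=
    fun x _ => Submodule.mem_top
  rcases hε with rfl | rfl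
  · obtain ⟨W, -, hWnd, hWinv, hWdim, hWty⟩ :=
      sr_exists_plus Q h2 T hT hT2 e ⊤ hTop hTopinv (by rw [finrank_top]; exact hdim)
    exact ⟨W, hWnd, hWinv, hWdim, hWty⟩
  · obtain ⟨he1, h5⟩ := he rfl
    have hndω : ∀ v, (∀ w, QuadraticMap.polarBilin Q v w = 0) → v = 0 := by
      intro v hv
      apply hnd v
      intro w
      have := hv w
      rwa [QuadraticMap.polarBilin_apply_apply] at this
    have hTsq : T ^ 2 = 1 := by rw [pow_two, hT2]
    have h2' : ((2 : ℕ) : F) ≠ 0 := by exact_mod_cast h2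
    have hE1 : SpNd (QuadraticMap.polarBilin Q) (LinearMap.ker (T - 1)) :=
      sp_fix_nd (QuadraticMap.polarBilin Q) hndω T (sr_iso_bilin Q T hT) 2 hTsq h2'
    have hTneg : ∀ v, Q ((-T) v) = Q v := by
      intro v
      rw [LinearMap.neg_apply, QuadraticMap.map_neg, hT]
    have hE2 : SpNd (QuadraticMap.polarBilin Q) (LinearMap.ker (-T - 1)) :=
      sp_fix_nd (QuadraticMap.polarBilin Q) hndω (-T) (sr_iso_bilin Q (-T) hTneg) 2
        (by rw [pow_two, neg_mul_neg, hT2]) h2'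
    have hTT : ∀ v, T (T v) = v := by
      intro v
      have h6 := congrArg (fun f : Module.End F V => f v) hT2
      exact h6
    have hdimE : finrank F V ≤ finrank F (LinearMap.ker (T - 1)) +
        finrank F (LinearMap.ker (-T - 1)) := by
      have h1 := LinearMap.finrank_range_add_finrank_ker (T - 1)
      have h3 : LinearMap.range (T - 1) ≤ LinearMap.ker (-T - 1) := by
        rintro _ ⟨v, rfl⟩
        have h6 : (-T - 1) ((T - 1) v) = 0 := by
          simp only [LinearMap.sub_apply, LinearMap.neg_apply, Module.End.one_apply, map_sub, hTT]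
          abel
        exact LinearMap.mem_ker.mpr h6
      have h4 := Submodule.finrank_mono h3
      omega
    obtain ⟨E, hEnd, hEdim, hEact⟩ : ∃ E : Submodule F V,
        SpNd (QuadraticMap.polarBilin Q) E ∧ 3 ≤ finrank F E ∧
        (∀ P : Submodule F V, P ≤ E → ∀ w ∈ P, T w ∈ P) := by
      by_cases h : 3 ≤ finrank F (LinearMap.ker (T - 1))
      · refine ⟨_, hE1, h, ?_⟩
        intro P hP w hw
        have h6 := hP hw
        rw [LinearMap.mem_ker, LinearMap.sub_apply, Module.End.one_apply, sub_eq_zero] at h6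
        rw [h6]
        exact hw
      · refine ⟨_, hE2, by omega, ?_⟩
        intro P hP w hw
        have h6 := hP hw
        rw [LinearMap.mem_ker, LinearMap.sub_apply, LinearMap.neg_apply, Module.End.one_apply,
          sub_eq_zero] at h6
        have h7 : T w = -w := neg_eq_iff_eq_neg.mp h6
        rw [h7]
        exact P.neg_mem hw
    obtain ⟨P, hPE, hPnd, hPdim, hPty⟩ := sr_exists_aniso Q h2 E hEnd hEdim
    have hPinv := hEact P hPE
    obtain ⟨hX'nd, hsup, hinf, hdim'⟩ :=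
      so_rel (QuadraticMap.polarBilin Q) (sr_sym Q) ⊤ P hTop hPnd le_top
    have hX'inv := sr_perp_inv2 Q T hT 2 (by norm_num) hTsq P ⊤ hPinv hTopinv
    rw [finrank_top] at hdim'
    obtain ⟨W', hW'X, hW'nd, hW'inv, hW'dim, hW'ty⟩ :=
      sr_exists_plus Q h2 T hT hT2 (e - 1) _ hX'nd hX'inv (by omega)
    have horth : ∀ u ∈ P, ∀ v ∈ W', QuadraticMap.polarBilin Q u v = 0 := by
      intro u hu v hv
      exact (Submodule.mem_inf.mp (hW'X hv)).1 u hu
    have horth' : ∀ u ∈ P, ∀ v ∈ W', QuadraticMap.polar Q u v = 0 := by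
      intro u hu v hv
      have := horth u hu v hv
      rwa [QuadraticMap.polarBilin_apply_apply] at this
    have hdis : P ⊓ W' = ⊥ := by
      rw [eq_bot_iff, ← hinf]
      exact inf_le_inf_left P hW'X
    obtain ⟨hWnd, hWdim⟩ := so_sum (QuadraticMap.polarBilin Q) (sr_sym Q) P W' hPnd hW'nd horth
    refine ⟨P ⊔ W', hWnd, ?_, by omega, ?_⟩
    · intro w hw
      obtain ⟨h, hh, w', hw', rfl⟩ := Submodule.mem_sup.mp hw
      rw [map_add]
      exact Submodule.add_mem _ (Submodule.mem_sup_left (hPinv h hh))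
        (Submodule.mem_sup_right (hW'inv w' hw'))
    · have := sr_ty_sum Q P W' horth' hdis (-1) 1 hPty hW'ty (by rw [hPdim]; decide)
        (by rw [hW'dim]; exact even_two_mul _)
      rwa [mul_one] at this

end srf0

section srf1

variable {F : Type u} [Field F] [Fintype F]

theorem srf_nd (h2 : (2 : F) ≠ 0) (d : ℕ) :
    ∀ v : Unit ⊕ (Fin d ⊕ Fin d) → F,
      (∀ w, QuadraticMap.polar (oddForm d F) v w = 0) → v = 0 :=
  forall_of_nondegenerate (oddForm d F)
    (nondegenerate_of_gram (oddForm d F) (gramOdd d F) (gramOddInv d F)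
      (gramOdd_mul_inv d h2) (polar_oddForm d))

theorem srf_iso (d : ℕ) (x : GL (Unit ⊕ (Fin d ⊕ Fin d)) F)
    (hx : x ∈ Cfsg.Geo.omegaGL (Cfsg.quadFormOdd d F)) :
    ∀ u : Unit ⊕ (Fin d ⊕ Fin d) → F, oddForm d F (Matrix.toLin'
      (x : Matrix (Unit ⊕ (Fin d ⊕ Fin d)) (Unit ⊕ (Fin d ⊕ Fin d)) F) u) = oddForm d F u := by
  intro u
  obtain ⟨y, hyΩ, hyx⟩ := Subgroup.mem_map.mp hx
  rw [Matrix.toLin'_apply, ← hyx]
  exact y.2 u u

theorem srf_pow (d : ℕ) (x : GL (Unit ⊕ (Fin d ⊕ Fin d)) F) (r : ℕ) (hxr : x ^ r = 1) :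
    (Matrix.toLin' (x : Matrix (Unit ⊕ (Fin d ⊕ Fin d)) (Unit ⊕ (Fin d ⊕ Fin d)) F)) ^ r =
      1 := by
  have h3 : (x : Matrix (Unit ⊕ (Fin d ⊕ Fin d)) (Unit ⊕ (Fin d ⊕ Fin d)) F) ^ r = 1 := by
    rw [← Units.val_pow_eq_pow_val, hxr, Units.val_one]
  rw [so_toLin_pow, h3, Matrix.toLin'_one]
  rfl

theorem srf_dim (d : ℕ) : finrank F (Unit ⊕ (Fin d ⊕ Fin d) → F) = 2 * d + 1 := by
  rw [Module.finrank_fintype_fun_eq_card]
  simp only [Fintype.card_sum, Fintype.card_unit, Fintype.card_fin]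
  omega

theorem srf_ndOn (d : ℕ) (W : Submodule F (Unit ⊕ (Fin d ⊕ Fin d) → F)) :
    Cfsg.Geo.IsNondegenerateOn (QuadraticMap.polar (Cfsg.quadFormOdd d F)) W ↔
      SpNd (QuadraticMap.polarBilin (oddForm d F)) W := by
  constructor
  · intro hWnd u hu hu2
    by_contra hu0
    obtain ⟨-, ⟨y, hy, hne⟩⟩ := hWnd u hu hu0
    apply hne
    have h3 := hu2 y hy
    rw [QuadraticMap.polarBilin_apply_apply] at h3
    exact h3
  · intro hW w hw hw0
    have h1 : ∃ x ∈ W, QuadraticMap.polar (oddForm d F) w x ≠ 0 := by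
      by_contra hcon
      apply hw0
      apply hW w hw
      intro v hv
      rw [QuadraticMap.polarBilin_apply_apply]
      by_contra hne
      exact hcon ⟨v, hv, hne⟩
    obtain ⟨x, hx, hne⟩ := h1
    refine ⟨⟨x, hx, ?_⟩, ⟨x, hx, hne⟩⟩
    intro h
    apply hne
    rw [QuadraticMap.polar_comm]
    exact h

theorem srf_plus_iff (h2 : (2 : F) ≠ 0) (d : ℕ)
    (W : Submodule F (Unit ⊕ (Fin d ⊕ Fin d) → F)) (hev : Even (finrank F W)) :
    (Cfsg.Geo.IsNondegenerateOn (QuadraticMap.polar (Cfsg.quadFormOdd d F)) W ∧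
      Cfsg.Geo.IsPlusTypeOn (Cfsg.quadFormOdd d F) W) ↔
    (SpNd (QuadraticMap.polarBilin (oddForm d F)) W ∧ SrTy (oddForm d F) W 1) := by
  rw [srf_ndOn]
  constructor
  · rintro ⟨h1, h3⟩
    exact ⟨h1, sr_plus_ty (oddForm d F) h2 W h1 h3⟩
  · rintro ⟨h1, h3⟩
    exact ⟨h1, sr_ty_plus (oddForm d F) W h1 hev h3⟩

theorem srf_minus_iff (h2 : (2 : F) ≠ 0) (d : ℕ)
    (W : Submodule F (Unit ⊕ (Fin d ⊕ Fin d) → F)) (hev : Even (finrank F W)) :
    (Cfsg.Geo.IsNondegenerateOn (QuadraticMap.polar (Cfsg.quadFormOdd d F)) W ∧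
      ¬ Cfsg.Geo.IsPlusTypeOn (Cfsg.quadFormOdd d F) W) ↔
    (SpNd (QuadraticMap.polarBilin (oddForm d F)) W ∧ SrTy (oddForm d F) W (-1)) := by
  rw [srf_ndOn]
  constructor
  · rintro ⟨h1, h3⟩
    refine ⟨h1, ?_⟩
    obtain ⟨n, hn⟩ := hev
    rcases sr_ty_or (oddForm d F) W h1 n (by omega) with h | h
    · exact absurd (sr_ty_plus (oddForm d F) W h1 ⟨n, hn⟩ h) h3
    · exact h
  · rintro ⟨h1, h3⟩
    exact ⟨h1, sr_ty_not_plus (oddForm d F) h2 W h1 h3⟩

/-- Involutions of `Ω_{2d+1}(q)` fix nondegenerate subspaces of every even dimension and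
type. -/
theorem srf_inv (h2 : (2 : F) ≠ 0) (d m : ℕ) (hd : 2 ≤ d) (hme : Even m) (hmn : m ≤ 2 * d)
    (ε : ℤ) (hε : ε = 1 ∨ ε = -1) (hεm : ε = -1 → 2 ≤ m)
    (x : GL (Unit ⊕ (Fin d ⊕ Fin d)) F) (hx : x ∈ Cfsg.Geo.omegaGL (Cfsg.quadFormOdd d F))
    (hx2 : x ^ 2 = 1) :
    ∃ W : Submodule F (Unit ⊕ (Fin d ⊕ Fin d) → F),
      (finrank F W = m ∧ SpNd (QuadraticMap.polarBilin (oddForm d F)) W ∧
        SrTy (oddForm d F) W ε) ∧
      W.map (Matrix.toLin'
        (x : Matrix (Unit ⊕ (Fin d ⊕ Fin d)) (Unit ⊕ (Fin d ⊕ Fin d)) F)) ≤ W := by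
  obtain ⟨m', hm'⟩ := hme
  obtain ⟨T, hTdef⟩ : ∃ T : Module.End F (Unit ⊕ (Fin d ⊕ Fin d) → F), T = Matrix.toLin'
      (x : Matrix (Unit ⊕ (Fin d ⊕ Fin d)) (Unit ⊕ (Fin d ⊕ Fin d)) F) := ⟨_, rfl⟩
  rw [← hTdef]
  have hT : ∀ v, oddForm d F (T v) = oddForm d F v := by
    rw [hTdef]
    exact srf_iso d x hx
  have hT2 : T * T = 1 := by
    rw [← pow_two, hTdef]
    exact srf_pow d x 2 hx2
  obtain ⟨W, hWnd, hWinv, hWdim, hWty⟩ := srf_inv_ty (oddForm d F) (srf_nd h2 d) h2 T hT hT2 ε hε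
    m' (by rw [srf_dim]; omega) (fun h => ⟨by have := hεm h; omega, by rw [srf_dim]; omega⟩)
  refine ⟨W, ⟨by omega, hWnd, hWty⟩, ?_⟩
  rintro _ ⟨w, hw, rfl⟩
  exact hWinv w hw

/-- A unipotent element of order `p` of `Ω_{2d+1}(q)` all of whose invariant nondegenerate
even-dimensional subspaces are of plus type. -/
theorem srf_unip (p : ℕ) [Fact p.Prime] [CharP F p] (hp2 : p ≠ 2) (d : ℕ) (hd : 2 ≤ d) :
    ∃ g : GL (Unit ⊕ (Fin d ⊕ Fin d)) F, g ∈ Cfsg.Geo.omegaGL (Cfsg.quadFormOdd d F) ∧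
      orderOf g = p ∧
      ∀ W : Submodule F (Unit ⊕ (Fin d ⊕ Fin d) → F), Even (finrank F W) →
        Cfsg.Geo.IsNondegenerateOn (QuadraticMap.polar (Cfsg.quadFormOdd d F)) W →
        W.map (Matrix.toLin'
          (g : Matrix (Unit ⊕ (Fin d ⊕ Fin d)) (Unit ⊕ (Fin d ⊕ Fin d)) F)) ≤ W →
        Cfsg.Geo.IsPlusTypeOn (Cfsg.quadFormOdd d F) W := by
  classical
  have hpp : p.Prime := Fact.out
  have h2 : (2 : F) ≠ 0 := sq_two_ne p hp2
  have hp3 : 3 ≤ p := by
    have := hpp.two_le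
    omega
  obtain ⟨d', b, hd'ev, hb13, hsum, hd'1⟩ : ∃ d' b : ℕ, Even d' ∧ (b = 1 ∨ b = 3) ∧
      2 * d' + b = 2 * d + 1 ∧ 1 ≤ d' := by
    rcases Nat.even_or_odd d with he | ho
    · exact ⟨d, 1, he, Or.inl rfl, rfl, by omega⟩
    · obtain ⟨k, hk⟩ := ho
      exact ⟨d - 1, 3, ⟨k, by omega⟩, Or.inr rfl, by omega, by omega⟩
  have hbodd : Odd b := by
    rcases hb13 with rfl | rfl <;> decide
  have hreal : SoReal F p (Multiset.replicate d' 2) := by
    apply so_real_all p hp2 d' _ (Multiset.card_replicate _ _)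
    · intro a ha
      rw [Multiset.eq_of_mem_replicate ha]
      omega
    · intro a hae
      rw [Multiset.count_replicate]
      split_ifs
      · exact hd'ev
      · exact Even.zero
    · rw [Multiset.sum_replicate, smul_eq_mul]
      exact ⟨d', by ring⟩
  have hsingle : SoSingle F p b := so_single p hp2 b (by omega) (by omega) hbodd
  obtain ⟨g, hgΩ, hgp, hgker⟩ := sr_real_unip p hp2 d (by omega) (Multiset.replicate d' 2) b hreal
    (fun a ha => by rw [Multiset.eq_of_mem_replicate ha]; omega) hsingle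
    (by rw [Multiset.sum_replicate, smul_eq_mul]; omega)
  have hg1 : g ≠ 1 := by
    intro h1
    have h3 := hgker 1
    rw [h1, pow_one] at h3
    have h4 : (Matrix.toLin' ((1 : GL (Unit ⊕ (Fin d ⊕ Fin d)) F) :
        Matrix (Unit ⊕ (Fin d ⊕ Fin d)) (Unit ⊕ (Fin d ⊕ Fin d)) F) - 1) = 0 := by
      rw [Units.val_one, Matrix.toLin'_one]
      exact sub_self _
    rw [h4, LinearMap.ker_zero, finrank_top, srf_dim, Multiset.map_add, Multiset.sum_add,
      Multiset.map_replicate, Multiset.sum_replicate, Multiset.map_singleton,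
      Multiset.sum_singleton, smul_eq_mul] at h3
    have h5 : min 1 2 = 1 := rfl
    have h6 : min 1 b ≤ 1 := min_le_left _ _
    rw [h5] at h3
    omega
  refine ⟨g, hgΩ, orderOf_eq_prime hgp hg1, ?_⟩
  intro W hWev hWnd hWinv
  obtain ⟨T, hTdef⟩ : ∃ T : Module.End F (Unit ⊕ (Fin d ⊕ Fin d) → F), T = Matrix.toLin'
      (g : Matrix (Unit ⊕ (Fin d ⊕ Fin d)) (Unit ⊕ (Fin d ⊕ Fin d)) F) := ⟨_, rfl⟩
  rw [← hTdef] at hgker hWinv
  have hTp : T ^ p = 1 := by
    rw [hTdef]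
    exact srf_pow d g p hgp
  have hQg : ∀ v, oddForm d F (T v) = oddForm d F v := by
    rw [hTdef]
    exact srf_iso d g hgΩ
  have hTT' : T * T ^ (p - 1) = 1 := by
    rw [← pow_succ', Nat.sub_add_cancel hpp.one_le, hTp]
  have hT'T : T ^ (p - 1) * T = 1 := by
    rw [← pow_succ, Nat.sub_add_cancel hpp.one_le, hTp]
  obtain ⟨ω₀, hω₀⟩ : ∃ ω₀ : (Unit ⊕ (Fin d ⊕ Fin d) → F) →ₗ[F]
      (Unit ⊕ (Fin d ⊕ Fin d) → F) →ₗ[F] F,
      ω₀ = QuadraticMap.polarBilin (oddForm d F) := ⟨_, rfl⟩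
  have hω₀a : ∀ u v, ω₀ u v = QuadraticMap.polar (oddForm d F) u v := by
    intro u v
    rw [hω₀, QuadraticMap.polarBilin_apply_apply]
  have hsym₀ : ∀ u v, ω₀ u v = ω₀ v u := by
    intro u v
    rw [hω₀a, hω₀a, QuadraticMap.polar_comm]
  have hnd₀ : ∀ v, (∀ w, ω₀ v w = 0) → v = 0 := by
    intro v hv
    apply srf_nd h2 d v
    intro w
    rw [← hω₀a]
    exact hv w
  have hiso₀ : ∀ u v, ω₀ (T u) (T v) = ω₀ u v := by
    rw [hω₀]
    exact sr_iso_bilin (oddForm d F) T hQg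
  have hWnd' : SpNd ω₀ W := by
    rw [hω₀]
    exact (srf_ndOn d W).mp hWnd
  have hWinv' : ∀ w ∈ W, T w ∈ W := fun w hw => hWinv (Submodule.mem_map_of_mem hw)
  have hμpos : ∀ a ∈ Multiset.replicate d' 2 + {b}, 0 < a := by
    intro a ha
    rcases Multiset.mem_add.mp ha with h | h
    · rw [Multiset.eq_of_mem_replicate h]
      omega
    · rw [Multiset.mem_singleton.mp h]
      omega
  obtain ⟨ν, hν1, hν2, hν3, hν4⟩ := so_type_sub' ω₀ hsym₀ hnd₀ h2 T hiso₀ p hTp _ hμpos hgker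
    W hWnd' hWinv'
  rw [add_comm, Multiset.singleton_add] at hν1
  have hall2 : ∀ c ∈ ν, c = 2 := by
    by_cases hbν : b ∈ ν
    · exfalso
      have h5 : ν.erase b ≤ Multiset.replicate d' 2 := by
        have h6 := Multiset.erase_le_erase b hν1
        rwa [Multiset.erase_cons_head] at h6
      have h6 : ν.erase b = Multiset.replicate (Multiset.card (ν.erase b)) 2 :=
        Multiset.eq_replicate_card.mpr
          (fun c hc => Multiset.eq_of_mem_replicate (Multiset.mem_of_le h5 hc))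
      have h7 : ν.sum = b + (ν.erase b).sum := by
        rw [← Multiset.sum_cons, Multiset.cons_erase hbν]
      rw [h6, Multiset.sum_replicate, smul_eq_mul, hν2] at h7
      obtain ⟨k, hk⟩ := hWev
      rcases hb13 with rfl | rfl <;> omega
    · intro c hc
      have h5 : ν ≤ Multiset.replicate d' 2 := (Multiset.le_cons_of_notMem hbν).mp hν1
      exact Multiset.eq_of_mem_replicate (Multiset.mem_of_le h5 hc)
  obtain ⟨n, hn⟩ : ∃ n, n = Multiset.card ν := ⟨_, rfl⟩
  have hrep : ν = Multiset.replicate n 2 := by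
    rw [hn]
    exact Multiset.eq_replicate_card.mpr hall2
  have hk1 : finrank F ↥(LinearMap.ker (T - 1) ⊓ W) = n := by
    have h3 := hν4 1
    rw [pow_one, hrep, Multiset.map_replicate, Multiset.sum_replicate, smul_eq_mul] at h3
    rw [h3]
    norm_num
  have hk2 : finrank F ↥(LinearMap.ker ((T - 1) ^ (2 : ℕ)) ⊓ W) = 2 * n := by
    have h3 := hν4 2
    rw [hrep, Multiset.map_replicate, Multiset.sum_replicate, smul_eq_mul] at h3
    rw [h3]
    norm_num
    ring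
  have hWn : finrank F W = 2 * n := by
    rw [← hν2, hrep, Multiset.sum_replicate, smul_eq_mul]
    ring
  have hW2 : ∀ w ∈ W, ((T - 1) ^ (2 : ℕ)) w = 0 := by
    have hle : LinearMap.ker ((T - 1) ^ (2 : ℕ)) ⊓ W = W :=
      Submodule.eq_of_le_of_finrank_eq inf_le_right (by rw [hk2, hWn])
    intro w hw
    have h3 : w ∈ LinearMap.ker ((T - 1) ^ (2 : ℕ)) ⊓ W := by
      rw [hle]
      exact hw
    exact LinearMap.mem_ker.mp (Submodule.mem_inf.mp h3).1
  obtain ⟨U, hUW, hUti, hUdim⟩ := so_half_ts ω₀ T (T ^ (p - 1)) hiso₀ hTT' hT'T W hWinv'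
    (by rw [hk1, hWn]) hW2
  refine ⟨U, hUW, ?_, hUdim⟩
  intro w hw
  have h3 := hUti w hw w hw
  rw [hω₀a, QuadraticMap.polar_self, two_nsmul] at h3
  have h4 : 2 * oddForm d F w = 0 := by linear_combination h3
  exact (mul_eq_zero.mp h4).resolve_left h2

end srf1

section srf2

variable {F : Type u} [Field F] [Fintype F]

variable (p f' : ℕ) [Fact p.Prime] (hF : Fintype.card F = p ^ f') (r : ℕ) [Fact r.Prime]
  (hpr : p.Coprime r) (hr2 : r ≠ 2)
  (i c : ℕ) (hi : i = orderOf ((Fintype.card F : ℕ) : ZMod r))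
  (hc : c = if Even i then i else 2 * i)

omit [Field F] [Fintype F] in
theorem srf_neg_one_ne (r : ℕ) [Fact r.Prime] (hr2 : r ≠ 2) : (-1 : ZMod r) ≠ 1 := by
  have hr : r.Prime := Fact.out
  intro h
  have h3 : ((2 : ℕ) : ZMod r) = 0 := by
    push_cast
    linear_combination (-1 : ZMod r) * h
  have h4 := (ZMod.natCast_eq_zero_iff 2 r).mp h3
  exact hr2 ((Nat.prime_dvd_prime_iff_eq hr Nat.prime_two).mp h4)

include hF hpr hr2 hi hc

theorem srf_i_pos : 1 ≤ i := by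
  rw [hi]
  exact sp_order_pos r (el_card_ne_zero p f' hF r hpr)

theorem srf_c_pos : 1 ≤ c := by
  have hi1 := srf_i_pos p f' hF r hpr hr2 i c hi hc
  rw [hc]
  split_ifs with h
  · exact hi1
  · omega

theorem srf_pow_odd (hodd : Odd i) (b : ℕ) :
    ((Fintype.card F : ℕ) : ZMod r) ^ (c * b / 2) = 1 := by
  have hc2 : c = 2 * i := by rw [hc, if_neg (Nat.not_even_iff_odd.mpr hodd)]
  have h3 : c * b / 2 = i * b := by
    rw [hc2, mul_assoc, Nat.mul_div_cancel_left _ (by norm_num)]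
  rw [h3, pow_mul, hi, pow_orderOf_eq_one, one_pow]

theorem srf_pow_even (hev : Even i) (b : ℕ) :
    ((Fintype.card F : ℕ) : ZMod r) ^ (c * b / 2) = (-1) ^ b := by
  have hr : r.Prime := Fact.out
  have hi1 := srf_i_pos p f' hF r hpr hr2 i c hi hc
  have hc2 : c = i := by rw [hc, if_pos hev]
  obtain ⟨m, hm⟩ := sp_half_pow r (Fintype.card F) i hi hi1 hev
  obtain ⟨k, hk⟩ := hev
  have h3 : c * b / 2 = (i / 2) * b := by
    have h4 : i / 2 = k := by omega
    have h5 : c * b = 2 * (k * b) := by rw [hc2, hk]; ring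
    rw [h4, h5, Nat.mul_div_cancel_left _ (by norm_num)]
  rw [h3, pow_mul]
  congr 1
  have h1 : (((Fintype.card F) ^ (i / 2) : ℕ) : ZMod r) = ((r * m + (r - 1) : ℕ) : ZMod r) := by
    rw [hm]
  rw [Nat.cast_pow] at h1
  rw [h1, Nat.cast_add, Nat.cast_mul, ZMod.natCast_self, zero_mul, zero_add,
    Nat.cast_sub hr.one_le, ZMod.natCast_self, Nat.cast_one, zero_sub]

theorem srf_third_plus (m : ℕ) (h0 : m % c = 0) :
    ((1 : ℤ) : ZMod r) * ((Fintype.card F : ℕ) : ZMod r) ^ (m / 2) = 1 ↔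
      (Odd i ∨ Even (m / c)) := by
  have hc1 := srf_c_pos p f' hF r hpr hr2 i c hi hc
  have hne := srf_neg_one_ne r hr2
  obtain ⟨μ, rfl⟩ : ∃ μ, m = c * μ :=
    ⟨m / c, (Nat.mul_div_cancel' (Nat.dvd_of_mod_eq_zero h0)).symm⟩
  rw [Int.cast_one, one_mul, Nat.mul_div_cancel_left μ (by omega)]
  by_cases hev : Even i
  · rw [srf_pow_even p f' hF r hpr hr2 i c hi hc hev μ]
    constructor
    · intro h
      right
      by_contra hodd
      rw [Nat.not_even_iff_odd] at hodd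
      rw [hodd.neg_one_pow] at h
      exact hne h
    · rintro (ho | he)
      · exact absurd hev (Nat.not_even_iff_odd.mpr ho)
      · exact he.neg_one_pow
  · have hio := Nat.not_even_iff_odd.mp hev
    rw [srf_pow_odd p f' hF r hpr hr2 i c hi hc hio μ]
    exact ⟨fun _ => Or.inl hio, fun _ => rfl⟩

theorem srf_third_minus (m : ℕ) (h0 : m % c = 0) :
    ((-1 : ℤ) : ZMod r) * ((Fintype.card F : ℕ) : ZMod r) ^ (m / 2) = 1 ↔
      (Even i ∧ Odd (m / c)) := by
  have hc1 := srf_c_pos p f' hF r hpr hr2 i c hi hc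
  have hne := srf_neg_one_ne r hr2
  obtain ⟨μ, rfl⟩ : ∃ μ, m = c * μ :=
    ⟨m / c, (Nat.mul_div_cancel' (Nat.dvd_of_mod_eq_zero h0)).symm⟩
  rw [Int.cast_neg, Int.cast_one, Nat.mul_div_cancel_left μ (by omega)]
  by_cases hev : Even i
  · rw [srf_pow_even p f' hF r hpr hr2 i c hi hc hev μ]
    constructor
    · intro h
      refine ⟨hev, ?_⟩
      by_contra hodd
      rw [Nat.not_odd_iff_even] at hodd
      rw [hodd.neg_one_pow, mul_one] at h
      exact hne h
    · rintro ⟨-, ho⟩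
      rw [ho.neg_one_pow, neg_mul_neg, one_mul]
  · have hio := Nat.not_even_iff_odd.mp hev
    rw [srf_pow_odd p f' hF r hpr hr2 i c hi hc hio μ, mul_one]
    constructor
    · intro h
      exact absurd h hne
    · rintro ⟨he, -⟩
      exact absurd he hev

theorem srf_s_pos (d : ℕ) : 0 < (2 * d + 1) % c := by
  have hcev : Even c := sr_c_even p f' hF r hpr hr2 i c hi hc
  by_contra h
  have h0 : (2 * d + 1) % c = 0 := by omega
  have h3 := Nat.dvd_of_mod_eq_zero h0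
  have h4 : 2 ∣ 2 * d + 1 := (even_iff_two_dvd.mp hcev).trans h3
  omega

/-- The unified criterion for elements of odd prime order `r ≠ p` of `Ω_{2d+1}(q)`. -/
theorem srf_main (h2 : (2 : F) ≠ 0) (d m : ℕ) (hd : 1 ≤ d) (hm : 2 ≤ m) (hme : Even m)
    (hmn : m ≤ 2 * d) (ε : ℤ) (hε : ε = 1 ∨ ε = -1)
    (P : Submodule F (Unit ⊕ (Fin d ⊕ Fin d) → F) → Prop)
    (hP : ∀ W : Submodule F (Unit ⊕ (Fin d ⊕ Fin d) → F), finrank F W = m →
      (P W ↔ (SpNd (QuadraticMap.polarBilin (oddForm d F)) W ∧ SrTy (oddForm d F) W ε)))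
    (hrΩ : r ∣ Nat.card {W : Submodule F (Unit ⊕ (Fin d ⊕ Fin d) → F) //
      finrank F W = m ∧ P W}) :
    (∀ x : GL (Unit ⊕ (Fin d ⊕ Fin d)) F, x ∈ Cfsg.Geo.omegaGL (Cfsg.quadFormOdd d F) →
      orderOf x = r → ∃ W : Submodule F (Unit ⊕ (Fin d ⊕ Fin d) → F),
        (finrank F W = m ∧ P W) ∧
        W.map (Matrix.toLin'
          (x : Matrix (Unit ⊕ (Fin d ⊕ Fin d)) (Unit ⊕ (Fin d ⊕ Fin d)) F)) ≤ W) ↔
    (c ≤ m ∧ m % c < (2 * d + 1) % c ∧
      (m % c = 0 → ((ε : ℤ) : ZMod r) * ((Fintype.card F : ℕ) : ZMod r) ^ (m / 2) = 1)) := by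
  classical
  have hr : r.Prime := Fact.out
  have hq0 := el_card_ne_zero p f' hF r hpr
  have hrF := el_natCast_ne_zero (F := F) p f' hF r hpr
  have hcev : Even c := sr_c_even p f' hF r hpr hr2 i c hi hc
  have hc1 := srf_c_pos p f' hF r hpr hr2 i c hi hc
  obtain ⟨e, he⟩ := hcev
  obtain ⟨m', hm'⟩ := hme
  have hnd := srf_nd h2 d
  have hdimV : finrank F (Unit ⊕ (Fin d ⊕ Fin d) → F) = 2 * d + 1 := srf_dim d
  obtain ⟨A, hA⟩ : ∃ A, A = (2 * d + 1) / c := ⟨_, rfl⟩
  obtain ⟨s, hs⟩ : ∃ s, s = (2 * d + 1) % c := ⟨_, rfl⟩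
  have hdiv : c * A + s = 2 * d + 1 := by
    rw [hA, hs]
    exact Nat.div_add_mod _ _
  have hsc : s < c := by
    rw [hs]
    exact Nat.mod_lt _ (by omega)
  obtain ⟨μ, hμ⟩ : ∃ μ, μ = m / c := ⟨_, rfl⟩
  obtain ⟨ρ, hρ⟩ : ∃ ρ, ρ = m % c := ⟨_, rfl⟩
  have hdivm : c * μ + ρ = m := by
    rw [hμ, hρ]
    exact Nat.div_add_mod _ _
  have hρc : ρ < c := by
    rw [hρ]
    exact Nat.mod_lt _ (by omega)
  rw [← hs, ← hρ]
  have hsodd : s % 2 = 1 := by
    have h5 : c * A = 2 * (e * A) := by rw [he]; ring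
    omega
  have hρev : ρ % 2 = 0 := by
    have h5 : c * μ = 2 * (e * μ) := by rw [he]; ring
    omega
  constructor
  · intro H
    by_cases hN3 : m < c ∧ m < s
    · exfalso
      have hcard : Nat.card {W : Submodule F (Unit ⊕ (Fin d ⊕ Fin d) → F) //
          finrank F W = m ∧ SpNd (QuadraticMap.polarBilin (oddForm d F)) W ∧
          SrTy (oddForm d F) W ε} =
          Nat.card {W : Submodule F (Unit ⊕ (Fin d ⊕ Fin d) → F) // finrank F W = m ∧ P W} :=
        Nat.card_congr (Equiv.subtypeEquivRight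
          (fun W => and_congr_right (fun h => (hP W h).symm)))
      have h3 := sr_count h2 p f' hF r hpr hr2 i c hi hc ε hε m ⟨m', hm'⟩ hm hN3.1 (2 * d + 1)
        (Unit ⊕ (Fin d ⊕ Fin d) → F) (oddForm d F) hnd hdimV ⟨d, rfl⟩
        (by rw [hcard]; exact hrΩ)
      rw [← hs] at h3
      omega
    · have hsm : s ≤ m := by omega
      obtain ⟨g, hgΩ, hgr, hgker⟩ := sr_real h2 p f' hF r hpr hr2 i c hi hc d hd
      rw [← hs] at hgker
      have hg1 : g ≠ 1 := by
        intro h1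
        rw [h1] at hgker
        have h4 : (Matrix.toLin' ((1 : GL (Unit ⊕ (Fin d ⊕ Fin d)) F) :
            Matrix (Unit ⊕ (Fin d ⊕ Fin d)) (Unit ⊕ (Fin d ⊕ Fin d)) F) - 1) = 0 := by
          rw [Units.val_one, Matrix.toLin'_one]
          exact sub_self _
        rw [h4, LinearMap.ker_zero, finrank_top, hdimV] at hgker
        omega
      have hgord : orderOf g = r := orderOf_eq_prime hgr hg1
      obtain ⟨W, ⟨hWdim, hWP⟩, hWinv⟩ := H g hgΩ hgord
      obtain ⟨hWnd, hWty⟩ := (hP W hWdim).mp hWP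
      obtain ⟨T, hTdef⟩ : ∃ T : Module.End F (Unit ⊕ (Fin d ⊕ Fin d) → F), T = Matrix.toLin'
          (g : Matrix (Unit ⊕ (Fin d ⊕ Fin d)) (Unit ⊕ (Fin d ⊕ Fin d)) F) := ⟨_, rfl⟩
      rw [← hTdef] at hgker hWinv
      have hT : ∀ v, oddForm d F (T v) = oddForm d F v := by
        rw [hTdef]
        exact srf_iso d g hgΩ
      have hTr : T ^ r = 1 := by
        rw [hTdef]
        exact srf_pow d g r hgr
      have hWinv' : ∀ w ∈ W, T w ∈ W := fun w hw => hWinv (Submodule.mem_map_of_mem hw)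
      obtain ⟨a, b, hab, hak, hzero⟩ := sr_nec (oddForm d F) hnd T hT p f' hF r hpr hr2 hTr i c
        hi hc W hWnd hWinv'
      rw [hWdim] at hab hzero
      rw [hgker] at hak
      have haρ : a = ρ := by
        have h5 : (a + c * b) % c = a := by
          rw [Nat.add_mul_mod_self_left]
          exact Nat.mod_eq_of_lt (by omega)
        rw [hab] at h5
        rw [hρ, h5]
      have hρs : ρ < s := by omega
      have hcm : c ≤ m := by
        by_contra hlt
        have hlt' : m < c := by omega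
        have h5 : ρ = m := by
          rw [hρ]
          exact Nat.mod_eq_of_lt hlt'
        exact hN3 ⟨hlt', by omega⟩
      refine ⟨hcm, hρs, ?_⟩
      intro hρ0
      exact hzero (by omega) ε hε hWty ⟨m', hm'⟩
  · rintro ⟨hcm, hρs, hthird⟩ x hx hord
    obtain ⟨T, hTdef⟩ : ∃ T : Module.End F (Unit ⊕ (Fin d ⊕ Fin d) → F), T = Matrix.toLin'
        (x : Matrix (Unit ⊕ (Fin d ⊕ Fin d)) (Unit ⊕ (Fin d ⊕ Fin d)) F) := ⟨_, rfl⟩
    rw [← hTdef]
    have hxr : x ^ r = 1 := by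
      rw [← hord]
      exact pow_orderOf_eq_one x
    have hT : ∀ v, oddForm d F (T v) = oddForm d F v := by
      rw [hTdef]
      exact srf_iso d x hx
    have hTr : T ^ r = 1 := by
      rw [hTdef]
      exact srf_pow d x r hxr
    have hKR := sr_KR_bot T r hTr hrF
    have hRnd := sr_R_nd (oddForm d F) hnd T hT r hTr hrF
    have hRinv := sr_R_inv T
    obtain ⟨a₀, ha₀⟩ := sr_dvd (oddForm d F) hnd T hT p f' hF r hpr hr2 hTr i c hi hc
      (LinearMap.range (T - 1)) hRnd hRinv hKR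
    have hrn := LinearMap.finrank_range_add_finrank_ker (T - 1)
    rw [hdimV, ha₀] at hrn
    obtain ⟨kK, hkK⟩ : ∃ kK, kK = finrank F (LinearMap.ker (T - 1)) := ⟨_, rfl⟩
    rw [← hkK] at hrn
    have hskK : s ≤ kK := by
      have h5 : (kK + c * a₀) % c = kK % c := Nat.add_mul_mod_self_left _ _ _
      have h6 : kK + c * a₀ = 2 * d + 1 := by omega
      rw [h6, ← hs] at h5
      rw [h5]
      exact Nat.mod_le _ _
    have key : ∃ b, c * b ≤ finrank F (LinearMap.range (T - 1)) ∧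
        ((m = c * b ∧ ((ε : ℤ) : ZMod r) * ((Fintype.card F : ℕ) : ZMod r) ^ (m / 2) = 1) ∨
        (c * b < m ∧ m - c * b + 1 ≤ finrank F (LinearMap.ker (T - 1)))) := by
      rw [ha₀, ← hkK]
      by_cases hle : μ ≤ a₀
      · refine ⟨μ, Nat.mul_le_mul_left c hle, ?_⟩
        by_cases hρ0 : ρ = 0
        · left
          exact ⟨by omega, hthird hρ0⟩
        · right
          constructor <;> omega
      · refine ⟨a₀, le_rfl, ?_⟩
        right
        have h5 : c * a₀ < c * μ := (Nat.mul_lt_mul_left (by omega : 0 < c)).mpr (by omega)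
        constructor <;> omega
    obtain ⟨b, hb, hcase⟩ := key
    obtain ⟨W, hWdim, hWnd, hWinv, hWty⟩ := sr_suff (oddForm d F) hnd T hT p f' hF r hpr hr2 hTr
      i c hi hc h2 ε hε m b ⟨m', hm'⟩ hb hcase
    refine ⟨W, ⟨hWdim, (hP W hWdim).mpr ⟨hWnd, hWty⟩⟩, ?_⟩
    rintro _ ⟨w, hw, rfl⟩
    exact hWinv w hw

end srf2

section srf3

variable {F : Type u} [Field F] [Fintype F]

/-- `Ω_{2d+1}(q)` on nondegenerate `m`-spaces of plus type: elements of prime order `r ≠ p`. -/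
theorem srf_plus_main {p : ℕ} [Fact p.Prime] [CharP F p] (hqodd : Odd (Fintype.card F))
    (d m : ℕ) (hd : 3 ≤ d) (hm : 2 ≤ m) (hme : Even m) (hmn : m ≤ 2 * d)
    (r : ℕ) [Fact r.Prime] (hrp : r ≠ p)
    (hrΩ : r ∣ Nat.card {W : Submodule F (Unit ⊕ (Fin d ⊕ Fin d) → F) //
      Module.finrank F ↥W = m ∧
      Cfsg.Geo.IsNondegenerateOn (QuadraticMap.polar (Cfsg.quadFormOdd d F)) W ∧
      Cfsg.Geo.IsPlusTypeOn (Cfsg.quadFormOdd d F) W})
    (i c : ℕ) (hi : i = orderOf ((Fintype.card F : ℕ) : ZMod r))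
    (hc : c = if Even i then i else 2 * i) :
    (∀ x : GL (Unit ⊕ (Fin d ⊕ Fin d)) F, x ∈ Cfsg.Geo.omegaGL (Cfsg.quadFormOdd d F) →
      orderOf x = r →
      ∃ W : Submodule F (Unit ⊕ (Fin d ⊕ Fin d) → F), (Module.finrank F ↥W = m ∧
        Cfsg.Geo.IsNondegenerateOn (QuadraticMap.polar (Cfsg.quadFormOdd d F)) W ∧
        Cfsg.Geo.IsPlusTypeOn (Cfsg.quadFormOdd d F) W) ∧
        W.map (Matrix.toLin'
          (x : Matrix (Unit ⊕ (Fin d ⊕ Fin d)) (Unit ⊕ (Fin d ⊕ Fin d)) F)) ≤ W) ↔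
    (r = 2 ∨
     (2 < r ∧ Odd i ∧ c ≤ m ∧ (m % c = 0 ∨ (0 < m % c ∧ m % c < (2 * d + 1) % c))) ∨
     (2 < r ∧ Even i ∧ i ≤ m ∧ m % c < (2 * d + 1) % c ∧ (0 < m % c ∨ Even (m / i)))) := by
  have hpp : p.Prime := Fact.out
  have hr : r.Prime := Fact.out
  have hp2 : p ≠ 2 := by
    rintro rfl
    have h1 : ((Fintype.card F : ℕ) : F) = 0 := Nat.cast_card_eq_zero F
    rw [CharP.cast_eq_zero_iff F 2] at h1
    exact (Nat.not_even_iff_odd.mpr hqodd) (even_iff_two_dvd.mpr h1)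
  have h2 : (2 : F) ≠ 0 := sq_two_ne p hp2
  obtain ⟨f'', -, hF⟩ := FiniteField.card F p
  by_cases hr2 : r = 2
  · refine ⟨fun _ => Or.inl hr2, fun _ => ?_⟩
    intro x hx hord
    have hx2 : x ^ 2 = 1 := by
      rw [← hr2, ← hord]
      exact pow_orderOf_eq_one x
    obtain ⟨W, ⟨hWdim, hWnd, hWty⟩, hWinv⟩ :=
      srf_inv h2 d m (by omega) hme hmn 1 (Or.inl rfl) (fun _ => hm) x hx hx2
    exact ⟨W, ⟨hWdim, (srf_plus_iff h2 d W (by rw [hWdim]; exact hme)).mpr ⟨hWnd, hWty⟩⟩, hWinv⟩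
  · have hpr : p.Coprime r := (Nat.coprime_primes hpp hr).mpr (Ne.symm hrp)
    have hr3 : 2 < r := by
      have := hr.two_le
      omega
    have key := srf_main p (f'' : ℕ) hF r hpr hr2 i c hi hc h2 d m (by omega) hm hme hmn 1
      (Or.inl rfl)
      (fun W => Cfsg.Geo.IsNondegenerateOn (QuadraticMap.polar (Cfsg.quadFormOdd d F)) W ∧
        Cfsg.Geo.IsPlusTypeOn (Cfsg.quadFormOdd d F) W)
      (fun W hW => srf_plus_iff h2 d W (by rw [hW]; exact hme)) hrΩ
    refine key.trans ?_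
    have h3 : (m % c = 0 → ((1 : ℤ) : ZMod r) * ((Fintype.card F : ℕ) : ZMod r) ^ (m / 2) = 1) ↔
        (m % c = 0 → (Odd i ∨ Even (m / c))) :=
      imp_congr_right (fun h0 => srf_third_plus p (f'' : ℕ) hF r hpr hr2 i c hi hc m h0)
    rw [h3]
    have hs0 := srf_s_pos p (f'' : ℕ) hF r hpr hr2 i c hi hc d
    by_cases hev : Even i
    · rw [if_pos hev] at hc
      subst hc
      have hno : ¬ Odd c := Nat.not_odd_iff_even.mpr hev
      constructor
      · rintro ⟨h1, h4, h5⟩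
        right
        right
        refine ⟨hr3, hev, h1, h4, ?_⟩
        by_cases h0 : m % c = 0
        · right
          exact (h5 h0).resolve_left hno
        · left
          omega
      · rintro (h | ⟨-, ho, -⟩ | ⟨-, -, h1, h4, h5⟩)
        · exact absurd h hr2
        · exact absurd ho hno
        · exact ⟨h1, h4, fun h0 => Or.inr (h5.resolve_left (by omega))⟩
    · have hio : Odd i := Nat.not_even_iff_odd.mp hev
      constructor
      · rintro ⟨h1, h4, -⟩
        right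
        left
        refine ⟨hr3, hio, h1, ?_⟩
        by_cases h0 : m % c = 0
        · left
          exact h0
        · right
          exact ⟨by omega, h4⟩
      · rintro (h | ⟨-, -, h1, h4⟩ | ⟨-, he, -⟩)
        · exact absurd h hr2
        · refine ⟨h1, ?_, fun _ => Or.inl hio⟩
          rcases h4 with h0 | ⟨-, h5⟩
          · rw [h0]
            exact hs0
          · exact h5
        · exact absurd he hev

/-- `Ω_{2d+1}(q)` on nondegenerate `m`-spaces of minus type: elements of prime order `r`. -/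
theorem srf_minus_main {p : ℕ} [Fact p.Prime] [CharP F p] (hqodd : Odd (Fintype.card F))
    (d m : ℕ) (hd : 3 ≤ d) (hm : 2 ≤ m) (hme : Even m) (hmn : m ≤ 2 * d)
    (r : ℕ) [Fact r.Prime]
    (hrΩ : r ∣ Nat.card {W : Submodule F (Unit ⊕ (Fin d ⊕ Fin d) → F) //
      Module.finrank F ↥W = m ∧
      Cfsg.Geo.IsNondegenerateOn (QuadraticMap.polar (Cfsg.quadFormOdd d F)) W ∧
      ¬ Cfsg.Geo.IsPlusTypeOn (Cfsg.quadFormOdd d F) W})
    (i c : ℕ) (hi : i = orderOf ((Fintype.card F : ℕ) : ZMod r))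
    (hc : c = if Even i then i else 2 * i) :
    (∀ x : GL (Unit ⊕ (Fin d ⊕ Fin d)) F, x ∈ Cfsg.Geo.omegaGL (Cfsg.quadFormOdd d F) →
      orderOf x = r →
      ∃ W : Submodule F (Unit ⊕ (Fin d ⊕ Fin d) → F), (Module.finrank F ↥W = m ∧
        Cfsg.Geo.IsNondegenerateOn (QuadraticMap.polar (Cfsg.quadFormOdd d F)) W ∧
        ¬ Cfsg.Geo.IsPlusTypeOn (Cfsg.quadFormOdd d F) W) ∧
        W.map (Matrix.toLin'
          (x : Matrix (Unit ⊕ (Fin d ⊕ Fin d)) (Unit ⊕ (Fin d ⊕ Fin d)) F)) ≤ W) ↔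
    (r = 2 ∨
     (r ≠ p ∧ 2 < r ∧ Odd i ∧ c ≤ m ∧ 0 < m % c ∧ m % c < (2 * d + 1) % c) ∨
     (r ≠ p ∧ 2 < r ∧ Even i ∧ i ≤ m ∧ m % c < (2 * d + 1) % c ∧
       (0 < m % c ∨ Odd (m / i)))) := by
  have hpp : p.Prime := Fact.out
  have hr : r.Prime := Fact.out
  have hp2 : p ≠ 2 := by
    rintro rfl
    have h1 : ((Fintype.card F : ℕ) : F) = 0 := Nat.cast_card_eq_zero F
    rw [CharP.cast_eq_zero_iff F 2] at h1
    exact (Nat.not_even_iff_odd.mpr hqodd) (even_iff_two_dvd.mpr h1)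
  have h2 : (2 : F) ≠ 0 := sq_two_ne p hp2
  obtain ⟨f'', -, hF⟩ := FiniteField.card F p
  by_cases hr2 : r = 2
  · refine ⟨fun _ => Or.inl hr2, fun _ => ?_⟩
    intro x hx hord
    have hx2 : x ^ 2 = 1 := by
      rw [← hr2, ← hord]
      exact pow_orderOf_eq_one x
    obtain ⟨W, ⟨hWdim, hWnd, hWty⟩, hWinv⟩ :=
      srf_inv h2 d m (by omega) hme hmn (-1) (Or.inr rfl) (fun _ => hm) x hx hx2
    exact ⟨W, ⟨hWdim, (srf_minus_iff h2 d W (by rw [hWdim]; exact hme)).mpr ⟨hWnd, hWty⟩⟩, hWinv⟩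
  by_cases hrp : r = p
  · constructor
    · intro H
      exfalso
      obtain ⟨g, hgΩ, hgord, hg⟩ := srf_unip (F := F) p hp2 d (by omega)
      obtain ⟨W, ⟨hWdim, hWnd, hWnp⟩, hWinv⟩ := H g hgΩ (by rw [hgord, hrp])
      exact hWnp (hg W (by rw [hWdim]; exact hme) hWnd hWinv)
    · rintro (h | ⟨h, -⟩ | ⟨h, -⟩)
      · exact absurd h hr2
      · exact absurd hrp h
      · exact absurd hrp h
  · have hpr : p.Coprime r := (Nat.coprime_primes hpp hr).mpr (Ne.symm hrp)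
    have hr3 : 2 < r := by
      have := hr.two_le
      omega
    have key := srf_main p (f'' : ℕ) hF r hpr hr2 i c hi hc h2 d m (by omega) hm hme hmn (-1)
      (Or.inr rfl)
      (fun W => Cfsg.Geo.IsNondegenerateOn (QuadraticMap.polar (Cfsg.quadFormOdd d F)) W ∧
        ¬ Cfsg.Geo.IsPlusTypeOn (Cfsg.quadFormOdd d F) W)
      (fun W hW => srf_minus_iff h2 d W (by rw [hW]; exact hme)) hrΩ
    refine key.trans ?_
    have h3 : (m % c = 0 → ((-1 : ℤ) : ZMod r) * ((Fintype.card F : ℕ) : ZMod r) ^ (m / 2) = 1) ↔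
        (m % c = 0 → (Even i ∧ Odd (m / c))) :=
      imp_congr_right (fun h0 => srf_third_minus p (f'' : ℕ) hF r hpr hr2 i c hi hc m h0)
    rw [h3]
    by_cases hev : Even i
    · rw [if_pos hev] at hc
      subst hc
      constructor
      · rintro ⟨h1, h4, h5⟩
        right
        right
        refine ⟨hrp, hr3, hev, h1, h4, ?_⟩
        by_cases h0 : m % c = 0
        · right
          exact (h5 h0).2
        · left
          omega
      · rintro (h | ⟨-, -, ho, -⟩ | ⟨-, -, -, h1, h4, h5⟩)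
        · exact absurd h hr2
        · exact absurd hev (Nat.not_even_iff_odd.mpr ho)
        · exact ⟨h1, h4, fun h0 => ⟨hev, h5.resolve_left (by omega)⟩⟩
    · have hio : Odd i := Nat.not_even_iff_odd.mp hev
      constructor
      · rintro ⟨h1, h4, h5⟩
        right
        left
        refine ⟨hrp, hr3, hio, h1, ?_, h4⟩
        by_contra h0'
        have h0 : m % c = 0 := by omega
        exact hev (h5 h0).1
      · rintro (h | ⟨-, -, -, h1, h0, h4⟩ | ⟨-, -, he, -⟩)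
        · exact absurd h hr2
        · exact ⟨h1, h4, fun h => absurd h (by omega)⟩
        · exact absurd he hev

end srf3

end Cfsg.Agent.Lib.helper24
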