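import Mathlib
import Cfsg.Agent.Lib.helper24.SrF

/-! Isometry classes of subspaces of quadratic spaces (shared definitions for the S5989 split). -/

set_option autoImplicit false
set_option linter.unusedSectionVars false
set_option linter.unusedVariables false

namespace Cfsg.Agent.Lib.helper24

open Module Cfsg.Agent.Lib.helper45 Cfsg.Agent.Lib.helper49

universe u

section srodefs

variable {F : Type u} [Field F]

/-- The subspace `W ≤ V` (with the form `Q`) is isometric to the subspace `W₀ ≤ V₀` (with the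
form `Q₀`). -/
def SrIsoTo {V V₀ : Type u} [AddCommGroup V] [Module F V] [AddCommGroup V₀] [Module F V₀]
    (Q : QuadraticForm F V) (W : Submodule F V) (Q₀ : QuadraticForm F V₀)
    (W₀ : Submodule F V₀) : Prop :=
  ∃ e : W ≃ₗ[F] W₀, ∀ w : W, Q₀ ((e w : W₀) : V₀) = Q (w : V)

/-- The Prelude's `AreIsometricFor` is `SrIsoTo` with the same ambient space. -/
theorem sro_areIso {ι : Type} [Fintype ι] (Q : QuadraticForm F (ι → F))
    (W W₀ : Submodule F (ι → F)) :
    Cfsg.Geo.AreIsometricFor (⇑Q) W W₀ ↔ SrIsoTo Q W Q W₀ := Iff.rfl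

/-- The Prelude's `IsNondegenerateOn` for the polar form is `SpNd`. -/
theorem sro_ndOn {ι : Type} [Fintype ι] (Q : QuadraticForm F (ι → F))
    (W : Submodule F (ι → F)) :
    Cfsg.Geo.IsNondegenerateOn (QuadraticMap.polar (⇑Q)) W ↔
      SpNd (QuadraticMap.polarBilin Q) W := by
  constructor
  · intro hWnd u hu hu2
    by_contra hu0
    obtain ⟨-, ⟨y, hy, hne⟩⟩ := hWnd u hu hu0
    apply hne
    have h3 := hu2 y hy
    rw [QuadraticMap.polarBilin_apply_apply] at h3
    exact h3
  · intro hW w hw hw0
    have h1 : ∃ x ∈ W, QuadraticMap.polar (⇑Q) w x ≠ 0 := by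
      by_contra hcon
      apply hw0
      apply hW w hw
      intro v hv
      rw [QuadraticMap.polarBilin_apply_apply]
      by_contra hne
      exact hcon ⟨v, hv, hne⟩
    obtain ⟨x, hx, hne⟩ := h1
    refine ⟨⟨x, hx, ?_⟩, ⟨x, hx, hne⟩⟩
    intro h
    apply hne
    rw [QuadraticMap.polar_comm]
    exact h

end srodefs

end Cfsg.Agent.Lib.helper24
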