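import Mathlib
import Cfsg.Agent.Lib.helper24.SroDefs

/-! Shared lemmas for the S5972 split (totally singular subspaces in `Ω_{2d+1}(q)`, `q` odd). -/

set_option autoImplicit false
set_option linter.unusedSectionVars false
set_option linter.unusedVariables false
set_option linter.style.haveILetI false

namespace Cfsg.Agent.Lib.helper24

open Module Cfsg.Agent.Lib.helper45 Cfsg.Agent.Lib.helper49

universe u

section stsdefs

variable {F : Type u} [Field F] [Fintype F]

/-- A nondegenerate subspace `K` with `2a + 1 ≤ dim K` contains a totally singular subspace of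
dimension `a`. -/
theorem sts_witt {V : Type u} [AddCommGroup V] [Module F V] [FiniteDimensional F V]
    (Q : QuadraticForm F V) (h2 : (2 : F) ≠ 0) (K : Submodule F V)
    (hK : SpNd (QuadraticMap.polarBilin Q) K) (a : ℕ) (ha : 2 * a + 1 ≤ finrank F K) :
    ∃ W : Submodule F V, W ≤ K ∧ finrank F W = a ∧ ∀ w ∈ W, Q w = 0 := by
  obtain ⟨W, hWK, hWnd, hWdim, hWty⟩ :=
    sr_exists_ty Q h2 1 (Or.inl rfl) a K hK ha (by intro h; norm_num at h)
  obtain ⟨U, hUW, hU, hUdim⟩ := sr_ty_plus Q W hWnd ⟨a, by omega⟩ hWty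
  exact ⟨U, hUW.trans hWK, by omega, hU⟩

/-- The polar form vanishes on a totally singular subspace. -/
theorem sts_ts_polar {V : Type u} [AddCommGroup V] [Module F V]
    (Q : QuadraticForm F V) (U : Submodule F V) (hU : ∀ u ∈ U, Q u = 0) :
    ∀ u ∈ U, ∀ v ∈ U, QuadraticMap.polarBilin Q u v = 0 := by
  intro u hu v hv
  rw [QuadraticMap.polarBilin_apply_apply]
  unfold QuadraticMap.polar
  rw [hU u hu, hU v hv, hU (u + v) (U.add_mem hu hv)]
  ring

/-- A totally singular subspace of a nondegenerate subspace has at most half its dimension. -/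
theorem sts_ts_half {V : Type u} [AddCommGroup V] [Module F V] [FiniteDimensional F V]
    (Q : QuadraticForm F V) (K : Submodule F V)
    (hK : SpNd (QuadraticMap.polarBilin Q) K) (U : Submodule F V) (hUK : U ≤ K)
    (hU : ∀ u ∈ U, Q u = 0) : 2 * finrank F U ≤ finrank F K :=
  sq_ti_le (QuadraticMap.polarBilin Q) K U hK hUK (sts_ts_polar Q U hU)

/-- Transfer of an isometry of odd prime order along an isometry to a standard quadratic
space, with the intertwining relation. -/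
theorem sts_transfer {ι : Type} [Fintype ι] [DecidableEq ι] (Q : QuadraticForm F (ι → F))
    (hQ : (QuadraticMap.polarBilin Q).Nondegenerate) (hι : 2 ≤ Fintype.card ι)
    (h2 : (2 : F) ≠ 0) (r : ℕ) (hr : r.Prime) (hr2 : r ≠ 2)
    {V : Type*} [AddCommGroup V] [Module F V] [FiniteDimensional F V]
    (ω : V →ₗ[F] V →ₗ[F] F) (T : Module.End F V) (hiso : ∀ v w, ω (T v) (T w) = ω v w)
    (hTr : T ^ r = 1) (φ : V ≃ₗ[F] (ι → F)) (hφ : ∀ v, 2 * Q (φ v) = ω v v) :
    ∃ g : GL ι F, g ∈ Cfsg.Geo.omegaGL ⇑Q ∧ g ^ r = 1 ∧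
      ∀ v, Matrix.toLin' (g : Matrix ι ι F) (φ v) = φ (T v) := by
  classical
  obtain ⟨T', hT'⟩ : ∃ T' : Module.End F V, T' = T ^ (r - 1) := ⟨_, rfl⟩
  have hTT' : T * T' = 1 := by rw [hT', ← pow_succ', Nat.sub_add_cancel hr.one_le, hTr]
  have hT'T : T' * T = 1 := by rw [hT', ← pow_succ, Nat.sub_add_cancel hr.one_le, hTr]
  obtain ⟨L, hL⟩ : ∃ L : Module.End F (ι → F),
      L = φ.toLinearMap ∘ₗ T ∘ₗ φ.symm.toLinearMap := ⟨_, rfl⟩
  obtain ⟨L', hL'⟩ : ∃ L' : Module.End F (ι → F),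
      L' = φ.toLinearMap ∘ₗ T' ∘ₗ φ.symm.toLinearMap := ⟨_, rfl⟩
  have hLx : ∀ x, L x = φ (T (φ.symm x)) := fun x => by rw [hL]; rfl
  have hL'x : ∀ x, L' x = φ (T' (φ.symm x)) := fun x => by rw [hL']; rfl
  have hLL' : L * L' = 1 := by
    apply LinearMap.ext
    intro x
    rw [Module.End.mul_apply, hLx, hL'x, LinearEquiv.symm_apply_apply,
      sq_inv_apply T T' hTT', LinearEquiv.apply_symm_apply, Module.End.one_apply]
  have hL'L : L' * L = 1 := by
    apply LinearMap.ext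
    intro x
    rw [Module.End.mul_apply, hLx, hL'x, LinearEquiv.symm_apply_apply,
      sq_inv_apply T' T hT'T, LinearEquiv.apply_symm_apply, Module.End.one_apply]
  obtain ⟨g, hg⟩ : ∃ g : GL ι F, (g : Matrix ι ι F) = LinearMap.toMatrix' L :=
    ⟨⟨LinearMap.toMatrix' L, LinearMap.toMatrix' L',
      by rw [← LinearMap.toMatrix'_mul, hLL', LinearMap.toMatrix'_one],
      by rw [← LinearMap.toMatrix'_mul, hL'L, LinearMap.toMatrix'_one]⟩, rfl⟩
  have hgL : Matrix.toLin' (g : Matrix ι ι F) = L := by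
    rw [hg, Matrix.toLin'_toMatrix']
  have hLφ : ∀ v, L (φ v) = φ (T v) := by
    intro v
    rw [hLx, LinearEquiv.symm_apply_apply]
  have hpowL : ∀ (m : ℕ) (v : V), (L ^ m) (φ v) = φ ((T ^ m) v) := by
    intro m
    induction m with
    | zero =>
      intro v
      simp
    | succ m ih =>
      intro v
      rw [pow_succ, Module.End.mul_apply, hLφ, ih, pow_succ, Module.End.mul_apply]
  have hLp : L ^ r = 1 := by
    apply LinearMap.ext
    intro x
    obtain ⟨v, rfl⟩ := φ.surjective x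
    rw [hpowL, hTr]
    rfl
  have hpowM : ∀ m : ℕ, (LinearMap.toMatrix' L) ^ m = LinearMap.toMatrix' (L ^ m) := by
    intro m
    induction m with
    | zero => rw [pow_zero, pow_zero, LinearMap.toMatrix'_one]
    | succ m ih => rw [pow_succ, ih, pow_succ, LinearMap.toMatrix'_mul]
  have hgp : g ^ r = 1 := by
    apply Units.ext
    rw [Units.val_pow_eq_pow_val, Units.val_one, hg, hpowM, hLp, LinearMap.toMatrix'_one]
  have key : ∀ x : ι → F, Q ((g : Matrix ι ι F).mulVec x) = Q x := by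
    intro x
    obtain ⟨v, rfl⟩ := φ.surjective x
    have h3 : (g : Matrix ι ι F).mulVec (φ v) = φ (T v) := by
      rw [← Matrix.toLin'_apply, hgL, hLφ]
    rw [h3]
    have h4 := hφ (T v)
    have h5 := hφ v
    rw [hiso] at h4
    exact mul_left_cancel₀ h2 (h4.trans h5.symm)
  have hgiso : g ∈ Cfsg.isometryGroup F ⇑Q := fun u _ => key u
  refine ⟨g, so_omega_of_odd h2 Q hQ hι r hr hr2 g hgiso hgp, hgp, fun v => ?_⟩
  rw [hgL]
  exact hLφ v

/-- Transfer of an abstract isometry of odd prime order of a `(2d+1)`-dimensional nondegenerate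
symmetric bilinear space to `Ω_{2d+1}`: an element `g`, a linear equivalence `φ` intertwining
the actions, and a similarity factor `κ ≠ 0`. -/
theorem sts_to_odd (h2 : (2 : F) ≠ 0) (r : ℕ) (hr : r.Prime) (hr2 : r ≠ 2) (d : ℕ) (hd : 1 ≤ d)
    {V : Type*} [AddCommGroup V] [Module F V] [FiniteDimensional F V]
    (ω : V →ₗ[F] V →ₗ[F] F) (hsym : ∀ u v, ω u v = ω v u)
    (hnd : ∀ v, (∀ w, ω v w = 0) → v = 0) (T : Module.End F V)
    (hiso : ∀ v w, ω (T v) (T w) = ω v w) (hTr : T ^ r = 1)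
    (hdim : finrank F V = 2 * d + 1) :
    ∃ (g : GL (Unit ⊕ (Fin d ⊕ Fin d)) F) (φ : V ≃ₗ[F] (Unit ⊕ (Fin d ⊕ Fin d) → F)) (κ : F),
      g ∈ Cfsg.Geo.omegaGL (Cfsg.quadFormOdd d F) ∧ g ^ r = 1 ∧ κ ≠ 0 ∧
      (∀ v, Cfsg.quadFormOdd d F (φ v) = κ * ω v v) ∧
      ∀ v, Matrix.toLin' (g : Matrix (Unit ⊕ (Fin d ⊕ Fin d)) (Unit ⊕ (Fin d ⊕ Fin d)) F) (φ v) =
        φ (T v) := by
  classical
  obtain ⟨Qm, hQm⟩ : ∃ Qm : QuadraticForm F V, Qm = LinearMap.BilinMap.toQuadraticMap ω :=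
    ⟨_, rfl⟩
  have hQnd : ∀ v, (∀ w, QuadraticMap.polar Qm v w = 0) → v = 0 := by
    intro v hv
    apply hnd v
    intro w
    have h1 := hv w
    rw [hQm, LinearMap.BilinMap.polar_toQuadraticMap, hsym w v] at h1
    have h3 : (2 : F) * ω v w = 0 := by linear_combination h1
    exact (mul_eq_zero.mp h3).resolve_left h2
  obtain ⟨Tsim, κ, hsim⟩ := Cfsg.Agent.Lib.helper99.Oj.oj_simil h2 d Qm hQnd hdim
  have hQodd := nondegenerate_of_gram (oddForm d F) (gramOdd d F) (gramOddInv d F)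
    (gramOdd_mul_inv d h2) (polar_oddForm d)
  have hι : 2 ≤ Fintype.card (Unit ⊕ (Fin d ⊕ Fin d)) := by
    simp only [Fintype.card_sum, Fintype.card_unit, Fintype.card_fin]
    omega
  have hsim' : ∀ v, Cfsg.quadFormOdd d F (Tsim v) = κ * ω v v := by
    intro v
    have h1 := hsim v
    rw [hQm, LinearMap.BilinMap.toQuadraticMap_apply] at h1
    exact h1
  have hκ : κ ≠ 0 := by
    intro h0
    have hzero : ∀ x : Unit ⊕ (Fin d ⊕ Fin d) → F, oddForm d F x = 0 := by
      intro x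
      obtain ⟨v, rfl⟩ := Tsim.surjective x
      show Cfsg.quadFormOdd d F (Tsim v) = 0
      rw [hsim', h0, zero_mul]
    have hall : ∀ x : Unit ⊕ (Fin d ⊕ Fin d) → F, x = 0 := by
      intro x
      apply srf_nd h2 d x
      intro w
      unfold QuadraticMap.polar
      rw [hzero, hzero, hzero]
      ring
    have h1 := congrFun (hall (fun _ => 1)) (Sum.inl ())
    exact one_ne_zero h1
  have hφ : ∀ v, 2 * oddForm d F (Tsim v) = ((2 * κ) • ω) v v := by
    intro v
    rw [LinearMap.smul_apply, LinearMap.smul_apply, smul_eq_mul]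
    show 2 * Cfsg.quadFormOdd d F (Tsim v) = _
    rw [hsim']
    ring
  have hiso' : ∀ v w, ((2 * κ) • ω) (T v) (T w) = ((2 * κ) • ω) v w := by
    intro v w
    rw [LinearMap.smul_apply, LinearMap.smul_apply, LinearMap.smul_apply, LinearMap.smul_apply,
      hiso]
  obtain ⟨g, hgΩ, hgr, hgφ⟩ := sts_transfer (oddForm d F) hQodd hι h2 r hr hr2 ((2 * κ) • ω) T
    hiso' hTr Tsim hφ
  exact ⟨g, Tsim, κ, hgΩ, hgr, hκ, hsim', hgφ⟩

end stsdefs

end Cfsg.Agent.Lib.helper24
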