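import Mathlib

/-!
# Diagonalisation from spanning eigenvectors, involutions, and a pairing permutation
-/

set_option autoImplicit false

namespace Cfsg.Agent.Lib.helper24

open Module Matrix

variable {F : Type*} [Field F] {n : ℕ}

/-- If every vector lies in the span of the eigenvectors of `T` with eigenvalues in `S`, then `T`
is diagonalisable with diagonal entries in `S`. -/
theorem exists_eigenbasis (T : Matrix (Fin n) (Fin n) F) (S : Set F)
    (h : ∀ v : Fin n → F, v ∈ Submodule.span F {w : Fin n → F | ∃ ε ∈ S, T *ᵥ w = ε • w}) :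
    ∃ (k : Matrix (Fin n) (Fin n) F) (ε : Fin n → F), IsUnit k ∧ (∀ i, ε i ∈ S) ∧
      T * k = k * Matrix.diagonal ε := by
  classical
  set t : Set (Fin n → F) := {w | ∃ ε ∈ S, T *ᵥ w = ε • w} with ht
  obtain ⟨b, hbt, hspan, hli⟩ := exists_linearIndependent F t
  have htop : Submodule.span F t = ⊤ := eq_top_iff.2 fun v _ => h v
  have hbspan : ⊤ ≤ Submodule.span F (Set.range ((↑) : b → Fin n → F)) := by
    rw [Subtype.range_coe, hspan, htop]
  let B : Basis b F (Fin n → F) := Basis.mk hli hbspan
  haveI : Fintype b := FiniteDimensional.fintypeBasisIndex B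
  have hcard : Fintype.card b = n := by
    have h1 := Module.finrank_eq_card_basis B
    simpa using h1.symm
  let σ : Fin n ≃ b := (Fintype.equivFinOfCardEq hcard).symm
  have hmem : ∀ i, ∃ ε ∈ S, T *ᵥ (σ i : Fin n → F) = ε • (σ i : Fin n → F) := fun i => hbt (σ i).2
  choose ε hεS hε using hmem
  set k : Matrix (Fin n) (Fin n) F := Matrix.of fun r i => (σ i : Fin n → F) r with hk
  refine ⟨k, ε, ?_, hεS, ?_⟩
  · apply Matrix.linearIndependent_cols_iff_isUnit.1
    exact hli.comp σ σ.injective
  · ext r i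
    have h1 : (T * k) r i = (T *ᵥ (σ i : Fin n → F)) r := rfl
    rw [h1, hε i, Matrix.mul_diagonal]
    simp [hk, mul_comm]

/-- For an involution in characteristic not 2, every vector is a sum of eigenvectors. -/
theorem involution_span (Y : Matrix (Fin n) (Fin n) F) (hY : Y * Y = 1) (h2 : (2 : F) ≠ 0)
    (v : Fin n → F) :
    v ∈ Submodule.span F {w : Fin n → F | ∃ ε ∈ ({1, -1} : Set F), Y *ᵥ w = ε • w} := by
  have hYY : ∀ w, Y *ᵥ (Y *ᵥ w) = w := fun w => by
    rw [Matrix.mulVec_mulVec, hY, Matrix.one_mulVec]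
  have h1 : v + Y *ᵥ v ∈
      Submodule.span F {w : Fin n → F | ∃ ε ∈ ({1, -1} : Set F), Y *ᵥ w = ε • w} :=
    Submodule.subset_span ⟨1, by simp, by rw [Matrix.mulVec_add, hYY, one_smul, add_comm]⟩
  have h2' : v - Y *ᵥ v ∈
      Submodule.span F {w : Fin n → F | ∃ ε ∈ ({1, -1} : Set F), Y *ᵥ w = ε • w} :=
    Submodule.subset_span ⟨-1, by simp, by
      rw [Matrix.mulVec_sub, hYY, neg_smul, one_smul, neg_sub]⟩
  have h3 : v = (2 : F)⁻¹ • ((v + Y *ᵥ v) + (v - Y *ᵥ v)) := by
    rw [add_add_sub_cancel, ← two_smul F v, smul_smul, inv_mul_cancel₀ h2, one_smul]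
  rw [h3]
  exact Submodule.smul_mem _ _ (add_mem h1 h2')

/-- A family of signs with product `1` on an even number of indices can be permuted so as to be
constant on the pairs `{2i, 2i+1}`. -/
theorem exists_pairing_perm (hn : Even n) (δ : Fin n → F) (hδ : ∀ j, δ j = 1 ∨ δ j = -1)
    (hprod : ∏ j, δ j = 1) (hneg : (-1 : F) ≠ 1) :
    ∃ σ : Equiv.Perm (Fin n), ∀ i j : Fin n, (i : ℕ) / 2 = (j : ℕ) / 2 → δ (σ i) = δ (σ j) := by
  classical
  set s : Fin n → ℕ := fun j => if δ j = 1 then 0 else 1 with hs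
  set σ : Equiv.Perm (Fin n) := Tuple.sort s with hσ
  have hmono : Monotone (s ∘ σ) := Tuple.monotone_sort s
  set g : Fin n → ℕ := s ∘ σ with hg
  have hg01 : ∀ j, g j = 0 ∨ g j = 1 := by
    intro j
    simp only [hg, hs, Function.comp_apply]
    split_ifs <;> simp
  set Zs : Finset (Fin n) := Finset.univ.filter (fun j => g j = 0) with hZs
  set Z : ℕ := Zs.card with hZ
  have hlt : ∀ j : Fin n, g j = 0 ↔ (j : ℕ) < Z := by
    intro j
    constructor
    · intro hj
      have hsub : Finset.Iic j ⊆ Zs := by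
        intro i hi
        rw [Finset.mem_Iic] at hi
        rw [hZs, Finset.mem_filter]
        refine ⟨Finset.mem_univ _, ?_⟩
        have := hmono hi
        omega
      have hc := Finset.card_le_card hsub
      rw [Fin.card_Iic] at hc
      omega
    · intro hj
      by_contra hne
      have hsub : Zs ⊆ Finset.Iio j := by
        intro i hi
        rw [hZs, Finset.mem_filter] at hi
        rw [Finset.mem_Iio]
        by_contra hij
        have := hmono (not_lt.1 hij)
        omega
      have hc := Finset.card_le_card hsub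
      rw [Fin.card_Iio] at hc
      omega
  have hδg : ∀ j, δ (σ j) = if g j = 0 then 1 else -1 := by
    intro j
    simp only [hg, hs, Function.comp_apply]
    rcases hδ (σ j) with h | h
    · simp [h]
    · simp [h, hneg]
  have hprod' : ∏ j, δ (σ j) = 1 := by
    rw [Equiv.prod_comp σ δ, hprod]
  have hcount : (-1 : F) ^ (n - Z) = 1 := by
    have h1 := Finset.card_filter_add_card_filter_not (s := (Finset.univ : Finset (Fin n)))
      (fun j => g j = 0)
    rw [Finset.card_univ, Fintype.card_fin] at h1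
    rw [← hZs, ← hZ] at h1
    have h2 : (Finset.univ.filter (fun j => ¬ g j = 0)).card = n - Z := by omega
    have h3 : ∏ j, δ (σ j) = (-1 : F) ^ (n - Z) := by
      simp_rw [hδg]
      rw [Finset.prod_ite, Finset.prod_const_one, one_mul, Finset.prod_const, h2]
    rw [← h3]
    exact hprod'
  have heven : Even (n - Z) := (neg_one_pow_eq_one_iff_even hneg).1 hcount
  have hZle : Z ≤ n := by
    have := Finset.card_le_univ Zs
    simpa using this
  have hZeven : Even Z := by
    obtain ⟨a, ha⟩ := hn
    obtain ⟨b, hb⟩ := heven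
    exact ⟨a - b, by omega⟩
  refine ⟨σ, fun i j hij => ?_⟩
  rw [hδg i, hδg j]
  have hi := hlt i
  have hj := hlt j
  obtain ⟨c, hc⟩ := hZeven
  have hiff : g i = 0 ↔ g j = 0 := by
    rw [hi, hj]
    omega
  by_cases h0 : g i = 0
  · rw [if_pos h0, if_pos (hiff.1 h0)]
  · rw [if_neg h0, if_neg (fun h => h0 (hiff.2 h))]

end Cfsg.Agent.Lib.helper24
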