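import Mathlib
import Cfsg.Prelude.Def_GeometricClasses

/-!
# Field subalgebras of full degree in a matrix algebra and their normalisers

`K` a subalgebra of `Matrix ι ι F` that is a field of degree `card ι` over `F`.
* `fsn_scalar_of_large_eigenspace`: an element of the normaliser of `K` with an eigenspace of
  dimension more than half is a scalar.
* `fsn_exists_frobenius`: over a finite field the normaliser contains an element `g ≠ 1` with `g ^ n = 1`.
-/

set_option autoImplicit false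

namespace Cfsg.Agent.Lib.helper24

open Module Cfsg.Geo Matrix

section General

variable {ι : Type} [Fintype ι] [DecidableEq ι] {F : Type*} [Field F]

theorem fsn_mulVec_eq_zero {r : ℕ} {K : Subalgebra F (Matrix ι ι F)} (hK : IsFieldSubalgebra r K)
    {c : Matrix ι ι F} (hc : c ∈ K) (hc0 : c ≠ 0) {v : ι → F} (h : c *ᵥ v = 0) : v = 0 := by
  obtain ⟨d, hd, hcd⟩ := hK.inv c hc hc0
  have hdc : d * c = 1 := by rw [hK.comm d hd c hc, hcd]
  have h2 : (d * c) *ᵥ v = 0 := by rw [← Matrix.mulVec_mulVec, h, Matrix.mulVec_zero]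
  rwa [hdc, Matrix.one_mulVec] at h2

/-- Evaluation at a vector, as a linear map on the subalgebra. -/
def fsnEv (K : Subalgebra F (Matrix ι ι F)) (w : ι → F) : K →ₗ[F] (ι → F) where
  toFun c := (c : Matrix ι ι F) *ᵥ w
  map_add' a b := by simp [Matrix.add_mulVec]
  map_smul' a b := by simp [Matrix.smul_mulVec]

theorem fsnEv_apply (K : Subalgebra F (Matrix ι ι F)) (w : ι → F) (c : K) :
    fsnEv K w c = (c : Matrix ι ι F) *ᵥ w := rfl

theorem fsnEv_injective {r : ℕ} {K : Subalgebra F (Matrix ι ι F)} (hK : IsFieldSubalgebra r K)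
    {w : ι → F} (hw : w ≠ 0) : Function.Injective (fsnEv K w) := by
  rw [← LinearMap.ker_eq_bot, LinearMap.ker_eq_bot']
  intro c hc
  by_contra hc0
  exact hw (fsn_mulVec_eq_zero hK c.2 (fun h => hc0 (Subtype.ext h)) hc)

theorem fsnEv_surjective {K : Subalgebra F (Matrix ι ι F)}
    (hK : IsFieldSubalgebra (Fintype.card ι) K) {w : ι → F} (hw : w ≠ 0) :
    Function.Surjective (fsnEv K w) := by
  haveI : FiniteDimensional F K := FiniteDimensional.finiteDimensional_submodule K.toSubmodule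
  rw [← LinearMap.range_eq_top]
  apply Submodule.eq_top_of_finrank_eq
  rw [LinearMap.finrank_range_of_inj (fsnEv_injective hK hw), hK.finrank_eq]
  simp

/-- An element of the normaliser of `K` with an eigenspace of dimension more than half of the
dimension is a scalar. -/
theorem fsn_scalar_of_large_eigenspace {K : Subalgebra F (Matrix ι ι F)}
    (hK : IsFieldSubalgebra (Fintype.card ι) K)
    (g : GL ι F) (hg : g ∈ subalgebraNormalizer K) (lam : F) (W : Submodule F (ι → F))
    (hW : ∀ w ∈ W, (g : Matrix ι ι F) *ᵥ w = lam • w) (hdim : Fintype.card ι < 2 * finrank F W) :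
    (g : Matrix ι ι F) = lam • (1 : Matrix ι ι F) := by
  classical
  have hg' : ∀ k : Matrix ι ι F, k ∈ K ↔
      (g : Matrix ι ι F) * k * ((g⁻¹ : GL ι F) : Matrix ι ι F) ∈ K := hg
  set G : Matrix ι ι F := (g : Matrix ι ι F) with hG
  set Gi : Matrix ι ι F := ((g⁻¹ : GL ι F) : Matrix ι ι F) with hGi
  have hGGi : G * Gi = 1 := by rw [hG, hGi, ← Units.val_mul, mul_inv_cancel, Units.val_one]
  have hGiG : Gi * G = 1 := by rw [hG, hGi, ← Units.val_mul, inv_mul_cancel, Units.val_one]
  have hWpos : 0 < finrank F W := by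
    by_contra h
    have : finrank F W = 0 := by omega
    rw [this] at hdim
    omega
  obtain ⟨⟨w₀, hw₀W⟩, hw₀'⟩ := Module.finrank_pos_iff_exists_ne_zero.1 hWpos
  have hw₀ : w₀ ≠ 0 := fun h => hw₀' (Subtype.ext h)
  have hlam : lam ≠ 0 := by
    intro h
    have h1 := hW w₀ hw₀W
    rw [h, zero_smul] at h1
    apply hw₀
    have h2 : (Gi * G) *ᵥ w₀ = 0 := by rw [← Matrix.mulVec_mulVec, h1, Matrix.mulVec_zero]
    rwa [hGiG, Matrix.one_mulVec] at h2
  -- Step 1: `g` commutes with `K`.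
  have hcomm : ∀ c ∈ K, G * c = c * G := by
    intro c hc
    by_cases hc0 : c = 0
    · rw [hc0, Matrix.mul_zero, Matrix.zero_mul]
    obtain ⟨d, hd, hcd⟩ := hK.inv c hc hc0
    have hd0 : d ≠ 0 := by
      rintro rfl
      rw [Matrix.mul_zero] at hcd
      have hne : Nonempty ι := ⟨(Function.ne_iff.1 hw₀).choose⟩
      haveI : Nonempty ι := hne
      exact (zero_ne_one (α := Matrix ι ι F)) hcd
    have hc' : G * c * Gi ∈ K := (hg' c).1 hc
    set W₂ : Submodule F (ι → F) := W.map (Matrix.mulVecLin d) with hW₂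
    have hdinj : Function.Injective (Matrix.mulVecLin d) := by
      rw [← LinearMap.ker_eq_bot, LinearMap.ker_eq_bot']
      intro v hv
      exact fsn_mulVec_eq_zero hK hd hd0 (by simpa using hv)
    have hW₂fin : finrank F W₂ = finrank F W :=
      (Submodule.equivMapOfInjective _ hdinj W).finrank_eq.symm
    have hsum := Submodule.finrank_sup_add_finrank_inf_eq W W₂
    have hle : finrank F ↥(W ⊔ W₂) ≤ Fintype.card ι := by
      have := Submodule.finrank_le (W ⊔ W₂)
      simpa using this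
    have hinfpos : 0 < finrank F ↥(W ⊓ W₂) := by omega
    obtain ⟨⟨u, huW, huW₂⟩, hu'⟩ := Module.finrank_pos_iff_exists_ne_zero.1 hinfpos
    have hu0 : u ≠ 0 := fun h => hu' (Subtype.ext h)
    obtain ⟨w', hw'W, hw'u⟩ := huW₂
    have hcu : c *ᵥ u = w' := by
      rw [← hw'u, Matrix.mulVecLin_apply, Matrix.mulVec_mulVec, hcd, Matrix.one_mulVec]
    have h1 : G *ᵥ (c *ᵥ u) = lam • (c *ᵥ u) := by rw [hcu]; exact hW w' hw'W
    have h2 : G *ᵥ (c *ᵥ u) = lam • ((G * c * Gi) *ᵥ u) := by
      have : G *ᵥ (c *ᵥ u) = (G * c * Gi) *ᵥ (G *ᵥ u) := by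
        rw [Matrix.mulVec_mulVec, Matrix.mulVec_mulVec, Matrix.mul_assoc (G * c), hGiG,
          Matrix.mul_one]
      rw [this, hW u huW, Matrix.mulVec_smul]
    have h3 : (c - G * c * Gi) *ᵥ u = 0 := by
      rw [Matrix.sub_mulVec]
      have := h1.symm.trans h2
      have h4 := smul_right_injective (ι → F) hlam this
      exact sub_eq_zero.2 h4
    have h5 : c - G * c * Gi = 0 := by
      by_contra hne
      exact hu0 (fsn_mulVec_eq_zero hK (K.sub_mem hc hc') hne h3)
    have h6 : c = G * c * Gi := sub_eq_zero.1 h5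
    calc G * c = G * c * (Gi * G) := by rw [hGiG, Matrix.mul_one]
      _ = (G * c * Gi) * G := by simp only [Matrix.mul_assoc]
      _ = c * G := by rw [← h6]
  -- Step 2: every vector is of the form `c *ᵥ w₀`.
  have hall : ∀ v : ι → F, G *ᵥ v = lam • v := by
    intro v
    obtain ⟨c, rfl⟩ := fsnEv_surjective hK hw₀ v
    rw [fsnEv_apply, Matrix.mulVec_mulVec, hcomm _ c.2, ← Matrix.mulVec_mulVec, hW w₀ hw₀W,
      Matrix.mulVec_smul]
  apply Matrix.toLin'.injective
  refine LinearMap.ext fun v => ?_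
  rw [Matrix.toLin'_apply, hall v, Matrix.toLin'_apply, Matrix.smul_mulVec, Matrix.one_mulVec]

end General

section Frobenius

variable {ι : Type} [Fintype ι] [DecidableEq ι] {F : Type*} [Field F] [Fintype F]

theorem fsn_pow_card_eq_self {A : Type*} [Ring A] [Fintype A] (h : IsField A) (c : A) :
    c ^ Fintype.card A = c := by
  letI := h.toField
  exact FiniteField.pow_card c

theorem fsn_exists_pow_ne {A : Type*} [Ring A] [Fintype A] (h : IsField A) {q : ℕ} (hq1 : 1 < q)
    (hq : q < Fintype.card A) : ∃ c : A, c ^ q ≠ c := by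
  letI := h.toField
  by_contra hcon'
  have hcon : ∀ c : A, c ^ q = c := fun c => by_contra fun h => hcon' ⟨c, h⟩
  have h0 : (Polynomial.X ^ q - Polynomial.X : Polynomial A) = 0 := by
    apply Polynomial.eq_zero_of_natDegree_lt_card_of_eval_eq_zero' _ Finset.univ
    · intro i _
      simp [hcon i]
    · rw [FiniteField.X_pow_card_sub_X_natDegree_eq A hq1, Finset.card_univ]
      exact hq
  exact FiniteField.X_pow_card_sub_X_ne_zero A hq1 h0

omit [Fintype F] in
theorem fsn_isField [Nonempty ι] {r : ℕ} {K : Subalgebra F (Matrix ι ι F)}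
    (hK : IsFieldSubalgebra r K) : IsField K where
  exists_pair_ne := ⟨0, 1, fun h => (zero_ne_one (α := Matrix ι ι F)) (congrArg Subtype.val h)⟩
  mul_comm a b := Subtype.ext (hK.comm a a.2 b b.2)
  mul_inv_cancel {a} ha := by
    obtain ⟨d, hd, hcd⟩ := hK.inv a a.2 (fun h => ha (Subtype.ext h))
    exact ⟨⟨d, hd⟩, Subtype.ext hcd⟩

theorem fsn_add_pow_card {a b : Matrix ι ι F} (h : Commute a b) :
    (a + b) ^ Fintype.card F = a ^ Fintype.card F + b ^ Fintype.card F := by
  rcases isEmpty_or_nonempty ι with hι | hι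
  · exact Subsingleton.elim _ _
  obtain ⟨p, hp⟩ := CharP.exists F
  haveI := hp
  obtain ⟨f, hpp, hf⟩ := FiniteField.card F p
  haveI : Fact p.Prime := ⟨hpp⟩
  rw [hf]
  exact add_pow_char_pow_of_commute p f h

/-- The Frobenius map `c ↦ c ^ q` on a commutative subalgebra, as an `F`-linear map. -/
noncomputable def fsnFrob (K : Subalgebra F (Matrix ι ι F))
    (hcomm : ∀ x ∈ K, ∀ y ∈ K, x * y = y * x) : K →ₗ[F] K where
  toFun c := c ^ Fintype.card F
  map_add' a b := Subtype.ext (by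
    simp only [Subalgebra.coe_pow, Subalgebra.coe_add]
    exact fsn_add_pow_card (hcomm a a.2 b b.2))
  map_smul' a b := by
    simp only [RingHom.id_apply]
    rw [smul_pow, FiniteField.pow_card]

theorem fsnFrob_apply (K : Subalgebra F (Matrix ι ι F))
    (hcomm : ∀ x ∈ K, ∀ y ∈ K, x * y = y * x) (c : K) :
    ((fsnFrob K hcomm c : K) : Matrix ι ι F) = (c : Matrix ι ι F) ^ Fintype.card F := rfl

/-- The matrix of the Frobenius map of a field subalgebra of full degree. -/
theorem fsn_exists_frobenius_matrix {K : Subalgebra F (Matrix ι ι F)}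
    (hK : IsFieldSubalgebra (Fintype.card ι) K) (hι : 2 ≤ Fintype.card ι) :
    ∃ S : Matrix ι ι F, (∀ c ∈ K, S * c = c ^ Fintype.card F * S) ∧
      S ^ Fintype.card ι = 1 ∧ S ≠ 1 := by
  classical
  haveI : Nonempty ι := Fintype.card_pos_iff.1 (by omega)
  obtain ⟨i₀⟩ := ‹Nonempty ι›
  set w₀ : ι → F := Pi.single i₀ 1 with hw₀def
  have hw₀ : w₀ ≠ 0 := by
    intro h
    have := congrFun h i₀
    simp [hw₀def] at this
  set q := Fintype.card F with hq
  let ev : K ≃ₗ[F] (ι → F) := LinearEquiv.ofBijective (fsnEv K w₀)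
    ⟨fsnEv_injective hK hw₀, fsnEv_surjective hK hw₀⟩
  have hev : ∀ c : K, ev c = (c : Matrix ι ι F) *ᵥ w₀ := fun c => rfl
  let σ : (ι → F) →ₗ[F] (ι → F) :=
    ev.toLinearMap ∘ₗ (fsnFrob K hK.comm) ∘ₗ ev.symm.toLinearMap
  set S : Matrix ι ι F := LinearMap.toMatrix' σ with hS
  have hSv : ∀ c : K, S *ᵥ ((c : Matrix ι ι F) *ᵥ w₀) = ((c : Matrix ι ι F) ^ q) *ᵥ w₀ := by
    intro c
    have h1 : S *ᵥ ((c : Matrix ι ι F) *ᵥ w₀) = σ (ev c) := by
      rw [hS, ← Matrix.toLin'_apply, Matrix.toLin'_toMatrix']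
      rfl
    rw [h1]
    show ev (fsnFrob K hK.comm (ev.symm (ev c))) = _
    rw [LinearEquiv.symm_apply_apply, hev, fsnFrob_apply]
  have hall : ∀ v : ι → F, ∃ c : K, v = (c : Matrix ι ι F) *ᵥ w₀ := fun v =>
    ⟨ev.symm v, by rw [← hev, LinearEquiv.apply_symm_apply]⟩
  have hcomm : ∀ c ∈ K, S * c = c ^ q * S := by
    intro c hc
    apply Matrix.toLin'.injective
    refine LinearMap.ext fun v => ?_
    obtain ⟨d, rfl⟩ := hall v
    rw [Matrix.toLin'_apply, Matrix.toLin'_apply]
    have h1 : (S * c) *ᵥ ((d : Matrix ι ι F) *ᵥ w₀) =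
        S *ᵥ (((⟨c, hc⟩ * d : K) : Matrix ι ι F) *ᵥ w₀) := by
      rw [← Matrix.mulVec_mulVec, Matrix.mulVec_mulVec w₀ c]
      rfl
    rw [h1, hSv, ← Matrix.mulVec_mulVec, hSv d, Matrix.mulVec_mulVec]
    congr 1
    exact Commute.mul_pow (hK.comm c hc d d.2) q
  haveI : Fintype K := Fintype.ofFinite K
  have hcardK : Fintype.card K = q ^ Fintype.card ι := by
    rw [Module.card_eq_pow_finrank (K := F) (V := K), hK.finrank_eq]
  have hfield : IsField K := fsn_isField hK
  have hpc : ∀ c : K, (c : Matrix ι ι F) ^ (q ^ Fintype.card ι) = c := by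
    intro c
    have h1 := fsn_pow_card_eq_self hfield c
    rw [hcardK] at h1
    have h2 := congrArg Subtype.val h1
    simpa using h2
  have hSjv : ∀ (j : ℕ) (c : K),
      S ^ j *ᵥ ((c : Matrix ι ι F) *ᵥ w₀) = ((c : Matrix ι ι F) ^ (q ^ j)) *ᵥ w₀ := by
    intro j
    induction j with
    | zero => intro c; simp
    | succ j ih =>
      intro c
      have h1 : S ^ (j + 1) *ᵥ ((c : Matrix ι ι F) *ᵥ w₀) =
          S ^ j *ᵥ (S *ᵥ ((c : Matrix ι ι F) *ᵥ w₀)) := by
        simp only [pow_succ, Matrix.mulVec_mulVec, Matrix.mul_assoc]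
      rw [h1, hSv c]
      have h2 := ih (c ^ q)
      rw [Subalgebra.coe_pow] at h2
      rw [h2, ← pow_mul, pow_succ']
  refine ⟨S, hcomm, ?_, ?_⟩
  · apply Matrix.toLin'.injective
    refine LinearMap.ext fun v => ?_
    obtain ⟨c, rfl⟩ := hall v
    rw [Matrix.toLin'_apply, hSjv, hpc, Matrix.toLin'_apply, Matrix.one_mulVec]
  · intro h1
    have hq1 : 1 < q := Fintype.one_lt_card
    have hlt : q < Fintype.card K := by
      rw [hcardK]
      calc q = q ^ 1 := (pow_one q).symm
        _ < q ^ Fintype.card ι := Nat.pow_lt_pow_right hq1 (by omega)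
    obtain ⟨c, hc⟩ := fsn_exists_pow_ne hfield hq1 hlt
    apply hc
    have h2 := hSv c
    rw [h1, Matrix.one_mulVec] at h2
    have h3 : (((c ^ q : K) : Matrix ι ι F) - (c : Matrix ι ι F)) *ᵥ w₀ = 0 := by
      rw [Matrix.sub_mulVec, Subalgebra.coe_pow, ← h2, sub_self]
    by_contra hne
    exact hw₀ (fsn_mulVec_eq_zero hK (K.sub_mem (c ^ q).2 c.2)
      (fun h => hne (Subtype.ext (sub_eq_zero.1 h))) h3)

/-- The normaliser of a field subalgebra of full degree `n ≥ 2` over a finite field contains an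
element `g ≠ 1` with `g ^ n = 1` (the Frobenius map of the field). -/
theorem fsn_exists_frobenius {K : Subalgebra F (Matrix ι ι F)}
    (hK : IsFieldSubalgebra (Fintype.card ι) K) (hι : 2 ≤ Fintype.card ι) :
    ∃ g : GL ι F, g ∈ subalgebraNormalizer K ∧ (g : Matrix ι ι F) ^ Fintype.card ι = 1 ∧
      (g : Matrix ι ι F) ≠ 1 := by
  obtain ⟨S, hcomm, hSn, hS1⟩ := fsn_exists_frobenius_matrix hK hι
  set q := Fintype.card F with hq
  set n := Fintype.card ι with hn
  have hSS : S * S ^ (n - 1) = 1 := by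
    rw [← pow_succ', Nat.sub_add_cancel (by omega), hSn]
  have hSS' : S ^ (n - 1) * S = 1 := by
    rw [← pow_succ, Nat.sub_add_cancel (by omega), hSn]
  have hcommj : ∀ (j : ℕ), ∀ c ∈ K, S ^ j * c = c ^ (q ^ j) * S ^ j := by
    intro j
    induction j with
    | zero => intro c hc; simp
    | succ j ih =>
      intro c hc
      have h1 : S ^ (j + 1) * c = S ^ j * (S * c) := by rw [pow_succ, Matrix.mul_assoc]
      rw [h1, hcomm c hc, ← Matrix.mul_assoc, ih _ (K.pow_mem hc q), ← pow_mul, Matrix.mul_assoc,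
        ← pow_succ, ← pow_succ']
  refine ⟨⟨S, S ^ (n - 1), hSS, hSS'⟩, ?_, hSn, hS1⟩
  intro k
  show k ∈ K ↔ S * k * S ^ (n - 1) ∈ K
  constructor
  · intro hk
    rw [hcomm k hk, Matrix.mul_assoc, hSS, Matrix.mul_one]
    exact K.pow_mem hk _
  · intro hm
    have h1 : k = S ^ (n - 1) * (S * k * S ^ (n - 1)) * S := by
      calc k = (S ^ (n - 1) * S) * k * (S ^ (n - 1) * S) := by
            rw [hSS', Matrix.one_mul, Matrix.mul_one]
        _ = S ^ (n - 1) * (S * k * S ^ (n - 1)) * S := by simp only [Matrix.mul_assoc]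
    rw [h1, hcommj (n - 1) _ hm, Matrix.mul_assoc, hSS', Matrix.mul_one]
    exact K.pow_mem hm _

end Frobenius

end Cfsg.Agent.Lib.helper24
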