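import Mathlib
import Cfsg.Agent.Lib.helper24.FsNorm

/-!
# More on field subalgebras of a matrix algebra and their normalisers

* `fsn_commute_of_large_eigenspace`: an element of the normaliser of a field subalgebra `K` with an
  eigenspace of dimension more than half commutes with `K`.
* `fsn_no_hyperplane`: for `K` of degree 2 and dimension at least 3, no element of the normaliser
  is a rank one perturbation of a scalar.
* `fsn_quadratic_gen`: a field subalgebra of degree 2 is `F[θ]` with `θ² = αθ + β`, the quadratic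
  having no root.
* `fsn_exists_frobenius'`: the Frobenius element of the normaliser of a full degree field
  subalgebra, with the commutation rule, and not scalar.
-/

set_option autoImplicit false

namespace Cfsg.Agent.Lib.helper24

open Module Cfsg.Geo Matrix

section General

variable {ι : Type} [Fintype ι] [DecidableEq ι] {F : Type*} [Field F]

theorem fsn_commute_of_large_eigenspace {r : ℕ} {K : Subalgebra F (Matrix ι ι F)}
    (hK : IsFieldSubalgebra r K)
    (g : GL ι F) (hg : g ∈ subalgebraNormalizer K) (lam : F) (W : Submodule F (ι → F))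
    (hW : ∀ w ∈ W, (g : Matrix ι ι F) *ᵥ w = lam • w) (hdim : Fintype.card ι < 2 * finrank F W) :
    ∀ c ∈ K, (g : Matrix ι ι F) * c = c * (g : Matrix ι ι F) := by
  classical
  have hg' : ∀ k : Matrix ι ι F, k ∈ K ↔
      (g : Matrix ι ι F) * k * ((g⁻¹ : GL ι F) : Matrix ι ι F) ∈ K := hg
  set G : Matrix ι ι F := (g : Matrix ι ι F) with hG
  set Gi : Matrix ι ι F := ((g⁻¹ : GL ι F) : Matrix ι ι F) with hGi
  have hGGi : G * Gi = 1 := by rw [hG, hGi, ← Units.val_mul, mul_inv_cancel, Units.val_one]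
  have hGiG : Gi * G = 1 := by rw [hG, hGi, ← Units.val_mul, inv_mul_cancel, Units.val_one]
  have hWpos : 0 < finrank F W := by
    by_contra h
    have : finrank F W = 0 := by omega
    rw [this] at hdim
    omega
  obtain ⟨⟨w₀, hw₀W⟩, hw₀'⟩ := Module.finrank_pos_iff_exists_ne_zero.1 hWpos
  have hw₀ : w₀ ≠ 0 := fun h => hw₀' (Subtype.ext h)
  have hlam : lam ≠ 0 := by
    intro h
    have h1 := hW w₀ hw₀W
    rw [h, zero_smul] at h1
    apply hw₀
    have h2 : (Gi * G) *ᵥ w₀ = 0 := by rw [← Matrix.mulVec_mulVec, h1, Matrix.mulVec_zero]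
    rwa [hGiG, Matrix.one_mulVec] at h2
  intro c hc
  by_cases hc0 : c = 0
  · rw [hc0, Matrix.mul_zero, Matrix.zero_mul]
  obtain ⟨d, hd, hcd⟩ := hK.inv c hc hc0
  have hd0 : d ≠ 0 := by
    rintro rfl
    rw [Matrix.mul_zero] at hcd
    have hne : Nonempty ι := ⟨(Function.ne_iff.1 hw₀).choose⟩
    exact (zero_ne_one (α := Matrix ι ι F)) hcd
  have hc' : G * c * Gi ∈ K := (hg' c).1 hc
  set W₂ : Submodule F (ι → F) := W.map (Matrix.mulVecLin d) with hW₂
  have hdinj : Function.Injective (Matrix.mulVecLin d) := by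
    rw [← LinearMap.ker_eq_bot, LinearMap.ker_eq_bot']
    intro v hv
    exact fsn_mulVec_eq_zero hK hd hd0 (by simpa using hv)
  have hW₂fin : finrank F W₂ = finrank F W :=
    (Submodule.equivMapOfInjective _ hdinj W).finrank_eq.symm
  have hsum := Submodule.finrank_sup_add_finrank_inf_eq W W₂
  have hle : finrank F ↥(W ⊔ W₂) ≤ Fintype.card ι := by
    have := Submodule.finrank_le (W ⊔ W₂)
    simpa using this
  have hinfpos : 0 < finrank F ↥(W ⊓ W₂) := by omega
  obtain ⟨⟨u, huW, huW₂⟩, hu'⟩ := Module.finrank_pos_iff_exists_ne_zero.1 hinfpos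
  have hu0 : u ≠ 0 := fun h => hu' (Subtype.ext h)
  obtain ⟨w', hw'W, hw'u⟩ := huW₂
  have hcu : c *ᵥ u = w' := by
    rw [← hw'u, Matrix.mulVecLin_apply, Matrix.mulVec_mulVec, hcd, Matrix.one_mulVec]
  have h1 : G *ᵥ (c *ᵥ u) = lam • (c *ᵥ u) := by rw [hcu]; exact hW w' hw'W
  have h2 : G *ᵥ (c *ᵥ u) = lam • ((G * c * Gi) *ᵥ u) := by
    have : G *ᵥ (c *ᵥ u) = (G * c * Gi) *ᵥ (G *ᵥ u) := by
      rw [Matrix.mulVec_mulVec, Matrix.mulVec_mulVec, Matrix.mul_assoc (G * c), hGiG,
        Matrix.mul_one]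
    rw [this, hW u huW, Matrix.mulVec_smul]
  have h3 : (c - G * c * Gi) *ᵥ u = 0 := by
    rw [Matrix.sub_mulVec]
    have := h1.symm.trans h2
    have h4 := smul_right_injective (ι → F) hlam this
    exact sub_eq_zero.2 h4
  have h5 : c - G * c * Gi = 0 := by
    by_contra hne
    exact hu0 (fsn_mulVec_eq_zero hK (K.sub_mem hc hc') hne h3)
  have h6 : c = G * c * Gi := sub_eq_zero.1 h5
  calc G * c = G * c * (Gi * G) := by rw [hGiG, Matrix.mul_one]
    _ = (G * c * Gi) * G := by simp only [Matrix.mul_assoc]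
    _ = c * G := by rw [← h6]

/-- For a field subalgebra of degree 2 in dimension at least 3, no element of the normaliser is a
rank one perturbation of a scalar matrix. -/
theorem fsn_no_hyperplane {K : Subalgebra F (Matrix ι ι F)} (hK : IsFieldSubalgebra 2 K)
    (hcard : 3 ≤ Fintype.card ι)
    (g : GL ι F) (hg : g ∈ subalgebraNormalizer K) (lam : F) (ψ : (ι → F) →ₗ[F] F) (u : ι → F)
    (hψ : ψ ≠ 0) (hu : u ≠ 0)
    (hgw : ∀ w, (g : Matrix ι ι F) *ᵥ w = lam • w + ψ w • u) : False := by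
  classical
  set W : Submodule F (ι → F) := LinearMap.ker ψ with hWdef
  have hrk : finrank F (LinearMap.range ψ) + finrank F W = finrank F (ι → F) :=
    LinearMap.finrank_range_add_finrank_ker ψ
  have hrange : finrank F (LinearMap.range ψ) ≤ 1 := by
    have := Submodule.finrank_le (LinearMap.range ψ)
    simpa using this
  have hV : finrank F (ι → F) = Fintype.card ι := by simp
  have hdim : Fintype.card ι < 2 * finrank F W := by omega
  have hW : ∀ w ∈ W, (g : Matrix ι ι F) *ᵥ w = lam • w := by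
    intro w hw
    have h0 : ψ w = 0 := hw
    rw [hgw w, h0, zero_smul, add_zero]
  have hcomm := fsn_commute_of_large_eigenspace hK g hg lam W hW hdim
  obtain ⟨v, hv⟩ : ∃ v, ψ v ≠ 0 := by
    by_contra hcon
    apply hψ
    ext w
    by_contra hw
    exact hcon ⟨_, hw⟩
  obtain ⟨v₁, hψv₁⟩ : ∃ v₁, ψ v₁ = 1 :=
    ⟨(ψ v)⁻¹ • v, by rw [map_smul, smul_eq_mul, inv_mul_cancel₀ hv]⟩
  have hscal : ∀ c ∈ K, ∃ s : F, c = s • (1 : Matrix ι ι F) := by
    intro c hc
    refine ⟨ψ (c *ᵥ v₁), ?_⟩
    have h1 : (g : Matrix ι ι F) *ᵥ (c *ᵥ v₁) = c *ᵥ ((g : Matrix ι ι F) *ᵥ v₁) := by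
      rw [Matrix.mulVec_mulVec, Matrix.mulVec_mulVec, hcomm c hc]
    have hL := hgw (c *ᵥ v₁)
    have hR : c *ᵥ ((g : Matrix ι ι F) *ᵥ v₁) = lam • (c *ᵥ v₁) + c *ᵥ u := by
      rw [hgw v₁, hψv₁, one_smul, Matrix.mulVec_add, Matrix.mulVec_smul]
    have h2 : ψ (c *ᵥ v₁) • u = c *ᵥ u := add_left_cancel (hL.symm.trans (h1.trans hR))
    have h3 : (c - ψ (c *ᵥ v₁) • (1 : Matrix ι ι F)) *ᵥ u = 0 := by
      rw [Matrix.sub_mulVec, Matrix.smul_mulVec, Matrix.one_mulVec, h2, sub_self]
    by_contra hne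
    have hmem : c - ψ (c *ᵥ v₁) • (1 : Matrix ι ι F) ∈ K :=
      K.sub_mem hc (K.smul_mem K.one_mem _)
    exact hu (fsn_mulVec_eq_zero hK hmem (fun h => hne (sub_eq_zero.1 h)) h3)
  have hle : K.toSubmodule ≤ Submodule.span F {(1 : Matrix ι ι F)} := by
    intro c hc
    obtain ⟨s, hs⟩ := hscal c hc
    rw [hs]
    exact Submodule.smul_mem _ _ (Submodule.subset_span rfl)
  have h1 := Submodule.finrank_mono hle
  have h2 : finrank F (Submodule.span F {(1 : Matrix ι ι F)}) ≤ 1 := by
    have := finrank_span_le_card (R := F) ({(1 : Matrix ι ι F)} : Set (Matrix ι ι F))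
    simpa using this
  have h3 : finrank F K.toSubmodule = 2 := hK.finrank_eq
  omega

/-- A field subalgebra of degree 2 is generated by an element `θ` with `θ² = αθ + β`, where the
quadratic `t² - αt - β` has no root. -/
theorem fsn_quadratic_gen {K : Subalgebra F (Matrix ι ι F)} (hK : IsFieldSubalgebra 2 K) :
    ∃ (θ : Matrix ι ι F) (α β : F), θ ∈ K ∧ θ * θ = α • θ + β • (1 : Matrix ι ι F) ∧
      (∀ t : F, t * t - α * t - β ≠ 0) ∧
      (∀ c ∈ K, ∃ s t : F, c = s • (1 : Matrix ι ι F) + t • θ) ∧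
      (∀ s : F, θ ≠ s • (1 : Matrix ι ι F)) := by
  classical
  have hfin : finrank F K.toSubmodule = 2 := hK.finrank_eq
  have h2 : finrank F (Submodule.span F {(1 : Matrix ι ι F)}) ≤ 1 := by
    have := finrank_span_le_card (R := F) ({(1 : Matrix ι ι F)} : Set (Matrix ι ι F))
    simpa using this
  obtain ⟨θ, hθK, hθ⟩ : ∃ θ ∈ K, θ ∉ Submodule.span F {(1 : Matrix ι ι F)} := by
    by_contra hcon
    have hle : K.toSubmodule ≤ Submodule.span F {(1 : Matrix ι ι F)} := by
      intro c hc
      by_contra hc'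
      exact hcon ⟨c, hc, hc'⟩
    have h1 := Submodule.finrank_mono hle
    omega
  have hθs : ∀ s : F, θ ≠ s • (1 : Matrix ι ι F) := by
    intro s hs
    apply hθ
    rw [hs]
    exact Submodule.smul_mem _ _ (Submodule.subset_span rfl)
  have h1ne : (1 : Matrix ι ι F) ≠ 0 := by
    intro h
    apply hθs 0
    rw [zero_smul]
    have : θ = θ * 1 := (Matrix.mul_one θ).symm
    rw [this, h, Matrix.mul_zero]
  have hli : LinearIndependent F ![(1 : Matrix ι ι F), θ] := by
    rw [LinearIndependent.pair_iff]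
    intro s t hst
    by_cases ht : t = 0
    · subst ht
      rw [zero_smul, add_zero] at hst
      rcases smul_eq_zero.1 hst with h | h
      · exact ⟨h, rfl⟩
      · exact absurd h h1ne
    · exfalso
      apply hθs (-(t⁻¹ * s))
      have h3 : t • θ = -(s • (1 : Matrix ι ι F)) := by
        rw [eq_neg_iff_add_eq_zero, add_comm]
        exact hst
      calc θ = t⁻¹ • (t • θ) := by rw [smul_smul, inv_mul_cancel₀ ht, one_smul]
        _ = -(t⁻¹ * s) • (1 : Matrix ι ι F) := by rw [h3, smul_neg, smul_smul, neg_smul]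
  set U : Submodule F (Matrix ι ι F) := Submodule.span F (Set.range ![(1 : Matrix ι ι F), θ])
    with hU
  have hUK : U ≤ K.toSubmodule := by
    rw [hU, Submodule.span_le]
    rintro _ ⟨i, rfl⟩
    fin_cases i
    · exact K.one_mem
    · exact hθK
  have hUfin : finrank F U = 2 := by
    rw [hU, finrank_span_eq_card hli]
    simp
  have hUeq : U = K.toSubmodule :=
    Submodule.eq_of_le_of_finrank_eq hUK (by rw [hUfin, hfin])
  have hrep : ∀ c ∈ K, ∃ s t : F, c = s • (1 : Matrix ι ι F) + t • θ := by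
    intro c hc
    have hcU : c ∈ U := by rw [hUeq]; exact hc
    rw [hU] at hcU
    have hrange : Set.range ![(1 : Matrix ι ι F), θ] = {(1 : Matrix ι ι F), θ} := by
      ext x
      simp only [Set.mem_range, Set.mem_insert_iff, Set.mem_singleton_iff]
      constructor
      · rintro ⟨i, rfl⟩
        fin_cases i
        · left; rfl
        · right; rfl
      · rintro (rfl | rfl)
        · exact ⟨0, rfl⟩
        · exact ⟨1, rfl⟩
    rw [hrange, Submodule.mem_span_pair] at hcU
    obtain ⟨s, t, hst⟩ := hcU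
    exact ⟨s, t, hst.symm⟩
  obtain ⟨β, α, hαβ⟩ := hrep (θ * θ) (K.mul_mem hθK hθK)
  refine ⟨θ, α, β, hθK, by rw [hαβ, add_comm], ?_, hrep, hθs⟩
  intro t ht
  set A : Matrix ι ι F := θ - t • (1 : Matrix ι ι F) with hA
  set B : Matrix ι ι F := θ - (α - t) • (1 : Matrix ι ι F) with hB
  have hAK : A ∈ K := K.sub_mem hθK (K.smul_mem K.one_mem _)
  have hBK : B ∈ K := K.sub_mem hθK (K.smul_mem K.one_mem _)
  have hA0 : A ≠ 0 := fun h => hθs t (sub_eq_zero.1 h)
  have hB0 : B ≠ 0 := fun h => hθs (α - t) (sub_eq_zero.1 h)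
  have hAB : A * B = 0 := by
    have h1 : t * (α - t) = -β := by linear_combination -ht
    have e : A * B = θ * θ - α • θ + (t * (α - t)) • (1 : Matrix ι ι F) := by
      rw [hA, hB]
      simp only [Matrix.sub_mul, Matrix.mul_sub, Matrix.smul_mul, Matrix.mul_smul,
        Matrix.one_mul, Matrix.mul_one]
      module
    rw [e, hαβ, h1]
    module
  obtain ⟨A', hA'K, hAA'⟩ := hK.inv A hAK hA0
  apply hB0
  have h3 : A' * A = 1 := by rw [hK.comm A' hA'K A hAK, hAA']
  calc B = (A' * A) * B := by rw [h3, Matrix.one_mul]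
    _ = A' * (A * B) := Matrix.mul_assoc _ _ _
    _ = 0 := by rw [hAB, Matrix.mul_zero]

end General

section Frobenius

variable {ι : Type} [Fintype ι] [DecidableEq ι] {F : Type*} [Field F] [Fintype F]

theorem fsn_exists_mem_pow_ne {K : Subalgebra F (Matrix ι ι F)}
    (hK : IsFieldSubalgebra (Fintype.card ι) K) (hι : 2 ≤ Fintype.card ι) :
    ∃ c ∈ K, c ^ Fintype.card F ≠ c := by
  classical
  haveI : Nonempty ι := Fintype.card_pos_iff.1 (by omega)
  haveI : Fintype K := Fintype.ofFinite K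
  have hcardK : Fintype.card K = Fintype.card F ^ Fintype.card ι := by
    rw [Module.card_eq_pow_finrank (K := F) (V := K), hK.finrank_eq]
  have hfield : IsField K := fsn_isField hK
  have hq1 : 1 < Fintype.card F := Fintype.one_lt_card
  have hlt : Fintype.card F < Fintype.card K := by
    rw [hcardK]
    calc Fintype.card F = Fintype.card F ^ 1 := (pow_one _).symm
      _ < Fintype.card F ^ Fintype.card ι := Nat.pow_lt_pow_right hq1 (by omega)
  obtain ⟨c, hc⟩ := fsn_exists_pow_ne hfield hq1 hlt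
  refine ⟨c, c.2, fun h => hc (Subtype.ext ?_)⟩
  rw [Subalgebra.coe_pow]
  exact h

/-- The Frobenius element of the normaliser of a full degree field subalgebra. -/
theorem fsn_exists_frobenius' {K : Subalgebra F (Matrix ι ι F)}
    (hK : IsFieldSubalgebra (Fintype.card ι) K) (hι : 2 ≤ Fintype.card ι) :
    ∃ g : GL ι F, g ∈ subalgebraNormalizer K ∧ (g : Matrix ι ι F) ^ Fintype.card ι = 1 ∧
      (∀ c ∈ K, (g : Matrix ι ι F) * c = c ^ Fintype.card F * (g : Matrix ι ι F)) ∧
      (∀ s : F, (g : Matrix ι ι F) ≠ s • (1 : Matrix ι ι F)) := by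
  obtain ⟨S, hcomm, hSn, hS1⟩ := fsn_exists_frobenius_matrix hK hι
  set q := Fintype.card F with hq
  set n := Fintype.card ι with hn
  have hSS : S * S ^ (n - 1) = 1 := by
    rw [← pow_succ', Nat.sub_add_cancel (by omega), hSn]
  have hSS' : S ^ (n - 1) * S = 1 := by
    rw [← pow_succ, Nat.sub_add_cancel (by omega), hSn]
  have hcommj : ∀ (j : ℕ), ∀ c ∈ K, S ^ j * c = c ^ (q ^ j) * S ^ j := by
    intro j
    induction j with
    | zero => intro c hc; simp
    | succ j ih =>
      intro c hc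
      have h1 : S ^ (j + 1) * c = S ^ j * (S * c) := by rw [pow_succ, Matrix.mul_assoc]
      rw [h1, hcomm c hc, ← Matrix.mul_assoc, ih _ (K.pow_mem hc q), ← pow_mul, Matrix.mul_assoc,
        ← pow_succ, ← pow_succ']
  refine ⟨⟨S, S ^ (n - 1), hSS, hSS'⟩, ?_, hSn, hcomm, ?_⟩
  · intro k
    show k ∈ K ↔ S * k * S ^ (n - 1) ∈ K
    constructor
    · intro hk
      rw [hcomm k hk, Matrix.mul_assoc, hSS, Matrix.mul_one]
      exact K.pow_mem hk _
    · intro hm
      have h1 : k = S ^ (n - 1) * (S * k * S ^ (n - 1)) * S := by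
        calc k = (S ^ (n - 1) * S) * k * (S ^ (n - 1) * S) := by
              rw [hSS', Matrix.one_mul, Matrix.mul_one]
          _ = S ^ (n - 1) * (S * k * S ^ (n - 1)) * S := by simp only [Matrix.mul_assoc]
      rw [h1, hcommj (n - 1) _ hm, Matrix.mul_assoc, hSS', Matrix.mul_one]
      exact K.pow_mem hm _
  · intro s hs
    obtain ⟨c, hc, hcne⟩ := fsn_exists_mem_pow_ne hK hι
    apply hcne
    have h1 : S * c = c * S := by
      have hs' : S = s • (1 : Matrix ι ι F) := hs
      rw [hs', Matrix.smul_mul, Matrix.one_mul, Matrix.mul_smul, Matrix.mul_one]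
    have h2 : c ^ q * S = c * S := by rw [← hcomm c hc, h1]
    calc c ^ q = c ^ q * (S * S ^ (n - 1)) := by rw [hSS, Matrix.mul_one]
      _ = (c ^ q * S) * S ^ (n - 1) := (Matrix.mul_assoc _ _ _).symm
      _ = (c * S) * S ^ (n - 1) := by rw [h2]
      _ = c := by rw [Matrix.mul_assoc, hSS, Matrix.mul_one]

end Frobenius

end Cfsg.Agent.Lib.helper24
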