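import Mathlib

/-!
# Bases adapted to an endomorphism with an irreducible quadratic relation

If `T` is an endomorphism of a finite dimensional space with `T² = αT + β` where `t² - αt - β` has
no root, the space has a basis of the form `(v i, T (v i))`.
-/

set_option autoImplicit false

namespace Cfsg.Agent.Lib.helper24

open Module

variable {F : Type*} [Field F] {V : Type*} [AddCommGroup V] [Module F V]

/-- The family `(v i, T (v i))`. -/
def pbFam (T : V →ₗ[F] V) {ι : Type} (v : ι → V) : ι × Fin 2 → V :=
  fun p => if p.2 = 0 then v p.1 else T (v p.1)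

theorem pbFam_zero (T : V →ₗ[F] V) {ι : Type} (v : ι → V) (i : ι) : pbFam T v (i, 0) = v i := by
  simp [pbFam]

theorem pbFam_one (T : V →ₗ[F] V) {ι : Type} (v : ι → V) (i : ι) :
    pbFam T v (i, 1) = T (v i) := by
  simp [pbFam]

theorem pb_norm (T : V →ₗ[F] V) (α β : F) (hT : ∀ x, T (T x) = α • T x + β • x)
    (hirr : ∀ t : F, t * t - α * t - β ≠ 0) (W : Submodule F V) (hW : ∀ w ∈ W, T w ∈ W)
    (x : V) (a b : F) (hab : a • x + b • T x ∈ W) (hne : a ≠ 0 ∨ b ≠ 0) : x ∈ W := by
  set N := a * a + α * a * b - β * b * b with hN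
  have hN0 : N ≠ 0 := by
    by_cases hb : b = 0
    · subst hb
      rcases hne with h | h
      · simpa [hN] using h
      · exact absurd rfl h
    · intro h0
      apply hirr (-a / b)
      field_simp
      linear_combination h0
  have h1 : (a + b * α) • (a • x + b • T x) - b • T (a • x + b • T x) = N • x := by
    rw [map_add, map_smul, map_smul, hT x]
    simp only [hN]
    module
  have h2 : (a + b * α) • (a • x + b • T x) - b • T (a • x + b • T x) ∈ W :=
    W.sub_mem (W.smul_mem _ hab) (W.smul_mem _ (hW _ hab))
  rw [h1] at h2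
  have h3 := W.smul_mem N⁻¹ h2
  rwa [smul_smul, inv_mul_cancel₀ hN0, one_smul] at h3

theorem pb_span_invariant (T : V →ₗ[F] V) (α β : F) (hT : ∀ x, T (T x) = α • T x + β • x)
    {ι : Type} (v : ι → V) :
    ∀ w ∈ Submodule.span F (Set.range (pbFam T v)),
      T w ∈ Submodule.span F (Set.range (pbFam T v)) := by
  intro w hw
  induction hw using Submodule.span_induction with
  | mem x hx =>
    obtain ⟨⟨i, r⟩, rfl⟩ := hx
    have h0 : v i ∈ Submodule.span F (Set.range (pbFam T v)) :=
      Submodule.subset_span ⟨(i, 0), pbFam_zero T v i⟩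
    have h1 : T (v i) ∈ Submodule.span F (Set.range (pbFam T v)) :=
      Submodule.subset_span ⟨(i, 1), pbFam_one T v i⟩
    fin_cases r
    · show T (pbFam T v (i, 0)) ∈ _
      rw [pbFam_zero]
      exact h1
    · show T (pbFam T v (i, 1)) ∈ _
      rw [pbFam_one, hT]
      exact add_mem (Submodule.smul_mem _ _ h1) (Submodule.smul_mem _ _ h0)
  | zero => simp
  | add x y _ _ hx hy =>
    rw [map_add]
    exact add_mem hx hy
  | smul c x _ hx =>
    rw [map_smul]
    exact Submodule.smul_mem _ _ hx

theorem pb_mem_span_unit (T : V →ₗ[F] V) (x y : V)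
    (hy : y ∈ Submodule.span F (Set.range (pbFam T (fun _ : Unit => x)))) :
    ∃ a b : F, y = a • x + b • T x := by
  induction hy using Submodule.span_induction with
  | mem z hz =>
    obtain ⟨⟨u, r⟩, rfl⟩ := hz
    fin_cases r
    · exact ⟨1, 0, by show pbFam T (fun _ : Unit => x) (u, 0) = _; rw [pbFam_zero]; simp⟩
    · exact ⟨0, 1, by show pbFam T (fun _ : Unit => x) (u, 1) = _; rw [pbFam_one]; simp⟩
  | zero => exact ⟨0, 0, by simp⟩
  | add y z _ _ hy hz =>
    obtain ⟨a, b, rfl⟩ := hy
    obtain ⟨a', b', rfl⟩ := hz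
    exact ⟨a + a', b + b', by module⟩
  | smul c y _ hy =>
    obtain ⟨a, b, rfl⟩ := hy
    exact ⟨c * a, c * b, by module⟩

theorem pb_extend [FiniteDimensional F V] (T : V →ₗ[F] V) (α β : F)
    (hT : ∀ x, T (T x) = α • T x + β • x) (hirr : ∀ t : F, t * t - α * t - β ≠ 0) :
    ∀ (k : ℕ) (ι : Type) [Fintype ι] (v : ι → V), LinearIndependent F (pbFam T v) →
      finrank F V - 2 * Fintype.card ι = k →
      ∃ (ι' : Type) (_ : Fintype ι') (v' : ι' → V), LinearIndependent F (pbFam T v') ∧
        Submodule.span F (Set.range (pbFam T v')) = ⊤ := by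
  intro k
  induction k using Nat.strong_induction_on with
  | _ k ih =>
    intro ι _ v hli hk
    by_cases htop : Submodule.span F (Set.range (pbFam T v)) = ⊤
    · exact ⟨ι, inferInstance, v, hli, htop⟩
    · set W := Submodule.span F (Set.range (pbFam T v)) with hW
      obtain ⟨x, hx⟩ : ∃ x, x ∉ W := by
        by_contra h
        apply htop
        rw [eq_top_iff]
        intro y _
        by_contra hy
        exact h ⟨y, hy⟩
      have hWinv := pb_span_invariant T α β hT v
      have hx0 : ∀ a b : F, a • x + b • T x ∈ W → a = 0 ∧ b = 0 := by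
        intro a b hab
        by_contra hne
        have hne' : a ≠ 0 ∨ b ≠ 0 := by
          by_contra h
          apply hne
          constructor
          · by_contra ha; exact h (Or.inl ha)
          · by_contra hb; exact h (Or.inr hb)
        exact hx (pb_norm T α β hT hirr W hWinv x a b hab hne')
      have hli2 : LinearIndependent F (pbFam T (fun _ : Unit => x)) := by
        rw [Fintype.linearIndependent_iff]
        intro g hg
        have hsum : g ((), 0) • x + g ((), 1) • T x = 0 := by
          rw [← hg, Fintype.sum_prod_type]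
          simp [pbFam_zero, pbFam_one, Fin.sum_univ_two]
        have h0 := hx0 (g ((), 0)) (g ((), 1)) (by rw [hsum]; exact W.zero_mem)
        rintro ⟨u, r⟩
        fin_cases r
        · exact h0.1
        · exact h0.2
      have hdisj : Disjoint W (Submodule.span F (Set.range (pbFam T (fun _ : Unit => x)))) := by
        rw [Submodule.disjoint_def]
        intro y hyW hy
        obtain ⟨a, b, rfl⟩ := pb_mem_span_unit T x y hy
        obtain ⟨ha, hb⟩ := hx0 a b hyW
        rw [ha, hb, zero_smul, zero_smul, add_zero]
      have hli' : LinearIndependent F (pbFam T (Sum.elim v (fun _ : Unit => x))) := by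
        have h1 := LinearIndependent.sum_type hli hli2 hdisj
        have h2 : pbFam T (Sum.elim v (fun _ : Unit => x)) =
            (Sum.elim (pbFam T v) (pbFam T (fun _ : Unit => x))) ∘
              (Equiv.sumProdDistrib ι Unit (Fin 2)) := by
          funext ⟨s, r⟩
          cases s <;> rfl
        rw [h2]
        exact (linearIndependent_equiv _).2 h1
      have hcard := hli'.fintype_card_le_finrank
      simp only [Fintype.card_prod, Fintype.card_sum, Fintype.card_unit, Fintype.card_fin]
        at hcard
      exact ih (finrank F V - 2 * Fintype.card (ι ⊕ Unit))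
        (by simp only [Fintype.card_sum, Fintype.card_unit]; omega) (ι ⊕ Unit)
        (Sum.elim v (fun _ : Unit => x)) hli' rfl

/-- A basis of the form `(v i, T (v i))` for an endomorphism `T` with `T² = αT + β`, the quadratic
having no root. -/
theorem pair_basis_exists [FiniteDimensional F V] (T : V →ₗ[F] V) (α β : F)
    (hT : ∀ x, T (T x) = α • T x + β • x) (hirr : ∀ t : F, t * t - α * t - β ≠ 0) :
    ∃ (m : ℕ) (b : Basis (Fin m × Fin 2) F V), ∀ i, b (i, 1) = T (b (i, 0)) := by
  obtain ⟨ι', hf, v', hli, hsp⟩ := pb_extend T α β hT hirr _ PEmpty (fun e => e.elim)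
    linearIndependent_empty_type rfl
  let b₀ : Basis (ι' × Fin 2) F V := Basis.mk hli (by rw [hsp])
  let e : ι' ≃ Fin (Fintype.card ι') := Fintype.equivFin ι'
  refine ⟨Fintype.card ι', b₀.reindex (e.prodCongr (Equiv.refl _)), fun i => ?_⟩
  rw [Basis.reindex_apply, Basis.reindex_apply]
  simp only [b₀, Basis.mk_apply, Equiv.prodCongr_symm, Equiv.prodCongr_apply, Equiv.refl_symm,
    Equiv.coe_refl, Prod.map_apply, id_eq]
  rw [pbFam_one, pbFam_zero]

theorem pair_basis_finrank [FiniteDimensional F V] {m : ℕ} (b : Basis (Fin m × Fin 2) F V) :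
    finrank F V = 2 * m := by
  rw [Module.finrank_eq_card_basis b]
  simp [mul_comm]

end Cfsg.Agent.Lib.helper24
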