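import Mathlib
import Cfsg.Agent.Lib.helper24.PairBasis
import Cfsg.Agent.Lib.helper24.EigBasis

/-!
# Conjugating elements with scalar square into the centraliser of a quadratic field

Tools for elements `x` of `GL_n(F)` with `x²` scalar, relative to a matrix `θ` with an
irreducible quadratic relation `θ² = αθ + β`.
-/

set_option autoImplicit false

namespace Cfsg.Agent.Lib.helper24

open Module Matrix

variable {F : Type*} [Field F] {n : ℕ}

/-- The matrix whose columns are the vectors of a basis. -/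
noncomputable def basisMat (b : Basis (Fin n) F (Fin n → F)) : Matrix (Fin n) (Fin n) F :=
  Matrix.of fun r j => b j r

theorem basisMat_isUnit (b : Basis (Fin n) F (Fin n → F)) : IsUnit (basisMat b) :=
  Matrix.linearIndependent_cols_iff_isUnit.1 b.linearIndependent

theorem basisMat_isUnit_det (b : Basis (Fin n) F (Fin n → F)) : IsUnit (basisMat b).det :=
  (Matrix.isUnit_iff_isUnit_det _).1 (basisMat_isUnit b)

theorem basisMat_mulVec_single (b : Basis (Fin n) F (Fin n → F)) (j : Fin n) :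
    basisMat b *ᵥ Pi.single j 1 = b j := by
  rw [Matrix.mulVec_single_one]
  rfl

theorem basisMat_inv_mulVec (b : Basis (Fin n) F (Fin n → F)) (j : Fin n) :
    (basisMat b)⁻¹ *ᵥ b j = Pi.single j 1 := by
  rw [← basisMat_mulVec_single b j, Matrix.mulVec_mulVec,
    Matrix.nonsing_inv_mul _ (basisMat_isUnit_det b), Matrix.one_mulVec]

/-- Two matrices agreeing on a basis are equal. -/
theorem matrix_ext_basis (b : Basis (Fin n) F (Fin n → F)) (M N : Matrix (Fin n) (Fin n) F)
    (h : ∀ j, M *ᵥ b j = N *ᵥ b j) : M = N := by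
  apply Matrix.toLin'.injective
  apply b.ext
  intro j
  rw [Matrix.toLin'_apply, Matrix.toLin'_apply, h j]

/-- The equivalence `(i, r) ↦ 2i + r`. -/
def pairEquiv {m : ℕ} (h : n = 2 * m) : Fin m × Fin 2 ≃ Fin n :=
  finProdFinEquiv.trans (finCongr (by omega))

theorem pairEquiv_val {m : ℕ} (h : n = 2 * m) (i : Fin m) (r : Fin 2) :
    ((pairEquiv h (i, r) : Fin n) : ℕ) = (r : ℕ) + 2 * (i : ℕ) := by
  simp [pairEquiv]

/-- An involution of determinant `1` in characteristic not `2` is conjugate, by a matrix of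
determinant `1`, to a matrix commuting with `θ`. -/
theorem qe_involution_conj (hn : Even n) (hn0 : 0 < n) (h2 : (2 : F) ≠ 0)
    (θ : Matrix (Fin n) (Fin n) F) (α β : F)
    (hθ : θ * θ = α • θ + β • (1 : Matrix (Fin n) (Fin n) F))
    (hirr : ∀ t : F, t * t - α * t - β ≠ 0)
    (y : Matrix (Fin n) (Fin n) F) (hy : y * y = 1) (hdet : y.det = 1) :
    ∃ P y' : Matrix (Fin n) (Fin n) F, P.det = 1 ∧ y * P = P * y' ∧ y' * θ = θ * y' := by
  classical
  obtain ⟨k₀, δ, hk₀, hδS, hyk⟩ := exists_eigenbasis y {1, -1} (involution_span y hy h2)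
  have hδ : ∀ j, δ j = 1 ∨ δ j = -1 := fun j => by simpa using hδS j
  have hk₀det : k₀.det ≠ 0 := ((Matrix.isUnit_iff_isUnit_det _).1 hk₀).ne_zero
  have hprod : ∏ j, δ j = 1 := by
    have h1 := congrArg Matrix.det hyk
    rw [Matrix.det_mul, Matrix.det_mul, Matrix.det_diagonal, hdet, one_mul] at h1
    have h3 : k₀.det * 1 = k₀.det * ∏ j, δ j := by rw [mul_one]; exact h1
    exact (mul_left_cancel₀ hk₀det h3).symm
  have hneg : (-1 : F) ≠ 1 := by
    intro h
    apply h2
    have h3 : (1 : F) + 1 = 0 := by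
      nth_rewrite 1 [← h]
      ring
    rw [← h3]
    norm_num
  obtain ⟨σ, hσ⟩ := exists_pairing_perm hn δ hδ hprod hneg
  set δ' : Fin n → F := δ ∘ σ with hδ'
  set k₁ : Matrix (Fin n) (Fin n) F := k₀.submatrix id σ with hk₁
  have hyk₁ : y * k₁ = k₁ * Matrix.diagonal δ' := by
    ext r j
    have h1 : (y * k₁) r j = (y * k₀) r (σ j) := by
      simp [hk₁, Matrix.mul_apply]
    rw [h1, hyk, Matrix.mul_diagonal, Matrix.mul_diagonal]
    simp [hk₁, hδ']
  have hk₁unit : IsUnit k₁ := by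
    apply Matrix.linearIndependent_cols_iff_isUnit.1
    have h1 := Matrix.linearIndependent_cols_iff_isUnit.2 hk₀
    exact h1.comp σ σ.injective
  have hk₁det : k₁.det ≠ 0 := ((Matrix.isUnit_iff_isUnit_det _).1 hk₁unit).ne_zero
  -- pair basis for θ
  set T : (Fin n → F) →ₗ[F] (Fin n → F) := Matrix.toLin' θ with hTdef
  have hT : ∀ v, T (T v) = α • T v + β • v := by
    intro v
    rw [hTdef, Matrix.toLin'_apply, Matrix.toLin'_apply, Matrix.mulVec_mulVec, hθ,
      Matrix.add_mulVec, Matrix.smul_mulVec, Matrix.smul_mulVec, Matrix.one_mulVec]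
  obtain ⟨m, b, hb⟩ := pair_basis_exists T α β hT hirr
  have hfin : n = 2 * m := by
    have h1 := pair_basis_finrank b
    simpa using h1
  set e : Fin m × Fin 2 ≃ Fin n := pairEquiv hfin with he
  set b' : Basis (Fin n) F (Fin n → F) := b.reindex e with hb'
  have hb'e : ∀ i r, b' (e (i, r)) = b (i, r) := by
    intro i r
    rw [hb', Basis.reindex_apply, Equiv.symm_apply_apply]
  set B : Matrix (Fin n) (Fin n) F := basisMat b' with hB
  have hBdet : IsUnit B.det := basisMat_isUnit_det b'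
  have hBB : B⁻¹ * B = 1 := Matrix.nonsing_inv_mul _ hBdet
  have hBB' : B * B⁻¹ = 1 := Matrix.mul_nonsing_inv _ hBdet
  set y' : Matrix (Fin n) (Fin n) F := B * Matrix.diagonal δ' * B⁻¹ with hy'
  have hy'b : ∀ j, y' *ᵥ b' j = δ' j • b' j := by
    intro j
    rw [hy', ← Matrix.mulVec_mulVec, ← Matrix.mulVec_mulVec, hB, basisMat_inv_mulVec,
      Matrix.diagonal_mulVec_single, mul_one, ← basisMat_mulVec_single b' j]
    rw [← Matrix.mulVec_smul]
    congr 1
    ext r
    simp [Pi.single_apply]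
  have hpair : ∀ i, δ' (e (i, 0)) = δ' (e (i, 1)) := by
    intro i
    apply hσ
    rw [he, pairEquiv_val, pairEquiv_val]
    simp
    omega
  have hθ0 : ∀ i, θ *ᵥ b (i, 0) = b (i, 1) := by
    intro i
    rw [hb i, hTdef, Matrix.toLin'_apply]
  have hθ1 : ∀ i, θ *ᵥ b (i, 1) = α • b (i, 1) + β • b (i, 0) := by
    intro i
    have h1 := hT (b (i, 0))
    rw [← hb i] at h1
    rw [← h1, hTdef, Matrix.toLin'_apply]
  have hL : ∀ i r, (y' * θ) *ᵥ b' (e (i, r)) = y' *ᵥ (θ *ᵥ b (i, r)) := by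
    intro i r
    rw [← Matrix.mulVec_mulVec, hb'e]
  have hR : ∀ i r, (θ * y') *ᵥ b' (e (i, r)) = δ' (e (i, r)) • θ *ᵥ b (i, r) := by
    intro i r
    rw [← Matrix.mulVec_mulVec, hy'b, Matrix.mulVec_smul, hb'e]
  have hy'b2 : ∀ i r, y' *ᵥ b (i, r) = δ' (e (i, r)) • b (i, r) := by
    intro i r
    rw [← hb'e i r, hy'b]
  have hcomm : y' * θ = θ * y' := by
    apply matrix_ext_basis b'
    intro j
    obtain ⟨⟨i, r⟩, rfl⟩ := e.surjective j
    rw [hL, hR]
    fin_cases r
    · show y' *ᵥ θ *ᵥ b (i, 0) = δ' (e (i, 0)) • θ *ᵥ b (i, 0)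
      rw [hθ0, hy'b2, hpair]
    · show y' *ᵥ θ *ᵥ b (i, 1) = δ' (e (i, 1)) • θ *ᵥ b (i, 1)
      rw [hθ1, Matrix.mulVec_add, Matrix.mulVec_smul, Matrix.mulVec_smul, hy'b2, hy'b2, hpair]
      module
  -- determinant adjustment
  set j₀ : Fin n := ⟨0, hn0⟩ with hj₀
  set t : F := B.det * (k₁.det)⁻¹ with ht
  set w : Fin n → F := fun j => if j = j₀ then t else 1 with hw
  have hwprod : ∏ j, w j = t := by
    rw [hw]
    simp
  refine ⟨k₁ * Matrix.diagonal w * B⁻¹, y', ?_, ?_, hcomm⟩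
  · rw [Matrix.det_mul, Matrix.det_mul, Matrix.det_diagonal, hwprod, ht]
    have h3 : B⁻¹.det * B.det = 1 := Matrix.det_nonsing_inv_mul_det _ hBdet
    have hBne : B.det ≠ 0 := hBdet.ne_zero
    have h4 : B⁻¹.det = (B.det)⁻¹ := eq_inv_of_mul_eq_one_left h3
    rw [h4]
    field_simp
  · have h1 : Matrix.diagonal δ' * Matrix.diagonal w = Matrix.diagonal w * Matrix.diagonal δ' := by
      rw [Matrix.diagonal_mul_diagonal, Matrix.diagonal_mul_diagonal]
      congr 1
      funext j
      exact mul_comm _ _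
    calc y * (k₁ * Matrix.diagonal w * B⁻¹) = (y * k₁) * Matrix.diagonal w * B⁻¹ := by
          simp only [Matrix.mul_assoc]
      _ = k₁ * (Matrix.diagonal δ' * Matrix.diagonal w) * B⁻¹ := by
          rw [hyk₁]; simp only [Matrix.mul_assoc]
      _ = k₁ * Matrix.diagonal w * (B⁻¹ * B) * Matrix.diagonal δ' * B⁻¹ := by
          rw [h1, hBB]; simp only [Matrix.mul_assoc, Matrix.one_mul]
      _ = k₁ * Matrix.diagonal w * B⁻¹ * y' := by
          rw [hy']; simp only [Matrix.mul_assoc]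

end Cfsg.Agent.Lib.helper24
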