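import Mathlib
import Cfsg.Agent.Lib.helper24.QuadExt
import Cfsg.Agent.Lib.helper24.FsNorm2

/-!
# Elements with scalar square and quadratic field subalgebras, part 2

Conjugacy of elements with a nonsquare scalar square, square roots in a quadratic field
subalgebra, conjugacy of involutions in dimension two, 2-adic facts about `lam ^ n = -1` in a
finite field, and explicit rank one perturbations of scalars.
-/

set_option autoImplicit false

namespace Cfsg.Agent.Lib.helper24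

open Module Matrix Cfsg.Geo

section A

variable {F : Type*} [Field F] {n : ℕ}

theorem qe_norm_surj [Fintype F] (hodd : Fintype.card F % 2 = 1) (z c : F) (hz : z ≠ 0) :
    ∃ s u : F, s * s - z * (u * u) = c := by
  classical
  have hf : (Polynomial.X ^ 2 - Polynomial.C c : Polynomial F).degree = 2 := by
    rw [Polynomial.degree_X_pow_sub_C (by norm_num)]
    rfl
  have hg : (Polynomial.C (-z) * Polynomial.X ^ 2 : Polynomial F).degree = 2 := by
    rw [Polynomial.degree_C_mul_X_pow 2 (neg_ne_zero.2 hz)]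
    rfl
  obtain ⟨s, u, h⟩ := FiniteField.exists_root_sum_quadratic hf hg hodd
  refine ⟨s, u, ?_⟩
  simp only [Polynomial.eval_sub, Polynomial.eval_pow, Polynomial.eval_X, Polynomial.eval_C,
    Polynomial.eval_mul] at h
  linear_combination h

/-- Two matrices with the same nonsquare scalar square are conjugate by a matrix of determinant
one (over a finite field of odd order). -/
theorem qe_conj_of_sq [Fintype F] (hodd : Fintype.card F % 2 = 1)
    (x ξ : Matrix (Fin n) (Fin n) F) (z : F) (hz : ¬ IsSquare z)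
    (hx : x * x = z • (1 : Matrix (Fin n) (Fin n) F))
    (hξ : ξ * ξ = z • (1 : Matrix (Fin n) (Fin n) F)) (hn0 : 0 < n) :
    ∃ P : Matrix (Fin n) (Fin n) F, P.det = 1 ∧ x * P = P * ξ := by
  classical
  have hz0 : z ≠ 0 := by
    rintro rfl
    exact hz ⟨0, by simp⟩
  have hirr : ∀ t : F, t * t - 0 * t - z ≠ 0 := by
    intro t h
    exact hz ⟨t, by linear_combination -h⟩
  have hT₁ : ∀ v, Matrix.toLin' x (Matrix.toLin' x v) = (0 : F) • Matrix.toLin' x v + z • v := by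
    intro v
    rw [Matrix.toLin'_apply, Matrix.toLin'_apply, Matrix.mulVec_mulVec, hx, Matrix.smul_mulVec,
      Matrix.one_mulVec, zero_smul, zero_add]
  have hT₂ : ∀ v, Matrix.toLin' ξ (Matrix.toLin' ξ v) = (0 : F) • Matrix.toLin' ξ v + z • v := by
    intro v
    rw [Matrix.toLin'_apply, Matrix.toLin'_apply, Matrix.mulVec_mulVec, hξ, Matrix.smul_mulVec,
      Matrix.one_mulVec, zero_smul, zero_add]
  obtain ⟨m₁, b₁, hb₁⟩ := pair_basis_exists (Matrix.toLin' x) 0 z hT₁ hirr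
  obtain ⟨m₂, b₂, hb₂⟩ := pair_basis_exists (Matrix.toLin' ξ) 0 z hT₂ hirr
  have hfin₁ : n = 2 * m₁ := by
    have h1 := pair_basis_finrank b₁
    simpa using h1
  have hfin₂ : n = 2 * m₂ := by
    have h1 := pair_basis_finrank b₂
    simpa using h1
  obtain rfl : m₁ = m₂ := by omega
  obtain ⟨e, he⟩ : ∃ e : Fin m₁ × Fin 2 ≃ Fin n, e = pairEquiv hfin₁ := ⟨_, rfl⟩
  obtain ⟨c₁, hc₁def⟩ : ∃ c₁ : Basis (Fin n) F (Fin n → F), c₁ = b₁.reindex e := ⟨_, rfl⟩
  obtain ⟨c₂, hc₂def⟩ : ∃ c₂ : Basis (Fin n) F (Fin n → F), c₂ = b₂.reindex e := ⟨_, rfl⟩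
  have hc₁ : ∀ i r, c₁ (e (i, r)) = b₁ (i, r) := by
    intro i r
    rw [hc₁def, Basis.reindex_apply, Equiv.symm_apply_apply]
  have hc₂ : ∀ i r, c₂ (e (i, r)) = b₂ (i, r) := by
    intro i r
    rw [hc₂def, Basis.reindex_apply, Equiv.symm_apply_apply]
  have hx0 : ∀ i, x *ᵥ b₁ (i, 0) = b₁ (i, 1) := by
    intro i
    rw [hb₁ i, Matrix.toLin'_apply]
  have hx1 : ∀ i, x *ᵥ b₁ (i, 1) = z • b₁ (i, 0) := by
    intro i
    rw [← hx0 i, Matrix.mulVec_mulVec, hx, Matrix.smul_mulVec, Matrix.one_mulVec]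
  have hξ0 : ∀ i, ξ *ᵥ b₂ (i, 0) = b₂ (i, 1) := by
    intro i
    rw [hb₂ i, Matrix.toLin'_apply]
  have hξ1 : ∀ i, ξ *ᵥ b₂ (i, 1) = z • b₂ (i, 0) := by
    intro i
    rw [← hξ0 i, Matrix.mulVec_mulVec, hξ, Matrix.smul_mulVec, Matrix.one_mulVec]
  obtain ⟨P₀, hP₀def⟩ : ∃ P₀ : Matrix (Fin n) (Fin n) F, P₀ = basisMat c₁ * (basisMat c₂)⁻¹ :=
    ⟨_, rfl⟩
  have hP₀c : ∀ j, P₀ *ᵥ c₂ j = c₁ j := by
    intro j
    rw [hP₀def, ← Matrix.mulVec_mulVec, basisMat_inv_mulVec, basisMat_mulVec_single]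
  have hP₀b : ∀ i r, P₀ *ᵥ b₂ (i, r) = b₁ (i, r) := by
    intro i r
    rw [← hc₂ i r, hP₀c, hc₁]
  have hP₀ : x * P₀ = P₀ * ξ := by
    apply matrix_ext_basis c₂
    intro j
    obtain ⟨⟨i, r⟩, rfl⟩ := e.surjective j
    have hL : (x * P₀) *ᵥ c₂ (e (i, r)) = x *ᵥ b₁ (i, r) := by
      rw [← Matrix.mulVec_mulVec, hP₀c, hc₁]
    have hR : (P₀ * ξ) *ᵥ c₂ (e (i, r)) = P₀ *ᵥ (ξ *ᵥ b₂ (i, r)) := by
      rw [← Matrix.mulVec_mulVec, hc₂]
    rw [hL, hR]
    fin_cases r
    · show x *ᵥ b₁ (i, 0) = P₀ *ᵥ ξ *ᵥ b₂ (i, 0)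
      rw [hx0, hξ0, hP₀b]
    · show x *ᵥ b₁ (i, 1) = P₀ *ᵥ ξ *ᵥ b₂ (i, 1)
      rw [hx1, hξ1, Matrix.mulVec_smul, hP₀b]
  have hP₀det : P₀.det ≠ 0 := by
    rw [hP₀def, Matrix.det_mul]
    have h3 : (basisMat c₂)⁻¹.det * (basisMat c₂).det = 1 :=
      Matrix.det_nonsing_inv_mul_det _ (basisMat_isUnit_det c₂)
    have h4 : (basisMat c₂)⁻¹.det ≠ 0 := left_ne_zero_of_mul_eq_one h3
    exact mul_ne_zero (basisMat_isUnit_det c₁).ne_zero h4
  obtain ⟨s, u, hsu⟩ := qe_norm_surj hodd z (P₀.det)⁻¹ hz0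
  have hm : 0 < m₁ := by omega
  obtain ⟨i₀, hi₀⟩ : ∃ i₀ : Fin m₁, i₀ = ⟨0, hm⟩ := ⟨_, rfl⟩
  obtain ⟨bx, hbxdef⟩ : ∃ bx : Basis (Fin 2 × Fin m₁) F (Fin n → F),
      bx = b₁.reindex (Equiv.prodComm _ _) := ⟨_, rfl⟩
  have hbx : ∀ r i, bx (r, i) = b₁ (i, r) := by
    intro r i
    rw [hbxdef, Basis.reindex_apply]
    rfl
  obtain ⟨Mfam, hMfam⟩ : ∃ Mfam : Fin m₁ → Matrix (Fin 2) (Fin 2) F,
      Mfam = fun i => if i = i₀ then !![s, u * z; u, s] else 1 := ⟨_, rfl⟩
  have hM1 : ∀ i, Mfam i 0 1 = z * Mfam i 1 0 := by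
    intro i
    rw [hMfam]
    by_cases h : i = i₀
    · simp [h, mul_comm]
    · simp [h]
  have hM2 : ∀ i, Mfam i 1 1 = Mfam i 0 0 := by
    intro i
    rw [hMfam]
    by_cases h : i = i₀
    · simp [h]
    · simp [h]
  obtain ⟨ML, hMLdef⟩ : ∃ ML : (Fin n → F) →ₗ[F] (Fin n → F),
      ML = Matrix.toLin bx bx (Matrix.blockDiagonal Mfam) := ⟨_, rfl⟩
  have hML : ∀ i r, ML (b₁ (i, r)) = Mfam i 0 r • b₁ (i, 0) + Mfam i 1 r • b₁ (i, 1) := by
    intro i r
    rw [← hbx r i, hMLdef, Matrix.toLin_self, Fintype.sum_prod_type, Fin.sum_univ_two]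
    rw [Finset.sum_eq_single i, Finset.sum_eq_single i]
    · rw [Matrix.blockDiagonal_apply_eq, Matrix.blockDiagonal_apply_eq, hbx, hbx]
    · intro i' _ hne
      rw [Matrix.blockDiagonal_apply_ne _ _ _ hne, zero_smul]
    · intro h
      exact absurd (Finset.mem_univ _) h
    · intro i' _ hne
      rw [Matrix.blockDiagonal_apply_ne _ _ _ hne, zero_smul]
    · intro h
      exact absurd (Finset.mem_univ _) h
  have hdetML : LinearMap.det ML = s * s - z * (u * u) := by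
    rw [hMLdef, LinearMap.det_toLin, Matrix.det_blockDiagonal, Finset.prod_eq_single i₀]
    · rw [hMfam]
      simp [Matrix.det_fin_two_of]
      ring
    · intro i _ hi
      rw [hMfam]
      simp [hi]
    · intro h
      exact absurd (Finset.mem_univ _) h
  obtain ⟨M', hM'def⟩ : ∃ M' : Matrix (Fin n) (Fin n) F, M' = LinearMap.toMatrix' ML := ⟨_, rfl⟩
  have hM'det : M'.det = (P₀.det)⁻¹ := by
    rw [hM'def, LinearMap.det_toMatrix', hdetML, hsu]
  have hM'v : ∀ v, M' *ᵥ v = ML v := by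
    intro v
    rw [hM'def, ← Matrix.toLin'_apply, Matrix.toLin'_toMatrix']
  have hcommx : M' * x = x * M' := by
    apply matrix_ext_basis c₁
    intro j
    obtain ⟨⟨i, r⟩, rfl⟩ := e.surjective j
    have hL : (M' * x) *ᵥ c₁ (e (i, r)) = ML (x *ᵥ b₁ (i, r)) := by
      rw [← Matrix.mulVec_mulVec, hc₁, hM'v]
    have hR : (x * M') *ᵥ c₁ (e (i, r)) = x *ᵥ ML (b₁ (i, r)) := by
      rw [← Matrix.mulVec_mulVec, hc₁, hM'v]
    rw [hL, hR]
    fin_cases r
    · show ML (x *ᵥ b₁ (i, 0)) = x *ᵥ ML (b₁ (i, 0))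
      rw [hx0, hML, hML, Matrix.mulVec_add, Matrix.mulVec_smul, Matrix.mulVec_smul, hx0, hx1,
        hM1, hM2]
      module
    · show ML (x *ᵥ b₁ (i, 1)) = x *ᵥ ML (b₁ (i, 1))
      rw [hx1, map_smul, hML, hML, Matrix.mulVec_add, Matrix.mulVec_smul, Matrix.mulVec_smul, hx0,
        hx1, hM1, hM2]
      module
  refine ⟨M' * P₀, ?_, ?_⟩
  · rw [Matrix.det_mul, hM'det, inv_mul_cancel₀ hP₀det]
  · calc x * (M' * P₀) = (x * M') * P₀ := (Matrix.mul_assoc _ _ _).symm
      _ = M' * (x * P₀) := by rw [← hcommx, Matrix.mul_assoc]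
      _ = M' * P₀ * ξ := by rw [hP₀, Matrix.mul_assoc]

end A

section B

variable {ι : Type} [Fintype ι] [DecidableEq ι] {F : Type*} [Field F]

/-- An invertible matrix commuting with a subalgebra normalises it. -/
theorem fsn_mem_normalizer_of_commute {K : Subalgebra F (Matrix ι ι F)} (g : GL ι F)
    (h : ∀ c ∈ K, (g : Matrix ι ι F) * c = c * (g : Matrix ι ι F)) :
    g ∈ subalgebraNormalizer K := by
  have hgg : (g : Matrix ι ι F) * ((g⁻¹ : GL ι F) : Matrix ι ι F) = 1 := by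
    rw [← Units.val_mul, mul_inv_cancel, Units.val_one]
  have hgg' : ((g⁻¹ : GL ι F) : Matrix ι ι F) * (g : Matrix ι ι F) = 1 := by
    rw [← Units.val_mul, inv_mul_cancel, Units.val_one]
  intro c
  constructor
  · intro hc
    rw [h c hc, Matrix.mul_assoc, hgg, Matrix.mul_one]
    exact hc
  · intro hk
    have h1 := h _ hk
    have h2 : c = ((g⁻¹ : GL ι F) : Matrix ι ι F) *
        ((g : Matrix ι ι F) * ((g : Matrix ι ι F) * c * ((g⁻¹ : GL ι F) : Matrix ι ι F))) := by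
      rw [h1]
      simp only [Matrix.mul_assoc, hgg', Matrix.mul_one]
      rw [← Matrix.mul_assoc, hgg', Matrix.one_mul]
    rw [h2, ← Matrix.mul_assoc, hgg', Matrix.one_mul]
    exact hk

theorem qe_exists_sqrt [Fintype F] {K : Subalgebra F (Matrix ι ι F)} (hK : IsFieldSubalgebra 2 K)
    (z : F) (hz : ¬ IsSquare z) : ∃ ξ ∈ K, ξ * ξ = z • (1 : Matrix ι ι F) := by
  classical
  obtain ⟨θ, α, β, hθK, hθ, hirr, -, -⟩ := fsn_quadratic_gen hK
  have hchar : ringChar F ≠ 2 := by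
    intro h
    exact hz (FiniteField.isSquare_of_char_two h z)
  have h2 : (2 : F) ≠ 0 := Ring.two_ne_zero hchar
  obtain ⟨h, rfl⟩ : ∃ h : F, α = 2 * h := ⟨α / 2, by field_simp⟩
  have hz0 : z ≠ 0 := by
    rintro rfl
    exact hz ⟨0, by simp⟩
  have hDns : ¬ IsSquare (β + h * h) := by
    rintro ⟨r, hr⟩
    apply hirr (r + h)
    linear_combination -hr
  have hD0 : β + h * h ≠ 0 := by
    intro h0
    apply hDns
    rw [h0]
    exact ⟨0, by simp⟩
  have hzp : z ^ (Fintype.card F / 2) = -1 :=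
    (FiniteField.pow_dichotomy hchar hz0).resolve_left
      (fun h => hz ((FiniteField.isSquare_iff hchar hz0).2 h))
  have hDp : (β + h * h) ^ (Fintype.card F / 2) = -1 :=
    (FiniteField.pow_dichotomy hchar hD0).resolve_left
      (fun h => hDns ((FiniteField.isSquare_iff hchar hD0).2 h))
  have hq0 : z / (β + h * h) ≠ 0 := div_ne_zero hz0 hD0
  have hsq : IsSquare (z / (β + h * h)) := by
    rw [FiniteField.isSquare_iff hchar hq0, div_pow, hzp, hDp]
    norm_num
  obtain ⟨w, hw⟩ := hsq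
  have hθ' : (θ - h • (1 : Matrix ι ι F)) * (θ - h • (1 : Matrix ι ι F)) =
      (β + h * h) • (1 : Matrix ι ι F) := by
    simp only [sub_mul, mul_sub, Matrix.smul_mul, Matrix.mul_smul, Matrix.mul_one, Matrix.one_mul,
      hθ]
    module
  refine ⟨w • (θ - h • (1 : Matrix ι ι F)),
    K.smul_mem (K.sub_mem hθK (K.smul_mem K.one_mem h)) w, ?_⟩
  rw [Matrix.smul_mul, Matrix.mul_smul, hθ', smul_smul, smul_smul]
  congr 1
  rw [(div_eq_iff hD0).1 hw]

end B

section C

variable {F : Type*} [Field F]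

theorem inv2_basis (y : Matrix (Fin 2) (Fin 2) F) (hy : y * y = 1) (hyns : ∀ s : F, y ≠ s • 1) :
    ∃ B : Matrix (Fin 2) (Fin 2) F, B.det ≠ 0 ∧ y * B = B * !![0, 1; 1, 0] := by
  have h00 := congrFun (congrFun hy 0) 0
  have h01 := congrFun (congrFun hy 0) 1
  have h10 := congrFun (congrFun hy 1) 0
  have h11 := congrFun (congrFun hy 1) 1
  simp only [Matrix.mul_apply, Fin.sum_univ_two, Matrix.one_apply_eq, Matrix.one_apply_ne,
    ne_eq, Fin.isValue, zero_ne_one, one_ne_zero, not_false_eq_true] at h00 h01 h10 h11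
  by_cases hc : y 1 0 = 0
  · by_cases hb : y 0 1 = 0
    · refine ⟨!![1, y 0 0; 1, y 1 1], ?_, ?_⟩
      · rw [Matrix.det_fin_two_of]
        intro h
        apply hyns (y 0 0)
        ext i j
        fin_cases i <;> fin_cases j
        · simp
        · simpa using hb
        · simpa using hc
        · simp only [Fin.mk_one, Fin.isValue, Matrix.smul_apply, Matrix.one_apply_eq, smul_eq_mul,
            mul_one]
          linear_combination h
      · ext i j
        fin_cases i <;> fin_cases j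
        · simp [Matrix.mul_apply, Fin.sum_univ_two, hb]
        · simp [Matrix.mul_apply, Fin.sum_univ_two, hb]
          rw [hb, hc] at h00
          linear_combination h00
        · simp [Matrix.mul_apply, Fin.sum_univ_two, hc]
        · simp [Matrix.mul_apply, Fin.sum_univ_two, hc]
          rw [hb, hc] at h11
          linear_combination h11
    · refine ⟨!![0, y 0 1; 1, y 1 1], ?_, ?_⟩
      · rw [Matrix.det_fin_two_of]
        simpa using hb
      · ext i j
        fin_cases i <;> fin_cases j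
        · simp [Matrix.mul_apply, Fin.sum_univ_two]
        · simp [Matrix.mul_apply, Fin.sum_univ_two]
          linear_combination h01
        · simp [Matrix.mul_apply, Fin.sum_univ_two]
        · simp [Matrix.mul_apply, Fin.sum_univ_two]
          linear_combination h11
  · refine ⟨!![1, y 0 0; 0, y 1 0], ?_, ?_⟩
    · rw [Matrix.det_fin_two_of]
      simpa using hc
    · ext i j
      fin_cases i <;> fin_cases j
      · simp [Matrix.mul_apply, Fin.sum_univ_two]
      · simp [Matrix.mul_apply, Fin.sum_univ_two]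
        linear_combination h00
      · simp [Matrix.mul_apply, Fin.sum_univ_two]
      · simp [Matrix.mul_apply, Fin.sum_univ_two]
        linear_combination h10

theorem qe_two_eq_zero_iff [Fintype F] : (2 : F) = 0 ↔ ringChar F = 2 := by
  constructor
  · intro h
    have h1 : ((2 : ℕ) : F) = 0 := by exact_mod_cast h
    have h2 := (ringChar.spec F 2).1 h1
    rcases (Nat.dvd_prime Nat.prime_two).1 h2 with h3 | h3
    · exact absurd h3 (CharP.ringChar_ne_one)
    · exact h3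
  · intro h
    by_contra hne
    exact Ring.two_ne_zero (R := F) (by
      intro h'
      exact hne (by
        have h1 := (ringChar.spec F 2).2 (by rw [h])
        exact_mod_cast h1)) (by
        have h1 := (ringChar.spec F 2).2 (by rw [h])
        exact_mod_cast h1)

theorem qe_two_ne_zero_iff_odd [Fintype F] : (2 : F) ≠ 0 ↔ Odd (Fintype.card F) := by
  rw [Ne, qe_two_eq_zero_iff, FiniteField.even_card_iff_char_two, Nat.odd_iff]
  omega

theorem qe_diff_squares [Fintype F] (e : F) : ∃ a b : F, a * a - b * b = e := by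
  by_cases h2 : (2 : F) = 0
  · obtain ⟨r, hr⟩ := FiniteField.isSquare_of_char_two (qe_two_eq_zero_iff.1 h2) e
    exact ⟨r, 0, by rw [hr]; ring⟩
  · exact ⟨(e + 1) / 2, (e - 1) / 2, by field_simp; ring⟩

/-- Two nonscalar involutions in dimension two are conjugate by a matrix of determinant one. -/
theorem inv2_conj [Fintype F] (y S : Matrix (Fin 2) (Fin 2) F) (hy : y * y = 1) (hS : S * S = 1)
    (hyns : ∀ s : F, y ≠ s • 1) (hSns : ∀ s : F, S ≠ s • 1) :
    ∃ P : Matrix (Fin 2) (Fin 2) F, P.det = 1 ∧ y * P = P * S := by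
  obtain ⟨B₁, hB₁det, hB₁⟩ := inv2_basis y hy hyns
  obtain ⟨B₂, hB₂det, hB₂⟩ := inv2_basis S hS hSns
  obtain ⟨a, b, hab⟩ := qe_diff_squares (B₂.det / B₁.det)
  have hB₂u : IsUnit B₂.det := isUnit_iff_ne_zero.2 hB₂det
  have hinv1 : B₂⁻¹ * B₂ = 1 := Matrix.nonsing_inv_mul _ hB₂u
  have hinv2 : B₂ * B₂⁻¹ = 1 := Matrix.mul_nonsing_inv _ hB₂u
  have hJ : !![a, b; b, a] * !![(0 : F), 1; 1, 0] = !![(0 : F), 1; 1, 0] * !![a, b; b, a] := by
    ext i j
    fin_cases i <;> fin_cases j <;> simp [Matrix.mul_apply, Fin.sum_univ_two]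
  have hS' : !![(0 : F), 1; 1, 0] * B₂⁻¹ = B₂⁻¹ * S := by
    calc !![(0 : F), 1; 1, 0] * B₂⁻¹ = B₂⁻¹ * (B₂ * !![(0 : F), 1; 1, 0]) * B₂⁻¹ := by
          rw [← Matrix.mul_assoc, hinv1, Matrix.one_mul]
      _ = B₂⁻¹ * S * (B₂ * B₂⁻¹) := by rw [← hB₂]; simp only [Matrix.mul_assoc]
      _ = B₂⁻¹ * S := by rw [hinv2, Matrix.mul_one]
  refine ⟨B₁ * !![a, b; b, a] * B₂⁻¹, ?_, ?_⟩
  · rw [Matrix.det_mul, Matrix.det_mul, Matrix.det_fin_two_of]
    have h3 : B₂⁻¹.det * B₂.det = 1 := Matrix.det_nonsing_inv_mul_det _ hB₂u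
    have h4 : B₂⁻¹.det = (B₂.det)⁻¹ := eq_inv_of_mul_eq_one_left h3
    rw [h4, hab]
    field_simp
  · calc y * (B₁ * !![a, b; b, a] * B₂⁻¹) = (y * B₁) * !![a, b; b, a] * B₂⁻¹ := by
          simp only [Matrix.mul_assoc]
      _ = B₁ * (!![(0 : F), 1; 1, 0] * !![a, b; b, a]) * B₂⁻¹ := by
          rw [hB₁]; simp only [Matrix.mul_assoc]
      _ = B₁ * !![a, b; b, a] * (!![(0 : F), 1; 1, 0] * B₂⁻¹) := by
          rw [← hJ]; simp only [Matrix.mul_assoc]
      _ = B₁ * !![a, b; b, a] * B₂⁻¹ * S := by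
          rw [hS']; simp only [Matrix.mul_assoc]

end C

section D

variable {F : Type*} [Field F]

theorem qe_padic_two_pow_mul_odd (e m : ℕ) (hm : Odd m) : padicValNat 2 (2 ^ e * m) = e := by
  have hm0 : m ≠ 0 := by
    rintro rfl
    exact absurd hm (by decide)
  rw [padicValNat.mul (pow_ne_zero _ (by norm_num)) hm0, padicValNat.prime_pow,
    padicValNat.eq_zero_of_not_dvd (fun h => (Nat.not_even_iff_odd.2 hm) (even_iff_two_dvd.2 h)),
    add_zero]

theorem qe_val_lt_of_pow_eq_neg_one [Fintype F] (hodd : Odd (Fintype.card F)) (n : ℕ)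
    (hn : n ≠ 0) (lam : F) (hlam : lam ^ n = -1) :
    padicValNat 2 n < padicValNat 2 (Fintype.card F - 1) := by
  classical
  have hchar : ringChar F ≠ 2 := by
    intro h
    have := FiniteField.even_card_iff_char_two.1 h
    rw [Nat.odd_iff] at hodd
    omega
  have hneg : (-1 : F) ≠ 1 := Ring.neg_one_ne_one_of_char_ne_two hchar
  obtain ⟨e, m, hm, rfl⟩ := Nat.exists_eq_two_pow_mul_odd hn
  rw [qe_padic_two_pow_mul_odd e m hm]
  have hμ : (lam ^ m) ^ 2 ^ e = -1 := by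
    rw [← pow_mul, mul_comm, hlam]
  have hμ2 : (lam ^ m) ^ 2 ^ (e + 1) = 1 := by
    rw [pow_succ, pow_mul, hμ]
    norm_num
  have hord : orderOf (lam ^ m) = 2 ^ (e + 1) :=
    orderOf_eq_prime_pow (by rw [hμ]; exact hneg) hμ2
  have hμ0 : lam ^ m ≠ 0 := by
    intro h
    rw [h, zero_pow (pow_ne_zero _ (by norm_num))] at hμ
    exact absurd hμ.symm (by simp)
  have hdvd : 2 ^ (e + 1) ∣ Fintype.card F - 1 := by
    rw [← hord]
    exact orderOf_dvd_of_pow_eq_one (FiniteField.pow_card_sub_one_eq_one _ hμ0)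
  have hq1 : 1 < Fintype.card F := Fintype.one_lt_card
  have := (padicValNat_dvd_iff_le (p := 2) (by omega : Fintype.card F - 1 ≠ 0)).1 hdvd
  omega

theorem qe_exists_pow_eq_neg_one [Fintype F] (n : ℕ) (hn : n ≠ 0)
    (h : padicValNat 2 n < padicValNat 2 (Fintype.card F - 1)) : ∃ lam : F, lam ^ n = -1 := by
  classical
  obtain ⟨e, m, hm, rfl⟩ := Nat.exists_eq_two_pow_mul_odd hn
  rw [qe_padic_two_pow_mul_odd e m hm] at h
  have hq1 : 1 < Fintype.card F := Fintype.one_lt_card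
  have hdvd : 2 ^ (e + 1) ∣ Fintype.card F - 1 :=
    (padicValNat_dvd_iff_le (p := 2) (by omega : Fintype.card F - 1 ≠ 0)).2 h
  obtain ⟨g, hg⟩ := IsCyclic.exists_ofOrder_eq_natCard (α := Fˣ)
  rw [Nat.card_eq_fintype_card, Fintype.card_units] at hg
  obtain ⟨d, hd⟩ := hdvd
  have hd0 : d ≠ 0 := by
    rintro rfl
    omega
  have hordμ : orderOf (g ^ d) = 2 ^ (e + 1) := by
    rw [orderOf_pow_of_dvd hd0 (by rw [hg, hd]; exact dvd_mul_left _ _), hg, hd,
      Nat.mul_div_cancel _ (Nat.pos_of_ne_zero hd0)]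
  have hν1 : (g ^ d) ^ 2 ^ e ≠ 1 := by
    apply pow_ne_one_of_lt_orderOf (pow_ne_zero _ (by norm_num))
    rw [hordμ]
    exact Nat.pow_lt_pow_right (by norm_num) (by omega)
  have hν2 : ((g ^ d) ^ 2 ^ e) ^ 2 = 1 := by
    rw [← pow_mul, ← pow_succ, ← hordμ, pow_orderOf_eq_one]
  have hνF : (((g ^ d) ^ 2 ^ e : Fˣ) : F) = -1 := by
    have h1 : (((g ^ d) ^ 2 ^ e : Fˣ) : F) ^ 2 = 1 := by
      rw [← Units.val_pow_eq_pow_val, hν2, Units.val_one]
    rcases sq_eq_one_iff.1 h1 with h2 | h2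
    · exact absurd (Units.ext h2) hν1
    · exact h2
  refine ⟨((g ^ d : Fˣ) : F), ?_⟩
  rw [pow_mul, ← Units.val_pow_eq_pow_val, hνF, hm.neg_one_pow]

end D

section E

variable {F : Type*} [Field F] {n : ℕ}

/-- In characteristic two, a transvection is an involution which is a rank one perturbation of the
identity. -/
theorem qe_transvection_data (hn : 2 ≤ n) (h2 : (2 : F) = 0) :
    ∃ X : Matrix (Fin n) (Fin n) F, X.det = 1 ∧ (∃ z : F, X * X = z • 1) ∧ (∀ z : F, X ≠ z • 1) ∧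
      ∃ (lam : F) (ψ : (Fin n → F) →ₗ[F] F) (u : Fin n → F), ψ ≠ 0 ∧ u ≠ 0 ∧
        ∀ w, X *ᵥ w = lam • w + ψ w • u := by
  classical
  obtain ⟨i0, hi0⟩ : ∃ i0 : Fin n, i0 = ⟨0, by omega⟩ := ⟨_, rfl⟩
  obtain ⟨i1, hi1⟩ : ∃ i1 : Fin n, i1 = ⟨1, by omega⟩ := ⟨_, rfl⟩
  have hne : i0 ≠ i1 := by
    rw [hi0, hi1]
    intro h
    simp at h
  refine ⟨Matrix.transvection i0 i1 1, Matrix.det_transvection_of_ne i0 i1 hne 1, ⟨1, ?_⟩, ?_,
    1, LinearMap.proj i1, Pi.single i0 1, ?_, ?_, ?_⟩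
  · rw [Matrix.transvection_mul_transvection_same _ _ hne, one_smul]
    have h3 : (1 : F) + 1 = 0 := by rw [← h2]; norm_num
    rw [h3, Matrix.transvection_zero]
  · intro z hz
    have h1 := congrFun (congrFun hz i0) i1
    simp [Matrix.transvection, hne] at h1
  · intro h
    have h1 := LinearMap.congr_fun h (Pi.single i1 1)
    simp at h1
  · intro h
    have h1 := congrFun h i0
    simp at h1
  · intro w
    rw [Matrix.transvection, Matrix.add_mulVec, Matrix.one_mulVec, one_smul]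
    congr 1
    ext r
    simp [Matrix.mulVec, dotProduct, Matrix.single_apply, Pi.single_apply]
    by_cases hr : r = i0
    · simp [hr]
    · simp [hr, Ne.symm hr]

/-- In odd characteristic, a scalar multiple of a reflection with determinant one. -/
theorem qe_reflection_data (hn : 2 ≤ n) (h2 : (2 : F) ≠ 0) (lam : F) (hlam : lam ^ n = -1) :
    ∃ X : Matrix (Fin n) (Fin n) F, X.det = 1 ∧ (∃ z : F, X * X = z • 1) ∧ (∀ z : F, X ≠ z • 1) ∧
      ∃ (lam' : F) (ψ : (Fin n → F) →ₗ[F] F) (u : Fin n → F), ψ ≠ 0 ∧ u ≠ 0 ∧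
        ∀ w, X *ᵥ w = lam' • w + ψ w • u := by
  classical
  obtain ⟨i0, hi0⟩ : ∃ i0 : Fin n, i0 = ⟨0, by omega⟩ := ⟨_, rfl⟩
  obtain ⟨i1, hi1⟩ : ∃ i1 : Fin n, i1 = ⟨1, by omega⟩ := ⟨_, rfl⟩
  have hne : i1 ≠ i0 := by
    rw [hi0, hi1]
    intro h
    simp at h
  have hlam0 : lam ≠ 0 := by
    rintro rfl
    rw [zero_pow (by omega)] at hlam
    exact absurd hlam.symm (by simp)
  refine ⟨Matrix.diagonal (fun i => if i = i0 then -lam else lam), ?_, ⟨lam * lam, ?_⟩, ?_,
    lam, (-2 * lam) • LinearMap.proj i0, Pi.single i0 1, ?_, ?_, ?_⟩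
  · rw [Matrix.det_diagonal]
    have h1 : ∀ i : Fin n, (if i = i0 then -lam else lam) = lam * (if i = i0 then (-1 : F) else 1) := by
      intro i
      split_ifs <;> ring
    simp_rw [h1]
    rw [Finset.prod_mul_distrib, Finset.prod_const, Finset.card_univ, Fintype.card_fin, hlam,
      Finset.prod_ite_eq' Finset.univ i0 (fun _ => (-1 : F))]
    simp
  · rw [Matrix.diagonal_mul_diagonal, Matrix.smul_one_eq_diagonal]
    congr 1
    funext i
    split_ifs <;> ring
  · intro z hz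
    have h0 := congrFun (congrFun hz i0) i0
    have h1 := congrFun (congrFun hz i1) i1
    simp [hne] at h0 h1
    apply h2
    have h3 : lam * 2 = 0 := by linear_combination h1 - h0
    rcases mul_eq_zero.1 h3 with h4 | h4
    · exact absurd h4 hlam0
    · exact h4
  · intro h
    have h1 := LinearMap.congr_fun h (Pi.single i0 1)
    simp [hlam0, h2] at h1
  · intro h
    have h1 := congrFun h i0
    simp at h1
  · intro w
    ext r
    rw [Matrix.mulVec_diagonal]
    simp only [Pi.add_apply, Pi.smul_apply, smul_eq_mul, LinearMap.smul_apply, LinearMap.proj_apply,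
      Pi.single_apply]
    by_cases hr : r = i0
    · rw [if_pos hr, if_pos hr, hr]
      ring
    · rw [if_neg hr, if_neg hr]
      ring

end E

end Cfsg.Agent.Lib.helper24
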