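import Mathlib

/-!
# Ranks of Kronecker products minus scalars
-/

set_option autoImplicit false

namespace Cfsg.Agent.Lib.helper24

open Module Matrix
open scoped Kronecker

variable {F : Type*} [Field F]

/-- A matrix of rank zero is zero. -/
theorem tens_eq_zero_of_rank_eq_zero {m n : Type*} [Fintype m] [Fintype n] [DecidableEq n]
    (M : Matrix m n F) (h : M.rank = 0) : M = 0 := by
  have h1 : LinearMap.range M.mulVecLin = ⊥ := by
    apply Submodule.finrank_eq_zero.1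
    exact h
  have h2 : M.mulVecLin = 0 := LinearMap.range_eq_bot.1 h1
  ext i j
  have h3 := congrFun (LinearMap.congr_fun h2 (Pi.single j 1)) i
  simpa using h3

/-- A non-scalar matrix moves some vector off its own line. -/
theorem tens_exists_indep {a : ℕ} (g : Matrix (Fin a) (Fin a) F) (hg : ∀ c : F, g ≠ c • 1) :
    ∃ (u : Fin a → F) (i₁ i₂ : Fin a), u i₁ * (g *ᵥ u) i₂ ≠ u i₂ * (g *ᵥ u) i₁ := by
  classical
  by_contra hcon
  have hall : ∀ (u : Fin a → F) (i₁ i₂ : Fin a), u i₁ * (g *ᵥ u) i₂ = u i₂ * (g *ᵥ u) i₁ := by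
    intro u i₁ i₂
    by_contra h
    exact hcon ⟨u, i₁, i₂, h⟩
  have hoff : ∀ i k : Fin a, i ≠ k → g i k = 0 := by
    intro i k hik
    have h1 := hall (Pi.single k 1) k i
    rw [Matrix.mulVec_single_one] at h1
    simpa [Pi.single_apply, hik] using h1
  have hdiag : ∀ k l : Fin a, g k k = g l l := by
    intro k l
    by_cases hkl : k = l
    · rw [hkl]
    have h1 := hall (Pi.single k 1 + Pi.single l 1) k l
    rw [Matrix.mulVec_add, Matrix.mulVec_single_one, Matrix.mulVec_single_one] at h1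
    have hlk : l ≠ k := fun h => hkl h.symm
    simp [hkl, hlk, hoff k l hkl, hoff l k hlk] at h1
    exact h1.symm
  rcases Nat.eq_zero_or_pos a with ha | ha
  · subst ha
    exact hg 0 (by ext i; exact i.elim0)
  · apply hg (g ⟨0, ha⟩ ⟨0, ha⟩)
    ext i j
    by_cases hij : i = j
    · subst hij
      simp [hdiag i ⟨0, ha⟩]
    · simp [hoff i j hij, Matrix.one_apply_ne hij]

/-- The action of a Kronecker product on a pure tensor. -/
theorem tens_kron_mulVec {a b : ℕ} (g₁ : Matrix (Fin a) (Fin a) F) (g₂ : Matrix (Fin b) (Fin b) F)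
    (u : Fin a → F) (w : Fin b → F) (p : Fin a × Fin b) :
    ((g₁ ⊗ₖ g₂) *ᵥ fun q : Fin a × Fin b => u q.1 * w q.2) p = (g₁ *ᵥ u) p.1 * (g₂ *ᵥ w) p.2 := by
  simp only [Matrix.mulVec, dotProduct, Matrix.kroneckerMap_apply, Fintype.sum_prod_type]
  rw [Finset.sum_mul_sum]
  apply Finset.sum_congr rfl
  intro i _
  apply Finset.sum_congr rfl
  intro j _
  ring

/-- If `g₁` is not a scalar and `g₂` is injective then `g₁ ⊗ g₂ - λ` has rank at least `b`. -/
theorem tens_rank_ge {a b : ℕ} (g₁ : Matrix (Fin a) (Fin a) F) (g₂ : Matrix (Fin b) (Fin b) F)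
    (hg₁ : ∀ c : F, g₁ ≠ c • 1) (hg₂ : ∀ w : Fin b → F, g₂ *ᵥ w = 0 → w = 0) (lam : F) :
    b ≤ (g₁ ⊗ₖ g₂ - lam • (1 : Matrix (Fin a × Fin b) (Fin a × Fin b) F)).rank := by
  classical
  obtain ⟨u, i₁, i₂, hu⟩ := tens_exists_indep g₁ hg₁
  obtain ⟨M, hM⟩ : ∃ M : Matrix (Fin a × Fin b) (Fin a × Fin b) F,
      M = g₁ ⊗ₖ g₂ - lam • (1 : Matrix (Fin a × Fin b) (Fin a × Fin b) F) := ⟨_, rfl⟩
  rw [← hM]
  let T : (Fin b → F) →ₗ[F] (Fin a × Fin b → F) :=
    { toFun := fun w p => u p.1 * w p.2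
      map_add' := by
        intro w w'
        funext p
        simp [mul_add]
      map_smul' := by
        intro c w
        funext p
        simp [mul_left_comm] }
  have hT : ∀ (w : Fin b → F) (p : Fin a × Fin b),
      (M *ᵥ T w) p = (g₁ *ᵥ u) p.1 * (g₂ *ᵥ w) p.2 - lam * (u p.1 * w p.2) := by
    intro w p
    rw [hM, Matrix.sub_mulVec, Matrix.smul_mulVec, Matrix.one_mulVec]
    show ((g₁ ⊗ₖ g₂) *ᵥ fun q : Fin a × Fin b => u q.1 * w q.2) p - lam * (u p.1 * w p.2) = _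
    rw [tens_kron_mulVec]
  have hinj : Function.Injective (M.mulVecLin ∘ₗ T) := by
    rw [← LinearMap.ker_eq_bot, LinearMap.ker_eq_bot']
    intro w hw
    apply hg₂
    funext j
    have e1 := congrFun hw (i₁, j)
    have e2 := congrFun hw (i₂, j)
    simp only [LinearMap.comp_apply, Matrix.mulVecLin_apply, hT, Pi.zero_apply] at e1 e2
    have e3 : (u i₁ * (g₁ *ᵥ u) i₂ - u i₂ * (g₁ *ᵥ u) i₁) * (g₂ *ᵥ w) j = 0 := by
      linear_combination u i₁ * e2 - u i₂ * e1
    rcases mul_eq_zero.1 e3 with h | h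
    · exact absurd (sub_eq_zero.1 h) hu
    · exact h
  have h1 : finrank F (LinearMap.range (M.mulVecLin ∘ₗ T)) = b := by
    rw [LinearMap.finrank_range_of_inj hinj]
    simp
  have h2 : LinearMap.range (M.mulVecLin ∘ₗ T) ≤ LinearMap.range M.mulVecLin :=
    LinearMap.range_comp_le_range _ _
  calc b = finrank F (LinearMap.range (M.mulVecLin ∘ₗ T)) := h1.symm
    _ ≤ finrank F (LinearMap.range M.mulVecLin) := Submodule.finrank_mono h2

/-- The action of `1 ⊗ N`. -/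
theorem tens_one_kron_mulVec {a b : ℕ} (N : Matrix (Fin b) (Fin b) F) (v : Fin a × Fin b → F)
    (p : Fin a × Fin b) :
    (((1 : Matrix (Fin a) (Fin a) F) ⊗ₖ N) *ᵥ v) p = (N *ᵥ fun j => v (p.1, j)) p.2 := by
  classical
  simp only [Matrix.mulVec, dotProduct, Matrix.kroneckerMap_apply, Fintype.sum_prod_type,
    Matrix.one_apply]
  rw [Finset.sum_eq_single p.1]
  · simp
  · intro i _ hi
    simp [Ne.symm hi]
  · intro h
    exact absurd (Finset.mem_univ _) h

/-- The rank of `1_a ⊗ N` is `a` times the rank of `N`. -/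
theorem tens_rank_one_kron {a b : ℕ} (N : Matrix (Fin b) (Fin b) F) :
    ((1 : Matrix (Fin a) (Fin a) F) ⊗ₖ N).rank = a * N.rank := by
  classical
  let Φ : (Fin a → LinearMap.range N.mulVecLin) →ₗ[F] (Fin a × Fin b → F) :=
    { toFun := fun f p => (f p.1 : Fin b → F) p.2
      map_add' := by
        intro f f'
        rfl
      map_smul' := by
        intro c f
        rfl }
  have hΦinj : Function.Injective Φ := by
    intro f f' h
    funext i
    apply Subtype.ext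
    funext j
    exact congrFun h (i, j)
  have hrange : LinearMap.range ((1 : Matrix (Fin a) (Fin a) F) ⊗ₖ N).mulVecLin =
      LinearMap.range Φ := by
    apply le_antisymm
    · rintro _ ⟨v, rfl⟩
      refine ⟨fun i => ⟨N *ᵥ fun j => v (i, j), ⟨_, rfl⟩⟩, ?_⟩
      funext p
      rw [Matrix.mulVecLin_apply, tens_one_kron_mulVec]
      rfl
    · rintro _ ⟨f, rfl⟩
      have hf : ∀ i, ∃ w : Fin b → F, N *ᵥ w = (f i : Fin b → F) := fun i => by
        obtain ⟨w, hw⟩ := (f i).2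
        exact ⟨w, hw⟩
      choose w hw using hf
      refine ⟨fun p => w p.1 p.2, ?_⟩
      funext p
      rw [Matrix.mulVecLin_apply, tens_one_kron_mulVec]
      show (N *ᵥ w p.1) p.2 = _
      rw [hw]
      rfl
  show finrank F (LinearMap.range ((1 : Matrix (Fin a) (Fin a) F) ⊗ₖ N).mulVecLin) =
    a * finrank F (LinearMap.range N.mulVecLin)
  rw [hrange, LinearMap.finrank_range_of_inj hΦinj, Module.finrank_pi_fintype]
  simp

/-- If `M ⊗ N = 1` then `M` is a non-zero scalar. -/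
theorem tens_kron_eq_one {a b : ℕ} (hb : 0 < b) (M : Matrix (Fin a) (Fin a) F)
    (N : Matrix (Fin b) (Fin b) F) (h : M ⊗ₖ N = 1) : ∃ c : F, c ≠ 0 ∧ M = c • 1 := by
  classical
  have h1 : ∀ i i', M i i' * N ⟨0, hb⟩ ⟨0, hb⟩ = if i = i' then 1 else 0 := by
    intro i i'
    have h2 := congrFun (congrFun h (i, ⟨0, hb⟩)) (i', ⟨0, hb⟩)
    rw [Matrix.kroneckerMap_apply, Matrix.one_apply] at h2
    simpa [Prod.ext_iff] using h2
  by_cases ha : a = 0
  · subst ha
    exact ⟨1, one_ne_zero, by ext i; exact i.elim0⟩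
  have hN : N ⟨0, hb⟩ ⟨0, hb⟩ ≠ 0 := by
    intro h0
    have h2 := h1 ⟨0, by omega⟩ ⟨0, by omega⟩
    rw [h0, mul_zero, if_pos rfl] at h2
    exact zero_ne_one h2
  refine ⟨(N ⟨0, hb⟩ ⟨0, hb⟩)⁻¹, inv_ne_zero hN, ?_⟩
  ext i i'
  rw [Matrix.smul_apply, Matrix.one_apply, smul_eq_mul, ← h1 i i']
  field_simp

/-- `N ↦ 1 ⊗ N` is injective. -/
theorem tens_one_kron_inj {a b : ℕ} (ha : 0 < a) (N N' : Matrix (Fin b) (Fin b) F)
    (h : (1 : Matrix (Fin a) (Fin a) F) ⊗ₖ N = (1 : Matrix (Fin a) (Fin a) F) ⊗ₖ N') : N = N' := by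
  ext j j'
  have h2 := congrFun (congrFun h (⟨0, ha⟩, j)) (⟨0, ha⟩, j')
  rw [Matrix.kroneckerMap_apply, Matrix.kroneckerMap_apply, Matrix.one_apply_eq, one_mul,
    one_mul] at h2
  exact h2

theorem tens_kron_pow {a b : ℕ} (M : Matrix (Fin a) (Fin a) F) (N : Matrix (Fin b) (Fin b) F)
    (m : ℕ) : (M ⊗ₖ N) ^ m = (M ^ m) ⊗ₖ (N ^ m) := by
  induction m with
  | zero => simp
  | succ k ih => rw [pow_succ, ih, pow_succ, pow_succ, Matrix.mul_kronecker_mul]

theorem tens_kron_sub {a b : ℕ} (M : Matrix (Fin a) (Fin a) F) (N N' : Matrix (Fin b) (Fin b) F) :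
    M ⊗ₖ (N - N') = M ⊗ₖ N - M ⊗ₖ N' := by
  ext p q
  simp [Matrix.kroneckerMap_apply, mul_sub]

/-- `c • 1 ⊗ N - μ = 1 ⊗ (c N - μ)`. -/
theorem tens_scalar_kron_sub {a b : ℕ} (c mu : F) (N : Matrix (Fin b) (Fin b) F) :
    (c • (1 : Matrix (Fin a) (Fin a) F)) ⊗ₖ N - mu • (1 : Matrix (Fin a × Fin b) (Fin a × Fin b) F) =
      (1 : Matrix (Fin a) (Fin a) F) ⊗ₖ (c • N - mu • (1 : Matrix (Fin b) (Fin b) F)) := by
  rw [tens_kron_sub, Matrix.smul_kronecker, Matrix.kronecker_smul, Matrix.kronecker_smul,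
    Matrix.one_kronecker_one]

end Cfsg.Agent.Lib.helper24
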