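import Mathlib

/-!
# Elements of prime order `r` with `r` not dividing `q - 1`
-/

set_option autoImplicit false

namespace Cfsg.Agent.Lib.helper24

open Module Matrix

variable {F : Type*} [Field F]

/-- If `r` is prime to `q - 1` then the only `r`-th root of unity is `1`. -/
theorem tens_eq_one_of_pow [Fintype F] (r : ℕ) [hr : Fact r.Prime]
    (hr1 : ¬ r ∣ Fintype.card F - 1) (z : F) (hz : z ^ r = 1) : z = 1 := by
  have hz0 : z ≠ 0 := by
    rintro rfl
    rw [zero_pow hr.out.ne_zero] at hz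
    exact zero_ne_one hz
  have h1 : z ^ (Fintype.card F - 1) = 1 := FiniteField.pow_card_sub_one_eq_one z hz0
  have hcop : Nat.Coprime r (Fintype.card F - 1) := (Nat.Prime.coprime_iff_not_dvd hr.out).2 hr1
  exact (pow_eq_one_iff_of_coprime hcop).1 ⟨hz, h1⟩

/-- If `r` is prime to `q - 1` then every non-zero element is an `r`-th power. -/
theorem tens_exists_root [Fintype F] (r : ℕ) [hr : Fact r.Prime]
    (hr1 : ¬ r ∣ Fintype.card F - 1) (c : F) (hc : c ≠ 0) : ∃ d : F, d ≠ 0 ∧ d ^ r = c := by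
  classical
  have hinj : Function.Injective (fun x : Fˣ => x ^ r) := by
    intro x y hxy
    have hxy' : x ^ r = y ^ r := hxy
    have h1 : ((x / y : Fˣ) : F) ^ r = 1 := by
      rw [← Units.val_pow_eq_pow_val, div_pow, hxy', div_self', Units.val_one]
    have h2 := tens_eq_one_of_pow r hr1 _ h1
    exact div_eq_one.1 (Units.ext h2)
  obtain ⟨d, hd⟩ := (Finite.injective_iff_surjective.1 hinj) (Units.mk0 c hc)
  refine ⟨d, d.ne_zero, ?_⟩
  have h3 := congrArg Units.val hd
  simpa using h3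

/-- The number of fixed points: if `M ^ r = 1` with `r` a prime not dividing `q`, then
`q ^ rank (M - 1) = 1` modulo `r`. -/
theorem tens_pow_rank_eq_one [Fintype F] {m : ℕ} (r : ℕ) [hr : Fact r.Prime]
    (M : Matrix (Fin m) (Fin m) F) (hM : M ^ r = 1) (hrq : ¬ r ∣ Fintype.card F) :
    ((Fintype.card F : ℕ) : ZMod r) ^ (M - 1).rank = 1 := by
  classical
  let f : Function.End (Fin m → F) := fun v => M *ᵥ v
  have hk : ∀ k : ℕ, ∀ v, (f ^ k) v = (M ^ k) *ᵥ v := by
    intro k
    induction k with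
    | zero =>
      intro v
      rw [pow_zero, pow_zero, Matrix.one_mulVec]
      rfl
    | succ k ih =>
      intro v
      rw [pow_succ, pow_succ]
      show (f ^ k) (f v) = _
      rw [ih]
      show (M ^ k) *ᵥ (M *ᵥ v) = _
      rw [Matrix.mulVec_mulVec]
  have hf : f ^ r ^ 1 = 1 := by
    rw [pow_one]
    funext v
    rw [hk, hM, Matrix.one_mulVec]
    rfl
  have h1 := Equiv.Perm.card_fixedPoints_modEq (p := r) (n := 1) hf
  have hfix : Function.fixedPoints f = (LinearMap.ker (M - 1).mulVecLin : Set (Fin m → F)) := by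
    ext v
    rw [Function.mem_fixedPoints, Function.IsFixedPt, SetLike.mem_coe, LinearMap.mem_ker,
      Matrix.mulVecLin_apply, Matrix.sub_mulVec, Matrix.one_mulVec, sub_eq_zero]
  have hcardV : Fintype.card (Fin m → F) = Fintype.card F ^ m := by
    rw [Fintype.card_fun, Fintype.card_fin]
  have hcardK : Fintype.card (Function.fixedPoints f) =
      Fintype.card F ^ finrank F (LinearMap.ker (M - 1).mulVecLin) := by
    rw [← Nat.card_eq_fintype_card, hfix]
    show Nat.card (LinearMap.ker (M - 1).mulVecLin) = _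
    rw [Nat.card_eq_fintype_card, Module.card_eq_pow_finrank (K := F)]
  have hrn := LinearMap.finrank_range_add_finrank_ker (M - 1).mulVecLin
  have hrn' : (M - 1).rank + finrank F (LinearMap.ker (M - 1).mulVecLin) = m := by
    have h3 : finrank F (Fin m → F) = m := by simp
    rw [h3] at hrn
    exact hrn
  rw [hcardV, hcardK] at h1
  have h4 := (ZMod.natCast_eq_natCast_iff _ _ _).2 h1
  rw [Nat.cast_pow, Nat.cast_pow] at h4
  have hq0 : ((Fintype.card F : ℕ) : ZMod r) ≠ 0 := by
    rw [Ne, ZMod.natCast_eq_zero_iff]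
    exact hrq
  have h5 : ((Fintype.card F : ℕ) : ZMod r) ^ (M - 1).rank *
      ((Fintype.card F : ℕ) : ZMod r) ^ finrank F (LinearMap.ker (M - 1).mulVecLin) =
      1 * ((Fintype.card F : ℕ) : ZMod r) ^ finrank F (LinearMap.ker (M - 1).mulVecLin) := by
    rw [← pow_add, hrn', one_mul]
    exact h4
  exact mul_right_cancel₀ (pow_ne_zero _ hq0) h5

/-- The inclusion matrix of the first `e` coordinates. -/
def tensIncl (F : Type*) [Field F] (e n : ℕ) : Matrix (Fin n) (Fin e) F :=
  Matrix.of fun i j => if (i : ℕ) = (j : ℕ) then 1 else 0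

theorem tensIncl_mul {e n : ℕ} (h : e ≤ n) :
    (tensIncl F e n)ᵀ * tensIncl F e n = (1 : Matrix (Fin e) (Fin e) F) := by
  classical
  ext j j'
  rw [Matrix.mul_apply, Matrix.one_apply]
  rw [Finset.sum_eq_single (⟨(j : ℕ), lt_of_lt_of_le j.2 h⟩ : Fin n)]
  · simp [tensIncl, Fin.ext_iff]
  · intro i _ hi
    have h1 : (i : ℕ) ≠ (j : ℕ) := fun h2 => hi (Fin.ext h2)
    simp [tensIncl, h1]
  · intro h1
    exact absurd (Finset.mem_univ _) h1

/-- The embedding `M ↦ M ⊕ 1`. -/
def tensEmb {e n : ℕ} (M : Matrix (Fin e) (Fin e) F) : Matrix (Fin n) (Fin n) F :=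
  1 + tensIncl F e n * (M - 1) * (tensIncl F e n)ᵀ

theorem tensEmb_one {e n : ℕ} : tensEmb (n := n) (1 : Matrix (Fin e) (Fin e) F) = 1 := by
  simp [tensEmb]

theorem tensEmb_mul {e n : ℕ} (h : e ≤ n) (M N : Matrix (Fin e) (Fin e) F) :
    tensEmb (n := n) M * tensEmb (n := n) N = tensEmb (n := n) (M * N) := by
  have hC := tensIncl_mul (F := F) h
  unfold tensEmb
  rw [Matrix.add_mul, Matrix.mul_add, Matrix.mul_add, Matrix.one_mul, Matrix.mul_one, Matrix.one_mul]
  have h1 : tensIncl F e n * (M - 1) * (tensIncl F e n)ᵀ *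
      (tensIncl F e n * (N - 1) * (tensIncl F e n)ᵀ) =
      tensIncl F e n * ((M - 1) * (N - 1)) * (tensIncl F e n)ᵀ := by
    calc tensIncl F e n * (M - 1) * (tensIncl F e n)ᵀ *
        (tensIncl F e n * (N - 1) * (tensIncl F e n)ᵀ)
        = tensIncl F e n * (M - 1) * ((tensIncl F e n)ᵀ * tensIncl F e n) * (N - 1) *
          (tensIncl F e n)ᵀ := by simp only [Matrix.mul_assoc]
      _ = tensIncl F e n * ((M - 1) * (N - 1)) * (tensIncl F e n)ᵀ := by
          rw [hC, Matrix.mul_one]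
          simp only [Matrix.mul_assoc]
  rw [h1]
  have h2 : M * N - 1 = (N - 1) + (M - 1) + (M - 1) * (N - 1) := by
    noncomm_ring
  rw [h2, Matrix.mul_add, Matrix.mul_add, Matrix.add_mul, Matrix.add_mul]
  abel

theorem tensEmb_pow {e n : ℕ} (h : e ≤ n) (M : Matrix (Fin e) (Fin e) F) (k : ℕ) :
    tensEmb (n := n) M ^ k = tensEmb (n := n) (M ^ k) := by
  induction k with
  | zero => rw [pow_zero, pow_zero, tensEmb_one]
  | succ k ih => rw [pow_succ, ih, tensEmb_mul h, pow_succ]

theorem tensEmb_det {e n : ℕ} (h : e ≤ n) (M : Matrix (Fin e) (Fin e) F) :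
    (tensEmb (n := n) M).det = M.det := by
  unfold tensEmb
  rw [Matrix.det_one_add_mul_comm, ← Matrix.mul_assoc, tensIncl_mul h, Matrix.one_mul,
    add_sub_cancel]

theorem tensEmb_rank {e n : ℕ} (M : Matrix (Fin e) (Fin e) F) :
    (tensEmb (n := n) M - 1).rank ≤ e := by
  unfold tensEmb
  rw [add_sub_cancel_left, Matrix.mul_assoc]
  exact le_trans (Matrix.rank_mul_le_left _ _) (Matrix.rank_le_width _)

theorem tensEmb_recover {e n : ℕ} (h : e ≤ n) (M : Matrix (Fin e) (Fin e) F) :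
    (tensIncl F e n)ᵀ * tensEmb (n := n) M * tensIncl F e n = M := by
  have hC := tensIncl_mul (F := F) h
  unfold tensEmb
  rw [Matrix.mul_add, Matrix.add_mul, Matrix.mul_one, hC]
  have h1 : (tensIncl F e n)ᵀ * (tensIncl F e n * (M - 1) * (tensIncl F e n)ᵀ) * tensIncl F e n =
      ((tensIncl F e n)ᵀ * tensIncl F e n) * (M - 1) * ((tensIncl F e n)ᵀ * tensIncl F e n) := by
    simp only [Matrix.mul_assoc]
  rw [h1, hC, Matrix.one_mul, Matrix.mul_one, add_sub_cancel]

/-- An element of order `r` of `SL_n(q)` moving at most an `e`-dimensional space, when `r` divides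
`q ^ e - 1` but not `q - 1`. -/
theorem tens_exists_embedded [Fintype F] (r : ℕ) [hr : Fact r.Prime] (e n : ℕ) (he : 1 ≤ e)
    (hen : e ≤ n) (hre : r ∣ Fintype.card F ^ e - 1) (hr1 : ¬ r ∣ Fintype.card F - 1) :
    ∃ X : Matrix (Fin n) (Fin n) F, X.det = 1 ∧ X ^ r = 1 ∧ (∀ z : F, X ≠ z • 1) ∧
      (X - 1).rank ≤ e := by
  classical
  have hcard : r ∣ Nat.card (GL (Fin e) F) := by
    rw [Matrix.card_GL_field]
    have h0 : (⟨0, he⟩ : Fin e) ∈ Finset.univ := Finset.mem_univ _
    refine dvd_trans ?_ (Finset.dvd_prod_of_mem _ h0)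
    simpa using hre
  obtain ⟨A, hA⟩ := exists_prime_orderOf_dvd_card' r hcard
  have hAr : (A : Matrix (Fin e) (Fin e) F) ^ r = 1 := by
    rw [← Units.val_pow_eq_pow_val, ← hA, pow_orderOf_eq_one, Units.val_one]
  have hA1 : (A : Matrix (Fin e) (Fin e) F) ≠ 1 := by
    intro h
    have h1 : A = 1 := Units.ext h
    rw [h1, orderOf_one] at hA
    exact hr.out.one_lt.ne hA
  have hdet : (A : Matrix (Fin e) (Fin e) F).det = 1 := by
    apply tens_eq_one_of_pow r hr1
    rw [← Matrix.det_pow, hAr, Matrix.det_one]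
  refine ⟨tensEmb (A : Matrix (Fin e) (Fin e) F), ?_, ?_, ?_, tensEmb_rank _⟩
  · rw [tensEmb_det hen, hdet]
  · rw [tensEmb_pow hen, hAr, tensEmb_one]
  · intro z hz
    have h1 := tensEmb_recover (F := F) hen (A : Matrix (Fin e) (Fin e) F)
    rw [hz, Matrix.mul_smul, Matrix.mul_one, Matrix.smul_mul, tensIncl_mul hen] at h1
    have h2 : (z ^ r) • (1 : Matrix (Fin e) (Fin e) F) = 1 := by
      have h5 := hAr
      rw [← h1, smul_pow, one_pow] at h5
      exact h5
    have h3 := congrFun (congrFun h2 ⟨0, he⟩) ⟨0, he⟩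
    rw [Matrix.smul_apply, Matrix.one_apply_eq, smul_eq_mul, mul_one] at h3
    have h4 := tens_eq_one_of_pow r hr1 z h3
    apply hA1
    rw [← h1, h4, one_smul]

end Cfsg.Agent.Lib.helper24
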