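import Mathlib
import Cfsg.Prelude.Def_GeometricClasses
import Cfsg.Agent.Lib.helper24.TensA
import Cfsg.Agent.Lib.helper24.TensB

/-!
# Conjugates in the stabiliser of a tensor decomposition
-/

set_option autoImplicit false

namespace Cfsg.Agent.Lib.helper24

open Module Matrix Cfsg.Geo
open scoped Kronecker

variable {F : Type*} [Field F]

theorem tens_mem_specialLinear_iff {n : ℕ} (x : GL (Fin n) F) :
    x ∈ specialLinear (Fin n) F ↔ (x : Matrix (Fin n) (Fin n) F).det = 1 := by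
  unfold specialLinear
  rw [MonoidHom.mem_ker]
  constructor
  · intro h
    have h1 := congrArg Units.val h
    simpa using h1
  · intro h
    apply Units.ext
    simpa using h

theorem tens_gl_inj {b : ℕ} (g : GL (Fin b) F) (w : Fin b → F)
    (h : (g : Matrix (Fin b) (Fin b) F) *ᵥ w = 0) : w = 0 := by
  have h1 : ((g⁻¹ : GL (Fin b) F) : Matrix (Fin b) (Fin b) F) *ᵥ
      ((g : Matrix (Fin b) (Fin b) F) *ᵥ w) = w := by
    rw [Matrix.mulVec_mulVec, ← Units.val_mul, inv_mul_cancel, Units.val_one, Matrix.one_mulVec]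
  rw [← h1, h, Matrix.mulVec_zero]

/-- Rank data of a conjugate lying in the tensor product subgroup. -/
theorem tens_conj_data {n a b : ℕ} (e : Fin n ≃ Fin a × Fin b) (P x g : GL (Fin n) F)
    (h : g⁻¹ * x * g ∈ tensorProductSubgroup a b e P) :
    ∃ (g₁ : GL (Fin a) F) (g₂ : GL (Fin b) F), ∀ (m : ℕ) (ν : F),
      (((x ^ m : GL (Fin n) F) : Matrix (Fin n) (Fin n) F) - ν • 1).rank =
        (((g₁ : Matrix (Fin a) (Fin a) F) ^ m) ⊗ₖ ((g₂ : Matrix (Fin b) (Fin b) F) ^ m) -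
          ν • (1 : Matrix (Fin a × Fin b) (Fin a × Fin b) F)).rank := by
  classical
  unfold tensorProductSubgroup at h
  rw [Subgroup.mem_map] at h
  obtain ⟨y, hy, hyx⟩ := h
  rw [Subgroup.mem_map] at hy
  obtain ⟨k, hk, hky⟩ := hy
  obtain ⟨g₁, g₂, hk⟩ := hk
  refine ⟨g₁, g₂, ?_⟩
  intro m ν
  have hx : x = (g * P) * (glReindex e.symm k) * (g * P)⁻¹ := by
    have h1 : P * y * P⁻¹ = g⁻¹ * x * g := hyx
    have h2 : glReindex e.symm k = y := hky
    rw [h2, _root_.mul_inv_rev]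
    calc x = g * (g⁻¹ * x * g) * g⁻¹ := by group
      _ = g * (P * y * P⁻¹) * g⁻¹ := by rw [h1]
      _ = g * P * y * (P⁻¹ * g⁻¹) := by group
  have hxm : x ^ m = (g * P) * (glReindex e.symm (k ^ m)) * (g * P)⁻¹ := by
    rw [map_pow, ← conj_pow, ← hx]
  obtain ⟨Q, hQ⟩ : ∃ Q : Matrix (Fin n) (Fin n) F,
      Q = ((g * P : GL (Fin n) F) : Matrix (Fin n) (Fin n) F) := ⟨_, rfl⟩
  obtain ⟨Q', hQ'⟩ : ∃ Q' : Matrix (Fin n) (Fin n) F,
      Q' = (((g * P)⁻¹ : GL (Fin n) F) : Matrix (Fin n) (Fin n) F) := ⟨_, rfl⟩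
  have hQQ' : Q * Q' = 1 := by
    rw [hQ, hQ', ← Units.val_mul, mul_inv_cancel, Units.val_one]
  obtain ⟨K, hK⟩ : ∃ K : Matrix (Fin a × Fin b) (Fin a × Fin b) F,
      K = ((g₁ : Matrix (Fin a) (Fin a) F) ^ m) ⊗ₖ ((g₂ : Matrix (Fin b) (Fin b) F) ^ m) :=
    ⟨_, rfl⟩
  have hkm : ((glReindex e.symm (k ^ m) : GL (Fin n) F) : Matrix (Fin n) (Fin n) F) =
      K.submatrix e e := by
    show Matrix.reindexAlgEquiv F F e.symm
      ((k ^ m : GL (Fin a × Fin b) F) : Matrix (Fin a × Fin b) (Fin a × Fin b) F) = _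
    rw [Matrix.coe_reindexAlgEquiv, Units.val_pow_eq_pow_val, hk, tens_kron_pow, ← hK]
    rfl
  have hsub : (K - ν • (1 : Matrix (Fin a × Fin b) (Fin a × Fin b) F)).submatrix e e =
      K.submatrix e e - ν • (1 : Matrix (Fin n) (Fin n) F) := by
    ext i j
    rw [Matrix.submatrix_apply, Matrix.sub_apply, Matrix.sub_apply, Matrix.smul_apply,
      Matrix.smul_apply, Matrix.submatrix_apply, Matrix.one_apply, Matrix.one_apply]
    simp [e.injective.eq_iff]
  have hmat : ((x ^ m : GL (Fin n) F) : Matrix (Fin n) (Fin n) F) - ν • 1 =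
      Q * (K - ν • (1 : Matrix (Fin a × Fin b) (Fin a × Fin b) F)).submatrix e e * Q' := by
    rw [hxm, Units.val_mul, Units.val_mul, hkm, ← hQ, ← hQ', hsub, Matrix.mul_sub, Matrix.sub_mul,
      Matrix.mul_smul, Matrix.smul_mul, Matrix.mul_one, hQQ']
  have hQdet : IsUnit Q.det := Matrix.isUnit_det_of_right_inverse hQQ'
  have hQ'det : IsUnit Q'.det := Matrix.isUnit_det_of_left_inverse hQQ'
  rw [hmat, Matrix.rank_mul_eq_left_of_isUnit_det _ _ hQ'det,
    Matrix.rank_mul_eq_right_of_isUnit_det _ _ hQdet, Matrix.rank_submatrix, hK]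

/-- Rank data contradicting membership in the Kronecker subgroup. -/
theorem tens_data_contra {n a b : ℕ} (X : Matrix (Fin n) (Fin n) F)
    (g₁ : GL (Fin a) F) (g₂ : GL (Fin b) F)
    (hr : ∀ ν : F, (X - ν • 1).rank =
      ((g₁ : Matrix (Fin a) (Fin a) F) ⊗ₖ (g₂ : Matrix (Fin b) (Fin b) F) -
        ν • (1 : Matrix (Fin a × Fin b) (Fin a × Fin b) F)).rank)
    (lam mu : F) (h1 : (X - lam • 1).rank < b) (h2 : ¬ a ∣ (X - mu • 1).rank) : False := by
  classical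
  by_cases hsc : ∃ c : F, (g₁ : Matrix (Fin a) (Fin a) F) = c • 1
  · obtain ⟨c, hc⟩ := hsc
    apply h2
    rw [hr mu, hc, tens_scalar_kron_sub, tens_rank_one_kron]
    exact dvd_mul_right _ _
  · have hns : ∀ c : F, (g₁ : Matrix (Fin a) (Fin a) F) ≠ c • 1 := fun c hc => hsc ⟨c, hc⟩
    have h3 := tens_rank_ge (g₁ : Matrix (Fin a) (Fin a) F) (g₂ : Matrix (Fin b) (Fin b) F) hns
      (tens_gl_inj g₂) lam
    rw [← hr lam] at h3
    omega

/-- Membership of a conjugate in the tensor product subgroup from a conjugating matrix. -/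
theorem tens_conj_mem {n a b : ℕ} (e : Fin n ≃ Fin a × Fin b) (P x : GL (Fin n) F)
    (g₁ : GL (Fin a) F) (g₂ : GL (Fin b) F) (A₀ : Matrix (Fin n) (Fin n) F)
    (hdet : A₀.det = (P : Matrix (Fin n) (Fin n) F).det)
    (hconj : (x : Matrix (Fin n) (Fin n) F) * A₀ =
      A₀ * ((g₁ : Matrix (Fin a) (Fin a) F) ⊗ₖ (g₂ : Matrix (Fin b) (Fin b) F)).submatrix e e) :
    ∃ g ∈ specialLinear (Fin n) F, g⁻¹ * x * g ∈ tensorProductSubgroup a b e P := by
  classical
  have hPP : ((P⁻¹ : GL (Fin n) F) : Matrix (Fin n) (Fin n) F).det *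
      (P : Matrix (Fin n) (Fin n) F).det = 1 := by
    rw [← Matrix.det_mul, ← Units.val_mul, inv_mul_cancel, Units.val_one, Matrix.det_one]
  have hPdet : (P : Matrix (Fin n) (Fin n) F).det ≠ 0 := by
    intro h0
    rw [h0, mul_zero] at hPP
    exact zero_ne_one hPP
  obtain ⟨A, hA⟩ : ∃ A : GL (Fin n) F, (A : Matrix (Fin n) (Fin n) F) = A₀ :=
    ⟨Matrix.GeneralLinearGroup.mkOfDetNeZero A₀ (by rw [hdet]; exact hPdet), rfl⟩
  obtain ⟨k₀, hk₀⟩ : ∃ k₀ : GL (Fin a × Fin b) F,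
      (k₀ : Matrix (Fin a × Fin b) (Fin a × Fin b) F) =
        (g₁ : Matrix (Fin a) (Fin a) F) ⊗ₖ (g₂ : Matrix (Fin b) (Fin b) F) := by
    refine ⟨⟨(g₁ : Matrix (Fin a) (Fin a) F) ⊗ₖ (g₂ : Matrix (Fin b) (Fin b) F),
      ((g₁⁻¹ : GL (Fin a) F) : Matrix (Fin a) (Fin a) F) ⊗ₖ
        ((g₂⁻¹ : GL (Fin b) F) : Matrix (Fin b) (Fin b) F), ?_, ?_⟩, rfl⟩
    · rw [← Matrix.mul_kronecker_mul, ← Units.val_mul, ← Units.val_mul, mul_inv_cancel,
        mul_inv_cancel, Units.val_one, Units.val_one, Matrix.one_kronecker_one]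
    · rw [← Matrix.mul_kronecker_mul, ← Units.val_mul, ← Units.val_mul, inv_mul_cancel,
        inv_mul_cancel, Units.val_one, Units.val_one, Matrix.one_kronecker_one]
  have hk₀mem : k₀ ∈ kroneckerSubgroup a b F := ⟨g₁, g₂, hk₀⟩
  refine ⟨A * P⁻¹, ?_, ?_⟩
  · rw [tens_mem_specialLinear_iff, Units.val_mul, Matrix.det_mul, hA, hdet, mul_comm]
    exact hPP
  · unfold tensorProductSubgroup
    rw [Subgroup.mem_map]
    refine ⟨glReindex e.symm k₀, Subgroup.mem_map_of_mem _ hk₀mem, ?_⟩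
    show P * glReindex e.symm k₀ * P⁻¹ = (A * P⁻¹)⁻¹ * x * (A * P⁻¹)
    have hxA : x * A = A * glReindex e.symm k₀ := by
      apply Units.ext
      rw [Units.val_mul, Units.val_mul, hA]
      show (x : Matrix (Fin n) (Fin n) F) * A₀ = A₀ * Matrix.reindexAlgEquiv F F e.symm
        (k₀ : Matrix (Fin a × Fin b) (Fin a × Fin b) F)
      rw [Matrix.coe_reindexAlgEquiv, hk₀, hconj]
      rfl
    have h3 : glReindex e.symm k₀ = A⁻¹ * x * A := by
      rw [mul_assoc, hxA, inv_mul_cancel_left]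
    rw [h3]
    group

end Cfsg.Agent.Lib.helper24
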