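import Mathlib
import Cfsg.Agent.Lib.helper24.TensC
import Cfsg.Agent.Lib.helper24.QuadExt2

/-!
# Explicit elements and arithmetic for the tensor decomposition statement
-/

set_option autoImplicit false

namespace Cfsg.Agent.Lib.helper24

open Module Matrix Cfsg.Geo
open scoped Kronecker

variable {F : Type*} [Field F]

/-- A rank one perturbation of a scalar has rank at most one. -/
theorem tens_rank_le_one {n : ℕ} (X : Matrix (Fin n) (Fin n) F) (lam : F)
    (ψ : (Fin n → F) →ₗ[F] F) (u : Fin n → F) (h : ∀ w, X *ᵥ w = lam • w + ψ w • u) :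
    (X - lam • 1).rank ≤ 1 := by
  classical
  have h1 : LinearMap.range (X - lam • (1 : Matrix (Fin n) (Fin n) F)).mulVecLin ≤
      Submodule.span F {u} := by
    rintro _ ⟨w, rfl⟩
    rw [Matrix.mulVecLin_apply, Matrix.sub_mulVec, h, Matrix.smul_mulVec, Matrix.one_mulVec,
      add_sub_cancel_left]
    exact Submodule.smul_mem _ _ (Submodule.mem_span_singleton_self u)
  have h2 : finrank F (Submodule.span F {u}) ≤ 1 := by
    by_cases hu : u = 0
    · rw [hu, Submodule.span_zero_singleton, finrank_bot]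
      exact Nat.zero_le _
    · rw [finrank_span_singleton hu]
  calc (X - lam • 1).rank
      = finrank F (LinearMap.range (X - lam • (1 : Matrix (Fin n) (Fin n) F)).mulVecLin) := rfl
    _ ≤ finrank F (Submodule.span F {u}) := Submodule.finrank_mono h1
    _ ≤ 1 := h2

/-- A transvection of order `p` in characteristic `p`. -/
theorem tens_transvection_data {n : ℕ} (p : ℕ) [CharP F p] (hn : 2 ≤ n) :
    ∃ X : Matrix (Fin n) (Fin n) F, X.det = 1 ∧ X ^ p = 1 ∧ (∀ z : F, X ≠ z • 1) ∧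
      (X - (1 : F) • 1).rank ≤ 1 := by
  classical
  obtain ⟨i0, hi0⟩ : ∃ i0 : Fin n, i0 = ⟨0, by omega⟩ := ⟨_, rfl⟩
  obtain ⟨i1, hi1⟩ : ∃ i1 : Fin n, i1 = ⟨1, by omega⟩ := ⟨_, rfl⟩
  have hne : i0 ≠ i1 := by
    rw [hi0, hi1]
    intro h
    simp at h
  have hpow : ∀ k : ℕ, Matrix.transvection i0 i1 (1 : F) ^ k =
      Matrix.transvection i0 i1 (k : F) := by
    intro k
    induction k with
    | zero => rw [pow_zero, Nat.cast_zero, Matrix.transvection_zero]
    | succ k ih =>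
      rw [pow_succ, ih, Matrix.transvection_mul_transvection_same _ _ hne, Nat.cast_succ]
  refine ⟨Matrix.transvection i0 i1 1, Matrix.det_transvection_of_ne i0 i1 hne 1, ?_, ?_, ?_⟩
  · rw [hpow, CharP.cast_eq_zero, Matrix.transvection_zero]
  · intro z hz
    have h1 := congrFun (congrFun hz i0) i1
    simp [Matrix.transvection, hne] at h1
  · apply tens_rank_le_one _ 1 (LinearMap.proj i1) (Pi.single i0 1)
    intro w
    rw [Matrix.transvection, Matrix.add_mulVec, Matrix.one_mulVec, one_smul]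
    congr 1
    ext r
    simp [Matrix.mulVec, dotProduct, Matrix.single_apply, Pi.single_apply]
    by_cases hr : r = i0
    · simp [hr]
    · simp [hr, Ne.symm hr]

/-- The diagonal matrix `diag(α, β, 1, …, 1)` with `α β = 1`. -/
theorem tens_diag_data {n : ℕ} (hn : 3 ≤ n) (α β : F) (hαβ : α * β = 1) (hα : α ≠ 1) :
    ∃ X : Matrix (Fin n) (Fin n) F, X.det = 1 ∧ (∀ m : ℕ, α ^ m = 1 → β ^ m = 1 → X ^ m = 1) ∧
      (∀ z : F, X ≠ z • 1) ∧ (X - (1 : F) • 1).rank ≤ 2 ∧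
      (β ≠ α → (X - α • 1).rank = n - 1) := by
  classical
  obtain ⟨i0, hi0⟩ : ∃ i0 : Fin n, i0 = ⟨0, by omega⟩ := ⟨_, rfl⟩
  obtain ⟨i1, hi1⟩ : ∃ i1 : Fin n, i1 = ⟨1, by omega⟩ := ⟨_, rfl⟩
  obtain ⟨i2, hi2⟩ : ∃ i2 : Fin n, i2 = ⟨2, by omega⟩ := ⟨_, rfl⟩
  have h01 : i0 ≠ i1 := by
    rw [hi0, hi1]
    intro h
    simp at h
  have h02 : i0 ≠ i2 := by
    rw [hi0, hi2]
    intro h
    simp at h
  have h12 : i1 ≠ i2 := by
    rw [hi1, hi2]
    intro h
    simp at h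
  obtain ⟨w, hw⟩ : ∃ w : Fin n → F,
      w = fun i => (if i = i0 then α else 1) * (if i = i1 then β else 1) := ⟨_, rfl⟩
  have hw0 : w i0 = α := by
    rw [hw]
    simp [h01]
  have hw1 : w i1 = β := by
    rw [hw]
    simp [Ne.symm h01]
  have hwo : ∀ i, i ≠ i0 → i ≠ i1 → w i = 1 := by
    intro i h0 h1
    rw [hw]
    simp [h0, h1]
  have hD : ∀ ν : F, Matrix.diagonal w - ν • (1 : Matrix (Fin n) (Fin n) F) =
      Matrix.diagonal (fun i => w i - ν) := by
    intro ν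
    rw [Matrix.smul_one_eq_diagonal, Matrix.diagonal_sub]
  refine ⟨Matrix.diagonal w, ?_, ?_, ?_, ?_, ?_⟩
  · rw [Matrix.det_diagonal, hw, Finset.prod_mul_distrib, Finset.prod_ite_eq',
      Finset.prod_ite_eq']
    simp [hαβ]
  · intro m hαm hβm
    rw [Matrix.diagonal_pow, ← Matrix.diagonal_one]
    congr 1
    funext i
    rw [Pi.pow_apply, hw]
    simp only
    rw [mul_pow]
    split_ifs <;> simp [hαm, hβm]
  · intro z hz
    have e0 := congrFun (congrFun hz i0) i0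
    have e2 := congrFun (congrFun hz i2) i2
    rw [Matrix.diagonal_apply_eq, Matrix.smul_apply, Matrix.one_apply_eq, smul_eq_mul,
      mul_one] at e0 e2
    rw [hw0] at e0
    rw [hwo i2 (Ne.symm h02) (Ne.symm h12)] at e2
    exact hα (e0.trans e2.symm)
  · rw [hD, Matrix.rank_diagonal, Fintype.card_subtype]
    calc (Finset.univ.filter (fun i => w i - 1 ≠ 0)).card
        ≤ ({i0, i1} : Finset (Fin n)).card := by
          apply Finset.card_le_card
          intro i hi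
          rw [Finset.mem_filter] at hi
          rw [Finset.mem_insert, Finset.mem_singleton]
          by_contra hcon
          rw [not_or] at hcon
          exact hi.2 (by rw [hwo i hcon.1 hcon.2, sub_self])
      _ ≤ 2 := Finset.card_le_two
  · intro hβα
    rw [hD, Matrix.rank_diagonal]
    have hiff : ∀ i, w i - α ≠ 0 ↔ i ≠ i0 := by
      intro i
      constructor
      · intro h hi
        rw [hi, hw0, sub_self] at h
        exact h rfl
      · intro hi
        by_cases h1 : i = i1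
        · rw [h1, hw1]
          exact sub_ne_zero.2 hβα
        · rw [hwo i hi h1]
          exact sub_ne_zero.2 (Ne.symm hα)
    rw [Fintype.card_congr (Equiv.subtypeEquivRight hiff), Fintype.card_subtype_compl,
      Fintype.card_fin, Fintype.card_subtype_eq]

/-- A prime dividing the index of a subgroup of `SL_n(q)` divides `q` or some `q ^ i - 1`. -/
theorem tens_prime_dvd_card [Fintype F] (n : ℕ) (r : ℕ) [hr : Fact r.Prime]
    (H : Subgroup (GL (Fin n) F)) (h : r ∣ H.relIndex (specialLinear (Fin n) F)) :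
    r ∣ Fintype.card F ∨ ∃ i, 1 ≤ i ∧ i ≤ n ∧ r ∣ Fintype.card F ^ i - 1 := by
  classical
  have h1 : r ∣ Nat.card (GL (Fin n) F) :=
    dvd_trans h (dvd_trans (Subgroup.relIndex_dvd_card _ _) (Subgroup.card_subgroup_dvd_card _))
  rw [Matrix.card_GL_field] at h1
  obtain ⟨i, -, hi⟩ := (Prime.dvd_finsetProd_iff (Nat.Prime.prime hr.out) _).1 h1
  have h2 : Fintype.card F ^ n - Fintype.card F ^ (i : ℕ) =
      Fintype.card F ^ (i : ℕ) * (Fintype.card F ^ (n - i) - 1) := by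
    rw [Nat.mul_sub, mul_one, ← pow_add, Nat.add_sub_cancel' (le_of_lt i.2)]
  rw [h2] at hi
  rcases (Nat.Prime.dvd_mul hr.out).1 hi with h3 | h3
  · left
    exact Nat.Prime.dvd_of_dvd_pow hr.out h3
  · right
    exact ⟨n - i, by omega, by omega, h3⟩

/-- The multiplicative order of `q` modulo `r`. -/
theorem tens_order_data [Fintype F] (r : ℕ) [hr : Fact r.Prime] (n i : ℕ) (h1 : 1 ≤ i)
    (hin : i ≤ n) (hri : r ∣ Fintype.card F ^ i - 1) :
    ¬ r ∣ Fintype.card F ∧ ∃ e, 1 ≤ e ∧ e ≤ n ∧ r ∣ Fintype.card F ^ e - 1 ∧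
      ∀ ρ : ℕ, ((Fintype.card F : ℕ) : ZMod r) ^ ρ = 1 → e ∣ ρ := by
  have hq1 : 1 ≤ Fintype.card F := Fintype.card_pos
  have hpow1 : ∀ j, 1 ≤ Fintype.card F ^ j := fun j => Nat.one_le_pow _ _ hq1
  have hcast : ∀ j, r ∣ Fintype.card F ^ j - 1 ↔ ((Fintype.card F : ℕ) : ZMod r) ^ j = 1 := by
    intro j
    rw [← ZMod.natCast_eq_zero_iff, Nat.cast_sub (hpow1 j), Nat.cast_pow, Nat.cast_one,
      sub_eq_zero]
  have hi1 := (hcast i).1 hri
  refine ⟨?_, orderOf ((Fintype.card F : ℕ) : ZMod r), ?_, ?_, ?_, ?_⟩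
  · intro hdvd
    have h0 : ((Fintype.card F : ℕ) : ZMod r) = 0 := (ZMod.natCast_eq_zero_iff _ _).2 hdvd
    rw [h0, zero_pow (by omega)] at hi1
    exact zero_ne_one hi1
  · have h3 : 0 < orderOf ((Fintype.card F : ℕ) : ZMod r) :=
      orderOf_pos_iff.2 (isOfFinOrder_iff_pow_eq_one.2 ⟨i, by omega, hi1⟩)
    omega
  · have hd := orderOf_dvd_of_pow_eq_one hi1
    exact le_trans (Nat.le_of_dvd (by omega) hd) hin
  · rw [hcast]
    exact pow_orderOf_eq_one _
  · intro ρ hρ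
    exact orderOf_dvd_of_pow_eq_one hρ

/-- An element of order `r` in the multiplicative group when `r` divides `q - 1`. -/
theorem tens_exists_root_of_unity [Fintype F] (r : ℕ) [hr : Fact r.Prime]
    (h : r ∣ Fintype.card F - 1) :
    ∃ ω : F, ω ≠ 0 ∧ ω ^ r = 1 ∧ ω ≠ 1 ∧ (r ≠ 2 → ω * ω ≠ 1) := by
  classical
  have hcard : r ∣ Fintype.card Fˣ := by
    rw [Fintype.card_units]
    exact h
  obtain ⟨ω, hω⟩ := exists_prime_orderOf_dvd_card r hcard
  refine ⟨(ω : F), ω.ne_zero, ?_, ?_, ?_⟩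
  · rw [← Units.val_pow_eq_pow_val, ← hω, pow_orderOf_eq_one, Units.val_one]
  · intro h1
    have h2 : ω = 1 := Units.ext h1
    rw [h2, orderOf_one] at hω
    exact hr.out.one_lt.ne hω
  · intro hr2 h1
    have h2 : ω ^ 2 = 1 := by
      apply Units.ext
      rw [Units.val_pow_eq_pow_val, pow_two, h1, Units.val_one]
    have h3 := orderOf_dvd_of_pow_eq_one h2
    rw [hω] at h3
    exact hr2 ((Nat.prime_dvd_prime_iff_eq hr.out Nat.prime_two).1 h3)

/-- A Kronecker product of order `r` (with `r` prime to `q (q - 1)`) moves a space of dimension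
more than the order of `q` modulo `r`. -/
theorem tens_embedded_contra [Fintype F] (r : ℕ) [hr : Fact r.Prime]
    (hr1 : ¬ r ∣ Fintype.card F - 1) (hrq : ¬ r ∣ Fintype.card F) (e : ℕ) (he1 : 1 ≤ e)
    (he : ∀ ρ : ℕ, ((Fintype.card F : ℕ) : ZMod r) ^ ρ = 1 → e ∣ ρ)
    {a b : ℕ} (ha : 2 ≤ a) (hlt : a < b) (g₁ : GL (Fin a) F) (g₂ : GL (Fin b) F)
    (hk1 : (((g₁ : Matrix (Fin a) (Fin a) F) ^ r) ⊗ₖ ((g₂ : Matrix (Fin b) (Fin b) F) ^ r) -
      (1 : F) • (1 : Matrix (Fin a × Fin b) (Fin a × Fin b) F)).rank = 0)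
    (hkrank : ((g₁ : Matrix (Fin a) (Fin a) F) ⊗ₖ (g₂ : Matrix (Fin b) (Fin b) F) -
      (1 : F) • (1 : Matrix (Fin a × Fin b) (Fin a × Fin b) F)).rank ≤ e)
    (hkne : (g₁ : Matrix (Fin a) (Fin a) F) ⊗ₖ (g₂ : Matrix (Fin b) (Fin b) F) ≠ 1) : False := by
  classical
  obtain ⟨M₁, hM₁⟩ : ∃ M₁ : Matrix (Fin a) (Fin a) F, M₁ = (g₁ : Matrix (Fin a) (Fin a) F) :=
    ⟨_, rfl⟩
  obtain ⟨M₂, hM₂⟩ : ∃ M₂ : Matrix (Fin b) (Fin b) F, M₂ = (g₂ : Matrix (Fin b) (Fin b) F) :=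
    ⟨_, rfl⟩
  rw [← hM₁, ← hM₂] at hk1 hkrank hkne
  have hkr : (M₁ ^ r) ⊗ₖ (M₂ ^ r) = 1 := by
    have h0 := tens_eq_zero_of_rank_eq_zero _ hk1
    rw [one_smul, sub_eq_zero] at h0
    exact h0
  obtain ⟨c, hc0, hc⟩ := tens_kron_eq_one (by omega) _ _ hkr
  obtain ⟨d, hd0, hd⟩ := tens_exists_root r hr1 c hc0
  obtain ⟨G₁, hG₁⟩ : ∃ G₁ : Matrix (Fin a) (Fin a) F, G₁ = d⁻¹ • M₁ := ⟨_, rfl⟩
  obtain ⟨G₂, hG₂⟩ : ∃ G₂ : Matrix (Fin b) (Fin b) F, G₂ = d • M₂ := ⟨_, rfl⟩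
  have hG : G₁ ⊗ₖ G₂ = M₁ ⊗ₖ M₂ := by
    rw [hG₁, hG₂, Matrix.smul_kronecker, Matrix.kronecker_smul, smul_smul, inv_mul_cancel₀ hd0,
      one_smul]
  have hG₁r : G₁ ^ r = 1 := by
    rw [hG₁, smul_pow, hc, smul_smul, inv_pow, hd, inv_mul_cancel₀ hc0, one_smul]
  have hG₂r : G₂ ^ r = 1 := by
    apply tens_one_kron_inj (a := a) (by omega)
    calc (1 : Matrix (Fin a) (Fin a) F) ⊗ₖ (G₂ ^ r)
        = (c • (1 : Matrix (Fin a) (Fin a) F)) ⊗ₖ (M₂ ^ r) := by
          rw [hG₂, smul_pow, hd, Matrix.kronecker_smul, Matrix.smul_kronecker]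
      _ = (M₁ ^ r) ⊗ₖ (M₂ ^ r) := by rw [hc]
      _ = 1 := hkr
      _ = (1 : Matrix (Fin a) (Fin a) F) ⊗ₖ (1 : Matrix (Fin b) (Fin b) F) :=
          Matrix.one_kronecker_one.symm
  rw [← hG] at hkrank hkne
  have hG₂inj : ∀ w : Fin b → F, G₂ *ᵥ w = 0 → w = 0 := by
    intro w hw
    apply tens_gl_inj g₂
    rw [hG₂, Matrix.smul_mulVec] at hw
    rcases smul_eq_zero.1 hw with h | h
    · exact absurd h hd0
    · rw [← hM₂]
      exact h
  by_cases hone : G₁ = 1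
  · have hsub : G₁ ⊗ₖ G₂ - (1 : F) • (1 : Matrix (Fin a × Fin b) (Fin a × Fin b) F) =
        (1 : Matrix (Fin a) (Fin a) F) ⊗ₖ (G₂ - 1) := by
      rw [hone, tens_kron_sub, Matrix.one_kronecker_one, one_smul]
    rw [hsub, tens_rank_one_kron] at hkrank
    have hdiv := he _ (tens_pow_rank_eq_one r G₂ hG₂r hrq)
    have hne0 : (G₂ - 1).rank ≠ 0 := by
      intro h0
      have h3 := tens_eq_zero_of_rank_eq_zero _ h0
      apply hkne
      rw [hone, sub_eq_zero.1 h3, Matrix.one_kronecker_one]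
    have hge : e ≤ (G₂ - 1).rank := Nat.le_of_dvd (Nat.pos_of_ne_zero hne0) hdiv
    have h4 := Nat.mul_le_mul_right (G₂ - 1).rank ha
    linarith
  · have hns : ∀ s : F, G₁ ≠ s • 1 := by
      intro s hs
      have h2 : (s ^ r) • (1 : Matrix (Fin a) (Fin a) F) = 1 := by
        have h5 := hG₁r
        rw [hs, smul_pow, one_pow] at h5
        exact h5
      have h3 := congrFun (congrFun h2 ⟨0, by omega⟩) ⟨0, by omega⟩
      rw [Matrix.smul_apply, Matrix.one_apply_eq, smul_eq_mul, mul_one] at h3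
      have h4 := tens_eq_one_of_pow r hr1 s h3
      apply hone
      rw [hs, h4, one_smul]
    have h3 := tens_rank_ge G₁ G₂ hns hG₂inj 1
    have hdiv := he _ (tens_pow_rank_eq_one r G₁ hG₁r hrq)
    have hne0 : (G₁ - 1).rank ≠ 0 := by
      intro h0
      exact hone (sub_eq_zero.1 (tens_eq_zero_of_rank_eq_zero _ h0))
    have hge : e ≤ (G₁ - 1).rank := Nat.le_of_dvd (Nat.pos_of_ne_zero hne0) hdiv
    have hle : (G₁ - 1).rank ≤ a := Matrix.rank_le_width _
    omega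

end Cfsg.Agent.Lib.helper24
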