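import Mathlib
import Cfsg.Agent.Lib.helper24.TensD
import Cfsg.Agent.Lib.helper24.EigBasis

/-!
# Elements of prime order and stabilisers of tensor decompositions: both directions
-/

set_option autoImplicit false

namespace Cfsg.Agent.Lib.helper24

open Module Matrix Cfsg.Geo
open scoped Kronecker

variable {F : Type*} [Field F]

/-- An element with square `λ²` is conjugate to `1₂ ⊗ diag(η)` when `(q - 1)₂ ≤ (n)₂`. -/
theorem tens_square_case [Fintype F] (hodd : Odd (Fintype.card F)) {n b : ℕ} (hn : n = 2 * b)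
    (hn0 : 0 < n) (e : Fin n ≃ Fin 2 × Fin b)
    (hval : padicValNat 2 (Fintype.card F - 1) ≤ padicValNat 2 n)
    (X : Matrix (Fin n) (Fin n) F) (hdet : X.det = 1) (lam : F) (hlam : lam ≠ 0)
    (hX : X * X = (lam * lam) • 1) (d : F) :
    ∃ (A₀ : Matrix (Fin n) (Fin n) F) (η : Fin b → F), A₀.det = d ∧ (∀ j, η j ≠ 0) ∧
      X * A₀ = A₀ * ((1 : Matrix (Fin 2) (Fin 2) F) ⊗ₖ (Matrix.diagonal η)).submatrix e e := by
  classical
  have h2 : (2 : F) ≠ 0 := qe_two_ne_zero_iff_odd.2 hodd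
  obtain ⟨Y, hY⟩ : ∃ Y : Matrix (Fin n) (Fin n) F, Y = lam⁻¹ • X := ⟨_, rfl⟩
  have hXY : X = lam • Y := by
    rw [hY, smul_smul, mul_inv_cancel₀ hlam, one_smul]
  have hYY : Y * Y = 1 := by
    rw [hY, Matrix.smul_mul, Matrix.mul_smul, hX, smul_smul, smul_smul]
    have h1 : lam⁻¹ * lam⁻¹ * (lam * lam) = 1 := by field_simp
    rw [h1, one_smul]
  obtain ⟨k₀, δ, hk₀, hδS, hyk⟩ := exists_eigenbasis Y {1, -1} (involution_span Y hYY h2)
  have hδ : ∀ j, δ j = 1 ∨ δ j = -1 := fun j => by simpa using hδS j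
  have hk₀det : k₀.det ≠ 0 := ((Matrix.isUnit_iff_isUnit_det _).1 hk₀).ne_zero
  have hYdet : Y.det = (lam⁻¹) ^ n := by
    rw [hY, Matrix.det_smul, hdet, mul_one, Fintype.card_fin]
  have hprodY : ∏ j, δ j = Y.det := by
    have h1 := congrArg Matrix.det hyk
    rw [Matrix.det_mul, Matrix.det_mul, Matrix.det_diagonal] at h1
    have h3 : k₀.det * Y.det = k₀.det * ∏ j, δ j := by
      rw [mul_comm]
      exact h1
    exact (mul_left_cancel₀ hk₀det h3).symm
  have hprod : ∏ j, δ j = 1 := by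
    have hsq : (∏ j, δ j) * (∏ j, δ j) = 1 := by
      rw [← Finset.prod_mul_distrib]
      apply Finset.prod_eq_one
      intro j _
      rcases hδ j with h | h <;> rw [h] <;> ring
    rcases mul_self_eq_one_iff.1 hsq with h4 | h4
    · exact h4
    · exfalso
      rw [hprodY, hYdet] at h4
      have h5 := qe_val_lt_of_pow_eq_neg_one hodd n (by omega) lam⁻¹ h4
      omega
  have hneg : (-1 : F) ≠ 1 := by
    intro h
    apply h2
    have h3 : (1 : F) + 1 = 0 := by
      nth_rewrite 1 [← h]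
      ring
    rw [← h3]
    norm_num
  have hEven : Even n := ⟨b, by omega⟩
  obtain ⟨σ, hσ⟩ := exists_pairing_perm hEven δ hδ hprod hneg
  obtain ⟨π, hπ⟩ : ∃ π : Fin 2 × Fin b ≃ Fin n,
      π = (Equiv.prodComm (Fin 2) (Fin b)).trans (pairEquiv hn) := ⟨_, rfl⟩
  have hπval : ∀ (c : Fin 2) (j : Fin b), ((π (c, j) : Fin n) : ℕ) = (c : ℕ) + 2 * (j : ℕ) := by
    intro c j
    rw [hπ]
    show ((pairEquiv hn (j, c) : Fin n) : ℕ) = _
    rw [pairEquiv_val]
  obtain ⟨τ, hτ⟩ : ∃ τ : Fin n → Fin n, τ = fun i => σ (π (e i)) := ⟨_, rfl⟩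
  have hτinj : Function.Injective τ := by
    rw [hτ]
    intro i j hij
    exact e.injective (π.injective (σ.injective hij))
  obtain ⟨η, hη⟩ : ∃ η : Fin b → F, η = fun j => lam * δ (σ (π (0, j))) := ⟨_, rfl⟩
  have hδτ : ∀ i, lam * δ (τ i) = η (e i).2 := by
    intro i
    rw [hτ, hη]
    simp only
    congr 1
    apply hσ
    have h1 := hπval (e i).1 (e i).2
    have h3 := hπval 0 (e i).2
    rw [h1, h3]
    have h4 : ((e i).1 : ℕ) < 2 := (e i).1.2
    simp only [Fin.val_zero]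
    omega
  obtain ⟨k₁, hk₁⟩ : ∃ k₁ : Matrix (Fin n) (Fin n) F, k₁ = k₀.submatrix id τ := ⟨_, rfl⟩
  have hyk₁ : Y * k₁ = k₁ * Matrix.diagonal (fun i => δ (τ i)) := by
    ext r j
    have h1 : (Y * k₁) r j = (Y * k₀) r (τ j) := by
      simp [hk₁, Matrix.mul_apply]
    rw [h1, hyk, Matrix.mul_diagonal, Matrix.mul_diagonal]
    simp [hk₁]
  have hk₁unit : IsUnit k₁ := by
    apply Matrix.linearIndependent_cols_iff_isUnit.1
    have h1 := Matrix.linearIndependent_cols_iff_isUnit.2 hk₀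
    rw [hk₁]
    exact h1.comp τ hτinj
  have hk₁det : k₁.det ≠ 0 := ((Matrix.isUnit_iff_isUnit_det _).1 hk₁unit).ne_zero
  have hT : ((1 : Matrix (Fin 2) (Fin 2) F) ⊗ₖ (Matrix.diagonal η)).submatrix e e =
      lam • Matrix.diagonal (fun i => δ (τ i)) := by
    rw [← Matrix.diagonal_one, Matrix.diagonal_kronecker_diagonal,
      Matrix.submatrix_diagonal_equiv, ← Matrix.diagonal_smul]
    congr 1
    funext i
    simp only [Function.comp_apply, one_mul, Pi.smul_apply, smul_eq_mul]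
    rw [hδτ]
  obtain ⟨w, hw⟩ : ∃ w : Fin n → F,
      w = fun j => if j = (⟨0, hn0⟩ : Fin n) then d * (k₁.det)⁻¹ else 1 := ⟨_, rfl⟩
  have hwprod : ∏ j, w j = d * (k₁.det)⁻¹ := by
    rw [hw]
    simp
  refine ⟨k₁ * Matrix.diagonal w, η, ?_, ?_, ?_⟩
  · rw [Matrix.det_mul, Matrix.det_diagonal, hwprod]
    field_simp
  · intro j
    rw [hη]
    rcases hδ (σ (π (0, j))) with h | h <;> simp [h, hlam]
  · rw [hT, hXY, Matrix.smul_mul, ← Matrix.mul_assoc, hyk₁, Matrix.mul_smul]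
    congr 1
    rw [Matrix.mul_assoc, Matrix.mul_assoc, Matrix.diagonal_mul_diagonal,
      Matrix.diagonal_mul_diagonal]
    congr 2
    funext i
    exact mul_comm _ _

/-- The backward direction: elements with scalar square are conjugate into the stabiliser. -/
theorem tens_backward [Fintype F] (n b : ℕ) (hab : n = 2 * b) (hn0 : 0 < n)
    (e : Fin n ≃ Fin 2 × Fin b) (P : GL (Fin n) F)
    (hodd : Odd (Fintype.card F))
    (hval : padicValNat 2 (Fintype.card F - 1) ≤ padicValNat 2 n)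
    (x : GL (Fin n) F) (hx : x ∈ specialLinear (Fin n) F)
    (hxz : ∃ z : F, ((x ^ 2 : GL (Fin n) F) : Matrix (Fin n) (Fin n) F) =
      z • (1 : Matrix (Fin n) (Fin n) F)) :
    ∃ g ∈ specialLinear (Fin n) F, g⁻¹ * x * g ∈ tensorProductSubgroup 2 b e P := by
  classical
  obtain ⟨z, hz⟩ := hxz
  rw [Units.val_pow_eq_pow_val, pow_two] at hz
  obtain ⟨X, hX⟩ : ∃ X : Matrix (Fin n) (Fin n) F, X = (x : Matrix (Fin n) (Fin n) F) :=
    ⟨_, rfl⟩
  rw [← hX] at hz
  have hXdet : X.det = 1 := by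
    rw [hX]
    exact (tens_mem_specialLinear_iff x).1 hx
  have hz0 : z ≠ 0 := by
    rintro rfl
    rw [zero_smul] at hz
    have h1 : X.det * X.det = 0 := by
      haveI : Nonempty (Fin n) := ⟨⟨0, hn0⟩⟩
      rw [← Matrix.det_mul, hz, Matrix.det_zero]
    rw [hXdet, one_mul] at h1
    exact one_ne_zero h1
  by_cases hsq : IsSquare z
  · obtain ⟨lam, hlam⟩ := hsq
    have hlam0 : lam ≠ 0 := by
      rintro rfl
      apply hz0
      rw [hlam, mul_zero]
    rw [hlam] at hz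
    obtain ⟨A₀, η, hA₀det, hη, hA₀⟩ := tens_square_case hodd hab hn0 e hval X hXdet lam hlam0 hz
      (P : Matrix (Fin n) (Fin n) F).det
    obtain ⟨g₂, hg₂⟩ : ∃ g₂ : GL (Fin b) F,
        (g₂ : Matrix (Fin b) (Fin b) F) = Matrix.diagonal η :=
      ⟨Matrix.GeneralLinearGroup.mkOfDetNeZero (Matrix.diagonal η) (by
        rw [Matrix.det_diagonal]
        exact Finset.prod_ne_zero_iff.2 (fun j _ => hη j)), rfl⟩
    apply tens_conj_mem e P x 1 g₂ A₀ hA₀det
    rw [← hX, Units.val_one, hg₂]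
    exact hA₀
  · have hchar : ringChar F ≠ 2 := fun h => hsq (FiniteField.isSquare_of_char_two h z)
    have hodd' : Fintype.card F % 2 = 1 := FiniteField.odd_card_of_char_ne_two hchar
    obtain ⟨J, hJ⟩ : ∃ J : Matrix (Fin 2) (Fin 2) F, J = !![0, z; 1, 0] := ⟨_, rfl⟩
    have hJJ : J * J = z • 1 := by
      rw [hJ]
      ext i j
      fin_cases i <;> fin_cases j <;> simp [Matrix.mul_apply, Fin.sum_univ_two]
    have hJdet : J.det ≠ 0 := by
      rw [hJ, Matrix.det_fin_two_of]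
      simpa using hz0
    obtain ⟨g₁, hg₁⟩ : ∃ g₁ : GL (Fin 2) F, (g₁ : Matrix (Fin 2) (Fin 2) F) = J :=
      ⟨Matrix.GeneralLinearGroup.mkOfDetNeZero J hJdet, rfl⟩
    obtain ⟨K, hK⟩ : ∃ K : Matrix (Fin n) (Fin n) F,
        K = (J ⊗ₖ (1 : Matrix (Fin b) (Fin b) F)).submatrix e e := ⟨_, rfl⟩
    have hKK0 : (J ⊗ₖ (1 : Matrix (Fin b) (Fin b) F)) * (J ⊗ₖ (1 : Matrix (Fin b) (Fin b) F)) =
        z • 1 := by
      rw [← Matrix.mul_kronecker_mul, hJJ, Matrix.mul_one, Matrix.smul_kronecker,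
        Matrix.one_kronecker_one]
    have hKK : K * K = z • 1 := by
      rw [hK, Matrix.submatrix_mul_equiv, hKK0]
      ext i j
      rw [Matrix.submatrix_apply, Matrix.smul_apply, Matrix.smul_apply, Matrix.one_apply,
        Matrix.one_apply]
      simp [e.injective.eq_iff]
    obtain ⟨Pm, hPm⟩ : ∃ Pm : Matrix (Fin n) (Fin n) F,
        Pm = (P : Matrix (Fin n) (Fin n) F) := ⟨_, rfl⟩
    obtain ⟨Pm', hPm'⟩ : ∃ Pm' : Matrix (Fin n) (Fin n) F,
        Pm' = ((P⁻¹ : GL (Fin n) F) : Matrix (Fin n) (Fin n) F) := ⟨_, rfl⟩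
    have hPP' : Pm' * Pm = 1 := by
      rw [hPm, hPm', ← Units.val_mul, inv_mul_cancel, Units.val_one]
    have hPP2 : Pm * Pm' = 1 := by
      rw [hPm, hPm', ← Units.val_mul, mul_inv_cancel, Units.val_one]
    have hξ : (Pm * K * Pm') * (Pm * K * Pm') = z • 1 := by
      calc (Pm * K * Pm') * (Pm * K * Pm') = Pm * K * (Pm' * Pm) * K * Pm' := by
            simp only [Matrix.mul_assoc]
        _ = Pm * (K * K) * Pm' := by
            rw [hPP', Matrix.mul_one]
            simp only [Matrix.mul_assoc]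
        _ = z • 1 := by
            rw [hKK, Matrix.mul_smul, Matrix.mul_one, Matrix.smul_mul, hPP2]
    obtain ⟨P₁, hP₁det, hP₁⟩ := qe_conj_of_sq hodd' X (Pm * K * Pm') z hsq hz hξ hn0
    apply tens_conj_mem e P x g₁ 1 (P₁ * Pm) (by rw [Matrix.det_mul, hP₁det, one_mul, hPm])
    rw [← hX, hg₁, Units.val_one, ← hK]
    calc X * (P₁ * Pm) = (X * P₁) * Pm := by rw [Matrix.mul_assoc]
      _ = P₁ * (Pm * K * Pm') * Pm := by rw [hP₁]
      _ = P₁ * Pm * K * (Pm' * Pm) := by simp only [Matrix.mul_assoc]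
      _ = P₁ * Pm * K := by rw [hPP', Matrix.mul_one]

/-- The forward direction: if every element of order `r` has a conjugate in the stabiliser then
`r = 2`, `a = 2`, `q` is odd and `(q - 1)₂ ≤ (n)₂`. -/
theorem tens_forward [Fintype F] {p : ℕ} [Fact p.Prime] [CharP F p] (n a b : ℕ) (hab : n = a * b)
    (ha : 2 ≤ a) (hlt : a < b) (e : Fin n ≃ Fin a × Fin b) (P : GL (Fin n) F) (r : ℕ)
    [hr : Fact r.Prime]
    (hΩ : r ∣ (tensorProductSubgroup a b e P).relIndex (specialLinear (Fin n) F))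
    (hall : ∀ x ∈ specialLinear (Fin n) F,
      (∃ z : F, ((x ^ r : GL (Fin n) F) : Matrix (Fin n) (Fin n) F) =
        z • (1 : Matrix (Fin n) (Fin n) F)) →
      (∀ z : F, (x : Matrix (Fin n) (Fin n) F) ≠ z • (1 : Matrix (Fin n) (Fin n) F)) →
      ∃ g ∈ specialLinear (Fin n) F, g⁻¹ * x * g ∈ tensorProductSubgroup a b e P) :
    r = 2 ∧ a = 2 ∧ Odd (Fintype.card F) ∧
      padicValNat 2 (Fintype.card F - 1) ≤ padicValNat 2 n := by
  classical
  have hb3 : 3 ≤ b := by omega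
  have hn6 : 6 ≤ n := by
    rw [hab]
    nlinarith
  have hder : ∀ (X : Matrix (Fin n) (Fin n) F), X.det = 1 → (∃ z : F, X ^ r = z • 1) →
      (∀ z : F, X ≠ z • 1) →
      ∃ (g₁ : GL (Fin a) F) (g₂ : GL (Fin b) F), ∀ (m : ℕ) (ν : F),
        (X ^ m - ν • 1).rank =
          (((g₁ : Matrix (Fin a) (Fin a) F) ^ m) ⊗ₖ ((g₂ : Matrix (Fin b) (Fin b) F) ^ m) -
            ν • (1 : Matrix (Fin a × Fin b) (Fin a × Fin b) F)).rank := by
    intro X hdet hXr hXns
    obtain ⟨x, hx⟩ : ∃ x : GL (Fin n) F, (x : Matrix (Fin n) (Fin n) F) = X :=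
      ⟨Matrix.GeneralLinearGroup.mkOfDetNeZero X (by rw [hdet]; exact one_ne_zero), rfl⟩
    have hxmem : x ∈ specialLinear (Fin n) F := by
      rw [tens_mem_specialLinear_iff, hx, hdet]
    obtain ⟨g, -, hg⟩ := hall x hxmem
      (by
        obtain ⟨z, hz⟩ := hXr
        exact ⟨z, by rw [Units.val_pow_eq_pow_val, hx, hz]⟩)
      (by
        rw [hx]
        exact hXns)
    obtain ⟨g₁, g₂, hdata⟩ := tens_conj_data e P x g hg
    refine ⟨g₁, g₂, ?_⟩
    intro m ν
    rw [← hdata m ν, Units.val_pow_eq_pow_val, hx]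
  have hder2 : ∀ (X : Matrix (Fin n) (Fin n) F), X.det = 1 → (∃ z : F, X ^ r = z • 1) →
      (∀ z : F, X ≠ z • 1) →
      ∀ lam mu : F, (X - lam • 1).rank < b → ¬ a ∣ (X - mu • 1).rank → False := by
    intro X hdet hXr hXns lam mu h1 h2
    obtain ⟨g₁, g₂, hdata⟩ := hder X hdet hXr hXns
    refine tens_data_contra X g₁ g₂ ?_ lam mu h1 h2
    intro ν
    have h3 := hdata 1 ν
    rw [pow_one, pow_one, pow_one] at h3
    exact h3
  have hder1 : ∀ (X : Matrix (Fin n) (Fin n) F), X.det = 1 → (∃ z : F, X ^ r = z • 1) →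
      (∀ z : F, X ≠ z • 1) → ∀ lam : F, (X - lam • 1).rank ≤ 1 → False := by
    intro X hdet hXr hXns lam h1
    have hne0 : (X - lam • 1).rank ≠ 0 := by
      intro h0
      exact hXns lam (sub_eq_zero.1 (tens_eq_zero_of_rank_eq_zero _ h0))
    have h1' : (X - lam • 1).rank = 1 := by omega
    refine hder2 X hdet hXr hXns lam lam (by omega) ?_
    rw [h1']
    intro hdvd
    have h3 := Nat.le_of_dvd (by omega) hdvd
    omega
  -- the characteristic
  have hrp : r ≠ p := by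
    intro h
    obtain ⟨X, hXdet, hXp, hXns, hXrk⟩ := tens_transvection_data (F := F) (n := n) p (by omega)
    exact hder1 X hXdet ⟨1, by rw [h, hXp, one_smul]⟩ hXns 1 hXrk
  -- odd primes
  have hr2 : r = 2 := by
    by_contra hr2
    rcases tens_prime_dvd_card n r _ hΩ with hq | ⟨i, hi1, hin, hri⟩
    · obtain ⟨k, hpprime, hk⟩ := FiniteField.card F p
      rw [hk] at hq
      have h3 := Nat.Prime.dvd_of_dvd_pow hr.out hq
      exact hrp ((Nat.prime_dvd_prime_iff_eq hr.out hpprime).1 h3)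
    · obtain ⟨hrq, e', he1, hen, hre, he⟩ := tens_order_data (F := F) r n i hi1 hin hri
      by_cases h1 : r ∣ Fintype.card F - 1
      · obtain ⟨ω, hω0, hωr, hω1, hω2⟩ := tens_exists_root_of_unity (F := F) r h1
        have hωinv : ω⁻¹ ≠ ω := by
          intro h
          apply hω2 hr2
          nth_rewrite 1 [← h]
          exact inv_mul_cancel₀ hω0
        obtain ⟨X, hXdet, hXpow, hXns, hXrk, hXrk2⟩ := tens_diag_data (F := F) (n := n)
          (by omega) ω ω⁻¹ (mul_inv_cancel₀ hω0) hω1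
        have hXr : X ^ r = 1 := hXpow r hωr (by rw [inv_pow, hωr, inv_one])
        refine hder2 X hXdet ⟨1, by rw [hXr, one_smul]⟩ hXns 1 ω (by omega) ?_
        rw [hXrk2 hωinv]
        intro hdvd
        have h3 : a ∣ n := ⟨b, hab⟩
        have h4 : a ∣ n - (n - 1) := Nat.dvd_sub h3 hdvd
        rw [show n - (n - 1) = 1 by omega] at h4
        have h5 := Nat.le_of_dvd (by norm_num) h4
        omega
      · obtain ⟨X, hXdet, hXr, hXns, hXrk⟩ := tens_exists_embedded (F := F) r e' n he1 hen hre h1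
        obtain ⟨g₁, g₂, hdata⟩ := hder X hXdet ⟨1, by rw [hXr, one_smul]⟩ hXns
        have hd1 := hdata 1 1
        rw [pow_one, pow_one, pow_one] at hd1
        refine tens_embedded_contra r h1 hrq e' he1 he ha hlt g₁ g₂ ?_ ?_ ?_
        · rw [← hdata r 1, hXr, one_smul, sub_self, Matrix.rank_zero]
        · rw [← hd1, one_smul]
          exact hXrk
        · intro h
          rw [h] at hd1
          have h6 : ((1 : Matrix (Fin a × Fin b) (Fin a × Fin b) F) -
              (1 : F) • (1 : Matrix (Fin a × Fin b) (Fin a × Fin b) F)).rank = 0 := by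
            rw [one_smul, sub_self, Matrix.rank_zero]
          rw [h6] at hd1
          exact hXns 1 (sub_eq_zero.1 (tens_eq_zero_of_rank_eq_zero _ hd1))
  subst hr2
  have h2F : (2 : F) ≠ 0 := by
    intro h
    have h3 := qe_two_eq_zero_iff.1 h
    have h4 : ringChar F = p := ringChar.eq F p
    exact hrp (by rw [← h4, h3])
  have hoddq : Odd (Fintype.card F) := qe_two_ne_zero_iff_odd.1 h2F
  have ha2 : a = 2 := by
    by_contra ha2
    have ha3 : 3 ≤ a := by omega
    obtain ⟨X, hXdet, hXpow, hXns, hXrk, -⟩ := tens_diag_data (F := F) (n := n) (by omega)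
      (-1) (-1) (by ring) (by
        intro h
        exact h2F (by linear_combination -h))
    have hXr : X ^ 2 = 1 := hXpow 2 (by ring) (by ring)
    have hne0 : (X - (1 : F) • 1).rank ≠ 0 := by
      intro h0
      exact hXns 1 (sub_eq_zero.1 (tens_eq_zero_of_rank_eq_zero _ h0))
    refine hder2 X hXdet ⟨1, by rw [hXr, one_smul]⟩ hXns 1 1 (by omega) ?_
    intro hdvd
    have h3 := Nat.le_of_dvd (Nat.pos_of_ne_zero hne0) hdvd
    omega
  have hval : padicValNat 2 (Fintype.card F - 1) ≤ padicValNat 2 n := by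
    by_contra hcon
    rw [not_le] at hcon
    obtain ⟨lam, hlam⟩ := qe_exists_pow_eq_neg_one (F := F) n (by omega) hcon
    obtain ⟨X, hXdet, ⟨z, hXz⟩, hXns, lam', ψ, u, -, -, hXw⟩ :=
      qe_reflection_data (n := n) (by omega) h2F lam hlam
    exact hder1 X hXdet ⟨z, by rw [pow_two, hXz]⟩ hXns lam' (tens_rank_le_one X lam' ψ u hXw)
  exact ⟨rfl, ha2, hoddq, hval⟩

end Cfsg.Agent.Lib.helper24
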