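import Mathlib

/-!
# A group generated by involutions with the exchange condition is a Coxeter group

Abstract form (Matsumoto / Tits, following Humphreys, *Reflection groups and Coxeter groups*, 1.9):
if `σ : S → W` are involutions satisfying an exchange condition, and `c : S → C` are involutions in
another group satisfying every relation `(c s c s')^k = 1` whenever `(σ s σ s')^k = 1`, then every
word in `S` which is trivial in `W` is trivial in `C`.
-/

set_option autoImplicit false

namespace Cfsg.Agent.Lib.helper24.Cox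

variable {S : Type*}

/-- word product -/
def wp {H : Type*} [Group H] (f : S → H) (ω : List S) : H := (ω.map f).prod

section basic
variable {H : Type*} [Group H] (f : S → H)

@[simp] theorem wp_nil : wp f [] = 1 := by simp [wp]
@[simp] theorem wp_cons (a : S) (ω : List S) : wp f (a :: ω) = f a * wp f ω := by simp [wp]
@[simp] theorem wp_append (ω ω' : List S) : wp f (ω ++ ω') = wp f ω * wp f ω' := by simp [wp]

theorem wp_reverse (hf : ∀ s, f s * f s = 1) (ω : List S) : wp f ω.reverse = (wp f ω)⁻¹ := by
  induction ω with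
  | nil => simp
  | cons a ω ih =>
    rw [List.reverse_cons, wp_append, ih, wp_cons, wp_cons, wp_nil, mul_one, mul_inv_rev]
    congr 1
    exact (inv_eq_of_mul_eq_one_right (hf a)).symm

end basic

variable {W C : Type*} [Group W] [Group C]

/-- Deletion: a word with a shorter word of the same product contains a redundant pair. -/
theorem exists_deletion (σ : S → W) (hσ : ∀ s, σ s * σ s = 1) (D : S → W → Prop)
    (hex : ∀ s (ω : List S), D s (wp σ ω) →
      ∃ u₂ b u₃, ω = u₂ ++ b :: u₃ ∧ wp σ (u₂ ++ u₃) = σ s * wp σ ω)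
    (hD : ∀ s w, D s w ∨ D s (σ s * w)) :
    ∀ (u w : List S), wp σ u = wp σ w → w.length < u.length →
      ∃ u₁ a u₂ b u₃, u = u₁ ++ a :: (u₂ ++ b :: u₃) ∧ σ a * wp σ u₂ = wp σ u₂ * σ b := by
  intro u
  induction u with
  | nil => intro w _ h; simp at h
  | cons a u ih =>
    intro w hw hlen
    rcases hD a (wp σ u) with h | h
    · obtain ⟨u₂, b, u₃, rfl, h2⟩ := hex a u h
      refine ⟨[], a, u₂, b, u₃, by simp, ?_⟩
      simp only [wp_append, wp_cons] at h2
      have h3 : wp σ u₂ = σ a * wp σ u₂ * σ b := by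
        have := congrArg (· * (wp σ u₃)⁻¹) h2
        simpa [mul_assoc] using this
      calc σ a * wp σ u₂ = σ a * wp σ u₂ * (σ b * σ b) := by rw [hσ b, mul_one]
        _ = (σ a * wp σ u₂ * σ b) * σ b := by group
        _ = wp σ u₂ * σ b := by rw [← h3]
    · have h' : D a (wp σ w) := by rw [← hw, wp_cons]; exact h
      obtain ⟨w₂, b, w₃, rfl, h2⟩ := hex a _ h'
      have h3 : wp σ u = wp σ (w₂ ++ w₃) := by
        rw [h2, ← hw, wp_cons, ← mul_assoc, hσ a, one_mul]
      have hlen' : (w₂ ++ w₃).length < u.length := by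
        simp only [List.length_append, List.length_cons] at hlen ⊢; omega
      obtain ⟨u₁, a', u₂, b', u₃, rfl, h4⟩ := ih _ h3 hlen'
      exact ⟨a :: u₁, a', u₂, b', u₃, by simp, h4⟩

/-- A trivial word is either trivial in `C` (by induction), or of even length `2q` with
`s₁ ⋯ s_q = s₂ ⋯ s_{q+1}`. -/
theorem good_or_bad (σ : S → W) (c : S → C) (hσ : ∀ s, σ s * σ s = 1) (hc : ∀ s, c s * c s = 1)
    (D : S → W → Prop)
    (hex : ∀ s (ω : List S), D s (wp σ ω) →
      ∃ u₂ b u₃, ω = u₂ ++ b :: u₃ ∧ wp σ (u₂ ++ u₃) = σ s * wp σ ω)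
    (hD : ∀ s w, D s w ∨ D s (σ s * w))
    (ω : List S)
    (IH : ∀ ω' : List S, ω'.length < ω.length → wp σ ω' = 1 → wp c ω' = 1) (h1 : wp σ ω = 1) :
    wp c ω = 1 ∨ ∃ a u₂ b ν, ω = a :: (u₂ ++ b :: ν) ∧ u₂.length = ν.length ∧
      σ a * wp σ u₂ = wp σ u₂ * σ b := by
  by_cases h0 : ω = []
  · left; rw [h0]; simp
  have hpos : 0 < ω.length := List.length_pos_iff.mpr h0
  obtain ⟨h, hh⟩ : ∃ h, h = ω.length / 2 + 1 := ⟨_, rfl⟩
  have hle : h ≤ ω.length := by omega
  have hsplit : ω = ω.take h ++ ω.drop h := (List.take_append_drop h ω).symm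
  have hlu : (ω.take h).length = h := by rw [List.length_take]; omega
  have hlv : (ω.drop h).length = ω.length - h := List.length_drop
  have h2 : wp σ (ω.take h) = wp σ (ω.drop h).reverse := by
    rw [wp_reverse σ hσ]
    rw [hsplit, wp_append] at h1
    exact eq_inv_of_mul_eq_one_left h1
  obtain ⟨u₁, a, u₂, b, u₃, hu, hrel⟩ := exists_deletion σ hσ D hex hD _ _ h2
    (by rw [List.length_reverse, hlu, hlv]; omega)
  have hω : ω = u₁ ++ a :: (u₂ ++ b :: u₃) ++ ω.drop h := by rw [← hu]; exact hsplit
  have hlen : u₁.length + u₂.length + u₃.length + 2 = h := by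
    rw [← hlu, hu]; simp only [List.length_append, List.length_cons]; omega
  by_cases hsmall : 2 * (u₂.length + 1) < ω.length
  · left
    have hrelC : c a * wp c u₂ = wp c u₂ * c b := by
      have h3 : wp σ (a :: u₂ ++ (u₂ ++ [b]).reverse) = 1 := by
        rw [wp_append, wp_reverse σ hσ, wp_cons, wp_append, wp_cons, wp_nil, mul_one, hrel,
          mul_inv_cancel]
      have h4 := IH _ (by
        simp only [List.length_append, List.length_cons, List.length_reverse, List.length_nil]
        omega) h3
      rw [wp_append, wp_reverse c hc, wp_cons, wp_append, wp_cons, wp_nil, mul_one] at h4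
      exact mul_inv_eq_one.mp h4
    have h5 : wp σ (u₁ ++ (u₂ ++ u₃) ++ ω.drop h) = 1 := by
      rw [← h1]; conv_rhs => rw [hω]
      simp only [wp_append, wp_cons]
      have h6 : σ a * (wp σ u₂ * (σ b * wp σ u₃)) = wp σ u₂ * wp σ u₃ := by
        rw [← mul_assoc, hrel, mul_assoc, ← mul_assoc (σ b), hσ b, one_mul]
      rw [h6]
    have h7 := IH _ (by
      have := congrArg List.length hω
      simp only [List.length_append, List.length_cons] at this ⊢; omega) h5
    rw [hω]
    simp only [wp_append, wp_cons] at h7 ⊢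
    have h8 : c a * (wp c u₂ * (c b * wp c u₃)) = wp c u₂ * wp c u₃ := by
      rw [← mul_assoc, hrelC, mul_assoc, ← mul_assoc (c b), hc b, one_mul]
    rw [h8]; exact h7
  · right
    have hu1 : u₁ = [] := List.eq_nil_of_length_eq_zero (by omega)
    have hu3 : u₃ = [] := List.eq_nil_of_length_eq_zero (by omega)
    subst hu1 hu3
    refine ⟨a, u₂, b, ω.drop h, by simpa using hω, ?_, hrel⟩
    rw [hlv]; omega

/-- Key step: in a trivial word `a b c' τ d ν₁` (with `|τ| = |ν₁|`) which is not trivial in `C`,
the first and third letters have the same image in `W`. -/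
theorem first_eq_third (σ : S → W) (c : S → C) (hσ : ∀ s, σ s * σ s = 1) (hc : ∀ s, c s * c s = 1)
    (D : S → W → Prop)
    (hex : ∀ s (ω : List S), D s (wp σ ω) →
      ∃ u₂ b u₃, ω = u₂ ++ b :: u₃ ∧ wp σ (u₂ ++ u₃) = σ s * wp σ ω)
    (hD : ∀ s w, D s w ∨ D s (σ s * w))
    (a b c' d : S) (τ ν₁ : List S) (hlen : τ.length = ν₁.length)
    (IH : ∀ ω' : List S, ω'.length < (a :: b :: c' :: (τ ++ d :: ν₁)).length →
      wp σ ω' = 1 → wp c ω' = 1)
    (h1 : wp σ (a :: b :: c' :: (τ ++ d :: ν₁)) = 1) :
    wp c (a :: b :: c' :: (τ ++ d :: ν₁)) = 1 ∨ σ a = σ c' := by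
  have hL : (a :: b :: c' :: (τ ++ d :: ν₁)).length = 2 * τ.length + 4 := by
    simp only [List.length_append, List.length_cons]; omega
  -- Step 1
  rcases good_or_bad σ c hσ hc D hex hD _ IH h1 with h | ⟨a₁, u₂, e₁, ν', hω1, hl1, hr1⟩
  · exact Or.inl h
  have ha1 : a = a₁ := (List.cons.inj hω1).1
  subst ha1
  have hω1' : (b :: c' :: τ) ++ (d :: ν₁) = (u₂ ++ [e₁]) ++ ν' := by
    have := (List.cons.inj hω1).2
    simpa using this
  have hlu2 : u₂.length = τ.length + 1 := by
    have := congrArg List.length hω1'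
    simp only [List.length_append, List.length_cons, List.length_nil] at this; omega
  have hlam1 : b :: c' :: τ = u₂ ++ [e₁] :=
    (List.append_inj hω1' (by simp only [List.length_append, List.length_cons, List.length_nil]; omega)).1
  -- Step 2: the rotated word
  have h1' : σ a * wp σ (b :: c' :: (τ ++ d :: ν₁)) = 1 := by simpa using h1
  have h2 : wp σ (b :: c' :: (τ ++ d :: (ν₁ ++ [a]))) = 1 := by
    have e : wp σ (b :: c' :: (τ ++ d :: (ν₁ ++ [a]))) = wp σ (b :: c' :: (τ ++ d :: ν₁)) * σ a := by
      simp only [wp_cons, wp_append, wp_nil, mul_one, mul_assoc]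
    rw [e]; exact mul_eq_one_comm.mp h1'
  have hL2 : (b :: c' :: (τ ++ d :: (ν₁ ++ [a]))).length = (a :: b :: c' :: (τ ++ d :: ν₁)).length := by
    simp only [List.length_append, List.length_cons, List.length_nil]; omega
  rcases good_or_bad σ c hσ hc D hex hD _ (fun ω' hl => IH ω' (hL2 ▸ hl)) h2 with
    h | ⟨a₂, u₂', e₂, ν'', hω2, hl2, hr2⟩
  · left
    have e : wp c (b :: c' :: (τ ++ d :: (ν₁ ++ [a]))) = wp c (b :: c' :: (τ ++ d :: ν₁)) * c a := by
      simp only [wp_cons, wp_append, wp_nil, mul_one, mul_assoc]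
    rw [e] at h
    rw [wp_cons]; exact mul_eq_one_comm.mp h
  have ha2 : b = a₂ := (List.cons.inj hω2).1
  subst ha2
  have hω2' : (c' :: τ) ++ (d :: (ν₁ ++ [a])) = u₂' ++ (e₂ :: ν'') := by
    have := (List.cons.inj hω2).2
    simpa using this
  have hlu2' : u₂'.length = τ.length + 1 := by
    have := congrArg List.length hω2'
    simp only [List.length_append, List.length_cons, List.length_nil] at this; omega
  have hinj2 := List.append_inj hω2' (by simp only [List.length_cons]; omega)
  have hu2' : c' :: τ = u₂' := hinj2.1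
  have he2 : d = e₂ := (List.cons.inj hinj2.2).1
  subst hu2' he2
  -- (E2) : B * (C * T) = (C * T) * D
  have hE2 : σ b * (σ c' * wp σ τ) = σ c' * wp σ τ * σ d := by simpa using hr2
  -- Step 3
  have h3 : wp σ (c' :: b :: c' :: (τ ++ d :: τ.reverse)) = 1 := by
    simp only [wp_cons, wp_append, wp_reverse σ hσ]
    calc σ c' * (σ b * (σ c' * (wp σ τ * (σ d * (wp σ τ)⁻¹))))
        = σ c' * ((σ b * (σ c' * wp σ τ)) * (σ d * (wp σ τ)⁻¹)) := by group
      _ = σ c' * ((σ c' * wp σ τ * σ d) * (σ d * (wp σ τ)⁻¹)) := by rw [hE2]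
      _ = (σ c' * σ c') * wp σ τ * (σ d * σ d) * (wp σ τ)⁻¹ := by group
      _ = 1 := by rw [hσ c', hσ d]; group
  have hL3 : (c' :: b :: c' :: (τ ++ d :: τ.reverse)).length
      = (a :: b :: c' :: (τ ++ d :: ν₁)).length := by
    simp only [List.length_append, List.length_cons, List.length_reverse]; omega
  rcases good_or_bad σ c hσ hc D hex hD _ (fun ω' hl => IH ω' (hL3 ▸ hl)) h3 with
    h | ⟨a₃, u₂'', e₃, ν''', hω3, hl3, hr3⟩
  · left
    -- relation (E2) in C
    simp only [wp_cons, wp_append, wp_reverse c hc] at h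
    have hE2C : c b * (c c' * wp c τ) = c c' * wp c τ * c d := by
      have hcc : (c c')⁻¹ = c c' := inv_eq_of_mul_eq_one_right (hc c')
      have hcd : (c d)⁻¹ = c d := inv_eq_of_mul_eq_one_right (hc d)
      have : c b * (c c' * wp c τ) = (c c')⁻¹ * wp c τ * (c d)⁻¹ := by
        have h' : c c' * ((c b * (c c' * wp c τ)) * (c d * (wp c τ)⁻¹)) = 1 := by
          rw [← h]; group
        have h'' : (c b * (c c' * wp c τ)) * (c d * (wp c τ)⁻¹) = (c c')⁻¹ :=
          eq_inv_of_mul_eq_one_right h'
        calc c b * (c c' * wp c τ)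
            = ((c b * (c c' * wp c τ)) * (c d * (wp c τ)⁻¹)) * (wp c τ * (c d)⁻¹) := by group
          _ = (c c')⁻¹ * wp c τ * (c d)⁻¹ := by rw [h'']; group
      rw [this, hcc, hcd]
    have h4 : wp σ (a :: c' :: (τ ++ ν₁)) = 1 := by
      rw [← h1]
      simp only [wp_cons, wp_append]
      calc σ a * (σ c' * (wp σ τ * wp σ ν₁))
          = σ a * ((σ c' * wp σ τ * σ d) * (σ d * wp σ ν₁)) := by
            have : σ c' * wp σ τ * σ d * (σ d * wp σ ν₁)
                = σ c' * wp σ τ * (σ d * σ d) * wp σ ν₁ := by group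
            rw [this, hσ d]; group
        _ = σ a * ((σ b * (σ c' * wp σ τ)) * (σ d * wp σ ν₁)) := by rw [hE2]
        _ = σ a * (σ b * (σ c' * (wp σ τ * (σ d * wp σ ν₁)))) := by group
    have h5 := IH _ (by simp only [List.length_append, List.length_cons]; omega) h4
    simp only [wp_cons, wp_append] at h5 ⊢
    calc c a * (c b * (c c' * (wp c τ * (c d * wp c ν₁))))
        = c a * ((c b * (c c' * wp c τ)) * (c d * wp c ν₁)) := by group
      _ = c a * ((c c' * wp c τ * c d) * (c d * wp c ν₁)) := by rw [hE2C]
      _ = c a * (c c' * wp c τ * (c d * c d) * wp c ν₁) := by group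
      _ = c a * (c c' * (wp c τ * wp c ν₁)) := by rw [hc d]; group
      _ = 1 := h5
  · right
    have ha3 : c' = a₃ := (List.cons.inj hω3).1
    subst ha3
    have hω3' : (b :: c' :: τ) ++ (d :: τ.reverse) = (u₂'' ++ [e₃]) ++ ν''' := by
      have := (List.cons.inj hω3).2
      simpa using this
    have hlu3 : u₂''.length = τ.length + 1 := by
      have := congrArg List.length hω3'
      simp only [List.length_append, List.length_cons, List.length_nil, List.length_reverse] at this
      omega
    have hlam3 : b :: c' :: τ = u₂'' ++ [e₃] :=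
      (List.append_inj hω3' (by
        simp only [List.length_append, List.length_cons, List.length_nil]; omega)).1
    have hinj := List.append_inj' (hlam1.symm.trans hlam3) rfl
    have hu : u₂ = u₂'' := hinj.1
    have he : e₁ = e₃ := by simpa using hinj.2
    subst hu he
    exact mul_right_cancel (hr1.trans hr3.symm)

/-- The product of a list of even length which is `2`-periodic. -/
theorem prod_of_period_two {M : Type*} [Monoid M] : ∀ (q : ℕ) (l : List M) (x y : M),
    l.length = 2 * q → (∀ k, k + 2 < l.length → l[k]? = l[k + 2]?) →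
    (0 < q → l[0]? = some x ∧ l[1]? = some y) → l.prod = (x * y) ^ q
  | 0, l, x, y, hl, _, _ => by
    have : l = [] := List.eq_nil_of_length_eq_zero (by omega)
    simp [this]
  | q + 1, [], x, y, hl, _, _ => by simp at hl
  | q + 1, [a], x, y, hl, _, _ => by simp at hl; omega
  | q + 1, a :: b :: l', x, y, hl, hper, h01 => by
    have ha : a = x := by have := (h01 (by omega)).1; simpa using this
    have hb : b = y := by have := (h01 (by omega)).2; simpa using this
    subst ha hb
    have hl' : l'.length = 2 * q := by simp only [List.length_cons] at hl; omega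
    have ih := prod_of_period_two q l' a b hl' (fun k hk => by
        have := hper (k + 2) (by simp only [List.length_cons]; omega)
        simpa using this) (fun hq => by
        have h0 := hper 0 (by simp only [List.length_cons]; omega)
        have h1 := hper 1 (by simp only [List.length_cons]; omega)
        simp at h0 h1
        exact ⟨h0.symm, h1.symm⟩)
    rw [List.prod_cons, List.prod_cons, ih, pow_succ', mul_assoc]

/-- A list of length `2 q + 4` splits as `a b c' τ d ν₁` with `|τ| = |ν₁| = q`. -/
theorem exists_decomp : ∀ (l : List S) (q : ℕ), l.length = 2 * q + 4 →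
    ∃ a b c' τ d ν₁, l = a :: b :: c' :: (τ ++ d :: ν₁) ∧ τ.length = q ∧ ν₁.length = q
  | [], q, h => by simp at h
  | [_], q, h => by simp at h
  | [_, _], q, h => by simp at h
  | a :: b :: c' :: ρ, q, h => by
    have hρ : ρ.length = 2 * q + 1 := by simp only [List.length_cons] at h; omega
    have hd : (ρ.drop q).length = q + 1 := by rw [List.length_drop]; omega
    match hm : ρ.drop q, hd with
    | [], hd => simp at hd
    | d :: ν₁, hd =>
      refine ⟨a, b, c', ρ.take q, d, ν₁, ?_, ?_, ?_⟩
      · rw [← hm, List.take_append_drop]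
      · rw [List.length_take]; omega
      · simp only [List.length_cons] at hd; omega

/-- **Matsumoto–Tits**: words trivial in `W` are trivial in `C`. -/
theorem word_problem (σ : S → W) (c : S → C) (hσ : ∀ s, σ s * σ s = 1) (hc : ∀ s, c s * c s = 1)
    (D : S → W → Prop)
    (hex : ∀ s (ω : List S), D s (wp σ ω) →
      ∃ u₂ b u₃, ω = u₂ ++ b :: u₃ ∧ wp σ (u₂ ++ u₃) = σ s * wp σ ω)
    (hD : ∀ s w, D s w ∨ D s (σ s * w))
    (hbr : ∀ s s' k, (σ s * σ s') ^ k = 1 → (c s * c s') ^ k = 1) :
    ∀ ω : List S, wp σ ω = 1 → wp c ω = 1 := by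
  have hcs : ∀ s s', σ s = σ s' → c s = c s' := by
    intro s s' h
    have h1 : (σ s * σ s') ^ 1 = 1 := by rw [pow_one, ← h, hσ]
    have h2 := hbr s s' 1 h1
    rw [pow_one] at h2
    have h3 : (c s)⁻¹ = c s' := inv_eq_of_mul_eq_one_right h2
    have h4 : (c s)⁻¹ = c s := inv_eq_of_mul_eq_one_right (hc s)
    rw [← h4, h3]
  intro ω
  induction' hn : ω.length using Nat.strong_induction_on with n ih generalizing ω
  intro h1
  have IH : ∀ ω' : List S, ω'.length < ω.length → wp σ ω' = 1 → wp c ω' = 1 :=
    fun ω' hl h => ih _ (hn ▸ hl) ω' rfl h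
  by_contra hne
  rcases good_or_bad σ c hσ hc D hex hD ω IH h1 with h | ⟨a, u₂, b, ν, hω, hl, hr⟩
  · exact hne h
  have hlen : ω.length = 2 * (u₂.length + 1) := by
    rw [hω]; simp only [List.length_append, List.length_cons]; omega
  -- periodicity
  have hper : ∀ k, k + 2 < ω.length → (ω[k]?).map σ = (ω[k + 2]?).map σ := by
    intro k hk
    have hlk : (ω.drop k ++ ω.take k).length = ω.length := by
      simp only [List.length_append, List.length_drop, List.length_take]; omega
    have h1k : wp σ (ω.drop k ++ ω.take k) = 1 := by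
      have : wp σ (ω.take k) * wp σ (ω.drop k) = 1 := by
        rw [← wp_append, List.take_append_drop]; exact h1
      rw [wp_append]
      exact mul_eq_one_comm.mp this
    have hnek : wp c (ω.drop k ++ ω.take k) ≠ 1 := by
      intro h
      apply hne
      have : wp c (ω.drop k) * wp c (ω.take k) = 1 := by rw [← wp_append]; exact h
      rw [← List.take_append_drop k ω, wp_append]
      exact mul_eq_one_comm.mp this
    obtain ⟨a', b', c', τ, d, ν₁, hdec, hτ, hν⟩ :=
      exists_decomp (ω.drop k ++ ω.take k) (u₂.length - 1) (by rw [hlk, hlen]; omega)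
    rw [hdec] at h1k hnek hlk
    rcases first_eq_third σ c hσ hc D hex hD a' b' c' d τ ν₁ (hτ.trans hν.symm)
      (fun ω' hl' => IH ω' (hlk ▸ hl')) h1k with h | h
    · exact absurd h hnek
    · have e0 : (ω.drop k ++ ω.take k)[0]? = ω[k]? := by
        rw [List.getElem?_append_left (by rw [List.length_drop]; omega), List.getElem?_drop]
        simp
      have e2 : (ω.drop k ++ ω.take k)[2]? = ω[k + 2]? := by
        rw [List.getElem?_append_left (by rw [List.length_drop]; omega), List.getElem?_drop]
      rw [← e0, ← e2, hdec]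
      simp [h]
  -- first two letters
  match ω, hω, hlen, hper, h1, hne with
  | [], _, hlen, _, _, _ => simp at hlen
  | [_], _, hlen, _, _, _ => simp at hlen; omega
  | x :: y :: ρ, _, hlen, hper, h1, hne =>
    have hσprod : wp σ (x :: y :: ρ) = (σ x * σ y) ^ (u₂.length + 1) := by
      unfold wp
      apply prod_of_period_two (u₂.length + 1) _ (σ x) (σ y) (by rw [List.length_map, hlen])
      · intro k hk
        rw [List.length_map] at hk
        rw [List.getElem?_map, List.getElem?_map]
        exact hper k hk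
      · intro _; simp
    have hcprod : wp c (x :: y :: ρ) = (c x * c y) ^ (u₂.length + 1) := by
      unfold wp
      apply prod_of_period_two (u₂.length + 1) _ (c x) (c y) (by rw [List.length_map, hlen])
      · intro k hk
        rw [List.length_map] at hk
        rw [List.getElem?_map, List.getElem?_map]
        have h := hper k hk
        have hk0 : k < (x :: y :: ρ).length := by omega
        rw [List.getElem?_eq_getElem hk0, List.getElem?_eq_getElem hk] at h ⊢
        simp only [Option.map_some, Option.some.injEq] at h ⊢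
        exact hcs _ _ h
      · intro _; simp
    apply hne
    rw [hcprod]
    apply hbr
    rw [← hσprod]; exact h1

end Cfsg.Agent.Lib.helper24.Cox
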