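import Mathlib

/-!
# A Jordan-decomposition lemma for nilpotent endomorphisms

For `N` with `N ^ p = 0` on a finite-dimensional space there is a multiset `μ` of block sizes
(with parts in `[1, p]` and sum `dim V`) such that every sub-multiset `ν ≤ μ` is realised by an
`N`-invariant decomposition `V = U ⊕ W` with `dim U = ν.sum`.
-/

set_option autoImplicit false

universe u

namespace Cfsg.Agent.Lib.helper24

open Module

section jordan

variable {F : Type*} [Field F]

/-- Coefficients of a combination of `N^k v` (`k < s`) vanish when a functional not vanishing on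
`N^(s-1) v` kills all `N^k` of the combination. -/
theorem dec_coeff_zero {V M : Type*} [AddCommGroup V] [Module F V] [AddCommGroup M] [Module F M]
    (N : Module.End F V) (s : ℕ) (hs : N ^ s = 0) (v : V) (φ : V →ₗ[F] M)
    (hφ : φ ((N ^ (s - 1)) v) ≠ 0) (g : Fin s → F)
    (h : ∀ k : Fin s, φ ((N ^ (k : ℕ)) (∑ j : Fin s, g j • (N ^ (j : ℕ)) v)) = 0) :
    ∀ k : Fin s, g k = 0 := by
  have key : ∀ k : ℕ, ∀ hk : k < s, g ⟨k, hk⟩ = 0 := by
    intro k
    induction k using Nat.strong_induction_on with
    | _ k ih =>
      intro hk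
      have h1 := h ⟨s - 1 - k, by omega⟩
      rw [map_sum, map_sum] at h1
      rw [Finset.sum_eq_single (⟨k, hk⟩ : Fin s)] at h1
      · rw [map_smul, map_smul, ← Module.End.mul_apply, ← pow_add] at h1
        have h2 : s - 1 - k + k = s - 1 := by omega
        rw [h2] at h1
        exact (smul_eq_zero.1 h1).resolve_right hφ
      · intro j _ hjk
        rw [map_smul, map_smul]
        have hjk' : (j : ℕ) ≠ k := fun h3 => hjk (Fin.ext h3)
        rcases lt_or_gt_of_ne hjk' with h3 | h3
        · have h4 := ih (j : ℕ) h3 j.2
          rw [Fin.eta] at h4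
          rw [h4, zero_smul]
        · rw [← Module.End.mul_apply, ← pow_add]
          have h4 : N ^ (s - 1 - k + (j : ℕ)) = 0 := by
            have h5 : s - 1 - k + (j : ℕ) = s + ((j : ℕ) - k - 1) := by omega
            rw [h5, pow_add, hs, zero_mul]
          rw [h4, LinearMap.zero_apply, map_zero, smul_zero]
      · intro h3
        exact absurd (Finset.mem_univ _) h3
  intro k
  exact key k k.2

theorem dec_pow_restrict {V : Type*} [AddCommGroup V] [Module F V] (N : Module.End F V)
    (W : Submodule F V) (hW : ∀ w ∈ W, N w ∈ W) (k : ℕ) (w : W) :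
    (((N.restrict hW) ^ k) w : V) = (N ^ k) (w : V) := by
  induction k generalizing w with
  | zero => rfl
  | succ k ih =>
    rw [pow_succ, pow_succ, Module.End.mul_apply, Module.End.mul_apply, ih]
    rfl

theorem dec_jordan (p : ℕ) :
    ∀ (n : ℕ) (V : Type u) [AddCommGroup V] [Module F V] [FiniteDimensional F V]
      (N : Module.End F V), finrank F V = n → N ^ p = 0 →
      ∃ μ : Multiset ℕ, (∀ a ∈ μ, 0 < a ∧ a ≤ p) ∧ μ.sum = n ∧
        ∀ ν : Multiset ℕ, ν ≤ μ → ∃ U W : Submodule F V, IsCompl U W ∧ finrank F U = ν.sum ∧
          (∀ u ∈ U, N u ∈ U) ∧ (∀ w ∈ W, N w ∈ W) := by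
  classical
  intro n
  induction n using Nat.strong_induction_on with
  | _ n ih =>
    intro V _ _ _ N hn hN
    by_cases hn0 : n = 0
    · refine ⟨0, by simp, by simp [hn0], ?_⟩
      intro ν hν
      have hν0 : ν = 0 := Multiset.le_zero.1 hν
      refine ⟨⊥, ⊤, isCompl_bot_top, by simp [hν0], ?_, fun w _ => Submodule.mem_top⟩
      intro u hu
      rw [Submodule.mem_bot] at hu
      rw [hu, map_zero]
      exact Submodule.zero_mem _
    · -- the nilpotency index
      have hex : ∃ k, N ^ k = 0 := ⟨p, hN⟩
      obtain ⟨s, hsdef⟩ : ∃ s, s = Nat.find hex := ⟨_, rfl⟩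
      have hs : N ^ s = 0 := by
        rw [hsdef]
        exact Nat.find_spec hex
      have hsp : s ≤ p := by
        rw [hsdef]
        exact Nat.find_min' hex hN
      have hs1 : 1 ≤ s := by
        rcases Nat.eq_zero_or_pos s with h0 | h0
        · exfalso
          rw [h0, pow_zero] at hs
          apply hn0
          rw [← hn]
          rw [finrank_zero_iff]
          constructor
          intro a b
          have ha : a = (1 : Module.End F V) a := rfl
          have hb : b = (1 : Module.End F V) b := rfl
          rw [ha, hb, hs]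
          rfl
        · exact h0
      have hs' : N ^ (s - 1) ≠ 0 := by
        have h1 : s - 1 < Nat.find hex := by
          rw [← hsdef]
          omega
        exact Nat.find_min hex h1
      obtain ⟨v, hv⟩ : ∃ v, (N ^ (s - 1)) v ≠ 0 := by
        by_contra hcon
        push Not at hcon
        apply hs'
        apply LinearMap.ext
        intro v
        rw [hcon v]
        rfl
      -- the cyclic subspace
      have hli : LinearIndependent F (fun k : Fin s => (N ^ (k : ℕ)) v) := by
        rw [Fintype.linearIndependent_iff]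
        intro g hg
        apply dec_coeff_zero N s hs v LinearMap.id hv g
        intro k
        rw [hg, map_zero, map_zero]
      obtain ⟨Z, hZdef⟩ : ∃ Z : Submodule F V,
          Z = Submodule.span F (Set.range (fun k : Fin s => (N ^ (k : ℕ)) v)) := ⟨_, rfl⟩
      have hZdim : finrank F Z = s := by
        rw [hZdef, finrank_span_eq_card hli, Fintype.card_fin]
      have hZinv : ∀ z ∈ Z, N z ∈ Z := by
        have h1 : Z ≤ Z.comap N := by
          rw [hZdef, Submodule.span_le]
          rintro _ ⟨k, rfl⟩
          rw [SetLike.mem_coe, Submodule.mem_comap, ← Module.End.mul_apply, ← pow_succ']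
          by_cases hk : (k : ℕ) + 1 < s
          · exact Submodule.subset_span ⟨⟨(k : ℕ) + 1, hk⟩, rfl⟩
          · have h2 : (k : ℕ) + 1 = s := by
              have := k.2
              omega
            rw [h2, hs, LinearMap.zero_apply]
            exact Submodule.zero_mem _
        intro z hz
        exact h1 hz
      -- a functional
      obtain ⟨f, hf⟩ : ∃ f : Module.Dual F V, f ((N ^ (s - 1)) v) ≠ 0 := by
        by_contra hcon
        push Not at hcon
        exact hv ((Module.forall_dual_apply_eq_zero_iff F _).1 hcon)
      obtain ⟨Ψ, hΨdef⟩ : ∃ Ψ : V →ₗ[F] (Fin s → F),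
          Ψ = LinearMap.pi (fun k : Fin s => f ∘ₗ (N ^ (k : ℕ))) := ⟨_, rfl⟩
      have hΨ : ∀ w, w ∈ LinearMap.ker Ψ ↔ ∀ k : Fin s, f ((N ^ (k : ℕ)) w) = 0 := by
        intro w
        rw [LinearMap.mem_ker, hΨdef]
        constructor
        · intro h k
          exact congrFun h k
        · intro h
          funext k
          exact h k
      obtain ⟨W₁, hW₁def⟩ : ∃ W₁ : Submodule F V, W₁ = LinearMap.ker Ψ := ⟨_, rfl⟩
      have hW₁ : ∀ w, w ∈ W₁ ↔ ∀ k : Fin s, f ((N ^ (k : ℕ)) w) = 0 := by
        intro w
        rw [hW₁def]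
        exact hΨ w
      have hW₁inv : ∀ w ∈ W₁, N w ∈ W₁ := by
        intro w hw
        rw [hW₁] at hw ⊢
        intro k
        rw [← Module.End.mul_apply, ← pow_succ]
        by_cases hk : (k : ℕ) + 1 < s
        · exact hw ⟨(k : ℕ) + 1, hk⟩
        · have h2 : (k : ℕ) + 1 = s := by
            have := k.2
            omega
          rw [h2, hs, LinearMap.zero_apply, map_zero]
      have hZW : Z ⊓ W₁ = ⊥ := by
        rw [eq_bot_iff]
        rintro z ⟨hz1, hz2⟩
        rw [SetLike.mem_coe, hZdef, Submodule.mem_span_range_iff_exists_fun] at hz1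
        obtain ⟨g, rfl⟩ := hz1
        rw [SetLike.mem_coe, hW₁] at hz2
        have h1 := dec_coeff_zero N s hs v f hf g hz2
        rw [Submodule.mem_bot]
        apply Finset.sum_eq_zero
        intro j _
        rw [h1 j, zero_smul]
      have hW₁dim : n ≤ s + finrank F W₁ := by
        have h1 := LinearMap.finrank_range_add_finrank_ker Ψ
        have h2 : finrank F (LinearMap.range Ψ) ≤ s := by
          have h3 := Submodule.finrank_le (LinearMap.range Ψ)
          rw [Module.finrank_fin_fun] at h3
          exact h3
        rw [hn, ← hW₁def] at h1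
        omega
      have hsum := Submodule.finrank_sup_add_finrank_inf_eq Z W₁
      rw [hZW, finrank_bot, add_zero, hZdim] at hsum
      have hle : finrank F (Z ⊔ W₁ : Submodule F V) ≤ n := by
        rw [← hn]
        exact Submodule.finrank_le _
      have hZW' : Z ⊔ W₁ = ⊤ := by
        apply Submodule.eq_top_of_finrank_eq
        rw [hn]
        omega
      have hW₁dim' : finrank F W₁ = n - s := by omega
      have hsn : s ≤ n := by
        have h1 := Submodule.finrank_le Z
        rw [hZdim, hn] at h1
        exact h1
      -- induction hypothesis on W₁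
      have hN₁ : (N.restrict hW₁inv) ^ p = 0 := by
        apply LinearMap.ext
        intro w
        apply Subtype.ext
        rw [dec_pow_restrict, hN]
        rfl
      obtain ⟨μ₁, hμ₁, hμ₁sum, hsel⟩ :=
        ih (n - s) (by omega) W₁ (N.restrict hW₁inv) hW₁dim' hN₁
      refine ⟨s ::ₘ μ₁, ?_, ?_, ?_⟩
      · intro a ha
        rw [Multiset.mem_cons] at ha
        rcases ha with rfl | ha
        · exact ⟨hs1, hsp⟩
        · exact hμ₁ a ha
      · rw [Multiset.sum_cons, hμ₁sum]
        omega
      · intro ν hν
        -- common facts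
        have hfact : ∀ ν₁ : Multiset ℕ, ν₁ ≤ μ₁ → ∃ A B : Submodule F V,
            A ⊔ B = W₁ ∧ A ⊓ B = ⊥ ∧ finrank F A = ν₁.sum ∧
            (∀ a ∈ A, N a ∈ A) ∧ (∀ b ∈ B, N b ∈ B) := by
          intro ν₁ hν₁
          obtain ⟨U₁, W', hc, hdim, hU₁, hW'⟩ := hsel ν₁ hν₁
          refine ⟨U₁.map W₁.subtype, W'.map W₁.subtype, ?_, ?_, ?_, ?_, ?_⟩
          · rw [← Submodule.map_sup, hc.sup_eq_top, Submodule.map_top, Submodule.range_subtype]
          · rw [← Submodule.map_inf _ W₁.injective_subtype, hc.inf_eq_bot, Submodule.map_bot]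
          · rw [Submodule.finrank_map_subtype_eq, hdim]
          · rintro _ ⟨u, hu, rfl⟩
            exact ⟨N.restrict hW₁inv u, hU₁ u hu, rfl⟩
          · rintro _ ⟨u, hu, rfl⟩
            exact ⟨N.restrict hW₁inv u, hW' u hu, rfl⟩
        by_cases hsν : s ∈ ν
        · have hν1 : ν.erase s ≤ μ₁ := Multiset.erase_le_iff_le_cons.2 hν
          obtain ⟨A, B, hAB, hAB', hAdim, hAinv, hBinv⟩ := hfact _ hν1
          have hAW : A ≤ W₁ := by
            rw [← hAB]
            exact le_sup_left
          have hBW : B ≤ W₁ := by
            rw [← hAB]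
            exact le_sup_right
          have hZA : Z ⊓ A = ⊥ := by
            rw [eq_bot_iff, ← hZW]
            exact inf_le_inf le_rfl hAW
          refine ⟨Z ⊔ A, B, ?_, ?_, ?_, hBinv⟩
          · rw [isCompl_iff, disjoint_iff, codisjoint_iff]
            constructor
            · rw [eq_bot_iff]
              rintro x ⟨hx1, hx2⟩
              obtain ⟨z, hz, a, ha, rfl⟩ := Submodule.mem_sup.1 hx1
              have hzW : z ∈ W₁ := by
                have h1 := W₁.sub_mem (hBW hx2) (hAW ha)
                rw [add_sub_cancel_right] at h1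
                exact h1
              have hz0 : z = 0 := by
                have h1 : z ∈ Z ⊓ W₁ := ⟨hz, hzW⟩
                rw [hZW, Submodule.mem_bot] at h1
                exact h1
              rw [hz0, zero_add] at hx2 ⊢
              have h1 : a ∈ A ⊓ B := ⟨ha, hx2⟩
              rw [hAB'] at h1
              exact h1
            · rw [sup_assoc, hAB, hZW']
          · have h1 := Submodule.finrank_sup_add_finrank_inf_eq Z A
            rw [hZA, finrank_bot, add_zero, hZdim, hAdim] at h1
            rw [h1, ← Multiset.sum_cons, Multiset.cons_erase hsν]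
          · intro u hu
            obtain ⟨z, hz, a, ha, rfl⟩ := Submodule.mem_sup.1 hu
            rw [map_add]
            exact Submodule.add_mem _ (Submodule.mem_sup_left (hZinv z hz))
              (Submodule.mem_sup_right (hAinv a ha))
        · have hν1 : ν ≤ μ₁ := (Multiset.le_cons_of_notMem hsν).1 hν
          obtain ⟨A, B, hAB, hAB', hAdim, hAinv, hBinv⟩ := hfact _ hν1
          have hAW : A ≤ W₁ := by
            rw [← hAB]
            exact le_sup_left
          have hBW : B ≤ W₁ := by
            rw [← hAB]
            exact le_sup_right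
          refine ⟨A, Z ⊔ B, ?_, hAdim, hAinv, ?_⟩
          · rw [isCompl_iff, disjoint_iff, codisjoint_iff]
            constructor
            · rw [eq_bot_iff]
              rintro x ⟨hx1, hx2⟩
              obtain ⟨z, hz, b, hb, hzb⟩ := Submodule.mem_sup.1 hx2
              have hzW : z ∈ W₁ := by
                have h1 := W₁.sub_mem (hAW hx1) (hBW hb)
                rw [← hzb, add_sub_cancel_right] at h1
                exact h1
              have hz0 : z = 0 := by
                have h1 : z ∈ Z ⊓ W₁ := ⟨hz, hzW⟩
                rw [hZW, Submodule.mem_bot] at h1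
                exact h1
              rw [hz0, zero_add] at hzb
              have h1 : x ∈ A ⊓ B := ⟨hx1, by rw [← hzb]; exact hb⟩
              rw [hAB'] at h1
              exact h1
            · rw [sup_left_comm, hAB, hZW']
          · intro u hu
            obtain ⟨z, hz, b, hb, rfl⟩ := Submodule.mem_sup.1 hu
            rw [map_add]
            exact Submodule.add_mem _ (Submodule.mem_sup_left (hZinv z hz))
              (Submodule.mem_sup_right (hBinv b hb))

/-- Partitions into parts `1` and `2`: a sub-partition of sum `m` exists when `n` is odd or `m`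
is even. -/
theorem dec_two_parts (n m : ℕ) (hmn : m ≤ n) (h : Odd n ∨ Even m) (μ : Multiset ℕ)
    (hμ : ∀ a ∈ μ, 0 < a ∧ a ≤ 2) (hsum : μ.sum = n) :
    ∃ ν : Multiset ℕ, ν ≤ μ ∧ ν.sum = m := by
  have hμeq : μ = Multiset.replicate (μ.count 2) 2 + Multiset.replicate (μ.count 1) 1 := by
    ext c
    rw [Multiset.count_add, Multiset.count_replicate, Multiset.count_replicate]
    by_cases hc2 : c = 2
    · subst hc2
      simp
    · by_cases hc1 : c = 1
      · subst hc1
        simp
      · have h1 : c ∉ μ := by
          intro hc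
          have := hμ c hc
          omega
        rw [Multiset.count_eq_zero.2 h1, if_neg (Ne.symm hc2), if_neg (Ne.symm hc1)]
  have hsum' : 2 * μ.count 2 + μ.count 1 = n := by
    rw [← hsum]
    conv_rhs => rw [hμeq]
    rw [Multiset.sum_add, Multiset.sum_replicate, Multiset.sum_replicate, smul_eq_mul,
      smul_eq_mul, mul_one, mul_comm]
  obtain ⟨a', b', ha', hb', hab⟩ : ∃ a' b', a' ≤ μ.count 2 ∧ b' ≤ μ.count 1 ∧
      2 * a' + b' = m := by
    by_cases hc : μ.count 2 ≤ m / 2
    · exact ⟨μ.count 2, m - 2 * μ.count 2, le_rfl, by omega, by omega⟩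
    · refine ⟨m / 2, m % 2, by omega, ?_, by omega⟩
      rcases h with h | h
      · obtain ⟨k, hk⟩ := h
        omega
      · obtain ⟨k, hk⟩ := h
        omega
  refine ⟨Multiset.replicate a' 2 + Multiset.replicate b' 1, ?_, ?_⟩
  · rw [hμeq]
    exact add_le_add ((Multiset.replicate_le_replicate 2).2 ha')
      ((Multiset.replicate_le_replicate 1).2 hb')
  · rw [Multiset.sum_add, Multiset.sum_replicate, Multiset.sum_replicate, smul_eq_mul,
      smul_eq_mul, mul_one, mul_comm]
    exact hab

end jordan

end Cfsg.Agent.Lib.helper24
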