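import Mathlib
import Cfsg.Agent.Lib.helper24.DecJordan
import Cfsg.Agent.Lib.helper24.DecMaschke
import Cfsg.Agent.Lib.helper99.JordA
import Cfsg.Agent.Lib.helper99.JordB

/-!
# Elements of prime order of `SL_n(q)` fixing a decomposition `U ⊕ W` with `dim U = m`
-/

set_option autoImplicit false

namespace Cfsg.Agent.Lib.helper24

open Module Cfsg.Agent.Lib.helper99.Jord

section

variable {F : Type*} [Field F] [Fintype F] {p : ℕ} [Fact p.Prime] [CharP F p]

/-- Necessity in characteristic `p`: if every element of order `p` fixes a decomposition, every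
partition of `n` into parts of size at most `p` contains a partition of `m`. -/
theorem dec_unip_necessary (n m : ℕ) (hn : 1 ≤ n) (hmn : m ≤ n)
    (h : ∀ x : Matrix.SpecialLinearGroup (Fin n) F,
      (∃ c : F, ((x ^ p : Matrix.SpecialLinearGroup (Fin n) F) : Matrix (Fin n) (Fin n) F) =
        c • (1 : Matrix (Fin n) (Fin n) F)) →
      (∀ c : F, (x : Matrix (Fin n) (Fin n) F) ≠ c • (1 : Matrix (Fin n) (Fin n) F)) →
      ∃ U W : Submodule F (Fin n → F), IsCompl U W ∧ Module.finrank F ↥U = m ∧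
        U.map (Matrix.toLin' (x : Matrix (Fin n) (Fin n) F)) ≤ U ∧
        W.map (Matrix.toLin' (x : Matrix (Fin n) (Fin n) F)) ≤ W)
    (μ : Multiset ℕ) (hμ : ∀ a ∈ μ, 0 < a ∧ a ≤ p) (hsum : μ.sum = n) :
    ∃ ν : Multiset ℕ, ν ≤ μ ∧ ν.sum = m := by
  classical
  have hpp : p.Prime := Fact.out
  by_cases hall : ∀ b ∈ μ, b = 1
  · have h1 : μ = Multiset.replicate (Multiset.card μ) 1 := Multiset.eq_replicate_card.2 hall
    have hcard : Multiset.card μ = n := by
      rw [h1, Multiset.sum_replicate] at hsum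
      simpa using hsum
    refine ⟨Multiset.replicate m 1, ?_, by simp⟩
    rw [h1, hcard, Multiset.replicate_le_replicate]
    exact hmn
  · push Not at hall
    obtain ⟨b₀, hb₀, hb₀1⟩ := hall
    have hb₀2 : 2 ≤ b₀ := by
      have := (hμ b₀ hb₀).1
      omega
    let e : Idx μ ≃ Fin n := Fintype.equivFinOfCardEq ((card_Idx μ).trans hsum)
    let Φ : (Idx μ → F) ≃ₗ[F] (Fin n → F) := LinearEquiv.funCongrLeft F F e.symm
    let G : Module.End F (Fin n → F) := Φ.conjRingEquiv (sh μ F)
    have hGp : G ^ p = 0 := by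
      show (Φ.conjRingEquiv (sh μ F)) ^ p = 0
      rw [← map_pow, sh_pow_eq_zero μ F p (fun b hb => (hμ b hb).2), map_zero]
    have hG0 : G ≠ 0 := by
      intro h0
      apply sh_ne_zero μ F b₀ hb₀ hb₀2
      apply Φ.conjRingEquiv.injective
      rw [map_zero]
      exact h0
    let xm : Matrix (Fin n) (Fin n) F := LinearMap.toMatrixAlgEquiv' (1 + G)
    have hxm : Matrix.toLin' xm = 1 + G := by
      have h := Matrix.toLinAlgEquiv'_toMatrixAlgEquiv' (1 + G)
      exact h
    have : NeZero n := ⟨by omega⟩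
    have hxmp : xm ^ p = 1 := by
      have h1 : xm = 1 + LinearMap.toMatrixAlgEquiv' G := by
        show LinearMap.toMatrixAlgEquiv' (1 + G) = _
        rw [map_add, map_one]
      have h2 : (LinearMap.toMatrixAlgEquiv' G : Matrix (Fin n) (Fin n) F) ^ p = 0 := by
        rw [← map_pow, hGp, map_zero]
      rw [h1, add_pow_char_of_commute p (Commute.one_left _), one_pow, h2, add_zero]
    have hdet : xm.det = 1 := by
      have h1 : xm.det ^ p = 1 := by rw [← Matrix.det_pow, hxmp, Matrix.det_one]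
      have h2 : (xm.det - 1) ^ p = 0 := by rw [sub_pow_char, h1, one_pow, sub_self]
      exact sub_eq_zero.1 (pow_eq_zero_iff hpp.ne_zero |>.1 h2)
    let x : Matrix.SpecialLinearGroup (Fin n) F := ⟨xm, hdet⟩
    have hx1 : ∃ z : F, ((x ^ p : Matrix.SpecialLinearGroup (Fin n) F) : Matrix (Fin n) (Fin n) F)
        = z • (1 : Matrix (Fin n) (Fin n) F) := by
      refine ⟨1, ?_⟩
      rw [Matrix.SpecialLinearGroup.coe_pow, one_smul]
      exact hxmp
    have hx2 : ∀ z : F, (x : Matrix (Fin n) (Fin n) F) ≠ z • (1 : Matrix (Fin n) (Fin n) F) := by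
      intro z hz
      have hz' : xm = z • (1 : Matrix (Fin n) (Fin n) F) := hz
      have h1 : z ^ p = 1 := by
        have h2 := hxmp
        rw [hz', smul_pow, one_pow] at h2
        have h3 := congrFun (congrFun h2 (⟨0, by omega⟩ : Fin n)) (⟨0, by omega⟩ : Fin n)
        simpa using h3
      have h2 : (z - 1) ^ p = 0 := by rw [sub_pow_char, h1, one_pow, sub_self]
      have h3 : z = 1 := sub_eq_zero.1 (pow_eq_zero_iff hpp.ne_zero |>.1 h2)
      apply hG0
      have h4 : (1 : Module.End F (Fin n → F)) + G = 1 := by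
        rw [← hxm, hz', h3, one_smul, Matrix.toLin'_one]
        rfl
      exact add_eq_left.1 h4
    obtain ⟨U, W, hc, hdim, hU0, hW0⟩ := h x hx1 hx2
    have hinv : ∀ A : Submodule F (Fin n → F), A.map (Matrix.toLin' xm) ≤ A →
        ∀ u ∈ A, G u ∈ A := by
      intro A hA u hu
      have h1 : (1 + G) u ∈ A := by
        rw [← hxm]
        exact hA (Submodule.mem_map_of_mem hu)
      have h2 : G u = (1 + G) u - u := by
        rw [LinearMap.add_apply, Module.End.one_apply, add_sub_cancel_left]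
      rw [h2]
      exact A.sub_mem h1 hu
    have hcnt : ∀ j', 1 ≤ j' → j' ≤ p → cc G ⊤ (j' - 1) = cc G ⊤ j' + μ.count j' := by
      intro j' hj' _
      show cc (Φ.conjRingEquiv (sh μ F)) ⊤ (j' - 1) = cc (Φ.conjRingEquiv (sh μ F)) ⊤ j' + _
      rw [cc_conj, cc_conj]
      exact cc_sh_count μ F j' hj'
    obtain ⟨ν, hν, hνs⟩ := exists_sub_partition G p hGp U W (hinv U hU0) (hinv W hW0)
      hc.sup_eq_top hc.disjoint μ hcnt
    exact ⟨ν, hν, by rw [hνs, hdim]⟩

/-- Sufficiency in characteristic `p`. -/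
theorem dec_unip_sufficient (n m : ℕ) (hn : 1 ≤ n)
    (hpart : ∀ μ : Multiset ℕ, (∀ a ∈ μ, 0 < a ∧ a ≤ p) → μ.sum = n →
      ∃ ν : Multiset ℕ, ν ≤ μ ∧ ν.sum = m)
    (x : Matrix.SpecialLinearGroup (Fin n) F)
    (hx : ∃ c : F, ((x ^ p : Matrix.SpecialLinearGroup (Fin n) F) : Matrix (Fin n) (Fin n) F) =
        c • (1 : Matrix (Fin n) (Fin n) F)) :
    ∃ U W : Submodule F (Fin n → F), IsCompl U W ∧ Module.finrank F ↥U = m ∧
        U.map (Matrix.toLin' (x : Matrix (Fin n) (Fin n) F)) ≤ U ∧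
        W.map (Matrix.toLin' (x : Matrix (Fin n) (Fin n) F)) ≤ W := by
  classical
  have hpp : p.Prime := Fact.out
  have : NeZero n := ⟨by omega⟩
  obtain ⟨c, hc⟩ := hx
  rw [Matrix.SpecialLinearGroup.coe_pow] at hc
  -- a p-th root of c
  have hinj : Function.Injective (fun a : F => a ^ p) := by
    intro a b hab
    have h1 : (a - b) ^ p = 0 := by
      rw [sub_pow_char]
      exact sub_eq_zero.2 hab
    exact sub_eq_zero.1 (pow_eq_zero_iff hpp.ne_zero |>.1 h1)
  obtain ⟨l, hl⟩ := Finite.surjective_of_injective hinj c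
  have hl' : l ^ p = c := hl
  have hc0 : c ≠ 0 := by
    intro h0
    have h1 := congrArg Matrix.det hc
    rw [Matrix.det_pow, x.2, one_pow, h0, zero_smul, Matrix.det_zero] at h1
    exact one_ne_zero h1
  have hl0 : l ≠ 0 := by
    intro h0
    apply hc0
    rw [← hl', h0, zero_pow hpp.ne_zero]
  obtain ⟨M, hMdef⟩ : ∃ M : Matrix (Fin n) (Fin n) F,
      M = l⁻¹ • (x : Matrix (Fin n) (Fin n) F) - 1 := ⟨_, rfl⟩
  have hMp : M ^ p = 0 := by
    rw [hMdef, sub_pow_char_of_commute p (Commute.one_right _), smul_pow, hc, one_pow, smul_smul,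
      inv_pow, hl', inv_mul_cancel₀ hc0, one_smul, sub_self]
  have hNp : (Matrix.toLin' M) ^ p = 0 := by
    rw [← Matrix.toLin'_pow, hMp, map_zero]
  obtain ⟨μ, hμ, hμsum, hsel⟩ := dec_jordan (F := F) p n (Fin n → F) (Matrix.toLin' M)
    (Module.finrank_fin_fun F) hNp
  obtain ⟨ν, hν, hνsum⟩ := hpart μ hμ hμsum
  obtain ⟨U, W, hUW, hUdim, hU, hW⟩ := hsel ν hν
  have hxu : ∀ u : Fin n → F, Matrix.toLin' (x : Matrix (Fin n) (Fin n) F) u =
      l • (Matrix.toLin' M u + u) := by
    intro u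
    rw [hMdef, Matrix.toLin'_apply, Matrix.toLin'_apply, Matrix.sub_mulVec, Matrix.smul_mulVec,
      Matrix.one_mulVec, sub_add_cancel, smul_smul, mul_inv_cancel₀ hl0, one_smul]
  refine ⟨U, W, hUW, by rw [hUdim, hνsum], ?_, ?_⟩
  · rintro _ ⟨u, hu, rfl⟩
    rw [hxu]
    exact U.smul_mem _ (U.add_mem (hU u hu) hu)
  · rintro _ ⟨u, hu, rfl⟩
    rw [hxu]
    exact W.smul_mem _ (W.add_mem (hW u hu) hu)

/-- The main reduction: the statement on decompositions from the statement on `m`-spaces. -/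
theorem dec_main (n m : ℕ) (hn : 3 ≤ n) (hm : 1 ≤ m) (hmn : 2 * m < n) (r : ℕ) [Fact r.Prime]
    (hrΩ : r ∣ Nat.card {P : Submodule F (Fin n → F) × Submodule F (Fin n → F) //
      IsCompl P.1 P.2 ∧ Module.finrank F ↥P.1 = m})
    (C : Prop)
    (h49 : r ∣ Nat.card {W : Submodule F (Fin n → F) // Module.finrank F ↥W = m} →
      ((∀ x : Matrix.SpecialLinearGroup (Fin n) F,
        (∃ c : F, ((x ^ r : Matrix.SpecialLinearGroup (Fin n) F) : Matrix (Fin n) (Fin n) F) =
          c • (1 : Matrix (Fin n) (Fin n) F)) →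
        (∀ c : F, (x : Matrix (Fin n) (Fin n) F) ≠ c • (1 : Matrix (Fin n) (Fin n) F)) →
        ∃ W : Submodule F (Fin n → F), Module.finrank F ↥W = m ∧
          W.map (Matrix.toLin' (x : Matrix (Fin n) (Fin n) F)) ≤ W) ↔
      (r ≠ p ∧ C))) :
    (∀ x : Matrix.SpecialLinearGroup (Fin n) F,
      (∃ c : F, ((x ^ r : Matrix.SpecialLinearGroup (Fin n) F) : Matrix (Fin n) (Fin n) F) =
        c • (1 : Matrix (Fin n) (Fin n) F)) →
      (∀ c : F, (x : Matrix (Fin n) (Fin n) F) ≠ c • (1 : Matrix (Fin n) (Fin n) F)) →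
      ∃ U W : Submodule F (Fin n → F), IsCompl U W ∧ Module.finrank F ↥U = m ∧
        U.map (Matrix.toLin' (x : Matrix (Fin n) (Fin n) F)) ≤ U ∧
        W.map (Matrix.toLin' (x : Matrix (Fin n) (Fin n) F)) ≤ W) ↔
    ((r = p ∧ 2 < p ∧ (∀ μ : Multiset ℕ, (∀ a ∈ μ, 0 < a ∧ a ≤ p) → μ.sum = n →
        ∃ ν : Multiset ℕ, ν ≤ μ ∧ ν.sum = m)) ∨
     (r = p ∧ p = 2 ∧ (Odd n ∨ Even m)) ∨
     (r ≠ p ∧ C)) := by
  classical
  have hpP : p.Prime := Fact.out
  have hrP : r.Prime := Fact.out
  haveI : NeZero n := ⟨by omega⟩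
  have hN : r ≠ p → r ∣ Nat.card {W : Submodule F (Fin n → F) // Module.finrank F ↥W = m} := by
    intro hrp
    rw [dec_card_decomp] at hrΩ
    rcases (Nat.Prime.dvd_mul hrP).1 hrΩ with h1 | h1
    · exact h1
    · exfalso
      have h2 := hrP.dvd_of_dvd_pow h1
      obtain ⟨k, hp', hk⟩ := FiniteField.card F p
      rw [hk] at h2
      exact hrp ((Nat.prime_dvd_prime_iff_eq hrP hpP).1 (hrP.dvd_of_dvd_pow h2))
  constructor
  · intro h
    by_cases hrp : r = p
    · subst hrp
      have hpart := dec_unip_necessary (F := F) n m (by omega) (by omega) h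
      by_cases hp2 : r = 2
      · right
        left
        refine ⟨rfl, hp2, ?_⟩
        by_contra hcon
        push Not at hcon
        obtain ⟨hn1, hm1⟩ := hcon
        rw [Nat.not_odd_iff_even] at hn1
        obtain ⟨k, hk⟩ := hn1
        obtain ⟨ν, hν, hνs⟩ := hpart (Multiset.replicate k 2) (by
          intro a ha
          rw [Multiset.eq_of_mem_replicate ha]
          omega) (by
          rw [Multiset.sum_replicate, smul_eq_mul]
          omega)
        obtain ⟨j, _, rfl⟩ := Multiset.le_replicate_iff.1 hν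
        rw [Multiset.sum_replicate, smul_eq_mul] at hνs
        apply hm1
        exact ⟨j, by omega⟩
      · left
        refine ⟨rfl, ?_, hpart⟩
        have := hpP.two_le
        omega
    · right
      right
      exact (h49 (hN hrp)).1 (fun x hx1 hx2 => by
        obtain ⟨U, W, hc, hdim, hU, hW⟩ := h x hx1 hx2
        exact ⟨U, hdim, hU⟩)
  · rintro (⟨hrp, hp2, hpart⟩ | ⟨hrp, hp2, hpar⟩ | ⟨hrp, hC⟩)
    · subst hrp
      intro x hx1 hx2
      exact dec_unip_sufficient n m (by omega) hpart x hx1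
    · subst hrp
      intro x hx1 hx2
      apply dec_unip_sufficient n m (by omega) _ x hx1
      intro μ hμ hsum
      exact dec_two_parts n m (by omega) hpar μ (by
        intro a ha
        have := hμ a ha
        omega) hsum
    · have h49' := (h49 (hN hrp)).2 ⟨hrp, hC⟩
      intro x hx1 hx2
      obtain ⟨W, hdim, hW⟩ := h49' x hx1 hx2
      obtain ⟨c, hc⟩ := hx1
      rw [Matrix.SpecialLinearGroup.coe_pow] at hc
      have hc0 : c ≠ 0 := by
        intro h0
        have h1 := congrArg Matrix.det hc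
        rw [Matrix.det_pow, x.2, one_pow, h0, zero_smul, Matrix.det_zero] at h1
        exact one_ne_zero h1
      have hr0 : (r : F) ≠ 0 := by
        intro h0
        rw [CharP.cast_eq_zero_iff F p r] at h0
        exact hrp ((Nat.prime_dvd_prime_iff_eq hpP hrP).1 h0).symm
      have hT : (Matrix.toLin' (x : Matrix (Fin n) (Fin n) F)) ^ r =
          c • (1 : Module.End F (Fin n → F)) := by
        rw [← Matrix.toLin'_pow, hc, map_smul, Matrix.toLin'_one]
        rfl
      have hWinv : ∀ w ∈ W, Matrix.toLin' (x : Matrix (Fin n) (Fin n) F) w ∈ W :=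
        fun w hw => hW (Submodule.mem_map_of_mem hw)
      obtain ⟨W', hWW', hW'⟩ := dec_maschke _ r c hc0 hr0 hT W hWinv
      refine ⟨W, W', hWW', hdim, hW, ?_⟩
      rintro _ ⟨u, hu, rfl⟩
      exact hW' u hu

end

end Cfsg.Agent.Lib.helper24
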