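import Mathlib
import Cfsg.Agent.Lib.helper24.ElB
import Cfsg.Agent.Lib.helper63.Elusive5

/-!
# Constraints on endomorphisms of prime order permuting the summands of a decomposition
-/

set_option autoImplicit false

namespace Cfsg.Agent.Lib.helper24

open Module Polynomial

section eld

variable {F : Type*} [Field F] {V : Type*} [AddCommGroup V] [Module F V]

/-- A point moved by a permutation of prime order `r` has `r` distinct images. -/
theorem el_orbit_inj {ι : Type*} (σ : Equiv.Perm ι) (r : ℕ) (hr : r.Prime) (j₀ : ι)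
    (hr0 : (σ ^ r) j₀ = j₀) (hne : σ j₀ ≠ j₀) (m m' : ℕ) (hm : m < r) (hm' : m' < r)
    (h : (σ ^ m) j₀ = (σ ^ m') j₀) : m = m' := by
  by_contra hmm
  wlog hlt : m < m' generalizing m m'
  · exact this m' m hm' hm h.symm (Ne.symm hmm) (by omega)
  have h1 : (σ ^ (m' - m)) j₀ = j₀ := by
    have h2 : σ ^ m' = σ ^ m * σ ^ (m' - m) := by
      rw [← pow_add]
      congr 1
      omega
    rw [h2, Equiv.Perm.mul_apply] at h
    exact ((σ ^ m).injective h).symm
  have hp1 : Function.IsPeriodicPt σ (m' - m) j₀ := by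
    show (σ)^[m' - m] j₀ = j₀
    rw [Equiv.Perm.iterate_eq_pow]
    exact h1
  have hp2 : Function.IsPeriodicPt σ r j₀ := by
    show (σ)^[r] j₀ = j₀
    rw [Equiv.Perm.iterate_eq_pow]
    exact hr0
  have hp3 := hp1.gcd hp2
  have hg : Nat.gcd (m' - m) r = 1 := by
    apply Nat.Coprime.symm
    rw [Nat.Prime.coprime_iff_not_dvd hr]
    exact Nat.not_dvd_of_pos_of_lt (by omega) (by omega)
  rw [hg] at hp3
  exact hne hp3

theorem el_nec_pow {ι : Type*} (T : Module.End F V) (D : ι → Submodule F V)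
    (σ : Equiv.Perm ι) (hσ : ∀ j, (D j).map T = D (σ j)) (m : ℕ) (j : ι) :
    (D j).map (T ^ m) = D ((σ ^ m) j) := by
  induction m with
  | zero =>
    rw [pow_zero, pow_zero]
    exact Submodule.map_id (D j)
  | succ m ih =>
    rw [← el_map_pow_succ, ih, hσ, pow_succ', Equiv.Perm.mul_apply]

theorem el_nec_pow_mem {ι : Type*} (T : Module.End F V) (D : ι → Submodule F V)
    (σ : Equiv.Perm ι) (hσ : ∀ j, (D j).map T = D (σ j)) (m : ℕ) (j : ι) (d : V)
    (hd : d ∈ D j) : (T ^ m) d ∈ D ((σ ^ m) j) := by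
  rw [← el_nec_pow T D σ hσ m j]
  exact Submodule.mem_map_of_mem hd

theorem el_nec_sigma_pow [FiniteDimensional F V] {ι : Type*} (T : Module.End F V) (r : ℕ)
    (hT : T ^ r = 1) (D : ι → Submodule F V) (hind : iSupIndep D) (a : ℕ) (ha : 1 ≤ a)
    (hdim : ∀ j, finrank F (D j) = a) (σ : Equiv.Perm ι)
    (hσ : ∀ j, (D j).map T = D (σ j)) (j : ι) : (σ ^ r) j = j := by
  have hinj : Function.Injective D := hind.injective (fun j h => by
    have h1 := hdim j
    rw [h, finrank_bot] at h1
    omega)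
  apply hinj
  rw [← el_nec_pow T D σ hσ r j, hT]
  exact Submodule.map_id (D j)

theorem el_nec_pi_norm {ι : Type*} (T : Module.End F V) (r : ℕ) (hr : r.Prime)
    (D : ι → Submodule F V) (σ : Equiv.Perm ι) (hσ : ∀ j, (D j).map T = D (σ j))
    (π : ι → (V →ₗ[F] V)) (h2 : ∀ j, ∀ d ∈ D j, π j d = d)
    (h3 : ∀ j i, i ≠ j → ∀ d ∈ D i, π j d = 0) (j₀ : ι) (hσr : (σ ^ r) j₀ = j₀)
    (hj₀ : σ j₀ ≠ j₀) (d : V) (hd : d ∈ D j₀) :
    π j₀ ((∑ m ∈ Finset.range r, T ^ m) d) = d := by
  rw [LinearMap.sum_apply, map_sum, Finset.sum_eq_single 0]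
  · rw [pow_zero]
    exact h2 j₀ d hd
  · intro m hm hm0
    apply h3 j₀ ((σ ^ m) j₀) _ _ (el_nec_pow_mem T D σ hσ m j₀ d hd)
    intro heq
    exact hm0 (el_orbit_inj σ r hr j₀ hσr hj₀ m 0 (Finset.mem_range.mp hm) hr.pos
      (by simpa using heq))
  · intro h
    exact absurd (Finset.mem_range.mpr hr.pos) h

/-- (N1) A moved summand contributes its full dimension to the fixed space. -/
theorem el_nec_cycle_fix [FiniteDimensional F V] {ι : Type*} [Fintype ι] [DecidableEq ι]
    (T : Module.End F V) (r : ℕ) (hr : r.Prime) (hT : T ^ r = 1) (D : ι → Submodule F V)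
    (hind : iSupIndep D) (htop : ⨆ j, D j = ⊤) (a : ℕ) (ha : 1 ≤ a)
    (hdim : ∀ j, finrank F (D j) = a) (σ : Equiv.Perm ι)
    (hσ : ∀ j, (D j).map T = D (σ j)) (j₀ : ι) (hj₀ : σ j₀ ≠ j₀) :
    a ≤ finrank F (LinearMap.ker (T - 1)) := by
  obtain ⟨π, h1, h2, h3, h4, h5⟩ := el_coord D hind htop T σ (fun j => le_of_eq (hσ j))
  have hσr := el_nec_sigma_pow T r hT D hind a ha hdim σ hσ j₀
  obtain ⟨N, hN⟩ : ∃ N : Module.End F V, N = ∑ m ∈ Finset.range r, T ^ m := ⟨_, rfl⟩
  have hπN : ∀ d ∈ D j₀, π j₀ (N d) = d := by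
    intro d hd
    rw [hN]
    exact el_nec_pi_norm T r hr D σ hσ π h2 h3 j₀ hσr hj₀ d hd
  have hNK : ∀ v, N v ∈ LinearMap.ker (T - 1) := by
    intro v
    rw [LinearMap.mem_ker, LinearMap.sub_apply, sub_eq_zero, hN]
    exact el_norm_fixed T r hT v
  obtain ⟨φ, hφ⟩ : ∃ φ : D j₀ →ₗ[F] LinearMap.ker (T - 1),
      φ = (N.domRestrict (D j₀)).codRestrict _ (fun d => hNK d) := ⟨_, rfl⟩
  have hinj : Function.Injective φ := by
    intro d d' hdd
    have h6 : N d.1 = N d'.1 := by
      have h7 := congrArg Subtype.val hdd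
      rw [hφ] at h7
      exact h7
    apply Subtype.ext
    rw [← hπN d.1 d.2, ← hπN d'.1 d'.2, h6]
  have h7 := LinearMap.finrank_le_finrank_of_injective hinj
  rw [hdim j₀] at h7
  exact h7

/-- (N2) If `T` is killed by a nonzero polynomial of degree `< r`, all summands are fixed. -/
theorem el_nec_poly [FiniteDimensional F V] {ι : Type*} [Fintype ι] [DecidableEq ι]
    (T : Module.End F V) (r : ℕ) (hr : r.Prime) (hT : T ^ r = 1) (D : ι → Submodule F V)
    (hind : iSupIndep D) (htop : ⨆ j, D j = ⊤) (a : ℕ) (ha : 1 ≤ a)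
    (hdim : ∀ j, finrank F (D j) = a) (σ : Equiv.Perm ι)
    (hσ : ∀ j, (D j).map T = D (σ j)) (P : F[X]) (hP0 : P ≠ 0) (hPdeg : P.natDegree < r)
    (hPT : aeval T P = 0) (j₀ : ι) : σ j₀ = j₀ := by
  by_contra hj₀
  obtain ⟨π, h1, h2, h3, h4, h5⟩ := el_coord D hind htop T σ (fun j => le_of_eq (hσ j))
  have hσr := el_nec_sigma_pow T r hT D hind a ha hdim σ hσ j₀
  have hpos : 0 < finrank F (D j₀) := by
    rw [hdim]
    exact ha
  obtain ⟨⟨d, hd⟩, hd0'⟩ := (Module.finrank_pos_iff_exists_ne_zero (R := F)).mp hpos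
  have hd0 : d ≠ 0 := fun h => hd0' (Subtype.ext h)
  have hsum : ∑ i ∈ Finset.range r, P.coeff i • (T ^ i) d = 0 := by
    have h6 := congrArg (fun φ : Module.End F V => φ d) hPT
    rw [aeval_eq_sum_range' hPdeg] at h6
    simpa [LinearMap.sum_apply] using h6
  have hcoeff : ∀ i₀, i₀ < r → P.coeff i₀ = 0 := by
    intro i₀ hi₀
    have h6 := congrArg (π ((σ ^ i₀) j₀)) hsum
    rw [map_sum, map_zero, Finset.sum_eq_single i₀] at h6
    · rw [map_smul, h2 _ _ (el_nec_pow_mem T D σ hσ i₀ j₀ d hd)] at h6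
      rcases smul_eq_zero.mp h6 with h | h
      · exact h
      · exfalso
        apply hd0
        have h7 : (T ^ (r - i₀)) ((T ^ i₀) d) = d := by
          rw [← Module.End.mul_apply, ← pow_add, Nat.sub_add_cancel hi₀.le, hT]
          rfl
        rw [← h7, h, map_zero]
    · intro i hi hne
      rw [map_smul, h3 _ ((σ ^ i) j₀) _ _ (el_nec_pow_mem T D σ hσ i j₀ d hd), smul_zero]
      intro heq
      exact hne (el_orbit_inj σ r hr j₀ hσr hj₀ i i₀ (Finset.mem_range.mp hi) hi₀ heq)
    · intro h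
      exact absurd (Finset.mem_range.mpr hi₀) h
  apply hP0
  apply leadingCoeff_eq_zero.mp
  exact hcoeff _ hPdeg

/-- (N5) A moved summand forces a large rank of `T - 1`. -/
theorem el_nec_rank [FiniteDimensional F V] {ι : Type*} [Fintype ι] [DecidableEq ι]
    (T : Module.End F V) (r : ℕ) (hr : r.Prime) (hT : T ^ r = 1) (D : ι → Submodule F V)
    (hind : iSupIndep D) (htop : ⨆ j, D j = ⊤) (a : ℕ) (ha : 1 ≤ a)
    (hdim : ∀ j, finrank F (D j) = a) (σ : Equiv.Perm ι)
    (hσ : ∀ j, (D j).map T = D (σ j)) (j₀ : ι) (hj₀ : σ j₀ ≠ j₀) :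
    finrank F (LinearMap.ker (T - 1)) + (r - 1) * a ≤ finrank F V := by
  obtain ⟨π, h1, h2, h3, h4, h5⟩ := el_coord D hind htop T σ (fun j => le_of_eq (hσ j))
  have hσr := el_nec_sigma_pow T r hT D hind a ha hdim σ hσ j₀
  have hrpos := hr.pos
  obtain ⟨O, hO⟩ : ∃ O : Finset ι, O = (Finset.range (r - 1)).image (fun m => (σ ^ m) j₀) :=
    ⟨_, rfl⟩
  have hOcard : O.card = r - 1 := by
    rw [hO, Finset.card_image_of_injOn, Finset.card_range]
    intro m hm m' hm' heq
    rw [Finset.coe_range, Set.mem_Iio] at hm hm'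
    exact el_orbit_inj σ r hr j₀ hσr hj₀ m m' (by omega) (by omega) heq
  obtain ⟨Y, hY⟩ : ∃ Y : Submodule F V, Y = ⨆ j ∈ O, D j := ⟨_, rfl⟩
  have hYdim : finrank F Y = (r - 1) * a := by
    rw [hY, el_finrank_biSup D hind O, Finset.sum_congr rfl (fun j _ => hdim j),
      Finset.sum_const, hOcard, smul_eq_mul]
  have hKY : LinearMap.ker (T - 1) ⊓ Y = ⊥ := by
    rw [Submodule.eq_bot_iff]
    intro v hv
    rw [Submodule.mem_inf] at hv
    obtain ⟨hvK, hvY⟩ := hv
    have hTv : T v = v := by
      rw [LinearMap.mem_ker, LinearMap.sub_apply, sub_eq_zero] at hvK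
      exact hvK
    have ha' : ∀ j, j ∉ O → π j v = 0 := by
      intro j hj
      have hle : Y ≤ LinearMap.ker (π j) := by
        rw [hY]
        apply iSup₂_le
        intro i hi d hd
        rw [LinearMap.mem_ker]
        exact h3 j i (fun h => hj (h ▸ hi)) d hd
      exact LinearMap.mem_ker.mp (hle hvY)
    have hprop : ∀ j, π j v = 0 → π (σ j) v = 0 := by
      intro j hj
      have h6 := h5 j v
      rw [hTv, hj, map_zero] at h6
      exact h6
    have hprop' : ∀ j, π j v = 0 → ∀ m, π ((σ ^ m) j) v = 0 := by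
      intro j hj m
      induction m with
      | zero => simpa using hj
      | succ m ih =>
        rw [pow_succ', Equiv.Perm.mul_apply]
        exact hprop _ ih
    have hj₁ : (σ ^ (r - 1)) j₀ ∉ O := by
      rw [hO, Finset.mem_image]
      rintro ⟨m, hm, heq⟩
      have hm2 := Finset.mem_range.mp hm
      have h6 := el_orbit_inj σ r hr j₀ hσr hj₀ m (r - 1) (by omega) (by omega) heq
      omega
    have h0 := ha' _ hj₁
    have hall : ∀ j, π j v = 0 := by
      intro j
      by_cases hj : j ∈ O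
      · rw [hO, Finset.mem_image] at hj
        obtain ⟨m, hm, rfl⟩ := hj
        have h6 := hprop' _ h0 (m + 1)
        have h7 : (σ ^ (m + 1)) ((σ ^ (r - 1)) j₀) = (σ ^ m) j₀ := by
          rw [← Equiv.Perm.mul_apply, ← pow_add]
          have h8 : m + 1 + (r - 1) = m + r := by omega
          rw [h8, pow_add, Equiv.Perm.mul_apply, hσr]
        rw [h7] at h6
        exact h6
      · exact ha' j hj
    rw [← h4 v]
    exact Finset.sum_eq_zero (fun j _ => hall j)
  have h8 := Submodule.finrank_sup_add_finrank_inf_eq (LinearMap.ker (T - 1)) Y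
  rw [hKY, finrank_bot, hYdim] at h8
  have h9 := Submodule.finrank_le (LinearMap.ker (T - 1) ⊔ Y)
  omega

end eld

section eld2

variable {F : Type*} [Field F] [Fintype F] {V : Type*} [AddCommGroup V] [Module F V] [Finite V]

/-- (N3) If all summands are invariant, the fixed space has dimension at least `t (a mod c)`. -/
theorem el_nec_all_fixed {ι : Type*} [Fintype ι] (T : Module.End F V) (r : ℕ) [Fact r.Prime]
    (hq0 : ((Fintype.card F : ℕ) : ZMod r) ≠ 0) (hT : T ^ r = 1) (D : ι → Submodule F V)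
    (hind : iSupIndep D) (a : ℕ) (hdim : ∀ j, finrank F (D j) = a)
    (hinv : ∀ j, ∀ d ∈ D j, T d ∈ D j) :
    Fintype.card ι * (a % orderOf ((Fintype.card F : ℕ) : ZMod r)) ≤
      finrank F (LinearMap.ker (T - 1)) := by
  obtain ⟨c, hc⟩ : ∃ c, c = orderOf ((Fintype.card F : ℕ) : ZMod r) := ⟨_, rfl⟩
  rw [← hc]
  have hj : ∀ j, a % c ≤ finrank F ↥(LinearMap.ker (T - 1) ⊓ D j) := by
    intro j
    have h5 := Cfsg.Agent.Lib.helper63.Elusive.orderOf_dvd_finrank_sub r hq0
      (T.restrict (hinv j)) (el_restrict_pow T r hT (D j) (hinv j))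
    rw [el_finrank_ker_restrict, hdim j, ← hc] at h5
    have hle : finrank F ↥(LinearMap.ker (T - 1) ⊓ D j) ≤ a := by
      rw [← hdim j]
      exact Submodule.finrank_mono inf_le_right
    obtain ⟨e, he⟩ := h5
    obtain ⟨fj, hfj⟩ : ∃ fj, fj = finrank F ↥(LinearMap.ker (T - 1) ⊓ D j) := ⟨_, rfl⟩
    rw [← hfj] at he hle ⊢
    have h6 : a = fj + c * e := by omega
    rw [h6, Nat.add_mul_mod_self_left]
    exact Nat.mod_le _ _
  have hind' : iSupIndep (fun j => LinearMap.ker (T - 1) ⊓ D j) :=
    hind.mono (fun j => inf_le_right)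
  have h1 := el_finrank_iSup _ hind'
  have h2 : (⨆ j, LinearMap.ker (T - 1) ⊓ D j) ≤ LinearMap.ker (T - 1) :=
    iSup_le (fun j => inf_le_left)
  have h3 := Submodule.finrank_mono h2
  calc Fintype.card ι * (a % c) = ∑ _j : ι, a % c := by
        rw [Finset.sum_const, Finset.card_univ, smul_eq_mul]
    _ ≤ ∑ j, finrank F ↥(LinearMap.ker (T - 1) ⊓ D j) := Finset.sum_le_sum (fun j _ => hj j)
    _ = finrank F ↥(⨆ j, LinearMap.ker (T - 1) ⊓ D j) := h1.symm
    _ ≤ _ := h3

/-- If all summands are invariant and have dimension `< c`, then `T = 1`. -/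
theorem el_nec_small {ι : Type*} (T : Module.End F V) (r : ℕ) [Fact r.Prime]
    (hq0 : ((Fintype.card F : ℕ) : ZMod r) ≠ 0) (hT : T ^ r = 1) (D : ι → Submodule F V)
    (htop : ⨆ j, D j = ⊤) (a : ℕ) (hdim : ∀ j, finrank F (D j) = a)
    (hac : a < orderOf ((Fintype.card F : ℕ) : ZMod r))
    (hinv : ∀ j, ∀ d ∈ D j, T d ∈ D j) : T = 1 := by
  have hj : ∀ j, D j ≤ LinearMap.ker (T - 1) := by
    intro j
    have h5 := Cfsg.Agent.Lib.helper63.Elusive.orderOf_dvd_finrank_sub r hq0
      (T.restrict (hinv j)) (el_restrict_pow T r hT (D j) (hinv j))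
    rw [el_finrank_ker_restrict, hdim j] at h5
    have hle : finrank F ↥(LinearMap.ker (T - 1) ⊓ D j) ≤ a := by
      rw [← hdim j]
      exact Submodule.finrank_mono inf_le_right
    have h6 : a - finrank F ↥(LinearMap.ker (T - 1) ⊓ D j) = 0 :=
      Nat.eq_zero_of_dvd_of_lt h5 (by omega)
    have h7 : LinearMap.ker (T - 1) ⊓ D j = D j := by
      apply Submodule.eq_of_le_of_finrank_le inf_le_right
      rw [hdim j]
      omega
    rw [← h7]
    exact inf_le_left
  have h8 : (⊤ : Submodule F V) ≤ LinearMap.ker (T - 1) := by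
    rw [← htop]
    exact iSup_le hj
  apply LinearMap.ext
  intro v
  have h9 := h8 (Submodule.mem_top : v ∈ ⊤)
  rw [LinearMap.mem_ker, LinearMap.sub_apply, sub_eq_zero] at h9
  exact h9

/-- (N4) For a permuted decomposition into lines, the number of lines is at most `r` times the
dimension of the fixed space. -/
theorem el_nec_lines {ι : Type*} [Fintype ι] [DecidableEq ι] (T : Module.End F V) (r : ℕ)
    [Fact r.Prime] (hnd : ¬ r ∣ Fintype.card F - 1) (hrF : ((r : ℕ) : F) ≠ 0)
    (hT : T ^ r = 1) (D : ι → Submodule F V) (hind : iSupIndep D) (htop : ⨆ j, D j = ⊤)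
    (hdim : ∀ j, finrank F (D j) = 1) (σ : Equiv.Perm ι)
    (hσ : ∀ j, (D j).map T = D (σ j)) :
    Fintype.card ι ≤ r * finrank F (LinearMap.ker (T - 1)) := by
  have hr : r.Prime := Fact.out
  have hrpos := hr.pos
  obtain ⟨π, h1, h2, h3, h4, h5⟩ := el_coord D hind htop T σ (fun j => le_of_eq (hσ j))
  have hσr : ∀ j, (σ ^ r) j = j := fun j => el_nec_sigma_pow T r hT D hind 1 le_rfl hdim σ hσ j
  obtain ⟨N, hN⟩ : ∃ N : Module.End F V, N = ∑ m ∈ Finset.range r, T ^ m := ⟨_, rfl⟩
  obtain ⟨K, hK⟩ : ∃ K : Submodule F V, K = LinearMap.ker (T - 1) := ⟨_, rfl⟩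
  have hNK : ∀ v, N v ∈ K := by
    intro v
    rw [hK, LinearMap.mem_ker, LinearMap.sub_apply, sub_eq_zero, hN]
    exact el_norm_fixed T r hT v
  have key : ∀ (k : ℕ) (S : Finset ι), S.card = k → (∀ j ∈ S, σ j ∈ S) →
      S.card ≤ r * finrank F ↥(K ⊓ ⨆ j ∈ S, D j) := by
    intro k
    induction k using Nat.strong_induction_on with
    | _ k ih =>
      intro S hSk hSinv
      rcases Finset.eq_empty_or_nonempty S with hS | ⟨j₀, hj₀S⟩
      · rw [hS]
        simp
      · obtain ⟨O, hO⟩ : ∃ O : Finset ι, O = (Finset.range r).image (fun m => (σ ^ m) j₀) :=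
          ⟨_, rfl⟩
        have hpowS : ∀ m : ℕ, (σ ^ m) j₀ ∈ S := by
          intro m
          induction m with
          | zero => simpa using hj₀S
          | succ m ihm =>
            rw [pow_succ', Equiv.Perm.mul_apply]
            exact hSinv _ ihm
        have hOS : O ⊆ S := by
          rw [hO]
          intro j hj
          obtain ⟨m, _, rfl⟩ := Finset.mem_image.mp hj
          exact hpowS m
        have hj₀O : j₀ ∈ O := by
          rw [hO]
          exact Finset.mem_image.mpr ⟨0, Finset.mem_range.mpr hrpos, by simp⟩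
        have hOcard : O.card ≤ r := by
          rw [hO]
          exact (Finset.card_image_le).trans (by simp)
        obtain ⟨S', hS'⟩ : ∃ S' : Finset ι, S' = S \ O := ⟨_, rfl⟩
        have hS'inv : ∀ j ∈ S', σ j ∈ S' := by
          intro j hj
          rw [hS', Finset.mem_sdiff] at hj ⊢
          refine ⟨hSinv j hj.1, ?_⟩
          intro hσj
          apply hj.2
          rw [hO, Finset.mem_image] at hσj ⊢
          obtain ⟨m, hm, hmeq⟩ := hσj
          have hm2 := Finset.mem_range.mp hm
          rcases Nat.eq_zero_or_pos m with hm0 | hmpos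
          · refine ⟨r - 1, Finset.mem_range.mpr (by omega), ?_⟩
            apply σ.injective
            have h6 : r - 1 + 1 = r := by omega
            rw [← hmeq, hm0, pow_zero, ← Equiv.Perm.mul_apply, ← pow_succ', h6, hσr]
            rfl
          · refine ⟨m - 1, Finset.mem_range.mpr (by omega), ?_⟩
            apply σ.injective
            have h6 : m - 1 + 1 = m := by omega
            rw [← hmeq, ← Equiv.Perm.mul_apply, ← pow_succ', h6]
        have hcardS : S.card = S'.card + O.card := by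
          rw [hS', Finset.card_sdiff_add_card_eq_card hOS]
        have hOpos : 0 < O.card := Finset.card_pos.mpr ⟨j₀, hj₀O⟩
        have hih := ih S'.card (by omega) S' rfl hS'inv
        have hposd : 0 < finrank F (D j₀) := by
          rw [hdim]
          exact Nat.one_pos
        obtain ⟨⟨d, hd⟩, hd0'⟩ := (Module.finrank_pos_iff_exists_ne_zero (R := F)).mp hposd
        have hd0 : d ≠ 0 := fun h => hd0' (Subtype.ext h)
        have hNd0 : N d ≠ 0 := by
          by_cases hfix : σ j₀ = j₀
          · have hTd : T d ∈ D j₀ := by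
              have h6 := Submodule.mem_map_of_mem (f := T) hd
              rw [hσ, hfix] at h6
              exact h6
            have hspan : Submodule.span F {d} = D j₀ := by
              apply Submodule.eq_of_le_of_finrank_le
              · rw [Submodule.span_singleton_le_iff_mem]
                exact hd
              · rw [hdim, finrank_span_singleton hd0]
            rw [← hspan] at hTd
            obtain ⟨μ, hμ⟩ := Submodule.mem_span_singleton.mp hTd
            have hpow : ∀ m : ℕ, (T ^ m) d = μ ^ m • d := by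
              intro m
              induction m with
              | zero => simp
              | succ m ihm =>
                rw [pow_succ', Module.End.mul_apply, ihm, map_smul, ← hμ, smul_smul, pow_succ]
            have hμr : μ ^ r = 1 := by
              have h6 := hpow r
              rw [hT] at h6
              have h7 : (μ ^ r - 1) • d = 0 := by
                rw [sub_smul, one_smul, ← h6]
                simp
              rcases smul_eq_zero.mp h7 with h | h
              · exact sub_eq_zero.mp h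
              · exact absurd h hd0
            have hμ1 : μ = 1 :=
              Cfsg.Agent.Lib.helper63.Elusive.eq_one_of_pow_eq_one r hnd μ hμr
            have hTd1 : T d = d := by rw [← hμ, hμ1, one_smul]
            rw [hN, el_norm_of_fixed T r d hTd1]
            exact smul_ne_zero hrF hd0
          · intro h0
            have h6 : π j₀ (N d) = d := by
              rw [hN]
              exact el_nec_pi_norm T r hr D σ hσ π h2 h3 j₀ (hσr j₀) hfix d hd
            rw [h0, map_zero] at h6
            exact hd0 h6.symm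
        have hNdO : N d ∈ ⨆ j ∈ O, D j := by
          rw [hN, LinearMap.sum_apply]
          apply Submodule.sum_mem
          intro m hm
          have hmem := el_nec_pow_mem T D σ hσ m j₀ d hd
          exact Submodule.mem_iSup_of_mem ((σ ^ m) j₀) (Submodule.mem_iSup_of_mem
            (by rw [hO]; exact Finset.mem_image.mpr ⟨m, hm, rfl⟩) hmem)
        have hdisj : (⨆ j ∈ O, D j) ⊓ (⨆ j ∈ S', D j) = ⊥ :=
          el_disjoint_biSup D hind O S' (by rw [hS']; exact Finset.disjoint_sdiff)
        have hVS : (⨆ j ∈ S, D j) = (⨆ j ∈ O, D j) ⊔ (⨆ j ∈ S', D j) := by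
          rw [← Finset.iSup_union, hS', Finset.union_sdiff_of_subset hOS]
        have hsub : (K ⊓ ⨆ j ∈ S', D j) ⊔ Submodule.span F {N d} ≤ K ⊓ ⨆ j ∈ S, D j := by
          apply sup_le
          · exact inf_le_inf_left K (by rw [hVS]; exact le_sup_right)
          · rw [Submodule.span_singleton_le_iff_mem]
            exact ⟨hNK d, by rw [hVS]; exact Submodule.mem_sup_left hNdO⟩
        have hdis2 : (K ⊓ ⨆ j ∈ S', D j) ⊓ Submodule.span F {N d} = ⊥ := by
          rw [Submodule.eq_bot_iff]
          intro v hv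
          rw [Submodule.mem_inf, Submodule.mem_inf] at hv
          obtain ⟨⟨_, hv1⟩, hv2⟩ := hv
          have hv3 : v ∈ (⨆ j ∈ O, D j) := by
            obtain ⟨μ, rfl⟩ := Submodule.mem_span_singleton.mp hv2
            exact Submodule.smul_mem _ _ hNdO
          have hv4 : v ∈ (⨆ j ∈ O, D j) ⊓ (⨆ j ∈ S', D j) := ⟨hv3, hv1⟩
          rw [hdisj] at hv4
          exact (Submodule.mem_bot F).mp hv4
        have h8 := Submodule.finrank_sup_add_finrank_inf_eq (K ⊓ ⨆ j ∈ S', D j)
          (Submodule.span F {N d})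
        rw [hdis2, finrank_bot, finrank_span_singleton hNd0] at h8
        have h9 := Submodule.finrank_mono hsub
        have h10 : r * (finrank F ↥(K ⊓ ⨆ j ∈ S', D j) + 1) ≤
            r * finrank F ↥(K ⊓ ⨆ j ∈ S, D j) := Nat.mul_le_mul_left r (by omega)
        rw [Nat.mul_add, Nat.mul_one] at h10
        omega
  have hfin := key (Finset.univ : Finset ι).card Finset.univ rfl (fun j _ => Finset.mem_univ _)
  have hV : (⨆ j ∈ (Finset.univ : Finset ι), D j) = ⊤ := by simp [htop]
  rw [hV, inf_top_eq, Finset.card_univ, hK] at hfin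
  exact hfin

end eld2

end Cfsg.Agent.Lib.helper24
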