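import Mathlib
import Cfsg.Agent.Lib.helper24.ElB
import Cfsg.Agent.Lib.helper63.Elusive5

/-!
# Test elements of order `r` and the number of ordered decompositions
-/

set_option autoImplicit false

namespace Cfsg.Agent.Lib.helper24

open Module Polynomial

section ele

variable {F : Type*} [Field F]

open Cfsg.Agent.Lib.helper63.Elusive in
/-- The block-diagonal element `diag(g, …, g, 1)` with `b` blocks `g` and an `s`-dimensional
identity block. -/
theorem el_exists_der (r c b s n : ℕ) (hn : n = c * b + s)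
    (g : (Fin c → F) →ₗ[F] (Fin c → F)) (hg : g ^ r = 1) (hker : LinearMap.ker (g - 1) = ⊥) :
    ∃ f : (Fin n → F) →ₗ[F] (Fin n → F), f ^ r = 1 ∧ finrank F (LinearMap.ker (f - 1)) = s ∧
      ∀ P : F[X], aeval g P = 0 → P.eval 1 = 0 → aeval f P = 0 := by
  have hfr : finrank F (Fin n → F) = finrank F ((Fin b → (Fin c → F)) × (Fin s → F)) := by
    simp [hn, Module.finrank_pi_fintype, mul_comm]
  obtain ⟨e⟩ : Nonempty ((Fin n → F) ≃ₗ[F] ((Fin b → (Fin c → F)) × (Fin s → F))) :=
    ⟨LinearEquiv.ofFinrankEq _ _ hfr⟩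
  obtain ⟨h, hh⟩ : ∃ h : ((Fin b → (Fin c → F)) × (Fin s → F)) →ₗ[F]
      ((Fin b → (Fin c → F)) × (Fin s → F)), h = (g.compLeft (Fin b)).prodMap LinearMap.id :=
    ⟨_, rfl⟩
  have happ : ∀ (k : ℕ) (x : (Fin b → (Fin c → F)) × (Fin s → F)),
      (h ^ k) x = (fun j => (g ^ k) (x.1 j), x.2) := by
    intro k
    induction k with
    | zero => intro x; simp
    | succ k ih =>
      intro x
      rw [pow_succ, Module.End.mul_apply, ih, hh]
      refine Prod.ext ?_ rfl
      funext j
      show (g ^ k) (g (x.1 j)) = (g ^ (k + 1)) (x.1 j)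
      rw [pow_succ, Module.End.mul_apply]
  have hfst : ∀ y, (h y).1 = fun j => g (y.1 j) := by
    intro y; rw [hh]; rfl
  have hsnd : ∀ y, (h y).2 = y.2 := by
    intro y; rw [hh]; rfl
  refine ⟨conjE e h, ?_, ?_, ?_⟩
  · rw [conjE_pow]
    apply LinearMap.ext
    intro x
    rw [conjE_apply, happ, hg]
    simp
  · apply le_antisymm
    · obtain ⟨φ, hφ⟩ : ∃ φ : LinearMap.ker (conjE e h - 1) →ₗ[F] (Fin s → F),
          φ = (LinearMap.snd F _ _) ∘ₗ e.toLinearMap ∘ₗ (Submodule.subtype _) := ⟨_, rfl⟩
      have hinj : Function.Injective φ := by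
        rw [← LinearMap.ker_eq_bot, LinearMap.ker_eq_bot']
        intro x hx
        have hx1 : conjE e h x.1 = x.1 := by
          have h1 := x.2
          rw [LinearMap.mem_ker, LinearMap.sub_apply, sub_eq_zero] at h1
          exact h1
        have hx2 : h (e x.1) = e x.1 := by
          have h1 := congrArg e hx1
          rw [conjE_apply, LinearEquiv.apply_symm_apply] at h1
          exact h1
        have hx3 : (e x.1).2 = 0 := by rw [hφ] at hx; exact hx
        have hx4 : (e x.1).1 = 0 := by
          funext j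
          have h1 : g ((e x.1).1 j) = (e x.1).1 j := by
            have h2 := congrArg (fun y => y.1 j) hx2
            have h3 := congrFun (hfst (e x.1)) j
            exact h3.symm.trans h2
          have hm : (e x.1).1 j ∈ LinearMap.ker (g - 1) := by
            rw [LinearMap.mem_ker, LinearMap.sub_apply, h1]; simp
          rw [hker] at hm
          simpa using hm
        have hx5 : e x.1 = 0 := Prod.ext hx4 hx3
        have hx6 : x.1 = 0 := by simpa using hx5
        exact Subtype.ext hx6
      have h1 := LinearMap.finrank_le_finrank_of_injective hinj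
      simpa using h1
    · obtain ⟨ψ, hψ⟩ : ∃ ψ : (Fin s → F) →ₗ[F] (Fin n → F),
          ψ = e.symm.toLinearMap ∘ₗ LinearMap.inr F (Fin b → (Fin c → F)) (Fin s → F) :=
        ⟨_, rfl⟩
      have hψinj : Function.Injective ψ := by
        rw [hψ]
        exact e.symm.injective.comp LinearMap.inr_injective
      have hψker : LinearMap.range ψ ≤ LinearMap.ker (conjE e h - 1) := by
        rintro _ ⟨z, rfl⟩
        rw [LinearMap.mem_ker, LinearMap.sub_apply, sub_eq_zero, conjE_apply, hψ]
        show e.symm (h (e (e.symm (0, z)))) = e.symm (0, z)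
        rw [LinearEquiv.apply_symm_apply]
        congr 1
        apply Prod.ext
        · rw [hfst]
          funext j
          simp
        · rw [hsnd]
      have h1 := Submodule.finrank_mono hψker
      rw [LinearMap.finrank_range_of_inj hψinj] at h1
      simpa using h1
  · intro P hP1 hP2
    apply LinearMap.ext
    intro v
    rw [aeval_eq_sum_range, LinearMap.sum_apply]
    have hterm : ∀ i, (P.coeff i • (conjE e h) ^ i) v = e.symm (P.coeff i • (h ^ i) (e v)) := by
      intro i
      rw [LinearMap.smul_apply, conjE_pow, conjE_apply, map_smul]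
    simp_rw [hterm]
    rw [← map_sum]
    have hzero : ∑ i ∈ Finset.range (P.natDegree + 1), P.coeff i • (h ^ i) (e v) = 0 := by
      simp_rw [happ]
      apply Prod.ext
      · funext j
        have h1 := congrArg (fun φ : (Fin c → F) →ₗ[F] (Fin c → F) => φ ((e v).1 j)) hP1
        rw [aeval_eq_sum_range] at h1
        simp only [LinearMap.sum_apply, LinearMap.smul_apply, LinearMap.zero_apply] at h1
        simp only [Prod.fst_sum, Prod.smul_fst, Finset.sum_apply, Pi.smul_apply, Prod.fst_zero,
          Pi.zero_apply]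
        exact h1
      · have h2 : ∑ i ∈ Finset.range (P.natDegree + 1), P.coeff i = 0 := by
          rw [eval_eq_sum_range] at hP2
          simpa using hP2
        simp only [Prod.snd_sum, Prod.smul_snd, Prod.snd_zero]
        rw [← Finset.sum_smul, h2, zero_smul]
    rw [hzero, map_zero]
    rfl

/-- A polynomial of degree `c + 1` vanishing at `1` and killing `g`. -/
theorem el_der_poly (c : ℕ) (g : (Fin c → F) →ₗ[F] (Fin c → F)) :
    ∃ P : F[X], P ≠ 0 ∧ P.natDegree = c + 1 ∧ aeval g P = 0 ∧ P.eval 1 = 0 := by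
  refine ⟨(X - C 1) * g.charpoly, ?_, ?_, ?_, ?_⟩
  · exact ((monic_X_sub_C 1).mul g.charpoly_monic).ne_zero
  · rw [Monic.natDegree_mul (monic_X_sub_C 1) g.charpoly_monic, natDegree_X_sub_C,
      LinearMap.charpoly_natDegree]
    simp [add_comm]
  · rw [map_mul, LinearMap.aeval_self_charpoly, mul_zero]
  · simp

end ele

section count

variable {F : Type*} [Field F] [Fintype F] {V : Type*} [AddCommGroup V] [Module F V] [Finite V]

omit [Fintype F] in
theorem el_span_of_li (a : ℕ) (W : Submodule F V) (u : Fin a → W) (hu : LinearIndependent F u)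
    (hW : finrank F W = a) : Submodule.span F (Set.range (fun i => (u i : V))) = W := by
  have h1 : Submodule.span F (Set.range u) = ⊤ := by
    apply LinearIndependent.span_eq_top_of_card_eq_finrank' hu
    rw [Fintype.card_fin, hW]
  have h2 : Set.range (fun i => (u i : V)) = W.subtype '' Set.range u := by
    rw [← Set.range_comp]
    rfl
  rw [h2, Submodule.span_image, h1, Submodule.map_top, Submodule.range_subtype]

omit [Fintype F] in
theorem el_blocks_dec (a t : ℕ) (hdimV : finrank F V = a * t) (s : Fin t × Fin a → V)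
    (hs : LinearIndependent F s) :
    (∀ j, finrank F (Submodule.span F (Set.range (fun i => s (j, i)))) = a) ∧
      iSupIndep (fun j => Submodule.span F (Set.range (fun i => s (j, i)))) ∧
      (⨆ j, Submodule.span F (Set.range (fun i => s (j, i)))) = ⊤ := by
  have h1 : ∀ j, finrank F (Submodule.span F (Set.range (fun i => s (j, i)))) = a := by
    intro j
    have hli : LinearIndependent F (fun i => s (j, i)) :=
      hs.comp (Prod.mk j) (Prod.mk_right_injective j)
    rw [finrank_span_eq_card hli, Fintype.card_fin]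
  have h3 : (⨆ j, Submodule.span F (Set.range (fun i => s (j, i)))) = ⊤ := by
    have hspan : Submodule.span F (Set.range s) = ⊤ := by
      apply LinearIndependent.span_eq_top_of_card_eq_finrank' hs
      rw [Fintype.card_prod, Fintype.card_fin, Fintype.card_fin, hdimV, mul_comm]
    rw [eq_top_iff, ← hspan, Submodule.span_le]
    rintro _ ⟨⟨j, i⟩, rfl⟩
    exact Submodule.mem_iSup_of_mem j (Submodule.subset_span ⟨i, rfl⟩)
  refine ⟨h1, ?_, h3⟩
  apply el_indep_of_finrank
  rw [h3, finrank_top, hdimV, Finset.sum_congr rfl (fun j _ => h1 j), Finset.sum_const,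
    Finset.card_univ, Fintype.card_fin, smul_eq_mul, mul_comm]

omit [Fintype F] in
theorem el_li_of_blocks (a t : ℕ) (hdimV : finrank F V = a * t) (D : Fin t → Submodule F V)
    (hdim : ∀ j, finrank F (D j) = a) (htop : ⨆ j, D j = ⊤) (u : ∀ j, Fin a → D j)
    (hu : ∀ j, LinearIndependent F (u j)) :
    LinearIndependent F (fun ji : Fin t × Fin a => ((u ji.1 ji.2 : D ji.1) : V)) := by
  apply linearIndependent_of_top_le_span_of_card_eq_finrank
  · rw [← htop]
    apply iSup_le
    intro j
    rw [← el_span_of_li a (D j) (u j) (hu j) (hdim j), Submodule.span_le]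
    rintro _ ⟨i, rfl⟩
    exact Submodule.subset_span ⟨(j, i), rfl⟩
  · rw [Fintype.card_prod, Fintype.card_fin, Fintype.card_fin, hdimV, mul_comm]

/-- The number of ordered decompositions divides the number of ordered bases. -/
theorem el_card_dec_dvd (a t : ℕ) (hdimV : finrank F V = a * t) :
    Nat.card {D : Fin t → Submodule F V //
        (∀ j, finrank F (D j) = a) ∧ iSupIndep D ∧ ⨆ j, D j = ⊤} ∣
      ∏ i : Fin (t * a), (Fintype.card F ^ finrank F V - Fintype.card F ^ (i : ℕ)) := by
  classical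
  have hB : Nat.card {s : Fin t × Fin a → V // LinearIndependent F s} =
      ∏ i : Fin (t * a), (Fintype.card F ^ finrank F V - Fintype.card F ^ (i : ℕ)) := by
    rw [← card_linearIndependent (K := F) (V := V) (k := t * a) (by rw [hdimV, mul_comm])]
    apply Nat.card_congr
    exact Equiv.subtypeEquiv (Equiv.arrowCongr finProdFinEquiv (Equiv.refl V)) (fun s => by
      show LinearIndependent F s ↔ LinearIndependent F (s ∘ finProdFinEquiv.symm)
      exact (linearIndependent_equiv finProdFinEquiv.symm).symm)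
  rw [← hB]
  obtain ⟨φ, hφ⟩ : ∃ φ : {s : Fin t × Fin a → V // LinearIndependent F s} →
      {D : Fin t → Submodule F V // (∀ j, finrank F (D j) = a) ∧ iSupIndep D ∧ ⨆ j, D j = ⊤},
      ∀ s, (φ s).1 = fun j => Submodule.span F (Set.range (fun i => s.1 (j, i))) :=
    ⟨fun s => ⟨fun j => Submodule.span F (Set.range (fun i => s.1 (j, i))),
      el_blocks_dec a t hdimV s.1 s.2⟩, fun s => rfl⟩
  haveI : Fintype {D : Fin t → Submodule F V //
      (∀ j, finrank F (D j) = a) ∧ iSupIndep D ∧ ⨆ j, D j = ⊤} := Fintype.ofFinite _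
  rw [Nat.card_congr (Equiv.sigmaFiberEquiv φ).symm, Nat.card_sigma]
  have key : ∀ D : {D : Fin t → Submodule F V //
      (∀ j, finrank F (D j) = a) ∧ iSupIndep D ∧ ⨆ j, D j = ⊤},
      Nat.card {s : {s : Fin t × Fin a → V // LinearIndependent F s} // φ s = D} =
        (∏ i : Fin a, (Fintype.card F ^ a - Fintype.card F ^ (i : ℕ))) ^ t := by
    intro D
    have h1 : Nat.card {s : {s : Fin t × Fin a → V // LinearIndependent F s} // φ s = D} =
        Nat.card (∀ j, {u : Fin a → D.1 j // LinearIndependent F u}) := by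
      apply Nat.card_congr
      refine ⟨fun s => fun j => ⟨fun i => ⟨s.1.1 (j, i), ?_⟩, ?_⟩,
        fun u => ⟨⟨fun ji => ((u ji.1).1 ji.2 : V), ?_⟩, ?_⟩, ?_, ?_⟩
      · have h2 := congrFun (congrArg Subtype.val s.2) j
        rw [hφ] at h2
        rw [← h2]
        exact Submodule.subset_span ⟨i, rfl⟩
      · apply LinearIndependent.of_comp (D.1 j).subtype
        exact s.1.2.comp (Prod.mk j) (Prod.mk_right_injective j)
      · exact el_li_of_blocks a t hdimV D.1 D.2.1 D.2.2.2 (fun j => (u j).1) (fun j => (u j).2)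
      · apply Subtype.ext
        rw [hφ]
        funext j
        exact el_span_of_li a (D.1 j) (u j).1 (u j).2 (D.2.1 j)
      · intro s
        rfl
      · intro u
        rfl
    rw [h1, Nat.card_pi]
    have h2 : ∀ j : Fin t, Nat.card {u : Fin a → D.1 j // LinearIndependent F u} =
        ∏ i : Fin a, (Fintype.card F ^ a - Fintype.card F ^ (i : ℕ)) := by
      intro j
      rw [card_linearIndependent (K := F) (V := D.1 j) (le_of_eq (D.2.1 j).symm), D.2.1 j]
    rw [Finset.prod_congr rfl (fun j _ => h2 j), Finset.prod_const, Finset.card_univ,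
      Fintype.card_fin]
  simp only [key, Finset.sum_const, Finset.card_univ, smul_eq_mul]
  rw [Nat.card_eq_fintype_card]
  exact Dvd.intro _ rfl

omit [Fintype F] in
/-- `t!` divides the number of ordered decompositions. -/
theorem el_factorial_dvd (a t : ℕ) (ha : 1 ≤ a) :
    t.factorial ∣ Nat.card {D : Fin t → Submodule F V //
      (∀ j, finrank F (D j) = a) ∧ iSupIndep D ∧ ⨆ j, D j = ⊤} := by
  classical
  obtain ⟨s, hs⟩ : ∃ s : Setoid {D : Fin t → Submodule F V //
      (∀ j, finrank F (D j) = a) ∧ iSupIndep D ∧ ⨆ j, D j = ⊤},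
      ∀ D D', s.r D D' ↔ ∃ σ : Equiv.Perm (Fin t), D'.1 = D.1 ∘ σ := by
    refine ⟨⟨fun D D' => ∃ σ : Equiv.Perm (Fin t), D'.1 = D.1 ∘ σ, ⟨?_, ?_, ?_⟩⟩,
      fun D D' => Iff.rfl⟩
    · intro D
      exact ⟨1, rfl⟩
    · rintro D D' ⟨σ, h⟩
      refine ⟨σ⁻¹, ?_⟩
      rw [h]
      funext j
      simp
    · rintro D D' D'' ⟨σ, h⟩ ⟨σ', h'⟩
      refine ⟨σ * σ', ?_⟩
      rw [h', h]
      rfl
  haveI : Fintype (Quotient s) := Fintype.ofFinite _
  rw [Nat.card_congr (Equiv.sigmaFiberEquiv (Quotient.mk s)).symm, Nat.card_sigma]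
  have key : ∀ q : Quotient s, Nat.card {D // Quotient.mk s D = q} = t.factorial := by
    intro q
    obtain ⟨D₀, hD₀⟩ : ∃ D₀, Quotient.mk s D₀ = q := Quotient.exists_rep q
    have hinj₀ : Function.Injective D₀.1 := D₀.2.2.1.injective (fun j h => by
      have h1 := D₀.2.1 j
      rw [h, finrank_bot] at h1
      omega)
    have hmem : ∀ σ : Equiv.Perm (Fin t), (∀ j, finrank F ((D₀.1 ∘ σ) j) = a) ∧
        iSupIndep (D₀.1 ∘ σ) ∧ ⨆ j, (D₀.1 ∘ σ) j = ⊤ := by
      intro σ
      refine ⟨fun j => D₀.2.1 (σ j), D₀.2.2.1.comp σ.injective, ?_⟩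
      exact (Equiv.iSup_comp (g := D₀.1) σ).trans D₀.2.2.2
    have e : Equiv.Perm (Fin t) ≃ {D // Quotient.mk s D = q} := by
      refine Equiv.ofBijective (fun σ => ⟨⟨D₀.1 ∘ σ, hmem σ⟩, ?_⟩) ⟨?_, ?_⟩
      · rw [← hD₀]
        apply Quotient.sound
        refine (hs _ _).mpr ⟨σ⁻¹, ?_⟩
        funext j
        simp
      · intro σ σ' h
        have h1 : D₀.1 ∘ σ = D₀.1 ∘ σ' := congrArg (fun D => D.1.1) h
        apply Equiv.ext
        intro j
        exact hinj₀ (congrFun h1 j)
      · rintro ⟨D, hD⟩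
        rw [← hD₀] at hD
        have h1 : s.r D D₀ := Quotient.exact hD
        obtain ⟨σ, hσ⟩ := (hs _ _).mp h1
        refine ⟨σ⁻¹, ?_⟩
        apply Subtype.ext
        apply Subtype.ext
        show D₀.1 ∘ ⇑σ⁻¹ = D.1
        rw [hσ]
        funext j
        simp
    rw [Nat.card_congr e.symm, Nat.card_eq_fintype_card, Fintype.card_perm, Fintype.card_fin]
  simp only [key, Finset.sum_const, Finset.card_univ, smul_eq_mul]
  exact Dvd.intro_left _ rfl

/-- If `r` divides the number of unordered decompositions then `ord_r(q) ≤ dim V`. -/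
theorem el_count_le (a t : ℕ) (ha : 1 ≤ a) (hdimV : finrank F V = a * t) (r : ℕ)
    [Fact r.Prime] (hq0 : ((Fintype.card F : ℕ) : ZMod r) ≠ 0)
    (hΩ : r ∣ Nat.card {D : Fin t → Submodule F V //
      (∀ j, finrank F (D j) = a) ∧ iSupIndep D ∧ ⨆ j, D j = ⊤} / t.factorial) :
    orderOf ((Fintype.card F : ℕ) : ZMod r) ≤ a * t := by
  have hr : r.Prime := Fact.out
  have h1 := el_factorial_dvd (F := F) (V := V) a t ha
  have h2 := el_card_dec_dvd (F := F) (V := V) a t hdimV
  have h3 : r ∣ Nat.card {D : Fin t → Submodule F V //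
      (∀ j, finrank F (D j) = a) ∧ iSupIndep D ∧ ⨆ j, D j = ⊤} := by
    rw [← Nat.div_mul_cancel h1]
    exact Dvd.dvd.mul_right hΩ _
  have h4 := h3.trans h2
  obtain ⟨i, _, hi⟩ := (Prime.dvd_finsetProd_iff hr.prime _).mp h4
  have hlt : (i : ℕ) < a * t := by
    have h0 : (i : ℕ) < t * a := i.2
    calc (i : ℕ) < t * a := h0
      _ = a * t := mul_comm t a
  rw [hdimV] at hi
  have hle : Fintype.card F ^ (i : ℕ) ≤ Fintype.card F ^ (a * t) :=
    Nat.pow_le_pow_right Fintype.card_pos hlt.le
  have h5 := (ZMod.natCast_eq_zero_iff _ _).mpr hi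
  rw [Nat.cast_sub hle, Nat.cast_pow, Nat.cast_pow, sub_eq_zero] at h5
  have h6 := Cfsg.Agent.Lib.helper63.Elusive.orderOf_dvd_sub _ hq0 hlt.le h5
  have h7 := Nat.le_of_dvd (by omega) h6
  omega

end count

end Cfsg.Agent.Lib.helper24
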