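import Mathlib
import Cfsg.Agent.Lib.helper24.ElC
import Cfsg.Agent.Lib.helper24.ElD
import Cfsg.Agent.Lib.helper24.ElE

/-!
# Elements of odd prime order of `PSL_n(q)` and decompositions into `t` subspaces of dimension `a`
-/

set_option autoImplicit false

namespace Cfsg.Agent.Lib.helper24

open Module Polynomial

section elf

variable {F : Type*} [Field F] [Fintype F]

/-- Sufficiency. -/
theorem el_suff {p : ℕ} [Fact p.Prime] [CharP F p] (n a t : ℕ) (hn : 2 ≤ n) (hat : n = a * t)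
    (r : ℕ) [Fact r.Prime] (hrp : r ≠ p)
    (hcond : (a = 1 ∧ 1 < orderOf ((Fintype.card F : ℕ) : ZMod r) ∧
        orderOf ((Fintype.card F : ℕ) : ZMod r) = r - 1 ∧
        n ≤ (n % orderOf ((Fintype.card F : ℕ) : ZMod r)) * r) ∨
      (n % orderOf ((Fintype.card F : ℕ) : ZMod r) =
        t * (a % orderOf ((Fintype.card F : ℕ) : ZMod r))))
    (x : Matrix (Fin n) (Fin n) F) (hdet : x.det = 1) (z : F) (hx : x ^ r = z • 1) :
    ∃ (D : Fin t → Submodule F (Fin n → F)) (σ : Equiv.Perm (Fin t)),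
      (∀ j, finrank F (D j) = a) ∧ iSupIndep D ∧ (⨆ j, D j) = ⊤ ∧
      ∀ j, (D j).map (Matrix.toLin' x) = D (σ j) := by
  classical
  have hr : r.Prime := Fact.out
  obtain ⟨f', hp', hF⟩ := FiniteField.card F p
  have hpr : p.Coprime r := (Nat.coprime_primes hp' hr).mpr (Ne.symm hrp)
  have hrF : ((r : ℕ) : F) ≠ 0 := el_natCast_ne_zero p f' hF r hpr
  have hq0 := el_card_ne_zero p f' hF r hpr
  have hfin : finrank F (Fin n → F) = n := by simp
  obtain ⟨T, hTdef⟩ : ∃ T : (Fin n → F) →ₗ[F] (Fin n → F), T = Matrix.toLin' x := ⟨_, rfl⟩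
  have hT : T ^ r = z • (1 : Module.End F (Fin n → F)) := by
    rw [hTdef, ← Cfsg.Agent.Lib.helper63.Elusive.toLin'_pow', hx,
      Cfsg.Agent.Lib.helper63.Elusive.toLin'_smul_one]
  have hz0 : z ≠ 0 := by
    rintro rfl
    have h1 : (x ^ r).det = 0 := by
      rw [hx, zero_smul]
      have : Nonempty (Fin n) := ⟨⟨0, by omega⟩⟩
      exact Matrix.det_zero
    rw [Matrix.det_pow, hdet, one_pow] at h1
    exact one_ne_zero h1
  rw [← hTdef]
  have hfinal : ∀ (T' : (Fin n → F) →ₗ[F] (Fin n → F)) (d : F), d ≠ 0 → T = d • T' →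
      ElDec T' a t ⊤ →
      ∃ (D : Fin t → Submodule F (Fin n → F)) (σ : Equiv.Perm (Fin t)),
        (∀ j, finrank F (D j) = a) ∧ iSupIndep D ∧ (⨆ j, D j) = ⊤ ∧
        ∀ j, (D j).map T = D (σ j) := by
    intro T' d hd hTT' hdec
    obtain ⟨D, σ, h1, h2, h3, h4⟩ := el_dec_final T' a t ⊤ hdec
    refine ⟨D, σ, h1, h2, h3, ?_⟩
    intro j
    rw [hTT', Submodule.map_smul _ _ _ hd]
    exact h4 j
  by_cases hex : ∃ d : F, d ^ r = z
  · obtain ⟨d, hd⟩ := hex
    have hd0 : d ≠ 0 := by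
      rintro rfl
      rw [zero_pow hr.ne_zero] at hd
      exact hz0 hd.symm
    have hT' : (d⁻¹ • T) ^ r = 1 := by
      rw [_root_.smul_pow, hT, ← hd, smul_smul, inv_pow, inv_mul_cancel₀ (pow_ne_zero _ hd0),
        one_smul]
    apply hfinal (d⁻¹ • T) d hd0 (by rw [smul_smul, mul_inv_cancel₀ hd0, one_smul])
    rcases hcond with ⟨ha1, hc1, hcr, hle⟩ | hmod
    · have hdvd := Cfsg.Agent.Lib.helper63.Elusive.orderOf_dvd_finrank_sub r hq0 (d⁻¹ • T) hT'
      rw [hfin] at hdvd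
      have hfle : finrank F (LinearMap.ker (d⁻¹ • T - 1)) ≤ n := by
        have h1 := Submodule.finrank_le (LinearMap.ker (d⁻¹ • T - 1))
        rwa [hfin] at h1
      obtain ⟨e, he⟩ := hdvd
      obtain ⟨fx, hfx⟩ : ∃ fx, fx = finrank F (LinearMap.ker (d⁻¹ • T - 1)) := ⟨_, rfl⟩
      rw [← hfx] at he hfle
      obtain ⟨c, hc⟩ : ∃ c, c = orderOf ((Fintype.card F : ℕ) : ZMod r) := ⟨_, rfl⟩
      rw [← hc] at he hle hc1 hcr
      have hk : n % c ≤ fx := by
        have h6 : n = fx + c * e := by omega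
        rw [h6, Nat.add_mul_mod_self_left]
        exact Nat.mod_le _ _
      have hle2 : n ≤ r * fx := by
        calc n ≤ (n % c) * r := hle
          _ ≤ fx * r := Nat.mul_le_mul_right r hk
          _ = r * fx := mul_comm _ _
      have h7 := el_P2 p f' hF r hpr (by rw [← hc]; exact hcr) n (Fin n → F) (d⁻¹ • T) hT' hfin
        (by rw [← hfx]; exact hle2)
      have htn : t = n := by rw [hat, ha1, one_mul]
      rw [ha1, htn]
      exact h7
    · exact el_P1 p f' hF r hpr a t (Fin n → F) (d⁻¹ • T) hT' (by rw [hfin]; exact hat)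
        (by rw [hfin]; exact hmod)
  · push Not at hex
    have hirr : Irreducible (X ^ r - C z : F[X]) := X_pow_sub_C_irreducible_of_prime hr hex
    have hdvd : r ∣ n := by
      have h1 := Cfsg.Agent.Lib.helper63.Elusive.dvd_finrank_of_invariant r hr.ne_zero z hirr T hT
        ⊤ (fun w _ => Submodule.mem_top)
      rwa [finrank_top, hfin] at h1
    apply hfinal T 1 one_ne_zero (by rw [one_smul])
    rw [hat] at hdvd
    rcases (Nat.Prime.dvd_mul hr).mp hdvd with hra | hrt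
    · exact el_B_split r hr.ne_zero z hz0 hrF hirr a hra t (Fin n → F) T hT
        (by rw [hfin]; exact hat)
    · obtain ⟨s, hs⟩ := hrt
      rw [hs]
      exact el_B_cycles r hr.one_lt z hz0 hrF hirr a s (Fin n → F) T hT (by rw [hfin, hat, hs])

/-- Necessity. -/
theorem el_nec {p : ℕ} [Fact p.Prime] [CharP F p] (n a t : ℕ) (hat : n = a * t) (ha : 1 ≤ a)
    (r : ℕ) [Fact r.Prime] (hrp : r ≠ p)
    (hcn : orderOf ((Fintype.card F : ℕ) : ZMod r) ≤ n)
    (H : ∀ x : Matrix (Fin n) (Fin n) F, x.det = 1 → (∃ z : F, x ^ r = z • 1) →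
      (∀ z : F, x ≠ z • 1) →
      ∃ (D : Fin t → Submodule F (Fin n → F)) (σ : Equiv.Perm (Fin t)),
        (∀ j, finrank F (D j) = a) ∧ iSupIndep D ∧ (⨆ j, D j) = ⊤ ∧
        ∀ j, (D j).map (Matrix.toLin' x) = D (σ j)) :
    (a = 1 ∧ 1 < orderOf ((Fintype.card F : ℕ) : ZMod r) ∧
        orderOf ((Fintype.card F : ℕ) : ZMod r) = r - 1 ∧
        n ≤ (n % orderOf ((Fintype.card F : ℕ) : ZMod r)) * r) ∨
      (orderOf ((Fintype.card F : ℕ) : ZMod r) ≤ a ∧
        n % orderOf ((Fintype.card F : ℕ) : ZMod r) =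
          t * (a % orderOf ((Fintype.card F : ℕ) : ZMod r))) := by
  classical
  have hr : r.Prime := Fact.out
  obtain ⟨f', hp', hF⟩ := FiniteField.card F p
  have hpr : p.Coprime r := (Nat.coprime_primes hp' hr).mpr (Ne.symm hrp)
  have hrF : ((r : ℕ) : F) ≠ 0 := el_natCast_ne_zero p f' hF r hpr
  have hq0 := el_card_ne_zero p f' hF r hpr
  obtain ⟨c, hc⟩ : ∃ c, c = orderOf ((Fintype.card F : ℕ) : ZMod r) := ⟨_, rfl⟩
  rw [← hc] at hcn ⊢
  have hc1 : 1 ≤ c := by
    rw [hc]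
    exact Cfsg.Agent.Lib.helper63.Elusive.orderOf_pos' r hrp
  have hfin : finrank F (Fin n → F) = n := by simp
  by_cases hc_one : c = 1
  · right
    rw [hc_one]
    exact ⟨ha, by simp [Nat.mod_one]⟩
  have hc2 : 2 ≤ c := by omega
  have hnd : ¬ r ∣ Fintype.card F - 1 := by
    intro h
    have h1 := (Cfsg.Agent.Lib.helper63.Elusive.dvd_card_sub_one_iff r).mpr h
    rw [← hc] at h1
    exact hc_one h1
  have hcr : c ≤ r - 1 := by
    have h1 : ((Fintype.card F : ℕ) : ZMod r) ^ (r - 1) = 1 := ZMod.pow_card_sub_one_eq_one hq0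
    have h2 := orderOf_dvd_of_pow_eq_one h1
    rw [← hc] at h2
    exact Nat.le_of_dvd (Nat.sub_pos_of_lt hr.one_lt) h2
  obtain ⟨g, hg1, hg2⟩ := Cfsg.Agent.Lib.helper63.Elusive.exists_block (F := F) r hq0 c hc hc1
  have hconv : ∀ f : (Fin n → F) →ₗ[F] (Fin n → F), f ^ r = 1 → f ≠ 1 →
      ∃ (D : Fin t → Submodule F (Fin n → F)) (σ : Equiv.Perm (Fin t)),
        (∀ j, finrank F (D j) = a) ∧ iSupIndep D ∧ (⨆ j, D j) = ⊤ ∧
        ∀ j, (D j).map f = D (σ j) := by
    intro f hf1 hfne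
    have hx : (LinearMap.toMatrix' f) ^ r = (1 : F) • (1 : Matrix (Fin n) (Fin n) F) :=
      Cfsg.Agent.Lib.helper63.Elusive.toMatrix'_pow_eq f r 1 (by rw [hf1, one_smul])
    have hdet : (LinearMap.toMatrix' f).det = 1 := by
      apply Cfsg.Agent.Lib.helper63.Elusive.eq_one_of_pow_eq_one r hnd
      rw [← Matrix.det_pow, hx, one_smul, Matrix.det_one]
    have hns : ∀ d : F, LinearMap.toMatrix' f ≠ d • (1 : Matrix (Fin n) (Fin n) F) := by
      intro d hd
      have hd1 : d = 1 := by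
        apply Cfsg.Agent.Lib.helper63.Elusive.eq_one_of_pow_eq_one r hnd
        rw [hd, _root_.smul_pow, one_pow] at hx
        have h0 := congrFun (congrFun hx ⟨0, by omega⟩) ⟨0, by omega⟩
        simpa using h0
      rw [hd1, one_smul] at hd
      apply hfne
      have h1 := congrArg Matrix.toLin' hd
      rw [Matrix.toLin'_toMatrix', Matrix.toLin'_one] at h1
      exact h1
    obtain ⟨D, σ, h1, h2, h3, h4⟩ := H _ hdet ⟨1, hx⟩ hns
    rw [Matrix.toLin'_toMatrix'] at h4
    exact ⟨D, σ, h1, h2, h3, h4⟩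
  obtain ⟨fb, hfb1, hfb2, hfb3⟩ := el_exists_der (F := F) r c (n / c) (n % c) n
    (Nat.div_add_mod n c).symm g hg1 hg2
  have hk_lt : n % c < c := Nat.mod_lt _ (by omega)
  have hfb_ne : fb ≠ 1 := by
    intro h
    rw [h, sub_self, LinearMap.ker_zero, finrank_top, hfin] at hfb2
    omega
  obtain ⟨D, σ, hD1, hD2, hD3, hD4⟩ := hconv fb hfb1 hfb_ne
  by_cases hall : ∀ j, σ j = j
  · right
    have hinv : ∀ j, ∀ d ∈ D j, fb d ∈ D j := by
      intro j d hd
      have h1 := Submodule.mem_map_of_mem (f := fb) hd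
      rw [hD4, hall] at h1
      exact h1
    have h1 := el_nec_all_fixed fb r hq0 hfb1 D hD2 a hD1 hinv
    rw [Fintype.card_fin, hfb2, ← hc] at h1
    have hmod : n % c = t * (a % c) := by
      have h2 : n % c = (t * (a % c)) % c := by
        rw [hat, Nat.mul_comm a t]
        exact (Nat.mul_mod_mod t a c).symm
      rw [h2, Nat.mod_eq_of_lt (by omega)]
    refine ⟨?_, hmod⟩
    by_contra hlt
    push Not at hlt
    rw [Nat.mod_eq_of_lt hlt] at hmod
    have h3 : n % c = n := by rw [hmod, hat, mul_comm]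
    omega
  · push Not at hall
    obtain ⟨j₀, hj₀⟩ := hall
    have hak : a ≤ n % c := by
      have h1 := el_nec_cycle_fix fb r hr hfb1 D hD2 hD3 a ha hD1 σ hD4 j₀ hj₀
      rwa [hfb2] at h1
    have hac : a < c := by omega
    have hcr' : c = r - 1 := by
      by_contra hne
      have hlt : c + 1 < r := by omega
      obtain ⟨P, hP0, hPdeg, hPg, hP1⟩ := el_der_poly c g
      exact hj₀ (el_nec_poly fb r hr hfb1 D hD2 hD3 a ha hD1 σ hD4 P hP0
        (by rw [hPdeg]; exact hlt) (hfb3 P hPg hP1) j₀)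
    by_cases ha1 : a = 1
    · left
      refine ⟨ha1, by omega, hcr', ?_⟩
      have h1 := el_nec_lines fb r hnd hrF hfb1 D hD2 hD3 (by intro j; rw [hD1 j, ha1]) σ hD4
      rw [Fintype.card_fin, hfb2] at h1
      have htn : n = t := by rw [hat, ha1, one_mul]
      calc n = t := htn
        _ ≤ r * (n % c) := h1
        _ = n % c * r := mul_comm _ _
    · exfalso
      have ha2 : 2 ≤ a := by omega
      obtain ⟨f1, hf11, hf12, _⟩ := el_exists_der (F := F) r c 1 (n - c) n (by omega) g hg1 hg2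
      have hf1_ne : f1 ≠ 1 := by
        intro h
        rw [h, sub_self, LinearMap.ker_zero, finrank_top, hfin] at hf12
        omega
      obtain ⟨D', σ', hD'1, hD'2, hD'3, hD'4⟩ := hconv f1 hf11 hf1_ne
      by_cases hall' : ∀ j, σ' j = j
      · apply hf1_ne
        have hinv : ∀ j, ∀ d ∈ D' j, f1 d ∈ D' j := by
          intro j d hd
          have h1 := Submodule.mem_map_of_mem (f := f1) hd
          rw [hD'4, hall'] at h1
          exact h1
        exact el_nec_small f1 r hq0 hf11 D' hD'3 a hD'1 (by rw [← hc]; exact hac) hinv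
      · push Not at hall'
        obtain ⟨j₁, hj₁⟩ := hall'
        have h1 := el_nec_rank f1 r hr hf11 D' hD'2 hD'3 a ha hD'1 σ' hD'4 j₁ hj₁
        rw [hf12, hfin] at h1
        have h2 : (r - 1) * 2 ≤ (r - 1) * a := Nat.mul_le_mul_left _ ha2
        omega

/-- Elements of prime order `r ≠ p` of `PSL_n(q)` and decompositions of `F^n` into `t` subspaces
of dimension `a`. -/
theorem el_main {p : ℕ} [Fact p.Prime] [CharP F p] (n a t : ℕ) (hn : 2 ≤ n) (hat : n = a * t)
    (ha : 1 ≤ a) (r : ℕ) [Fact r.Prime] (hrp : r ≠ p)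
    (hΩ : r ∣ Nat.card {D : Fin t → Submodule F (Fin n → F) //
      (∀ j, finrank F (D j) = a) ∧ iSupIndep D ∧ ⨆ j, D j = ⊤} / t.factorial) :
    (∀ x : Matrix (Fin n) (Fin n) F, x.det = 1 → (∃ z : F, x ^ r = z • 1) →
      (∀ z : F, x ≠ z • 1) →
      ∃ (D : Fin t → Submodule F (Fin n → F)) (σ : Equiv.Perm (Fin t)),
        (∀ j, finrank F (D j) = a) ∧ iSupIndep D ∧ (⨆ j, D j) = ⊤ ∧
        ∀ j, (D j).map (Matrix.toLin' x) = D (σ j)) ↔
    ((a = 1 ∧ 1 < orderOf ((Fintype.card F : ℕ) : ZMod r) ∧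
        orderOf ((Fintype.card F : ℕ) : ZMod r) = r - 1 ∧
        n ≤ (n % orderOf ((Fintype.card F : ℕ) : ZMod r)) * r) ∨
      (orderOf ((Fintype.card F : ℕ) : ZMod r) ≤ a ∧
        n % orderOf ((Fintype.card F : ℕ) : ZMod r) =
          t * (a % orderOf ((Fintype.card F : ℕ) : ZMod r)))) := by
  constructor
  · intro H
    have hq0 := Cfsg.Agent.Lib.helper63.Elusive.natCast_card_ne_zero (F := F) r hrp
    have hcn := el_count_le (F := F) (V := Fin n → F) a t ha (by simp [hat]) r hq0 hΩ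
    rw [← hat] at hcn
    exact el_nec n a t hat ha r hrp hcn H
  · rintro hcond x hdet ⟨z, hx⟩ _
    apply el_suff n a t hn hat r hrp ?_ x hdet z hx
    rcases hcond with h | ⟨_, h⟩
    · exact Or.inl h
    · exact Or.inr h

end elf

end Cfsg.Agent.Lib.helper24
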