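import Mathlib

set_option autoImplicit false
set_option linter.unusedSectionVars false
set_option linter.unusedVariables false
set_option linter.unusedSimpArgs false

/-! Feit–Higman, algebraic part: the quadratic relations `A² = (u-1)A + u`, `B² = (v-1)B + v` and the
central element `Θ = AB + BA - (v-1)A - (u-1)B + (u-1)(v-1)` (helper24). -/

namespace Cfsg.Agent.Lib.helper24

section Alg

variable {𝔸 : Type*} [Ring 𝔸] [Algebra ℝ 𝔸]

/-- The central element `Θ`. -/
def fhTheta (A B : 𝔸) (u v : ℝ) : 𝔸 :=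
  A * B + B * A - (v - 1) • A - (u - 1) • B + ((u - 1) * (v - 1)) • (1 : 𝔸)

/-- The commutator `C = AB - BA`. -/
def fhComm (A B : 𝔸) : 𝔸 := A * B - B * A

variable {A B : 𝔸} {u v : ℝ}

theorem fh_relA' (hA : A * A = (u - 1) • A + u • (1 : 𝔸)) (M : 𝔸) :
    A * (A * M) = (u - 1) • (A * M) + u • M := by
  rw [← mul_assoc, hA, add_mul, smul_mul_assoc, smul_mul_assoc, one_mul]

theorem fh_theta_comm_A (hA : A * A = (u - 1) • A + u • (1 : 𝔸)) :
    A * fhTheta A B u v = fhTheta A B u v * A := by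
  have hA' := fh_relA' hA
  simp only [fhTheta, mul_add, add_mul, mul_sub, sub_mul, smul_mul_assoc, mul_smul_comm, mul_one,
    one_mul, mul_assoc, hA', hA, smul_add, smul_sub, smul_smul]
  module

theorem fh_theta_comm_B (hB : B * B = (v - 1) • B + v • (1 : 𝔸)) :
    B * fhTheta A B u v = fhTheta A B u v * B := by
  have hB' := fh_relA' hB
  simp only [fhTheta, mul_add, add_mul, mul_sub, sub_mul, smul_mul_assoc, mul_smul_comm, mul_one,
    one_mul, mul_assoc, hB', hB, smul_add, smul_sub, smul_smul]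
  module

theorem fh_AB_sq (hA : A * A = (u - 1) • A + u • (1 : 𝔸)) (hB : B * B = (v - 1) • B + v • (1 : 𝔸)) :
    (A * B) * (A * B) = fhTheta A B u v * (A * B) - (u * v) • (1 : 𝔸) := by
  have hA' := fh_relA' hA
  have hB' := fh_relA' hB
  simp only [fhTheta, mul_add, add_mul, mul_sub, sub_mul, smul_mul_assoc, mul_smul_comm, mul_one,
    one_mul, mul_assoc, hA', hB', hA, hB, smul_add, smul_sub, smul_smul]
  module

theorem fh_BA_sq (hA : A * A = (u - 1) • A + u • (1 : 𝔸)) (hB : B * B = (v - 1) • B + v • (1 : 𝔸)) :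
    (B * A) * (B * A) = fhTheta A B u v * (B * A) - (u * v) • (1 : 𝔸) := by
  have hA' := fh_relA' hA
  have hB' := fh_relA' hB
  simp only [fhTheta, mul_add, add_mul, mul_sub, sub_mul, smul_mul_assoc, mul_smul_comm, mul_one,
    one_mul, mul_assoc, hA', hB', hA, hB, smul_add, smul_sub, smul_smul]
  module

theorem fh_ABA (hA : A * A = (u - 1) • A + u • (1 : 𝔸)) (hB : B * B = (v - 1) • B + v • (1 : 𝔸)) :
    A * B * A = fhTheta A B u v * A - u • B + (u * (v - 1)) • (1 : 𝔸) := by
  have hA' := fh_relA' hA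
  have hB' := fh_relA' hB
  simp only [fhTheta, mul_add, add_mul, mul_sub, sub_mul, smul_mul_assoc, mul_smul_comm, mul_one,
    one_mul, mul_assoc, hA', hB', hA, hB, smul_add, smul_sub, smul_smul]
  module

theorem fh_BAB (hA : A * A = (u - 1) • A + u • (1 : 𝔸)) (hB : B * B = (v - 1) • B + v • (1 : 𝔸)) :
    B * A * B = fhTheta A B u v * B - v • A + (v * (u - 1)) • (1 : 𝔸) := by
  have hA' := fh_relA' hA
  have hB' := fh_relA' hB
  simp only [fhTheta, mul_add, add_mul, mul_sub, sub_mul, smul_mul_assoc, mul_smul_comm, mul_one,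
    one_mul, mul_assoc, hA', hB', hA, hB, smul_add, smul_sub, smul_smul]
  module

theorem fh_anti (hA : A * A = (u - 1) • A + u • (1 : 𝔸)) :
    A * fhComm A B + fhComm A B * A = (u - 1) • fhComm A B := by
  have hA' := fh_relA' hA
  simp only [fhComm, mul_add, add_mul, mul_sub, sub_mul, smul_mul_assoc, mul_smul_comm, mul_one,
    one_mul, mul_assoc, hA', hA, smul_add, smul_sub, smul_smul]
  module

theorem fh_comm_sq (hA : A * A = (u - 1) • A + u • (1 : 𝔸)) (hB : B * B = (v - 1) • B + v • (1 : 𝔸)) :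
    fhComm A B * fhComm A B =
      fhTheta A B u v * fhTheta A B u v - ((u - 1) * (v - 1)) • fhTheta A B u v -
        (4 * u * v + u * (v - 1) ^ 2 + v * (u - 1) ^ 2) • (1 : 𝔸) := by
  have hA' := fh_relA' hA
  have hB' := fh_relA' hB
  simp only [fhComm, fhTheta, mul_add, add_mul, mul_sub, sub_mul, smul_mul_assoc, mul_smul_comm, mul_one,
    one_mul, mul_assoc, hA', hB', hA, hB, smul_add, smul_sub, smul_smul]
  module

end Alg

end Cfsg.Agent.Lib.helper24
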