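import Mathlib

set_option autoImplicit false
set_option linter.unusedSectionVars false
set_option linter.unusedVariables false
set_option linter.unusedSimpArgs false

/-! Groups generated by two involutions (dihedral groups), via alternating words (helper24). -/

namespace Cfsg.Agent.Lib.helper24

/-- Alternating words in a monoid. -/
def altW {M : Type*} [Monoid M] : ℕ → M → M → M
  | 0, _, _ => 1
  | k + 1, a, b => a * altW k b a

theorem altW_zero {M : Type*} [Monoid M] (a b : M) : altW 0 a b = 1 := rfl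

theorem altW_succ {M : Type*} [Monoid M] (k : ℕ) (a b : M) : altW (k + 1) a b = a * altW k b a := rfl

theorem map_altW {M N : Type*} [Monoid M] [Monoid N] (f : M →* N) (k : ℕ) :
    ∀ a b : M, f (altW k a b) = altW k (f a) (f b) := by
  induction k with
  | zero => intro a b; simp [altW]
  | succ k ih => intro a b; rw [altW_succ, altW_succ, map_mul, ih]

theorem altW_pow_shift {M : Type*} [Monoid M] (a b : M) (j : ℕ) : a * (b * a) ^ j = (a * b) ^ j * a := by
  induction j with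
  | zero => simp
  | succ j ih => rw [pow_succ, ← mul_assoc, ih, pow_succ]; simp only [mul_assoc]

theorem altW_even_odd {M : Type*} [Monoid M] (j : ℕ) : ∀ a b : M,
    altW (2 * j) a b = (a * b) ^ j ∧ altW (2 * j + 1) a b = (a * b) ^ j * a := by
  induction j with
  | zero => intro a b; simp [altW]
  | succ j ih =>
    intro a b
    have e1 : 2 * (j + 1) = (2 * j + 1) + 1 := by ring
    have h1 : altW (2 * (j + 1)) a b = (a * b) ^ (j + 1) := by
      rw [e1, altW_succ, (ih b a).2, ← mul_assoc, altW_pow_shift, pow_succ, mul_assoc]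
    refine ⟨h1, ?_⟩
    have e2 : 2 * (j + 1) + 1 = (2 * (j + 1)) + 1 := rfl
    have h2 : altW (2 * (j + 1)) b a = (b * a) ^ (j + 1) := by
      rw [e1, altW_succ, (ih a b).2, ← mul_assoc, altW_pow_shift, pow_succ, mul_assoc]
    rw [e2, altW_succ, h2, altW_pow_shift]

section Dih

variable {W : Type*} [Group W] {σ τ : W}

theorem fh_dih_form1 (k : ℕ) : altW k σ τ = (σ * τ) ^ (k / 2) * σ ^ (k % 2) := by
  obtain ⟨j, rfl | rfl⟩ := Nat.even_or_odd' k
  · rw [(altW_even_odd j σ τ).1]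
    have e1 : 2 * j / 2 = j := by omega
    have e2 : 2 * j % 2 = 0 := by omega
    rw [e1, e2, pow_zero, mul_one]
  · rw [(altW_even_odd j σ τ).2]
    have e1 : (2 * j + 1) / 2 = j := by omega
    have e2 : (2 * j + 1) % 2 = 1 := by omega
    rw [e1, e2, pow_one]

theorem fh_dih_form2 (hσ : σ * σ = 1) (hτ : τ * τ = 1) (k : ℕ) :
    altW k τ σ = ((σ * τ)⁻¹) ^ ((k + 1) / 2) * σ ^ (k % 2) := by
  have hinv : (σ * τ)⁻¹ = τ * σ := by
    rw [mul_inv_rev, inv_eq_of_mul_eq_one_left hσ, inv_eq_of_mul_eq_one_left hτ]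
  obtain ⟨j, rfl | rfl⟩ := Nat.even_or_odd' k
  · rw [(altW_even_odd j τ σ).1]
    have e1 : (2 * j + 1) / 2 = j := by omega
    have e2 : 2 * j % 2 = 0 := by omega
    rw [e1, e2, pow_zero, mul_one, hinv]
  · rw [(altW_even_odd j τ σ).2]
    have e1 : (2 * j + 1 + 1) / 2 = j + 1 := by omega
    have e2 : (2 * j + 1) % 2 = 1 := by omega
    rw [e1, e2, pow_one, hinv, pow_succ, mul_assoc, mul_assoc, hσ, mul_one]

theorem fh_dih_not_mem (hσ : σ * σ = 1) (hτ : τ * τ = 1) (hσ1 : σ ≠ 1) (hτ1 : τ ≠ 1) :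
    σ ∉ Subgroup.zpowers (σ * τ) := by
  intro h
  obtain ⟨a, ha⟩ := Subgroup.mem_zpowers_iff.mp h
  have hcomm : σ * (σ * τ) = (σ * τ) * σ := by
    have hc := (Commute.zpow_self (σ * τ) a).eq
    rw [ha] at hc
    exact hc
  have h3 : τ = σ * τ * σ := by rw [← hcomm, ← mul_assoc, hσ, one_mul]
  have h2 : (σ * τ) * (σ * τ) = 1 := by
    calc (σ * τ) * (σ * τ) = (σ * τ * σ) * τ := by simp only [mul_assoc]
      _ = τ * τ := by rw [← h3]
      _ = 1 := hτ
  rcases Int.even_or_odd' a with ⟨c, rfl | rfl⟩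
  · have : (σ * τ) ^ (2 * c) = 1 := by rw [zpow_mul, zpow_two, h2, one_zpow]
    exact hσ1 (by rw [← ha, this])
  · have : (σ * τ) ^ (2 * c + 1) = σ * τ := by
      rw [zpow_add, zpow_mul, zpow_two, h2, one_zpow, one_mul, zpow_one]
    rw [this] at ha
    exact hτ1 (mul_left_cancel (a := σ) (by rw [ha, mul_one]))

theorem fh_dih_uniq (hnm : σ ∉ Subgroup.zpowers (σ * τ)) {a b : ℤ} {ε δ : ℕ} (hε : ε < 2)
    (hδ : δ < 2) (h : (σ * τ) ^ a * σ ^ ε = (σ * τ) ^ b * σ ^ δ) :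
    ε = δ ∧ (orderOf (σ * τ) : ℤ) ∣ a - b := by
  have key : (σ * τ) ^ a = (σ * τ) ^ b → (orderOf (σ * τ) : ℤ) ∣ a - b := by
    intro h'
    have := Int.modEq_iff_dvd.mp (zpow_eq_zpow_iff_modEq.mp h')
    exact (dvd_sub_comm).mp this
  interval_cases ε <;> interval_cases δ
  · simp only [pow_zero, mul_one] at h
    exact ⟨rfl, key h⟩
  · exfalso
    apply hnm
    rw [Subgroup.mem_zpowers_iff]
    refine ⟨-b + a, ?_⟩
    simp only [pow_zero, mul_one, pow_one] at h
    rw [zpow_add, h, zpow_neg, inv_mul_cancel_left]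
  · exfalso
    apply hnm
    rw [Subgroup.mem_zpowers_iff]
    refine ⟨-a + b, ?_⟩
    simp only [pow_zero, mul_one, pow_one] at h
    rw [zpow_add, ← h, zpow_neg, inv_mul_cancel_left]
  · simp only [pow_one] at h
    exact ⟨rfl, key (mul_right_cancel h)⟩

theorem fh_dih_ne1 (hnm : σ ∉ Subgroup.zpowers (σ * τ)) {k l : ℕ} (hkl : k < l)
    (hl : l ≤ orderOf (σ * τ)) : altW k σ τ ≠ altW l σ τ := by
  intro h
  rw [fh_dih_form1, fh_dih_form1, ← zpow_natCast (σ * τ) (k / 2), ← zpow_natCast (σ * τ) (l / 2)] at h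
  obtain ⟨h1, h2⟩ := fh_dih_uniq hnm (Nat.mod_lt _ (by norm_num)) (Nat.mod_lt _ (by norm_num)) h
  have h3 := Int.eq_zero_of_abs_lt_dvd h2 (abs_lt.mpr ⟨by omega, by omega⟩)
  omega

theorem fh_dih_ne2 (hσ : σ * σ = 1) (hτ : τ * τ = 1) (hnm : σ ∉ Subgroup.zpowers (σ * τ))
    {k l : ℕ} (hkl : k < l) (hl : l ≤ orderOf (σ * τ)) (hm : 2 ≤ orderOf (σ * τ)) :
    altW k τ σ ≠ altW l τ σ := by
  intro h
  rw [fh_dih_form2 hσ hτ, fh_dih_form2 hσ hτ, inv_pow, inv_pow, ← zpow_natCast (σ * τ) ((k + 1) / 2),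
    ← zpow_natCast (σ * τ) ((l + 1) / 2), ← zpow_neg, ← zpow_neg] at h
  obtain ⟨h1, h2⟩ := fh_dih_uniq hnm (Nat.mod_lt _ (by norm_num)) (Nat.mod_lt _ (by norm_num)) h
  have h3 := Int.eq_zero_of_abs_lt_dvd h2 (abs_lt.mpr ⟨by omega, by omega⟩)
  omega

theorem fh_dih_ne3 (hσ : σ * σ = 1) (hτ : τ * τ = 1) (hnm : σ ∉ Subgroup.zpowers (σ * τ))
    {k l : ℕ} (hk1 : 1 ≤ k) (hk : k ≤ orderOf (σ * τ)) (hl1 : 1 ≤ l) (hl : l ≤ orderOf (σ * τ))
    (h : altW k σ τ = altW l τ σ) : k = orderOf (σ * τ) ∧ l = orderOf (σ * τ) := by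
  rw [fh_dih_form1, fh_dih_form2 hσ hτ, inv_pow, ← zpow_natCast (σ * τ) (k / 2),
    ← zpow_natCast (σ * τ) ((l + 1) / 2), ← zpow_neg] at h
  obtain ⟨h1, h2⟩ := fh_dih_uniq hnm (Nat.mod_lt _ (by norm_num)) (Nat.mod_lt _ (by norm_num)) h
  have h3 : (orderOf (σ * τ) : ℤ) ≤ ((k / 2 : ℕ) : ℤ) - -(((l + 1) / 2 : ℕ) : ℤ) :=
    Int.le_of_dvd (by omega) h2
  omega

theorem fh_dih_braid (hσ : σ * σ = 1) (hτ : τ * τ = 1) :
    altW (orderOf (σ * τ)) σ τ = altW (orderOf (σ * τ)) τ σ := by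
  rw [fh_dih_form1, fh_dih_form2 hσ hτ, inv_pow]
  congr 1
  apply eq_inv_of_mul_eq_one_left
  rw [← pow_add]
  have e : orderOf (σ * τ) / 2 + (orderOf (σ * τ) + 1) / 2 = orderOf (σ * τ) := by omega
  rw [e, pow_orderOf_eq_one]

theorem fh_dih_order [Finite W] (hτ : τ * τ = 1) (hστ : σ ≠ τ) : 2 ≤ orderOf (σ * τ) := by
  have h1 : 0 < orderOf (σ * τ) := orderOf_pos _
  have h2 : orderOf (σ * τ) ≠ 1 := by
    intro h
    rw [orderOf_eq_one_iff] at h
    apply hστ
    have : σ = τ⁻¹ := eq_inv_of_mul_eq_one_left h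
    rw [this, inv_eq_of_mul_eq_one_left hτ]
  omega

theorem fh_dih_card [Finite W] (hσ : σ * σ = 1) (hτ : τ * τ = 1) (hσ1 : σ ≠ 1) (hτ1 : τ ≠ 1)
    (hgen : Subgroup.closure {σ, τ} = ⊤) : Nat.card W = 2 * orderOf (σ * τ) := by
  have hnm := fh_dih_not_mem hσ hτ hσ1 hτ1
  have hσi : σ⁻¹ = σ := inv_eq_of_mul_eq_one_left hσ
  have hτi : τ⁻¹ = τ := inv_eq_of_mul_eq_one_left hτ
  -- conjugation by σ preserves the cyclic group
  have hconj : ∀ c ∈ Subgroup.zpowers (σ * τ), σ * c * σ ∈ Subgroup.zpowers (σ * τ) := by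
    intro c hc
    obtain ⟨a, rfl⟩ := Subgroup.mem_zpowers_iff.mp hc
    have e : σ * (σ * τ) ^ a * σ = ((σ * τ)⁻¹) ^ a := by
      have h1 : σ * (σ * τ) * σ⁻¹ = (σ * τ)⁻¹ := by
        rw [mul_inv_rev, hσi, hτi, ← mul_assoc, hσ, one_mul]
      rw [← h1, conj_zpow, hσi]
    rw [e, inv_zpow]
    exact Subgroup.inv_mem _ (Subgroup.zpow_mem _ (Subgroup.mem_zpowers _) a)
  have hall : ∀ b : W, b ∈ Subgroup.zpowers (σ * τ) ∨ b * σ ∈ Subgroup.zpowers (σ * τ) := by
    intro b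
    have hb : b ∈ Subgroup.closure {σ, τ} := by rw [hgen]; trivial
    induction hb using Subgroup.closure_induction with
    | mem x hx =>
      rcases hx with rfl | hx
      · right; rw [hσ]; exact Subgroup.one_mem _
      · rw [Set.mem_singleton_iff] at hx
        subst hx
        right
        have : x * σ = (σ * x)⁻¹ := by rw [mul_inv_rev, hσi, hτi]
        rw [this]
        exact Subgroup.inv_mem _ (Subgroup.mem_zpowers _)
    | one => left; exact Subgroup.one_mem _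
    | mul x y _ _ hx hy =>
      rcases hx with hx | hx <;> rcases hy with hy | hy
      · left; exact Subgroup.mul_mem _ hx hy
      · right; rw [mul_assoc]; exact Subgroup.mul_mem _ hx hy
      · right
        have e : x * y * σ = (x * σ) * (σ * y * σ) := by
          calc x * y * σ = x * (σ * σ) * y * σ := by rw [hσ, mul_one]
            _ = (x * σ) * (σ * y * σ) := by simp only [mul_assoc]
        rw [e]
        exact Subgroup.mul_mem _ hx (hconj y hy)
      · left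
        have e : x * y = (x * σ) * (σ * (y * σ) * σ) := by
          calc x * y = x * (σ * σ) * y * (σ * σ) := by rw [hσ, mul_one, mul_one]
            _ = (x * σ) * (σ * (y * σ) * σ) := by simp only [mul_assoc]
        rw [e]
        exact Subgroup.mul_mem _ hx (hconj _ hy)
    | inv x _ hx =>
      rcases hx with hx | hx
      · left; exact Subgroup.inv_mem _ hx
      · right
        have e : x⁻¹ * σ = σ * (x * σ)⁻¹ * σ := by
          rw [mul_inv_rev, hσi]
          calc x⁻¹ * σ = (σ * σ) * x⁻¹ * σ := by rw [hσ, one_mul]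
            _ = σ * (σ * x⁻¹) * σ := by simp only [mul_assoc]
        rw [e]
        exact hconj _ (Subgroup.inv_mem _ hx)
  have hidx : (Subgroup.zpowers (σ * τ)).index = 2 := by
    rw [Subgroup.index_eq_two_iff]
    refine ⟨σ, fun b => ?_⟩
    rcases hall b with h | h
    · refine Or.inr ⟨h, fun h' => hnm ?_⟩
      have h3 := Subgroup.mul_mem _ (Subgroup.inv_mem _ h) h'
      rwa [inv_mul_cancel_left] at h3
    · refine Or.inl ⟨h, fun h' => hnm ?_⟩
      have h3 := Subgroup.mul_mem _ (Subgroup.inv_mem _ h') h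
      rwa [inv_mul_cancel_left] at h3
  rw [← Subgroup.index_mul_card (Subgroup.zpowers (σ * τ)), hidx, Nat.card_zpowers]

end Dih

end Cfsg.Agent.Lib.helper24
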