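import Cfsg.Agent.Lib.helper24.FHNum

set_option autoImplicit false
set_option linter.unusedSectionVars false
set_option linter.unusedVariables false
set_option linter.unusedSimpArgs false

/-! Feit–Higman, the abstract matrix theorem (helper24). -/

namespace Cfsg.Agent.Lib.helper24

open Matrix

namespace FHData

variable {X : Type*} [Fintype X] [DecidableEq X] {m u v : ℕ} {A B : Matrix X X ℝ}

theorem rat_of_root_even (D : FHData X m u v A B) [Nonempty X] (hm : m % 2 = 0) {x : ℝ}
    (hx : fhBeta m u ((u : ℝ) * v) x = 0) : ∃ q : ℚ, x = q := by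
  by_contra hq
  have hirr : Irrational x := by
    rintro ⟨q, h⟩; exact hq ⟨q, h.symm⟩
  obtain ⟨Z, hZ1, hZ2⟩ := D.spectrum
  have hx' : fhBeta m u ((u : ℝ) * v) (-x) = 0 := by
    unfold fhBeta at hx ⊢
    rw [if_pos hm] at hx ⊢
    exact fhAl_neg_zero hx
  have hns : ∀ y : ℝ, Irrational y → (y - ((u : ℝ) * v + 1)) * (y + ((u : ℝ) + v)) ≠ 0 := by
    intro y hy h0
    rcases mul_eq_zero.mp h0 with h | h
    · apply hy; exact ⟨((u * v + 1 : ℕ) : ℚ), by push_cast; linarith⟩
    · apply hy; exact ⟨-((u + v : ℕ) : ℚ), by push_cast; linarith⟩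
  obtain ⟨μ, hμ1, h1⟩ := hZ2 x (hZ1 x hx) (hns x hirr)
  obtain ⟨μ', hμ1', h2⟩ := hZ2 (-x) (hZ1 (-x) hx') (hns (-x) hirr.neg)
  have hn : 1 ≤ Fintype.card X := Fintype.card_pos
  have hm2 := D.hm
  refine fh_even_rat D.hu D.hv hn (t := μ * m) (t' := μ' * m) (Nat.mul_pos (by omega) (by omega))
    (Nat.mul_pos (by omega) (by omega)) (θ := x) ?_ ?_ hirr
  · push_cast; linear_combination h1
  · push_cast; linear_combination h2

/-- **Feit–Higman**, matrix form. -/
theorem m_mem (D : FHData X m u v A B) [Nonempty X] :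
    m = 2 ∨ m = 3 ∨ m = 4 ∨ m = 6 ∨ m = 8 := by
  have hm := D.hm
  have hu := D.u_pos
  have hv := D.v_pos
  have hu2 : (2 : ℝ) ≤ u := by exact_mod_cast D.hu
  have hv2 : (2 : ℝ) ≤ v := by exact_mod_cast D.hv
  rcases Nat.mod_two_eq_zero_or_one m with hpar | hpar
  · obtain ⟨M, rfl⟩ : ∃ M, m = 2 * M := ⟨m / 2, by omega⟩
    by_cases hM : M ≤ 2
    · have : M = 1 ∨ M = 2 := by omega
      rcases this with rfl | rfl <;> simp
    · have hM3 : 3 ≤ M := by omega
      have hc : (0 : ℝ) < (u : ℝ) * v := mul_pos hu hv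
      obtain ⟨r, hr0, hr2⟩ : ∃ r : ℝ, 0 < r ∧ r ^ 2 = (u : ℝ) * v :=
        ⟨Real.sqrt ((u : ℝ) * v), Real.sqrt_pos.mpr hc, Real.sq_sqrt hc.le⟩
      have hbeta : ∀ x : ℝ, fhAl x (r ^ 2) M = 0 → fhBeta (2 * M) u ((u : ℝ) * v) x = 0 := by
        intro x hx
        unfold fhBeta
        rw [if_pos hpar, show 2 * M / 2 = M by omega, ← hr2]
        exact hx
      obtain ⟨q, hq⟩ := D.rat_of_root_even hpar (hbeta _ (fh_root_even hr0 (by omega : 2 ≤ M)))
      have hcos : ∃ q' : ℚ, Real.cos (2 * Real.pi / M) = q' := by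
        refine ⟨q ^ 2 / (2 * (u * v : ℕ)) - 1, ?_⟩
        have e : 2 * Real.pi / M = 2 * (Real.pi / M) := by ring
        rw [e, Real.cos_two_mul]
        push_cast
        rw [← hq, mul_pow, mul_pow, hr2]
        field_simp
      rcases fh_niven (by omega : 2 ≤ M) hcos with h | h | h | h
      · omega
      · right; right; right; left; omega
      · right; right; right; right; omega
      · exfalso
        subst h
        have hy1 : fhAl r (r ^ 2) 6 = 0 := by rw [fhAl_six]; ring
        have hy2 : fhAl (Real.sqrt 3 * r) (r ^ 2) 6 = 0 := by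
          rw [fhAl_six]
          have h3 : (Real.sqrt 3) ^ 2 = 3 := Real.sq_sqrt (by norm_num)
          have : (Real.sqrt 3 * r) ^ 2 - 3 * r ^ 2 = 0 := by rw [mul_pow, h3]; ring
          rw [this, mul_zero]
        obtain ⟨q1, hq1⟩ := D.rat_of_root_even hpar (hbeta _ hy1)
        obtain ⟨q2, hq2⟩ := D.rat_of_root_even hpar (hbeta _ hy2)
        have hirr3 : Irrational (Real.sqrt 3) := by
          have := Nat.prime_three.irrational_sqrt
          simpa using this
        apply hirr3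
        refine ⟨q2 / q1, ?_⟩
        push_cast
        rw [← hq1, ← hq2]
        field_simp
  · obtain ⟨M, rfl⟩ : ∃ M, m = 2 * M + 1 := ⟨m / 2, by omega⟩
    by_cases hM : M ≤ 1
    · right; left; omega
    · exfalso
      have hM2 : 2 ≤ M := by omega
      have hM2' : (2 : ℝ) ≤ M := by exact_mod_cast hM2
      have huv := D.u_eq_v_of_odd hpar
      have huvn : u = v := by exact_mod_cast huv
      subst huvn
      obtain ⟨Z, hZ1, hZ2⟩ := D.spectrum
      have hφ0 : 0 < 2 * Real.pi / ((2 * M + 1 : ℕ) : ℝ) := by positivity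
      have hφπ : 2 * Real.pi / ((2 * M + 1 : ℕ) : ℝ) < Real.pi := by
        rw [div_lt_iff₀ (by positivity)]
        push_cast
        nlinarith [Real.pi_pos]
      generalize hφ : 2 * Real.pi / ((2 * M + 1 : ℕ) : ℝ) = φ at hφ0 hφπ
      have hb : fhBeta (2 * M + 1) u ((u : ℝ) * u) (2 * (u : ℝ) * Real.cos φ) = 0 := by
        unfold fhBeta
        rw [if_neg (by omega), show (2 * M + 1) / 2 = M by omega, ← pow_two, ← hφ]
        exact fh_root_odd hu (by omega)
      have hcos1 : Real.cos φ ≤ 1 := Real.cos_le_one φ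
      have hcos2 : -1 < Real.cos φ := by
        have := Real.cos_lt_cos_of_nonneg_of_le_pi hφ0.le le_rfl hφπ
        rwa [Real.cos_pi] at this
      have hκ2 : 2 * (u : ℝ) * Real.cos φ + ((u : ℝ) + u) ≠ 0 := by
        have : -(2 * (u : ℝ)) < 2 * (u : ℝ) * Real.cos φ := by nlinarith
        intro h; linarith
      have hκ : (2 * (u : ℝ) * Real.cos φ - ((u : ℝ) * u + 1)) *
          (2 * (u : ℝ) * Real.cos φ + ((u : ℝ) + u)) ≠ 0 := by
        apply mul_ne_zero _ hκ2
        have : 2 * (u : ℝ) * Real.cos φ ≤ 2 * u := by nlinarith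
        intro h; nlinarith
      obtain ⟨μ, hμ1, h1⟩ := hZ2 _ (hZ1 _ hb) hκ
      obtain ⟨q, hq⟩ := fh_odd_rat D.hu (N := Fintype.card X) Fintype.card_pos
        (t := μ * (2 * M + 1)) (Nat.mul_pos (by omega) (by omega)) hκ2
        (by push_cast; push_cast at h1; linear_combination h1)
      have hcos : ∃ q' : ℚ, Real.cos (2 * Real.pi / ((2 * M + 1 : ℕ) : ℝ)) = q' := by
        refine ⟨q / (2 * u), ?_⟩
        rw [hφ]
        push_cast
        rw [← hq]
        field_simp
      rcases fh_niven (by omega : 2 ≤ 2 * M + 1) hcos with h | h | h | h <;> omega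

end FHData

end Cfsg.Agent.Lib.helper24
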