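import Cfsg.Agent.Lib.helper8.BNPairExchange
import Cfsg.Agent.Lib.helper24.FHMain
import Cfsg.Agent.Lib.helper24.FHDih

set_option autoImplicit false
set_option linter.unusedSectionVars false
set_option linter.unusedVariables false
set_option linter.unusedSimpArgs false

/-! Feit–Higman: the relation matrices of a (B,N)-pair on the cosets of `B` (helper24). -/

namespace Cfsg.Agent.Lib.helper24

open Cfsg.Agent.Lib.helper8
open Classical

section RelM

variable {G : Type*} [Group G] (P : Cfsg.BNPair G) [Fintype (G ⧸ P.B)] [DecidableEq (G ⧸ P.B)]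

/-- The relation matrix of the double coset `B n B` on the cosets of `B`. -/
noncomputable def relM (n : G) : Matrix (G ⧸ P.B) (G ⧸ P.B) ℝ :=
  fun x y => if x.out⁻¹ * y.out ∈ dc P n then 1 else 0

theorem dc_conj_iff {g n b₁ b₂ : G} (h1 : b₁ ∈ P.B) (h2 : b₂ ∈ P.B) :
    b₁ * g * b₂ ∈ dc P n ↔ g ∈ dc P n := by
  constructor
  · intro h
    have h3 := dc_mul_right P (dc_mul_left P h (P.B.inv_mem h1)) (P.B.inv_mem h2)
    have e : b₁⁻¹ * (b₁ * g * b₂) * b₂⁻¹ = g := by group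
    rwa [e] at h3
  · intro h
    exact dc_mul_right P (dc_mul_left P h h1) h2

theorem rel_out_iff (n g h : G) :
    (g : G ⧸ P.B).out⁻¹ * (h : G ⧸ P.B).out ∈ dc P n ↔ g⁻¹ * h ∈ dc P n := by
  obtain ⟨b₁, hb₁⟩ := QuotientGroup.mk_out_eq_mul P.B g
  obtain ⟨b₂, hb₂⟩ := QuotientGroup.mk_out_eq_mul P.B h
  rw [hb₁, hb₂]
  have e : (g * (b₁ : G))⁻¹ * (h * (b₂ : G)) = (b₁ : G)⁻¹ * (g⁻¹ * h) * (b₂ : G) := by group
  rw [e]
  exact dc_conj_iff P (P.B.inv_mem b₁.2) b₂.2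

theorem relM_mk (n g h : G) :
    relM P n (g : G ⧸ P.B) (h : G ⧸ P.B) = if g⁻¹ * h ∈ dc P n then 1 else 0 := by
  unfold relM
  by_cases hc : g⁻¹ * h ∈ dc P n
  · rw [if_pos hc, if_pos ((rel_out_iff P n g h).mpr hc)]
  · rw [if_neg hc, if_neg (fun h' => hc ((rel_out_iff P n g h).mp h'))]

theorem relM_01 (n : G) (x y : G ⧸ P.B) : relM P n x y = 0 ∨ relM P n x y = 1 := by
  unfold relM
  split_ifs <;> simp

theorem relM_disj {n n' : G} (h : dc P n ≠ dc P n') (x y : G ⧸ P.B) :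
    relM P n x y = 0 ∨ relM P n' x y = 0 := by
  unfold relM
  by_cases h1 : x.out⁻¹ * y.out ∈ dc P n
  · right
    rw [if_neg]
    intro h2
    exact h ((dc_eq_of_mem P h1).symm.trans (dc_eq_of_mem P h2))
  · left; rw [if_neg h1]

theorem relM_congr {n n' : G} (h : dc P n = dc P n') : relM P n = relM P n' := by
  unfold relM; rw [h]

theorem relM_one : relM P 1 = 1 := by
  ext x y
  obtain ⟨g, rfl⟩ := QuotientGroup.mk_surjective x
  obtain ⟨h, rfl⟩ := QuotientGroup.mk_surjective y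
  rw [relM_mk, Matrix.one_apply]
  have hiff : g⁻¹ * h ∈ dc P 1 ↔ (g : G ⧸ P.B) = h := by rw [mem_dc_one_iff, QuotientGroup.eq]
  by_cases hc : (g : G ⧸ P.B) = h
  · rw [if_pos (hiff.mpr hc), if_pos hc]
  · rw [if_neg (fun h' => hc (hiff.mp h')), if_neg hc]

theorem dc_S_inv {s g : G} (hs : s ∈ P.S) (h : g ∈ dc P s) : g⁻¹ ∈ dc P s := by
  have h1 := dc_inv P h
  rwa [dc_congr P (R_inv_S P hs)] at h1

theorem relM_transpose {s : G} (hs : s ∈ P.S) : (relM P s).transpose = relM P s := by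
  ext x y
  obtain ⟨g, rfl⟩ := QuotientGroup.mk_surjective x
  obtain ⟨h, rfl⟩ := QuotientGroup.mk_surjective y
  rw [Matrix.transpose_apply, relM_mk, relM_mk]
  have hiff : h⁻¹ * g ∈ dc P s ↔ g⁻¹ * h ∈ dc P s := by
    constructor
    · intro hh
      have h1 := dc_S_inv P hs hh
      have e : (h⁻¹ * g)⁻¹ = g⁻¹ * h := by group
      rwa [e] at h1
    · intro hh
      have h1 := dc_S_inv P hs hh
      have e : (g⁻¹ * h)⁻¹ = h⁻¹ * g := by group
      rwa [e] at h1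
  by_cases hc : g⁻¹ * h ∈ dc P s
  · rw [if_pos hc, if_pos (hiff.mpr hc)]
  · rw [if_neg hc, if_neg (fun h' => hc (hiff.mp h'))]

theorem dc_mul_of_Ps {s n a b : G} (hPs : Ps P s n) (ha : a ∈ dc P s) (hb : b ∈ dc P n) :
    a * b ∈ dc P (s * n) := by
  obtain ⟨c₁, hc₁, c₂, hc₂, rfl⟩ := (mem_dc_iff P).1 ha
  obtain ⟨d₁, hd₁, d₂, hd₂, rfl⟩ := (mem_dc_iff P).1 hb
  have h := hPs (c₂ * d₁) (P.B.mul_mem hc₂ hd₁)
  have e : c₁ * s * c₂ * (d₁ * n * d₂) = c₁ * (s * (c₂ * d₁) * n) * d₂ := by group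
  rw [e]
  exact dc_mul_right P (dc_mul_left P h hc₁) hd₂

theorem relM_mul {s n : G} (hs : s ∈ P.S) (hn : n ∈ P.N) (hPs : Ps P s n) :
    relM P s * relM P n = relM P (s * n) := by
  ext x y
  obtain ⟨g, rfl⟩ := QuotientGroup.mk_surjective x
  obtain ⟨h, rfl⟩ := QuotientGroup.mk_surjective y
  rw [Matrix.mul_apply, relM_mk]
  by_cases hgh : g⁻¹ * h ∈ dc P (s * n)
  · rw [if_pos hgh]
    obtain ⟨b₁, hb₁, b₂, hb₂, e⟩ := (mem_dc_iff P).1 hgh
    have hz1 : g⁻¹ * (g * b₁ * s) ∈ dc P s := by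
      have e1 : g⁻¹ * (g * b₁ * s) = b₁ * s * 1 := by group
      rw [e1]; exact (mem_dc_iff P).2 ⟨b₁, hb₁, 1, P.B.one_mem, rfl⟩
    have hz2 : (g * b₁ * s)⁻¹ * h ∈ dc P n := by
      have e2 : (g * b₁ * s)⁻¹ * h = s⁻¹ * b₁⁻¹ * (g⁻¹ * h) := by group
      rw [e2, e]
      have e3 : s⁻¹ * b₁⁻¹ * (b₁ * (s * n) * b₂) = 1 * n * b₂ := by group
      rw [e3]; exact (mem_dc_iff P).2 ⟨1, P.B.one_mem, b₂, hb₂, rfl⟩
    rw [Finset.sum_eq_single ((g * b₁ * s : G) : G ⧸ P.B)]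
    · rw [relM_mk, relM_mk, if_pos hz1, if_pos hz2, mul_one]
    · intro z _ hz
      obtain ⟨k, rfl⟩ := QuotientGroup.mk_surjective z
      rw [relM_mk, relM_mk]
      by_cases h1 : g⁻¹ * k ∈ dc P s
      · by_cases h2 : k⁻¹ * h ∈ dc P n
        · exfalso
          have hw : (g * b₁ * s)⁻¹ * k ∈ dc P (s * s) ∨ (g * b₁ * s)⁻¹ * k ∈ dc P s := by
            have e4 : (g * b₁ * s)⁻¹ * k = s⁻¹ * (b₁⁻¹ * (g⁻¹ * k)) := by group
            rw [e4]
            exact sinv_mul_dc P hs (P.subset hs) (dc_mul_left P h1 (P.B.inv_mem hb₁))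
          rcases hw with hw | hw
          · rw [dc_congr P (R_sq P hs), mem_dc_one_iff] at hw
            apply hz
            rw [QuotientGroup.eq]
            have e6 : k⁻¹ * (g * b₁ * s) = ((g * b₁ * s)⁻¹ * k)⁻¹ := by group
            rw [e6]; exact P.B.inv_mem hw
          · have hw' := dc_S_inv P hs hw
            have h3 : ((g * b₁ * s)⁻¹ * k)⁻¹ * ((g * b₁ * s)⁻¹ * h) ∈ dc P (s * n) :=
              dc_mul_of_Ps P hPs hw' hz2
            have e5 : ((g * b₁ * s)⁻¹ * k)⁻¹ * ((g * b₁ * s)⁻¹ * h) = k⁻¹ * h := by group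
            rw [e5] at h3
            have h4 : dc P (s * n) = dc P n := (dc_eq_of_mem P h3).symm.trans (dc_eq_of_mem P h2)
            have h5 : s * n ∈ dc P n := by rw [← h4]; exact mem_dc_self P _
            exact not_R_S_mul P hs hn (bruhat_unique P (P.N.mul_mem (P.subset hs) hn) hn h5)
        · rw [if_neg h2, mul_zero]
      · rw [if_neg h1, zero_mul]
    · intro h'; exact absurd (Finset.mem_univ _) h'
  · rw [if_neg hgh]
    apply Finset.sum_eq_zero
    intro z _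
    obtain ⟨k, rfl⟩ := QuotientGroup.mk_surjective z
    rw [relM_mk, relM_mk]
    by_cases h1 : g⁻¹ * k ∈ dc P s
    · by_cases h2 : k⁻¹ * h ∈ dc P n
      · exfalso; apply hgh
        have h3 := dc_mul_of_Ps P hPs h1 h2
        have e : g⁻¹ * k * (k⁻¹ * h) = g⁻¹ * h := by group
        rwa [e] at h3
      · rw [if_neg h2, mul_zero]
    · rw [if_neg h1, zero_mul]

theorem relM_smul (n a : G) (x y : G ⧸ P.B) : relM P n (a • x) (a • y) = relM P n x y := by
  obtain ⟨g, rfl⟩ := QuotientGroup.mk_surjective x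
  obtain ⟨h, rfl⟩ := QuotientGroup.mk_surjective y
  have e1 : a • (g : G ⧸ P.B) = ((a * g : G) : G ⧸ P.B) := rfl
  have e2 : a • (h : G ⧸ P.B) = ((a * h : G) : G ⧸ P.B) := rfl
  rw [e1, e2, relM_mk, relM_mk]
  have e : (a * g)⁻¹ * (a * h) = g⁻¹ * h := by group
  rw [e]

theorem relM_rowsum_const (n : G) (x x' : G ⧸ P.B) :
    ∑ z, relM P n x z = ∑ z, relM P n x' z := by
  obtain ⟨g, rfl⟩ := QuotientGroup.mk_surjective x
  obtain ⟨g', rfl⟩ := QuotientGroup.mk_surjective x'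
  have e : ((g' : G) : G ⧸ P.B) = (g' * g⁻¹) • (g : G ⧸ P.B) := by
    have e1 : (g' * g⁻¹) • (g : G ⧸ P.B) = ((g' * g⁻¹ * g : G) : G ⧸ P.B) := rfl
    rw [e1]; congr 1; group
  rw [e, ← (MulAction.bijective (g' * g⁻¹)).sum_comp
    (fun z => relM P n ((g' * g⁻¹) • (g : G ⧸ P.B)) z)]
  simp only [relM_smul]

/-- The number of cosets of `B` in `B n B`. -/
noncomputable def fhQ (n : G) : ℕ :=
  (Finset.univ.filter
    (fun z : G ⧸ P.B => (((1 : G) : G ⧸ P.B)).out⁻¹ * z.out ∈ dc P n)).card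

theorem relM_rowsum (n : G) (x : G ⧸ P.B) : ∑ z, relM P n x z = (fhQ P n : ℝ) := by
  rw [relM_rowsum_const P n x ((1 : G) : G ⧸ P.B)]
  unfold relM fhQ
  rw [Finset.sum_boole]

theorem fhQ_ge_two {s : G} (hs : s ∈ P.S) : 2 ≤ fhQ P s := by
  obtain ⟨b, hb, hsbs⟩ := exists_sbs_not_mem P hs
  unfold fhQ
  apply Finset.one_lt_card.mpr
  refine ⟨((s : G) : G ⧸ P.B), ?_, ((b * s : G) : G ⧸ P.B), ?_, ?_⟩
  · rw [Finset.mem_filter]
    refine ⟨Finset.mem_univ _, ?_⟩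
    rw [rel_out_iff]
    have e : (1 : G)⁻¹ * s = s := by group
    rw [e]; exact mem_dc_self P s
  · rw [Finset.mem_filter]
    refine ⟨Finset.mem_univ _, ?_⟩
    rw [rel_out_iff]
    have e : (1 : G)⁻¹ * (b * s) = b * s * 1 := by group
    rw [e]; exact (mem_dc_iff P).2 ⟨b, hb, 1, P.B.one_mem, rfl⟩
  · intro h
    rw [QuotientGroup.eq] at h
    apply hsbs
    have e : s * b * s = (s * s) * (s⁻¹ * (b * s)) := by group
    rw [e]; exact P.B.mul_mem (P.sq_mem s hs) h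

/-- Membership in the rank one parabolic `B ∪ B s B`. -/
def inPs (s g : G) : Prop := g ∈ P.B ∨ g ∈ dc P s

theorem inPs_mul {s : G} (hs : s ∈ P.S) {a b : G} (ha : inPs P s a) (hb : inPs P s b) :
    inPs P s (a * b) := by
  rcases ha with ha | ha <;> rcases hb with hb | hb
  · left; exact P.B.mul_mem ha hb
  · right; exact dc_mul_left P hb ha
  · right; exact dc_mul_right P ha hb
  · obtain ⟨c₁, hc₁, c₂, hc₂, rfl⟩ := (mem_dc_iff P).1 ha
    obtain ⟨d₁, hd₁, d₂, hd₂, rfl⟩ := (mem_dc_iff P).1 hb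
    have h := P.mul_mem_union s hs s (P.subset hs) (c₂ * d₁) (P.B.mul_mem hc₂ hd₁)
    have e : c₁ * s * c₂ * (d₁ * s * d₂) = c₁ * (s * (c₂ * d₁) * s) * d₂ := by group
    rw [e]
    rcases h with h | h
    · left
      have h' : s * (c₂ * d₁) * s ∈ dc P (s * s) := h
      rw [dc_congr P (R_sq P hs), mem_dc_one_iff] at h'
      exact P.B.mul_mem (P.B.mul_mem hc₁ h') hd₂
    · right; exact dc_mul_right P (dc_mul_left P h hc₁) hd₂

theorem inPs_inv {s : G} (hs : s ∈ P.S) {a : G} (ha : inPs P s a) : inPs P s a⁻¹ := by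
  rcases ha with ha | ha
  · left; exact P.B.inv_mem ha
  · right; exact dc_S_inv P hs ha

theorem not_B_of_dc {s g : G} (hs : s ∈ P.S) (h : g ∈ dc P s) : g ∉ P.B := by
  intro hB
  have h1 : s ∈ dc P g := mem_dc_symm P h
  exact S_not_mem_B P hs ((mem_dc_of_mem_B P hB).1 h1)

theorem relE_mk {s : G} (hs : s ∈ P.S) (g h : G) :
    (relM P s + 1) (g : G ⧸ P.B) (h : G ⧸ P.B) = if inPs P s (g⁻¹ * h) then 1 else 0 := by
  rw [Matrix.add_apply, relM_mk, Matrix.one_apply]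
  by_cases h1 : g⁻¹ * h ∈ dc P s
  · have h2 : ¬ ((g : G ⧸ P.B) = h) := by
      rw [QuotientGroup.eq]; exact not_B_of_dc P hs h1
    rw [if_pos h1, if_neg h2, if_pos (show inPs P s (g⁻¹ * h) from Or.inr h1), add_zero]
  · by_cases h2 : (g : G ⧸ P.B) = h
    · rw [if_neg h1, if_pos h2,
        if_pos (show inPs P s (g⁻¹ * h) from Or.inl (QuotientGroup.eq.mp h2)), zero_add]
    · rw [if_neg h1, if_neg h2, if_neg, add_zero]
      rintro (h3 | h3)
      · exact h2 (QuotientGroup.eq.mpr h3)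
      · exact h1 h3

theorem relE_rowsum (s : G) (x : G ⧸ P.B) :
    ∑ z, (relM P s + 1) x z = (fhQ P s : ℝ) + 1 := by
  simp only [Matrix.add_apply, Finset.sum_add_distrib, relM_rowsum, Matrix.one_apply,
    Finset.sum_ite_eq, Finset.mem_univ, if_true]

theorem relE_sq {s : G} (hs : s ∈ P.S) :
    (relM P s + 1) * (relM P s + 1) = ((fhQ P s : ℝ) + 1) • (relM P s + 1) := by
  ext x y
  obtain ⟨g, rfl⟩ := QuotientGroup.mk_surjective x
  obtain ⟨h, rfl⟩ := QuotientGroup.mk_surjective y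
  rw [Matrix.mul_apply, Matrix.smul_apply, smul_eq_mul, relE_mk P hs g h]
  by_cases hgh : inPs P s (g⁻¹ * h)
  · rw [if_pos hgh, mul_one, ← relE_rowsum P s (g : G ⧸ P.B)]
    refine Finset.sum_congr rfl (fun z _ => ?_)
    obtain ⟨k, rfl⟩ := QuotientGroup.mk_surjective z
    rw [relE_mk P hs g k, relE_mk P hs k h]
    by_cases h1 : inPs P s (g⁻¹ * k)
    · have h2 : inPs P s (k⁻¹ * h) := by
        have h3 := inPs_mul P hs (inPs_inv P hs h1) hgh
        have e : (g⁻¹ * k)⁻¹ * (g⁻¹ * h) = k⁻¹ * h := by group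
        rwa [e] at h3
      rw [if_pos h1, if_pos h2, mul_one]
    · rw [if_neg h1, zero_mul]
  · rw [if_neg hgh, mul_zero]
    apply Finset.sum_eq_zero
    intro z _
    obtain ⟨k, rfl⟩ := QuotientGroup.mk_surjective z
    rw [relE_mk P hs g k, relE_mk P hs k h]
    by_cases h1 : inPs P s (g⁻¹ * k)
    · by_cases h2 : inPs P s (k⁻¹ * h)
      · exfalso; apply hgh
        have h3 := inPs_mul P hs h1 h2
        have e : g⁻¹ * k * (k⁻¹ * h) = g⁻¹ * h := by group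
        rwa [e] at h3
      · rw [if_neg h2, mul_zero]
    · rw [if_neg h1, zero_mul]

theorem relM_sq {s : G} (hs : s ∈ P.S) :
    relM P s * relM P s = ((fhQ P s : ℝ) - 1) • relM P s + (fhQ P s : ℝ) • (1 : Matrix (G ⧸ P.B) (G ⧸ P.B) ℝ) := by
  have h := relE_sq P hs
  have e : (relM P s + 1) * (relM P s + 1) = relM P s * relM P s + (2 : ℝ) • relM P s + 1 := by
    rw [add_mul, mul_add, mul_add, mul_one, one_mul, one_mul, two_smul]; abel
  rw [e] at h
  have h2 : relM P s * relM P s = ((fhQ P s : ℝ) + 1) • (relM P s + 1) - (2 : ℝ) • relM P s - 1 := by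
    rw [← h]; abel
  rw [h2]
  simp only [smul_add, add_smul, sub_smul, one_smul, two_smul]
  abel

end RelM

end Cfsg.Agent.Lib.helper24
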