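import Cfsg.Agent.Lib.helper24.FHBN1

set_option autoImplicit false
set_option linter.unusedSectionVars false
set_option linter.unusedVariables false
set_option linter.unusedSimpArgs false

/-! Feit–Higman for (B,N)-pairs of rank 2 (helper24). -/

namespace Cfsg.Agent.Lib.helper24

open Cfsg.Agent.Lib.helper8
open Classical

section Data

variable {G : Type*} [Group G] (P : Cfsg.BNPair G)

theorem altW_mem_N {a b : G} (ha : a ∈ P.N) (hb : b ∈ P.N) (k : ℕ) :
    altW k a b ∈ P.N ∧ altW k b a ∈ P.N := by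
  induction k with
  | zero => exact ⟨P.N.one_mem, P.N.one_mem⟩
  | succ k ih => exact ⟨P.N.mul_mem ha ih.2, P.N.mul_mem hb ih.1⟩

theorem fh_words [Fintype (G ⧸ P.B)] [DecidableEq (G ⧸ P.B)] {s t : G} (hs : s ∈ P.S)
    (ht : t ∈ P.S) {m : ℕ}
    (hlen1 : ∀ k, k ≤ m → len P (altW k s t) = k) (hlen2 : ∀ k, k ≤ m → len P (altW k t s) = k) :
    ∀ k, k ≤ m → altM k (relM P s) (relM P t) = relM P (altW k s t) ∧
      altM k (relM P t) (relM P s) = relM P (altW k t s) := by
  intro k
  induction k with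
  | zero => intro _; exact ⟨(relM_one P).symm, (relM_one P).symm⟩
  | succ k ih =>
    intro hk
    obtain ⟨ih1, ih2⟩ := ih (by omega)
    have hN1 := altW_mem_N P (P.subset hs) (P.subset ht) k
    constructor
    · rw [altM_succ, ih2, altW_succ]
      apply relM_mul P hs hN1.2
      rw [Ps_iff P hs hN1.2]
      have h1 := hlen2 k (by omega)
      have h2 := hlen1 (k + 1) hk
      rw [altW_succ] at h2
      omega
    · rw [altM_succ, ih1, altW_succ]
      apply relM_mul P ht hN1.1
      rw [Ps_iff P ht hN1.1]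
      have h1 := hlen1 k (by omega)
      have h2 := hlen2 (k + 1) hk
      rw [altW_succ] at h2
      omega

theorem fh_data [Fintype (G ⧸ P.B)] [DecidableEq (G ⧸ P.B)] {s t : G} (hs : s ∈ P.S)
    (ht : t ∈ P.S) {m : ℕ} (hm : 2 ≤ m)
    (hlen1 : ∀ k, k ≤ m → len P (altW k s t) = k) (hlen2 : ∀ k, k ≤ m → len P (altW k t s) = k)
    (hne : ∀ k, 1 ≤ k → k < m → ¬ R P (altW k s t) (altW k t s))
    (hbraid : R P (altW m s t) (altW m t s)) :
    FHData (G ⧸ P.B) m (fhQ P s) (fhQ P t) (relM P s) (relM P t) := by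
  have hw := fh_words P hs ht hlen1 hlen2
  have hN := altW_mem_N P (P.subset hs) (P.subset ht)
  have hdc1 : ∀ k l, k < l → l ≤ m → dc P (altW k s t) ≠ dc P (altW l s t) := by
    intro k l hkl hl h
    have hR : R P (altW k s t) (altW l s t) :=
      bruhat_unique P (hN k).1 (hN l).1 (by rw [← h]; exact mem_dc_self P _)
    have h3 := len_congr P hR
    rw [hlen1 k (by omega), hlen1 l hl] at h3
    omega
  have hdc2 : ∀ k l, k < l → l ≤ m → dc P (altW k t s) ≠ dc P (altW l t s) := by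
    intro k l hkl hl h
    have hR : R P (altW k t s) (altW l t s) :=
      bruhat_unique P (hN k).2 (hN l).2 (by rw [← h]; exact mem_dc_self P _)
    have h3 := len_congr P hR
    rw [hlen2 k (by omega), hlen2 l hl] at h3
    omega
  have hdc3 : ∀ k l, 1 ≤ k → k ≤ m → 1 ≤ l → l ≤ m → (k < m ∨ l < m) →
      dc P (altW k s t) ≠ dc P (altW l t s) := by
    intro k l hk1 hk hl1 hl hlt h
    have hR : R P (altW k s t) (altW l t s) :=
      bruhat_unique P (hN k).1 (hN l).2 (by rw [← h]; exact mem_dc_self P _)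
    have hkl := len_congr P hR
    rw [hlen1 k hk, hlen2 l hl] at hkl
    subst hkl
    exact hne k hk1 (by omega) hR
  refine ⟨hm, fhQ_ge_two P hs, fhQ_ge_two P ht, relM_transpose P hs, relM_transpose P ht,
    relM_sq P hs, relM_sq P ht, relM_rowsum P s, relM_rowsum P t, ?_, ?_, ?_, ?_, ?_, ?_⟩
  · intro k hk x y
    rw [(hw k hk).1]; exact relM_01 P _ x y
  · intro k hk x y
    rw [(hw k hk).2]; exact relM_01 P _ x y
  · intro k l hkl hl x y
    rw [(hw k (by omega)).1, (hw l hl).1]; exact relM_disj P (hdc1 k l hkl hl) x y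
  · intro k l hkl hl x y
    rw [(hw k (by omega)).2, (hw l hl).2]; exact relM_disj P (hdc2 k l hkl hl) x y
  · intro k l hk1 hk hl1 hl hlt x y
    rw [(hw k hk).1, (hw l hl).2]; exact relM_disj P (hdc3 k l hk1 hk hl1 hl hlt) x y
  · rw [(hw m le_rfl).1, (hw m le_rfl).2]; exact relM_congr P (dc_congr P hbraid)

end Data

section Weyl

variable {G : Type*} [Group G] (P : Cfsg.BNPair G)

theorem bnH_normal : ((P.B ⊓ P.N).subgroupOf P.N).Normal := by
  constructor
  intro n hn g
  rw [Subgroup.mem_subgroupOf] at hn ⊢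
  exact ⟨P.conj_mem g g.2 n hn, (g * n * g⁻¹).2⟩

theorem fh_nf_step {a b : G} (ha : a ∈ P.S) (hb : b ∈ P.S) {n : G} {j : ℕ}
    (h : R P n (altW j a b) ∨ R P n (altW j b a)) :
    ∃ j', j' ≤ j + 1 ∧ (R P (a * n) (altW j' a b) ∨ R P (a * n) (altW j' b a)) := by
  have hN := altW_mem_N P (P.subset ha) (P.subset hb)
  rcases h with h | h
  · have h1 := h.mul_left P (P.subset ha)
    rcases j with _ | j
    · exact ⟨1, by omega, Or.inl h1⟩
    · refine ⟨j, by omega, Or.inr ?_⟩
      exact h1.trans P (R_ss_mul P ha (hN j).2)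
  · exact ⟨j + 1, le_rfl, Or.inl (h.mul_left P (P.subset ha))⟩

theorem fh_nf {s t : G} (hs : s ∈ P.S) (ht : t ∈ P.S) (hS : P.S = {s, t}) :
    ∀ L : List G, (∀ x ∈ L, x ∈ P.S) →
      ∃ j, j ≤ L.length ∧ (R P L.prod (altW j s t) ∨ R P L.prod (altW j t s)) := by
  intro L
  induction L with
  | nil =>
    intro _
    refine ⟨0, le_rfl, Or.inl ?_⟩
    rw [List.prod_nil, altW_zero]
    exact R.refl P P.N.one_mem
  | cons x L ih =>
    intro hL
    obtain ⟨j, hj, h⟩ := ih (fun y hy => hL y (List.mem_cons_of_mem _ hy))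
    have hx : x ∈ P.S := hL x (by simp)
    rw [List.prod_cons, List.length_cons]
    rw [hS] at hx
    rcases hx with hx | hx
    · subst hx
      obtain ⟨j', hj', h'⟩ := fh_nf_step P hs ht h
      exact ⟨j', by omega, h'⟩
    · rw [Set.mem_singleton_iff] at hx
      subst hx
      obtain ⟨j', hj', h'⟩ := fh_nf_step P ht hs h.symm
      exact ⟨j', by omega, h'.symm⟩

theorem fh_len_le {a b : G} (ha : a ∈ P.S) (hb : b ∈ P.S) (k : ℕ) :
    len P (altW k a b) ≤ k ∧ len P (altW k b a) ≤ k := by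
  have hN := altW_mem_N P (P.subset ha) (P.subset hb)
  induction k with
  | zero =>
    have h0 : len P (1 : G) = 0 := (len_eq_zero_iff P P.N.one_mem).2 P.B.one_mem
    exact ⟨by rw [altW_zero, h0], by rw [altW_zero, h0]⟩
  | succ k ih =>
    constructor
    · have h1 := len_S_mul_le P ha (hN k).2
      rw [altW_succ]; omega
    · have h1 := len_S_mul_le P hb (hN k).1
      rw [altW_succ]; omega

theorem bn_words [Finite G] {s t : G} (hst : s ≠ t) (hS : P.S = {s, t}) :
    ∃ m : ℕ, 2 ≤ m ∧ ((P.B ⊓ P.N).subgroupOf P.N).index = 2 * m ∧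
      (∀ k, k ≤ m → len P (altW k s t) = k) ∧ (∀ k, k ≤ m → len P (altW k t s) = k) ∧
      (∀ k, 1 ≤ k → k < m → ¬ R P (altW k s t) (altW k t s)) ∧
      R P (altW m s t) (altW m t s) := by
  have hs : s ∈ P.S := by rw [hS]; simp
  have ht : t ∈ P.S := by rw [hS]; simp
  haveI hnorm : ((P.B ⊓ P.N).subgroupOf P.N).Normal := bnH_normal P
  let π : P.N →* (P.N ⧸ (P.B ⊓ P.N).subgroupOf P.N) := QuotientGroup.mk' _
  have hπ : ∀ a b : P.N, π a = π b ↔ R P (a : G) (b : G) := by
    intro a b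
    show (QuotientGroup.mk a : P.N ⧸ (P.B ⊓ P.N).subgroupOf P.N) = QuotientGroup.mk b ↔ _
    rw [QuotientGroup.eq, Subgroup.mem_subgroupOf]
    constructor
    · intro h; exact ⟨a.2, b.2, h.1⟩
    · intro h; exact ⟨h.2.2, (a⁻¹ * b).2⟩
  have hword : ∀ (k : ℕ) (a b : P.N), ((altW k a b : P.N) : G) = altW k (a : G) (b : G) :=
    fun k a b => map_altW P.N.subtype k a b
  have hπw : ∀ (k : ℕ) (a b : P.N), π (altW k a b) = altW k (π a) (π b) :=
    fun k a b => map_altW π k a b
  obtain ⟨s', hs'⟩ : ∃ s' : P.N, (s' : G) = s := ⟨⟨s, P.subset hs⟩, rfl⟩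
  obtain ⟨t', ht'⟩ : ∃ t' : P.N, (t' : G) = t := ⟨⟨t, P.subset ht⟩, rfl⟩
  have hRw : ∀ k l, R P (altW k s t) (altW l t s) ↔ altW k (π s') (π t') = altW l (π t') (π s') := by
    intro k l
    rw [← hπw, ← hπw, hπ, hword, hword, hs', ht']
  have hRw1 : ∀ k l, R P (altW k s t) (altW l s t) ↔ altW k (π s') (π t') = altW l (π s') (π t') := by
    intro k l
    rw [← hπw, ← hπw, hπ, hword, hword, hs', ht']
  have hRw2 : ∀ k l, R P (altW k t s) (altW l t s) ↔ altW k (π t') (π s') = altW l (π t') (π s') := by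
    intro k l
    rw [← hπw, ← hπw, hπ, hword, hword, hs', ht']
  have hσ2 : π s' * π s' = 1 := by
    rw [← map_mul, ← map_one π, hπ]
    have := R_sq P hs
    rw [← hs'] at this
    exact this
  have hτ2 : π t' * π t' = 1 := by
    rw [← map_mul, ← map_one π, hπ]
    have := R_sq P ht
    rw [← ht'] at this
    exact this
  have hσ1 : π s' ≠ 1 := by
    intro h
    rw [← map_one π, hπ] at h
    apply S_not_mem_B P hs
    have := ((R_one_iff P).1 h).2
    rwa [hs'] at this
  have hτ1 : π t' ≠ 1 := by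
    intro h
    rw [← map_one π, hπ] at h
    apply S_not_mem_B P ht
    have := ((R_one_iff P).1 h).2
    rwa [ht'] at this
  have hστ : π s' ≠ π t' := by
    intro h
    rw [hπ, hs', ht'] at h
    exact hst (P.inj s hs t ht h.2.2)
  have hlist : ∀ L : List G, (∀ x ∈ L, x ∈ P.S) → ∀ hLN : L.prod ∈ P.N,
      π ⟨L.prod, hLN⟩ ∈ Subgroup.closure {π s', π t'} := by
    intro L
    induction L with
    | nil =>
      intro _ hLN
      have e : (⟨([] : List G).prod, hLN⟩ : P.N) = 1 := Subtype.ext (by simp)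
      rw [e, map_one]; exact Subgroup.one_mem _
    | cons x L ih =>
      intro hL hLN
      have hx : x ∈ P.S := hL x (by simp)
      have hL' : ∀ y ∈ L, y ∈ P.S := fun y hy => hL y (List.mem_cons_of_mem _ hy)
      have hLN' : L.prod ∈ P.N := word_prod_mem_N P (le_refl _) hL'
      have e : (⟨(x :: L).prod, hLN⟩ : P.N) = ⟨x, P.subset hx⟩ * ⟨L.prod, hLN'⟩ :=
        Subtype.ext (by simp [List.prod_cons])
      rw [e, map_mul]
      refine Subgroup.mul_mem _ ?_ (ih hL' hLN')
      apply Subgroup.subset_closure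
      rw [hS] at hx
      rcases hx with hx | hx
      · left
        have e2 : (⟨x, P.subset (by rw [hS]; exact Or.inl hx)⟩ : P.N) = s' :=
          Subtype.ext (by rw [hs']; exact hx)
        exact congrArg π e2
      · right
        rw [Set.mem_singleton_iff] at hx
        have e2 : (⟨x, P.subset (by rw [hS]; exact Or.inr hx)⟩ : P.N) = t' :=
          Subtype.ext (by rw [ht']; exact hx)
        exact congrArg π e2
  have hgen : Subgroup.closure {π s', π t'} = ⊤ := by
    rw [eq_top_iff]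
    intro w _
    obtain ⟨n, rfl⟩ := QuotientGroup.mk_surjective w
    obtain ⟨L, hL, hR⟩ := exists_word P n.2
    have hLN : L.prod ∈ P.N := word_prod_mem_N P (le_refl _) hL
    have e : (QuotientGroup.mk n : P.N ⧸ (P.B ⊓ P.N).subgroupOf P.N) = π ⟨L.prod, hLN⟩ := by
      show π n = π ⟨L.prod, hLN⟩
      rw [hπ]; exact hR.symm P
    rw [e]
    exact hlist L hL hLN
  have hm2 : 2 ≤ orderOf (π s' * π t') := fh_dih_order hτ2 hστ
  have hnm : π s' ∉ Subgroup.zpowers (π s' * π t') := fh_dih_not_mem hσ2 hτ2 hσ1 hτ1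
  have hcard : Nat.card (P.N ⧸ (P.B ⊓ P.N).subgroupOf P.N) = 2 * orderOf (π s' * π t') :=
    fh_dih_card hσ2 hτ2 hσ1 hτ1 hgen
  have hN := altW_mem_N P (P.subset hs) (P.subset ht)
  refine ⟨orderOf (π s' * π t'), hm2, ?_, ?_, ?_, ?_, ?_⟩
  · rw [Subgroup.index_eq_card]; exact hcard
  · intro k hk
    apply le_antisymm (fh_len_le P hs ht k).1
    by_contra hlt
    rw [not_le] at hlt
    obtain ⟨L, hL, hR, hlen⟩ := exists_reduced P (hN k).1
    obtain ⟨j, hj, h⟩ := fh_nf P hs ht hS L hL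
    rcases h with h | h
    · have h1 : R P (altW j s t) (altW k s t) := (h.symm P).trans P hR
      rw [hRw1] at h1
      exact fh_dih_ne1 hnm (by omega : j < k) hk h1
    · have h1 : R P (altW k s t) (altW j t s) := (hR.symm P).trans P h
      rw [hRw] at h1
      rcases Nat.eq_zero_or_pos j with h0 | h0
      · subst h0
        exact fh_dih_ne1 hnm (by omega : 0 < k) hk h1.symm
      · have h3 := fh_dih_ne3 hσ2 hτ2 hnm (by omega) hk h0 (by omega) h1
        omega
  · intro k hk
    apply le_antisymm (fh_len_le P hs ht k).2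
    by_contra hlt
    rw [not_le] at hlt
    obtain ⟨L, hL, hR, hlen⟩ := exists_reduced P (hN k).2
    obtain ⟨j, hj, h⟩ := fh_nf P hs ht hS L hL
    rcases h with h | h
    · have h1 : R P (altW j s t) (altW k t s) := (h.symm P).trans P hR
      rw [hRw] at h1
      rcases Nat.eq_zero_or_pos j with h0 | h0
      · subst h0
        exact fh_dih_ne2 hσ2 hτ2 hnm (by omega : 0 < k) hk hm2 h1
      · have h3 := fh_dih_ne3 hσ2 hτ2 hnm h0 (by omega) (by omega) hk h1
        omega
    · have h1 : R P (altW j t s) (altW k t s) := (h.symm P).trans P hR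
      rw [hRw2] at h1
      exact fh_dih_ne2 hσ2 hτ2 hnm (by omega : j < k) hk hm2 h1
  · intro k hk1 hkm hR
    rw [hRw] at hR
    have h3 := fh_dih_ne3 hσ2 hτ2 hnm hk1 (by omega) hk1 (by omega) hR
    omega
  · rw [hRw]; exact fh_dih_braid hσ2 hτ2

/-- **Feit–Higman** for (B,N)-pairs of rank 2 in finite groups. -/
theorem fh_bn_rank_two [Finite G] (h2 : P.rank = 2) :
    ((P.B ⊓ P.N).subgroupOf P.N).index ∈ ({4, 6, 8, 12, 16} : Set ℕ) := by
  have hcard : P.S.ncard = 2 := by
    rw [← Nat.card_coe_set_eq]; exact h2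
  obtain ⟨s, t, hst, hS⟩ := Set.ncard_eq_two.mp hcard
  obtain ⟨m, hm2, hidx, hl1, hl2, hne, hbr⟩ := bn_words P hst hS
  haveI : Fintype (G ⧸ P.B) := Fintype.ofFinite _
  have hs : s ∈ P.S := by rw [hS]; simp
  have ht : t ∈ P.S := by rw [hS]; simp
  have D := fh_data P hs ht hm2 hl1 hl2 hne hbr
  haveI : Nonempty (G ⧸ P.B) := ⟨((1 : G) : G ⧸ P.B)⟩
  have hm := D.m_mem
  rw [hidx]
  rcases hm with rfl | rfl | rfl | rfl | rfl <;> simp

end Weyl

end Cfsg.Agent.Lib.helper24
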