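import Mathlib

set_option autoImplicit false
set_option linter.unusedSectionVars false
set_option linter.unusedVariables false
set_option linter.unusedSimpArgs false

/-! Feit–Higman, the Chebyshev-type sequences and the closed form of the Schur element sum (helper24). -/

namespace Cfsg.Agent.Lib.helper24

/-- `α₀ = 0, α₁ = 1, α_{k+2} = x α_{k+1} - c α_k`. -/
def fhAl (x c : ℝ) : ℕ → ℝ
  | 0 => 0
  | 1 => 1
  | (k + 2) => x * fhAl x c (k + 1) - c * fhAl x c k

@[simp] theorem fhAl_zero (x c : ℝ) : fhAl x c 0 = 0 := by rw [fhAl]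
@[simp] theorem fhAl_one (x c : ℝ) : fhAl x c 1 = 1 := by rw [fhAl]
theorem fhAl_add_two (x c : ℝ) (k : ℕ) : fhAl x c (k + 2) = x * fhAl x c (k + 1) - c * fhAl x c k := by
  rw [fhAl]
@[simp] theorem fhAl_two (x c : ℝ) : fhAl x c 2 = x := by
  rw [fhAl]; simp

/-- `τ_k = 2 α_{k+1} - x α_k`. -/
def fhTau (x c : ℝ) (k : ℕ) : ℝ := 2 * fhAl x c (k + 1) - x * fhAl x c k

/-- `ρ_k = (u-1) α_{k+1} + u (v-1) α_k`. -/
def fhRho (x c u v : ℝ) (k : ℕ) : ℝ := (u - 1) * fhAl x c (k + 1) + u * (v - 1) * fhAl x c k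

theorem fhTau_zero (x c : ℝ) : fhTau x c 0 = 2 := by simp [fhTau]
theorem fhTau_one (x c : ℝ) : fhTau x c 1 = x := by
  simp [fhTau, fhAl_add_two]; ring
theorem fhTau_add_two (x c : ℝ) (k : ℕ) : fhTau x c (k + 2) = x * fhTau x c (k + 1) - c * fhTau x c k := by
  simp only [fhTau, fhAl_add_two]; ring
theorem fhRho_zero (x c u v : ℝ) : fhRho x c u v 0 = u - 1 := by simp [fhRho]
theorem fhRho_one (x c u v : ℝ) : fhRho x c u v 1 = x * (u - 1) + u * (v - 1) := by
  simp [fhRho, fhAl_add_two]; ring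
theorem fhRho_add_two (x c u v : ℝ) (k : ℕ) :
    fhRho x c u v (k + 2) = x * fhRho x c u v (k + 1) - c * fhRho x c u v k := by
  simp only [fhRho, fhAl_add_two]; ring

theorem fh_cassini (x c : ℝ) (k : ℕ) :
    fhAl x c (k + 1) ^ 2 - x * fhAl x c k * fhAl x c (k + 1) + c * fhAl x c k ^ 2 = c ^ k := by
  induction k with
  | zero => simp
  | succ k ih =>
    rw [fhAl_add_two, pow_succ]
    linear_combination c * ih

/-- Telescoping for sums weighted by `c⁻ʲ`. -/
theorem fh_sum_telescope {c : ℝ} (hc : c ≠ 0) (f g : ℕ → ℝ)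
    (h : ∀ j, g (j + 1) = c * g j + f (j + 1)) (J : ℕ) :
    ∑ j ∈ Finset.range (J + 1), f j / c ^ j = g J / c ^ J + (f 0 - g 0) := by
  induction J with
  | zero => simp
  | succ J ih =>
    rw [Finset.sum_range_succ, ih, h J, pow_succ]
    have hcJ : c ^ J ≠ 0 := pow_ne_zero _ hc
    field_simp
    ring

theorem fh_sum_tau {x c : ℝ} (hc : c ≠ 0) (J : ℕ) :
    ∑ j ∈ Finset.range (J + 1), fhTau x c j ^ 2 / c ^ j =
      2 * J + 3 + (fhAl x c (J + 1) ^ 2 - c * fhAl x c J ^ 2) / c ^ J := by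
  have key := fh_sum_telescope hc (fun j => fhTau x c j ^ 2)
    (fun J => (2 * (J : ℝ) + 3) * c ^ J + fhAl x c (J + 1) ^ 2 - c * fhAl x c J ^ 2) (by
      intro j
      have hcas := fh_cassini x c j
      simp only [fhTau, fhAl_add_two, pow_succ]
      push_cast
      linear_combination (-2 * c) * hcas) J
  rw [key]
  have hcJ : c ^ J ≠ 0 := pow_ne_zero _ hc
  simp only [zero_add, Nat.cast_zero, pow_zero, fhTau_zero, fhAl_zero, fhAl_one, fhAl_two]
  field_simp
  ring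

theorem fh_sum_al {x c : ℝ} (hc : c ≠ 0) (J : ℕ) :
    ∑ j ∈ Finset.range (J + 1), ((x ^ 2 - 4 * c) * fhAl x c j ^ 2) / c ^ j =
      -(2 * J + 1) + (fhAl x c (J + 1) ^ 2 - c * fhAl x c J ^ 2) / c ^ J := by
  have key := fh_sum_telescope hc (fun j => (x ^ 2 - 4 * c) * fhAl x c j ^ 2)
    (fun J => -(2 * (J : ℝ) + 1) * c ^ J + fhAl x c (J + 1) ^ 2 - c * fhAl x c J ^ 2) (by
      intro j
      have hcas := fh_cassini x c j
      simp only [fhAl_add_two, pow_succ]
      push_cast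
      linear_combination (2 * c) * hcas) J
  rw [key]
  have hcJ : c ^ J ≠ 0 := pow_ne_zero _ hc
  simp only [zero_add, Nat.cast_zero, pow_zero, fhAl_zero, fhAl_one, fhAl_two]
  field_simp
  ring

theorem fh_sum_al' {x c : ℝ} (hc : c ≠ 0) (J : ℕ) :
    ∑ j ∈ Finset.range (J + 1), ((x ^ 2 - 4 * c) * fhAl x c (j + 1) ^ 2) / c ^ j =
      -(2 * J + 3) * c + (fhAl x c (J + 2) ^ 2 - c * fhAl x c (J + 1) ^ 2) / c ^ J := by
  have key := fh_sum_telescope hc (fun j => (x ^ 2 - 4 * c) * fhAl x c (j + 1) ^ 2)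
    (fun J => -(2 * (J : ℝ) + 3) * c ^ (J + 1) + fhAl x c (J + 2) ^ 2 - c * fhAl x c (J + 1) ^ 2) (by
      intro j
      have hcas := fh_cassini x c (j + 1)
      simp only [fhAl_add_two, pow_succ] at hcas ⊢
      push_cast
      linear_combination (2 * c) * hcas) J
  rw [key]
  have hcJ : c ^ J ≠ 0 := pow_ne_zero _ hc
  simp only [zero_add, Nat.cast_zero, pow_zero, pow_one, fhAl_zero, fhAl_one, fhAl_two, fhAl_add_two, pow_succ]
  field_simp
  ring

theorem fh_sum_al_mix {x c : ℝ} (hc : c ≠ 0) (J : ℕ) :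
    ∑ j ∈ Finset.range (J + 1), ((x ^ 2 - 4 * c) * (fhAl x c j * fhAl x c (j + 1))) / c ^ j =
      -(x * (J + 1)) + fhAl x c (J + 1) * (fhAl x c (J + 2) - c * fhAl x c J) / c ^ J := by
  have key := fh_sum_telescope hc (fun j => (x ^ 2 - 4 * c) * (fhAl x c j * fhAl x c (j + 1)))
    (fun J => -(x * ((J : ℝ) + 1)) * c ^ J + fhAl x c (J + 1) * (fhAl x c (J + 2) - c * fhAl x c J)) (by
      intro j
      have hcas := fh_cassini x c j
      simp only [fhAl_add_two, pow_succ]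
      push_cast
      linear_combination (x * c) * hcas) J
  rw [key]
  have hcJ : c ^ J ≠ 0 := pow_ne_zero _ hc
  simp only [zero_add, Nat.cast_zero, pow_zero, fhAl_zero, fhAl_one, fhAl_two, fhAl_add_two]
  field_simp
  ring

/-! ### Boundary values when `α_m = 0` -/

theorem fh_al_pred_sq {x c : ℝ} {J : ℕ} (h0 : fhAl x c (J + 1) = 0) : c * fhAl x c J ^ 2 = c ^ J := by
  have h := fh_cassini x c J
  rw [h0] at h
  linear_combination h

theorem fh_al_succ_sq {x c : ℝ} {m : ℕ} (h0 : fhAl x c m = 0) : fhAl x c (m + 1) ^ 2 = c ^ m := by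
  have h := fh_cassini x c m
  rw [h0] at h
  linear_combination h

theorem fh_sum_tau_eval {x c : ℝ} (hc : c ≠ 0) {J : ℕ} (h0 : fhAl x c (J + 1) = 0) :
    ∑ j ∈ Finset.range (J + 1), fhTau x c j ^ 2 / c ^ j = 2 * (J + 1) := by
  rw [fh_sum_tau hc, h0]
  have h1 := fh_al_pred_sq h0
  have hcJ : c ^ J ≠ 0 := pow_ne_zero _ hc
  have h2 : ((0 : ℝ) ^ 2 - c * fhAl x c J ^ 2) / c ^ J = -1 := by
    rw [h1]; field_simp; ring
  rw [h2]; ring

theorem fh_sum_rho_eval {x u v : ℝ} (hu : u ≠ 0) (hv : v ≠ 0) {J : ℕ}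
    (h0 : fhAl x (u * v) (J + 1) = 0) :
    (x ^ 2 - 4 * (u * v)) * ∑ j ∈ Finset.range (J + 1), fhRho x (u * v) u v j ^ 2 / (u * (u * v) ^ j) =
      -(2 * (J + 1)) * ((u - 1) ^ 2 * v + u * (v - 1) ^ 2 + (u - 1) * (v - 1) * x) := by
  have hc : u * v ≠ 0 := mul_ne_zero hu hv
  have hcJ : (u * v) ^ J ≠ 0 := pow_ne_zero _ hc
  have e : ∀ j : ℕ, (x ^ 2 - 4 * (u * v)) * (fhRho x (u * v) u v j ^ 2 / (u * (u * v) ^ j)) =
      ((u - 1) ^ 2 / u) * (((x ^ 2 - 4 * (u * v)) * fhAl x (u * v) (j + 1) ^ 2) / (u * v) ^ j) +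
      (u * (v - 1) ^ 2) * (((x ^ 2 - 4 * (u * v)) * fhAl x (u * v) j ^ 2) / (u * v) ^ j) +
      (2 * (u - 1) * (v - 1)) *
        (((x ^ 2 - 4 * (u * v)) * (fhAl x (u * v) j * fhAl x (u * v) (j + 1))) / (u * v) ^ j) := by
    intro j
    have hcj : (u * v) ^ j ≠ 0 := pow_ne_zero _ hc
    unfold fhRho
    field_simp
    ring
  rw [Finset.mul_sum, Finset.sum_congr rfl (fun j _ => e j), Finset.sum_add_distrib,
    Finset.sum_add_distrib, ← Finset.mul_sum, ← Finset.mul_sum, ← Finset.mul_sum,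
    fh_sum_al' hc, fh_sum_al hc, fh_sum_al_mix hc, h0]
  have h1 := fh_al_pred_sq h0
  have h2 := fh_al_succ_sq h0
  have e1 : ((0 : ℝ) ^ 2 - u * v * fhAl x (u * v) J ^ 2) / (u * v) ^ J = -1 := by
    rw [h1]; field_simp; ring
  have e2 : (fhAl x (u * v) (J + 2) ^ 2 - u * v * (0 : ℝ) ^ 2) / (u * v) ^ J = u * v := by
    rw [h2, pow_succ]; field_simp; ring
  rw [e1, e2]
  field_simp
  ring

theorem fh_S_eval {x u v : ℝ} (hu : u ≠ 0) (hv : v ≠ 0) {J : ℕ} (h0 : fhAl x (u * v) (J + 1) = 0) :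
    (4 * (u * v) - x ^ 2) * (∑ j ∈ Finset.range (J + 1), fhTau x (u * v) j ^ 2 / (u * v) ^ j +
        ∑ j ∈ Finset.range (J + 1), fhRho x (u * v) u v j ^ 2 / (u * (u * v) ^ j)) =
      2 * (J + 1) * ((u + v + x) * (u * v + 1 - x)) := by
  have hc : u * v ≠ 0 := mul_ne_zero hu hv
  have h1 := fh_sum_tau_eval hc h0
  have h2 := fh_sum_rho_eval hu hv h0
  rw [mul_add, h1]
  linear_combination -h2

/-! ### Reflection -/

theorem fh_reflect_al {x c : ℝ} {m : ℕ} (h0 : fhAl x c m = 0) :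
    ∀ j i : ℕ, j + i = m → c ^ j * fhAl x c i = -(fhAl x c (m + 1)) * fhAl x c j := by
  intro j
  induction j using Nat.twoStepInduction with
  | zero =>
    intro i hi
    rw [zero_add] at hi
    rw [hi, h0]; simp
  | one =>
    intro i hi
    have hm : m = i + 1 := by omega
    rw [hm] at h0 ⊢
    rw [fhAl_add_two, h0]; simp
  | more j ih1 ih2 =>
    intro i hi
    have e1 := ih1 (i + 2) (by omega)
    have e2 := ih2 (i + 1) (by omega)
    rw [fhAl_add_two] at e1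
    rw [fhAl_add_two x c j]
    have p1 : c ^ (j + 2) = c ^ j * c * c := by ring
    have p2 : c ^ (j + 1) = c ^ j * c := by ring
    rw [p2] at e2
    rw [p1]
    linear_combination x * e2 - c * e1

theorem fh_reflect_tau {x c : ℝ} {m : ℕ} (h0 : fhAl x c m = 0) :
    ∀ j i : ℕ, j + i = m → c ^ j * fhTau x c i = fhAl x c (m + 1) * fhTau x c j := by
  intro j i hi
  rcases j with _ | j
  · rw [zero_add] at hi
    rw [hi, fhTau, h0, fhTau_zero]; ring
  · have e1 := fh_reflect_al h0 j (i + 1) (by omega)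
    have e2 := fh_reflect_al h0 (j + 1) i (by omega)
    unfold fhTau
    rw [fhAl_add_two x c j]
    have p2 : c ^ (j + 1) = c ^ j * c := by ring
    rw [p2] at e2 ⊢
    linear_combination (2 * c) * e1 - x * e2

theorem fh_reflect_rho {x u v : ℝ} {m : ℕ} (h0 : fhAl x (u * v) m = 0) :
    ∀ j i : ℕ, j + i + 1 = m →
      (u * v) ^ (j + 1) * fhRho x (u * v) u v i = -(fhAl x (u * v) (m + 1)) * u * fhRho x (u * v) v u j := by
  intro j i hi
  have e1 := fh_reflect_al h0 j (i + 1) (by omega)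
  have e2 := fh_reflect_al h0 (j + 1) i (by omega)
  unfold fhRho
  have p2 : (u * v) ^ (j + 1) = (u * v) ^ j * (u * v) := by ring
  rw [p2] at e2 ⊢
  linear_combination ((u - 1) * (u * v)) * e1 + (u * (v - 1)) * e2

/-! ### The contributions of the alternating words -/

/-- The contribution of the `k`-th alternating word starting with the `u`-generator. -/
noncomputable def fhF (x c u v : ℝ) (k : ℕ) : ℝ :=
  if k % 2 = 0 then fhTau x c (k / 2) ^ 2 / c ^ (k / 2)
  else fhRho x c u v (k / 2) ^ 2 / (u * c ^ (k / 2))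

theorem fhF_even (x c u v : ℝ) (j : ℕ) : fhF x c u v (2 * j) = fhTau x c j ^ 2 / c ^ j := by
  unfold fhF
  have h1 : 2 * j % 2 = 0 := by omega
  have h2 : 2 * j / 2 = j := by omega
  rw [if_pos h1, h2]

theorem fhF_odd (x c u v : ℝ) (j : ℕ) :
    fhF x c u v (2 * j + 1) = fhRho x c u v j ^ 2 / (u * c ^ j) := by
  unfold fhF
  have h1 : ¬ ((2 * j + 1) % 2 = 0) := by omega
  have h2 : (2 * j + 1) / 2 = j := by omega
  rw [if_neg h1, h2]

theorem fhF_reflect {x u v : ℝ} (hu : u ≠ 0) (hv : v ≠ 0) {m : ℕ} (h0 : fhAl x (u * v) m = 0)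
    {k : ℕ} (hk : k < m) :
    fhF x (u * v) v u (k + 1) = fhF x (u * v) u v (2 * m - 1 - k) := by
  have hc : u * v ≠ 0 := mul_ne_zero hu hv
  have he := fh_al_succ_sq h0
  rcases Nat.even_or_odd' k with ⟨j, hj | hj⟩
  · -- k = 2 j
    obtain ⟨i, hi⟩ : ∃ i, j + i + 1 = m := ⟨m - 1 - j, by omega⟩
    have e1 : k + 1 = 2 * j + 1 := by omega
    have e2 : 2 * m - 1 - k = 2 * i + 1 := by omega
    rw [e1, e2, fhF_odd, fhF_odd]
    have hr := fh_reflect_rho h0 j i hi
    have hcj : (u * v) ^ j ≠ 0 := pow_ne_zero _ hc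
    have hci : (u * v) ^ i ≠ 0 := pow_ne_zero _ hc
    have hm : (u * v) ^ m = (u * v) ^ j * (u * v) ^ i * (u * v) := by
      rw [← hi]; ring
    rw [hm] at he
    have p2 : (u * v) ^ (j + 1) = (u * v) ^ j * (u * v) := by ring
    rw [p2] at hr
    rw [div_eq_div_iff (mul_ne_zero hv hcj) (mul_ne_zero hu hci)]
    generalize fhAl x (u * v) (m + 1) = ε at he hr
    generalize fhRho x (u * v) u v i = ρ at hr ⊢
    generalize fhRho x (u * v) v u j = σ at hr ⊢
    generalize (u * v) ^ j = P at *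
    generalize (u * v) ^ i = Q at *
    have key : (σ ^ 2 * (u * Q) - ρ ^ 2 * (v * P)) * (P * u * (u * v)) = 0 := by
      linear_combination -(P * (u * v) * ρ + (-ε * u * σ)) * hr - (u ^ 2 * σ ^ 2) * he
    have hne : P * u * (u * v) ≠ 0 := mul_ne_zero (mul_ne_zero hcj hu) hc
    have := (mul_eq_zero.mp key).resolve_right hne
    linarith
  · -- k = 2 j + 1
    obtain ⟨i, hi⟩ : ∃ i, (j + 1) + i = m := ⟨m - 1 - j, by omega⟩
    have e1 : k + 1 = 2 * (j + 1) := by omega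
    have e2 : 2 * m - 1 - k = 2 * i := by omega
    rw [e1, e2, fhF_even, fhF_even]
    have hr := fh_reflect_tau h0 (j + 1) i hi
    have hcj : (u * v) ^ (j + 1) ≠ 0 := pow_ne_zero _ hc
    have hci : (u * v) ^ i ≠ 0 := pow_ne_zero _ hc
    have hm : (u * v) ^ m = (u * v) ^ (j + 1) * (u * v) ^ i := by
      rw [← hi]; ring
    rw [hm] at he
    rw [div_eq_div_iff hcj hci]
    generalize fhAl x (u * v) (m + 1) = ε at he hr
    generalize fhTau x (u * v) i = τi at hr ⊢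
    generalize fhTau x (u * v) (j + 1) = τj at hr ⊢
    generalize (u * v) ^ (j + 1) = P at *
    generalize (u * v) ^ i = Q at *
    have key : (τj ^ 2 * Q - τi ^ 2 * P) * P = 0 := by
      linear_combination -(P * τi + ε * τj) * hr - (τj ^ 2) * he
    have := (mul_eq_zero.mp key).resolve_right hcj
    linarith

theorem fh_sum_pairs (f : ℕ → ℝ) (m : ℕ) :
    ∑ k ∈ Finset.range (2 * m), f k = ∑ j ∈ Finset.range m, (f (2 * j) + f (2 * j + 1)) := by
  induction m with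
  | zero => simp
  | succ m ih =>
    have e : 2 * (m + 1) = 2 * m + 1 + 1 := by ring
    rw [e, Finset.sum_range_succ, Finset.sum_range_succ, ih, Finset.sum_range_succ]
    ring

theorem fh_sum_F {x u v : ℝ} (hu : u ≠ 0) (hv : v ≠ 0) {m : ℕ} (h0 : fhAl x (u * v) m = 0) :
    ∑ k ∈ Finset.range m, fhF x (u * v) u v k + ∑ k ∈ Finset.range m, fhF x (u * v) v u (k + 1) =
      ∑ j ∈ Finset.range m, fhTau x (u * v) j ^ 2 / (u * v) ^ j +
        ∑ j ∈ Finset.range m, fhRho x (u * v) u v j ^ 2 / (u * (u * v) ^ j) := by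
  have e1 : ∑ k ∈ Finset.range m, fhF x (u * v) v u (k + 1) =
      ∑ k ∈ Finset.range m, fhF x (u * v) u v (m + (m - 1 - k)) := by
    apply Finset.sum_congr rfl
    intro k hk
    rw [Finset.mem_range] at hk
    rw [fhF_reflect hu hv h0 hk]
    congr 1
    omega
  rw [e1, Finset.sum_range_reflect (fun k => fhF x (u * v) u v (m + k)) m, ← Finset.sum_range_add,
    ← two_mul, fh_sum_pairs, Finset.sum_add_distrib]
  congr 1
  · exact Finset.sum_congr rfl (fun j _ => fhF_even _ _ _ _ j)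
  · exact Finset.sum_congr rfl (fun j _ => fhF_odd _ _ _ _ j)

/-- The closed form of the Schur element sum. -/
theorem fh_S_formula {x u v : ℝ} (hu : u ≠ 0) (hv : v ≠ 0) {m : ℕ} (hm : 1 ≤ m)
    (h0 : fhAl x (u * v) m = 0) :
    (4 * (u * v) - x ^ 2) * (∑ k ∈ Finset.range m, fhF x (u * v) u v k +
        ∑ k ∈ Finset.range m, fhF x (u * v) v u (k + 1)) =
      2 * m * ((u + v + x) * (u * v + 1 - x)) := by
  obtain ⟨J, rfl⟩ : ∃ J, m = J + 1 := ⟨m - 1, by omega⟩
  rw [fh_sum_F hu hv h0, fh_S_eval hu hv h0]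
  push_cast
  ring

/-! ### Addition formula -/

theorem fh_al_add (x c : ℝ) (k : ℕ) : ∀ j : ℕ,
    fhAl x c (j + k + 1) = fhAl x c (j + 1) * fhAl x c (k + 1) - c * fhAl x c j * fhAl x c k := by
  intro j
  induction j using Nat.twoStepInduction with
  | zero => simp
  | one =>
    have e : 1 + k + 1 = k + 2 := by ring
    rw [e, fhAl_add_two]; simp
  | more j ih1 ih2 =>
    have e1 : j + 2 + k + 1 = (j + k + 1) + 2 := by ring
    have e2 : j + 1 + k + 1 = (j + k + 1) + 1 := by ring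
    rw [e2] at ih2
    rw [e1, fhAl_add_two, ih2, ih1, fhAl_add_two x c (j + 1), fhAl_add_two x c j]
    ring

theorem fh_al_of_braid_even {x c : ℝ} {M : ℕ} (h : fhAl x c M = 0) : fhAl x c (2 * M) = 0 := by
  rcases M with _ | i
  · simp
  · have e : 2 * (i + 1) = (i + 1) + i + 1 := by ring
    rw [e, fh_al_add, h]; ring

theorem fh_al_of_braid_odd {x u : ℝ} {M : ℕ}
    (h : fhAl x (u * u) (M + 1) + u * fhAl x (u * u) M = 0) : fhAl x (u * u) (2 * M + 1) = 0 := by
  have e : 2 * M + 1 = M + M + 1 := by ring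
  have h' : fhAl x (u * u) (M + 1) = -(u * fhAl x (u * u) M) := by linarith
  rw [e, fh_al_add, h']; ring

end Cfsg.Agent.Lib.helper24
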