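import Cfsg.Agent.Lib.helper24.FHAlg
import Cfsg.Agent.Lib.helper24.FHSeq

set_option autoImplicit false
set_option linter.unusedSectionVars false
set_option linter.unusedVariables false
set_option linter.unusedSimpArgs false

/-! Feit–Higman, traces of words on a spectral projection of `Θ` and the braid constraint (helper24). -/

namespace Cfsg.Agent.Lib.helper24

open Matrix

section Words

variable {R : Type*} [Semiring R] {X : Type*} [Fintype X] [DecidableEq X]

/-- The alternating product `a b a ...` with `k` factors. -/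
def altM : ℕ → Matrix X X R → Matrix X X R → Matrix X X R
  | 0, _, _ => 1
  | (k + 1), a, b => a * altM k b a

@[simp] theorem altM_zero (a b : Matrix X X R) : altM 0 a b = 1 := rfl
theorem altM_succ (k : ℕ) (a b : Matrix X X R) : altM (k + 1) a b = a * altM k b a := rfl

theorem fh_pow_shift {M : Type*} [Monoid M] (a b : M) (j : ℕ) : a * (b * a) ^ j = (a * b) ^ j * a := by
  induction j with
  | zero => simp
  | succ j ih => rw [pow_succ, ← mul_assoc, ih, pow_succ, mul_assoc, mul_assoc, mul_assoc]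

theorem altM_even_odd (j : ℕ) : ∀ a b : Matrix X X R,
    altM (2 * j) a b = (a * b) ^ j ∧ altM (2 * j + 1) a b = (a * b) ^ j * a := by
  induction j with
  | zero => intro a b; simp [altM_succ]
  | succ j ih =>
    intro a b
    have e1 : 2 * (j + 1) = (2 * j + 1) + 1 := by ring
    have e2 : 2 * (j + 1) + 1 = (2 * j + 1) + 1 + 1 := by ring
    have h1 : altM (2 * j + 1 + 1) a b = (a * b) ^ (j + 1) := by
      rw [altM_succ, (ih b a).2, ← mul_assoc, fh_pow_shift, pow_succ, mul_assoc]
    refine ⟨by rw [e1, h1], ?_⟩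
    rw [e2, altM_succ]
    have h2 : altM (2 * j + 1 + 1) b a = (b * a) ^ (j + 1) := by
      rw [altM_succ, (ih a b).2, ← mul_assoc, fh_pow_shift, pow_succ, mul_assoc]
    rw [h2, fh_pow_shift]

theorem altM_even (j : ℕ) (a b : Matrix X X R) : altM (2 * j) a b = (a * b) ^ j :=
  (altM_even_odd j a b).1

theorem altM_odd (j : ℕ) (a b : Matrix X X R) : altM (2 * j + 1) a b = (a * b) ^ j * a :=
  (altM_even_odd j a b).2

end Words

section Traces

variable {X : Type*} [Fintype X] [DecidableEq X]
variable {A B P : Matrix X X ℝ} {u v θ : ℝ}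

theorem fhTheta_symm (A B : Matrix X X ℝ) (u v : ℝ) : fhTheta B A v u = fhTheta A B u v := by
  unfold fhTheta
  rw [mul_comm (v - 1) (u - 1)]
  abel

theorem fh_P_comm_theta (hPA : P * A = A * P) (hPB : P * B = B * P) :
    P * fhTheta A B u v = fhTheta A B u v * P := by
  have e1 : P * (A * B) = A * B * P := by rw [← mul_assoc, hPA, mul_assoc, hPB, mul_assoc]
  have e2 : P * (B * A) = B * A * P := by rw [← mul_assoc, hPB, mul_assoc, hPA, mul_assoc]
  simp only [fhTheta, mul_add, add_mul, mul_sub, sub_mul, mul_smul_comm, smul_mul_assoc, mul_one,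
    one_mul, e1, e2, hPA, hPB]

theorem fh_P_comm_C (hPA : P * A = A * P) (hPB : P * B = B * P) :
    P * fhComm A B = fhComm A B * P := by
  have e1 : P * (A * B) = A * B * P := by rw [← mul_assoc, hPA, mul_assoc, hPB, mul_assoc]
  have e2 : P * (B * A) = B * A * P := by rw [← mul_assoc, hPB, mul_assoc, hPA, mul_assoc]
  simp only [fhComm, mul_sub, sub_mul, e1, e2]

/-- `C² P = κ P`. -/
theorem fh_CCP (hA : A * A = (u - 1) • A + u • (1 : Matrix X X ℝ))
    (hB : B * B = (v - 1) • B + v • (1 : Matrix X X ℝ))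
    (hΘP : fhTheta A B u v * P = θ • P) :
    fhComm A B * fhComm A B * P = ((θ - (u * v + 1)) * (θ + (u + v))) • P := by
  rw [fh_comm_sq hA hB]
  simp only [sub_mul, smul_mul_assoc, one_mul, mul_assoc, hΘP, mul_smul_comm]
  module

theorem fh_trace_PA (hA : A * A = (u - 1) • A + u • (1 : Matrix X X ℝ))
    (hB : B * B = (v - 1) • B + v • (1 : Matrix X X ℝ))
    (hPA : P * A = A * P) (hPB : P * B = B * P) (hΘP : fhTheta A B u v * P = θ • P)
    (hκ : (θ - (u * v + 1)) * (θ + (u + v)) ≠ 0) :
    Matrix.trace (P * A) = (Matrix.trace P / 2) * (u - 1) := by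
  set C := fhComm A B with hC
  set A₀ : Matrix X X ℝ := A - ((u - 1) / 2) • (1 : Matrix X X ℝ) with hA₀
  have hPC : P * C = C * P := fh_P_comm_C hPA hPB
  have hanti : A₀ * C = -(C * A₀) := by
    have h := fh_anti (B := B) hA
    rw [← hC] at h
    simp only [hA₀, sub_mul, mul_sub, smul_mul_assoc, mul_smul_comm, one_mul, mul_one]
    have h' : A * C = (u - 1) • C - C * A := by rw [← h]; abel
    rw [h']
    module
  have hCCP := fh_CCP hA hB hΘP
  rw [← hC] at hCCP
  have h1 : Matrix.trace (C * C * P * A₀) =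
      ((θ - (u * v + 1)) * (θ + (u + v))) * Matrix.trace (P * A₀) := by
    rw [hCCP, smul_mul_assoc, Matrix.trace_smul, smul_eq_mul]
  have h2 : Matrix.trace (C * C * P * A₀) = -Matrix.trace (C * C * P * A₀) := by
    calc Matrix.trace (C * C * P * A₀) = Matrix.trace (C * (C * P * A₀)) := by simp only [mul_assoc]
      _ = Matrix.trace ((C * P * A₀) * C) := Matrix.trace_mul_comm _ _
      _ = Matrix.trace (C * P * (A₀ * C)) := by simp only [mul_assoc]
      _ = Matrix.trace (C * P * (-(C * A₀))) := by rw [hanti]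
      _ = -Matrix.trace (C * (P * C) * A₀) := by simp only [mul_neg, Matrix.trace_neg, mul_assoc]
      _ = -Matrix.trace (C * (C * P) * A₀) := by rw [hPC]
      _ = -Matrix.trace (C * C * P * A₀) := by simp only [mul_assoc]
  have h3 : Matrix.trace (C * C * P * A₀) = 0 := by linarith
  rw [h3] at h1
  have h4 : Matrix.trace (P * A₀) = 0 := by
    rcases mul_eq_zero.mp h1.symm with h | h
    · exact absurd h hκ
    · exact h
  simp only [hA₀, mul_sub, mul_smul_comm, mul_one, Matrix.trace_sub, Matrix.trace_smul, smul_eq_mul] at h4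
  linarith

theorem fh_trace_PAB (hA : A * A = (u - 1) • A + u • (1 : Matrix X X ℝ))
    (hB : B * B = (v - 1) • B + v • (1 : Matrix X X ℝ))
    (hPA : P * A = A * P) (hPB : P * B = B * P) (hΘP : fhTheta A B u v * P = θ • P)
    (hκ : (θ - (u * v + 1)) * (θ + (u + v)) ≠ 0) :
    Matrix.trace (P * (A * B)) = (Matrix.trace P / 2) * θ := by
  have h1 := fh_trace_PA hA hB hPA hPB hΘP hκ
  have hΘ' : fhTheta B A v u * P = θ • P := by rw [fhTheta_symm]; exact hΘP
  have hκ' : (θ - (v * u + 1)) * (θ + (v + u)) ≠ 0 := by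
    rw [mul_comm v u, add_comm v u]; exact hκ
  have h2 := fh_trace_PA hB hA hPB hPA hΘ' hκ'
  have h3 : Matrix.trace (P * fhTheta A B u v) = θ * Matrix.trace P := by
    rw [fh_P_comm_theta hPA hPB, hΘP, Matrix.trace_smul, smul_eq_mul]
  have h4 : Matrix.trace (P * (B * A)) = Matrix.trace (P * (A * B)) := by
    calc Matrix.trace (P * (B * A)) = Matrix.trace ((P * B) * A) := by rw [mul_assoc]
      _ = Matrix.trace (A * (P * B)) := Matrix.trace_mul_comm _ _
      _ = Matrix.trace ((A * P) * B) := by rw [mul_assoc]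
      _ = Matrix.trace (P * (A * B)) := by rw [← hPA, mul_assoc]
  simp only [fhTheta, mul_add, mul_sub, mul_smul_comm, mul_one, Matrix.trace_add, Matrix.trace_sub,
    Matrix.trace_smul, smul_eq_mul, h4, h1, h2] at h3
  linarith

/-- `Θ` commutes with `A B`. -/
theorem fh_theta_comm_AB (hA : A * A = (u - 1) • A + u • (1 : Matrix X X ℝ))
    (hB : B * B = (v - 1) • B + v • (1 : Matrix X X ℝ)) :
    fhTheta A B u v * (A * B) = A * B * fhTheta A B u v := by
  rw [← mul_assoc, ← fh_theta_comm_A hA, mul_assoc, ← fh_theta_comm_B hB, mul_assoc]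

theorem fh_trace_rec (hA : A * A = (u - 1) • A + u • (1 : Matrix X X ℝ))
    (hB : B * B = (v - 1) • B + v • (1 : Matrix X X ℝ))
    (hPA : P * A = A * P) (hPB : P * B = B * P) (hΘP : fhTheta A B u v * P = θ • P)
    (M : Matrix X X ℝ) (j : ℕ) :
    Matrix.trace (P * ((A * B) ^ (j + 2) * M)) =
      θ * Matrix.trace (P * ((A * B) ^ (j + 1) * M)) - (u * v) * Matrix.trace (P * ((A * B) ^ j * M)) := by
  have e : (A * B) ^ (j + 2) = fhTheta A B u v * (A * B) ^ (j + 1) - (u * v) • (A * B) ^ j := by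
    rw [pow_succ' (A * B) (j + 1), pow_succ' (A * B) j, ← mul_assoc, fh_AB_sq hA hB, sub_mul,
      smul_mul_assoc, one_mul, mul_assoc]
  rw [e, sub_mul, mul_sub, Matrix.trace_sub, smul_mul_assoc, mul_smul_comm, Matrix.trace_smul, smul_eq_mul]
  congr 1
  rw [mul_assoc, ← mul_assoc P, fh_P_comm_theta hPA hPB, hΘP, smul_mul_assoc, Matrix.trace_smul,
    smul_eq_mul]

theorem fh_trace_words (hA : A * A = (u - 1) • A + u • (1 : Matrix X X ℝ))
    (hB : B * B = (v - 1) • B + v • (1 : Matrix X X ℝ))
    (hPA : P * A = A * P) (hPB : P * B = B * P) (hΘP : fhTheta A B u v * P = θ • P)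
    (hκ : (θ - (u * v + 1)) * (θ + (u + v)) ≠ 0) (j : ℕ) :
    Matrix.trace (P * (A * B) ^ j) = (Matrix.trace P / 2) * fhTau θ (u * v) j ∧
      Matrix.trace (P * ((A * B) ^ j * A)) = (Matrix.trace P / 2) * fhRho θ (u * v) u v j := by
  have hPA1 := fh_trace_PA hA hB hPA hPB hΘP hκ
  have hΘ' : fhTheta B A v u * P = θ • P := by rw [fhTheta_symm]; exact hΘP
  have hκ' : (θ - (v * u + 1)) * (θ + (v + u)) ≠ 0 := by
    rw [mul_comm v u, add_comm v u]; exact hκ
  have hPB1 := fh_trace_PA hB hA hPB hPA hΘ' hκ'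
  have hPAB := fh_trace_PAB hA hB hPA hPB hΘP hκ
  constructor
  · induction j using Nat.twoStepInduction with
    | zero => rw [pow_zero, mul_one, fhTau_zero]; ring
    | one => rw [pow_one, fhTau_one, hPAB]
    | more j ih1 ih2 =>
      have h := fh_trace_rec hA hB hPA hPB hΘP (1 : Matrix X X ℝ) j
      simp only [mul_one] at h
      rw [h, ih1, ih2, fhTau_add_two]; ring
  · induction j using Nat.twoStepInduction with
    | zero => rw [pow_zero, one_mul, fhRho_zero, hPA1]
    | one =>
      rw [pow_one, fhRho_one, fh_ABA hA hB]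
      simp only [mul_add, mul_sub, mul_smul_comm, mul_one, Matrix.trace_add, Matrix.trace_sub,
        Matrix.trace_smul, smul_eq_mul, hPB1]
      have h5 : Matrix.trace (P * (fhTheta A B u v * A)) = θ * Matrix.trace (P * A) := by
        rw [← mul_assoc, fh_P_comm_theta hPA hPB, hΘP, smul_mul_assoc, Matrix.trace_smul, smul_eq_mul]
      rw [h5, hPA1]; ring
    | more j ih1 ih2 =>
      have h := fh_trace_rec hA hB hPA hPB hΘP A j
      rw [h, ih1, ih2, fhRho_add_two]; ring

/-- Powers of `A B` on the range of `P`. -/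
theorem fh_pow_P (hA : A * A = (u - 1) • A + u • (1 : Matrix X X ℝ))
    (hB : B * B = (v - 1) • B + v • (1 : Matrix X X ℝ))
    (hΘP : fhTheta A B u v * P = θ • P) (j : ℕ) :
    (A * B) ^ (j + 1) * P =
      fhAl θ (u * v) (j + 1) • (A * B * P) - (u * v * fhAl θ (u * v) j) • P := by
  have hsq : (A * B) * ((A * B) * P) = θ • (A * B * P) - (u * v) • P := by
    rw [← mul_assoc, fh_AB_sq hA hB, sub_mul, smul_mul_assoc, one_mul, fh_theta_comm_AB hA hB,
      mul_assoc, hΘP, mul_smul_comm]
  induction j with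
  | zero => simp
  | succ j ih =>
    have e : (A * B) ^ (j + 1 + 1) * P = (A * B) * ((A * B) ^ (j + 1) * P) := by
      rw [pow_succ' (A * B) (j + 1), mul_assoc]
    rw [e, ih, mul_sub, mul_smul_comm, mul_smul_comm, hsq, fhAl_add_two]
    module

end Traces

end Cfsg.Agent.Lib.helper24
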