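import Cfsg.Agent.Lib.helper24.FHMat1

set_option autoImplicit false
set_option linter.unusedSectionVars false
set_option linter.unusedVariables false
set_option linter.unusedSimpArgs false

/-! Feit–Higman, the braid constraint on the eigenvalues of `Θ` (helper24). -/

namespace Cfsg.Agent.Lib.helper24

open Matrix

section Braid

variable {X : Type*} [Fintype X] [DecidableEq X]
variable {A B P : Matrix X X ℝ} {u v θ : ℝ}

theorem fh_kappa_of_CP (hA : A * A = (u - 1) • A + u • (1 : Matrix X X ℝ))
    (hB : B * B = (v - 1) • B + v • (1 : Matrix X X ℝ))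
    (hΘP : fhTheta A B u v * P = θ • P) (hP0 : P ≠ 0) (hCP : fhComm A B * P = 0) :
    (θ - (u * v + 1)) * (θ + (u + v)) = 0 := by
  have h := fh_CCP hA hB hΘP
  rw [mul_assoc, hCP, mul_zero] at h
  rcases smul_eq_zero.mp h.symm with h1 | h1
  · exact h1
  · exact absurd h1 hP0

theorem fh_braid_even (hA : A * A = (u - 1) • A + u • (1 : Matrix X X ℝ))
    (hB : B * B = (v - 1) • B + v • (1 : Matrix X X ℝ))
    (hΘP : fhTheta A B u v * P = θ • P) (hP0 : P ≠ 0)
    (hκ : (θ - (u * v + 1)) * (θ + (u + v)) ≠ 0) (M : ℕ) (hbr : (A * B) ^ M = (B * A) ^ M) :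
    fhAl θ (u * v) M = 0 := by
  rcases M with _ | j
  · simp
  · have hΘ' : fhTheta B A v u * P = θ • P := by rw [fhTheta_symm]; exact hΘP
    have h1 := fh_pow_P hA hB hΘP j
    have h2 := fh_pow_P hB hA hΘ' j
    rw [mul_comm v u] at h2
    rw [hbr, h2] at h1
    have h3 : fhAl θ (u * v) (j + 1) • (fhComm A B * P) = 0 := by
      have : fhAl θ (u * v) (j + 1) • (fhComm A B * P) =
          (fhAl θ (u * v) (j + 1) • (A * B * P) - (u * v * fhAl θ (u * v) j) • P) -
          (fhAl θ (u * v) (j + 1) • (B * A * P) - (u * v * fhAl θ (u * v) j) • P) := by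
        simp only [fhComm, sub_mul, smul_sub]; abel
      rw [this, ← h1, sub_self]
    rcases smul_eq_zero.mp h3 with h4 | h4
    · exact h4
    · exact absurd (fh_kappa_of_CP hA hB hΘP hP0 h4) hκ

theorem fh_braid_odd (hA : A * A = (u - 1) • A + u • (1 : Matrix X X ℝ))
    (hB : B * B = (v - 1) • B + v • (1 : Matrix X X ℝ))
    (hPA : P * A = A * P) (hPB : P * B = B * P)
    (hΘP : fhTheta A B u v * P = θ • P) (hP0 : P ≠ 0)
    (hκ : (θ - (u * v + 1)) * (θ + (u + v)) ≠ 0) (huv : u = v) (M : ℕ)
    (hbr : (A * B) ^ M * A = (B * A) ^ M * B) :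
    fhAl θ (u * v) (M + 1) + u * fhAl θ (u * v) M = 0 := by
  -- if `(A - B) P = 0` then `C P = 0`
  have hABP : (A - B) * P = 0 → False := by
    intro h
    have hAP : A * P = B * P := by
      rw [sub_mul] at h; exact sub_eq_zero.mp h
    apply hκ
    apply fh_kappa_of_CP hA hB hΘP hP0
    have e : fhComm A B * P = A * (B * P) - B * (A * P) := by
      simp only [fhComm, sub_mul, mul_assoc]
    have e1 : A * (B * P) = A * A * P := by rw [← hAP, mul_assoc]
    have e2 : B * (A * P) = B * B * P := by rw [hAP, mul_assoc]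
    rw [e, e1, e2, hA, hB, ← huv]
    simp only [add_mul, smul_mul_assoc, one_mul, hAP]
    abel
  rcases M with _ | j
  · exfalso
    simp only [pow_zero, one_mul] at hbr
    apply hABP
    rw [hbr, sub_self, zero_mul]
  · have hΘ' : fhTheta B A v u * P = θ • P := by rw [fhTheta_symm]; exact hΘP
    have h1 := fh_pow_P hA hB hΘP j
    have h2 := fh_pow_P hB hA hΘ' j
    rw [mul_comm v u] at h2
    have e1 : (A * B) ^ (j + 1) * A * P = fhAl θ (u * v) (j + 1) • (A * B * A * P) -
        (u * v * fhAl θ (u * v) j) • (A * P) := by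
      rw [mul_assoc, ← hPA, ← mul_assoc, h1, sub_mul, smul_mul_assoc, smul_mul_assoc, hPA]
      simp only [mul_assoc, hPA]
    have e2 : (B * A) ^ (j + 1) * B * P = fhAl θ (u * v) (j + 1) • (B * A * B * P) -
        (u * v * fhAl θ (u * v) j) • (B * P) := by
      rw [mul_assoc, ← hPB, ← mul_assoc, h2, sub_mul, smul_mul_assoc, smul_mul_assoc, hPB]
      simp only [mul_assoc, hPB]
    have e3 : (A * B * A - B * A * B) * P = (θ + u) • ((A - B) * P) := by
      rw [fh_ABA hA hB, fh_BAB hA hB]
      have c1 : fhTheta A B u v * A * P = θ • (A * P) := by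
        rw [← fh_theta_comm_A hA, mul_assoc, hΘP, mul_smul_comm]
      have c2 : fhTheta A B u v * B * P = θ • (B * P) := by
        rw [← fh_theta_comm_B hB, mul_assoc, hΘP, mul_smul_comm]
      simp only [sub_mul, add_mul, smul_mul_assoc, one_mul, c1, c2]
      rw [← huv]
      module
    have h3 : (fhAl θ (u * v) (j + 1) * (θ + u) - u * v * fhAl θ (u * v) j) • ((A - B) * P) = 0 := by
      have : (fhAl θ (u * v) (j + 1) * (θ + u) - u * v * fhAl θ (u * v) j) • ((A - B) * P) =
          (fhAl θ (u * v) (j + 1) • ((A * B * A - B * A * B) * P)) -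
          (u * v * fhAl θ (u * v) j) • ((A - B) * P) := by
        rw [e3]; module
      rw [this]
      have e4 : (A * B) ^ (j + 1) * A * P = (B * A) ^ (j + 1) * B * P := by rw [hbr]
      rw [e1, e2] at e4
      simp only [sub_mul, smul_sub] at e4 ⊢
      have e5 := sub_eq_zero.mpr e4
      rw [← e5]
      abel
    rcases smul_eq_zero.mp h3 with h4 | h4
    · rw [fhAl_add_two]; linarith
    · exact absurd h4 (fun h => hABP h)

end Braid

end Cfsg.Agent.Lib.helper24
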