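import Cfsg.Agent.Lib.helper24.FHMat2

set_option autoImplicit false
set_option linter.unusedSectionVars false
set_option linter.unusedVariables false
set_option linter.unusedSimpArgs false

/-! Feit–Higman, orthogonality of the alternating words and the multiplicity formula (helper24). -/

namespace Cfsg.Agent.Lib.helper24

open Matrix

section IP

variable {X : Type*} [Fintype X] [DecidableEq X]

theorem fh_trace_mul_transpose (M N : Matrix X X ℝ) :
    Matrix.trace (M * Nᵀ) = ∑ x, ∑ y, M x y * N x y := by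
  simp [Matrix.trace, Matrix.diag, Matrix.mul_apply, Matrix.transpose_apply]

theorem fh_parseval {ι : Type*} [Fintype ι] [DecidableEq ι] (E : ι → Matrix X X ℝ) (d : ι → ℝ)
    (hd : ∀ i, d i ≠ 0)
    (horth : ∀ i j, Matrix.trace (E i * (E j)ᵀ) = if i = j then d i else 0)
    (P : Matrix X X ℝ) (hP : P ∈ Submodule.span ℝ (Set.range E)) :
    Matrix.trace (P * Pᵀ) = ∑ i, (Matrix.trace (P * (E i)ᵀ)) ^ 2 / d i := by
  obtain ⟨c, rfl⟩ := (Submodule.mem_span_range_iff_exists_fun ℝ).mp hP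
  have h1 : ∀ j, Matrix.trace ((∑ i, c i • E i) * (E j)ᵀ) = c j * d j := by
    intro j
    rw [Finset.sum_mul, Matrix.trace_sum]
    simp only [Matrix.smul_mul, Matrix.trace_smul, horth, smul_eq_mul, mul_ite, mul_zero]
    rw [Finset.sum_ite_eq' Finset.univ j (fun i => c i * d i)]
    simp
  have h2 : Matrix.trace ((∑ i, c i • E i) * (∑ i, c i • E i)ᵀ) = ∑ j, c j * (c j * d j) := by
    rw [Matrix.transpose_sum, Finset.mul_sum, Matrix.trace_sum]
    refine Finset.sum_congr rfl (fun j _ => ?_)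
    rw [Matrix.transpose_smul, Matrix.mul_smul, Matrix.trace_smul, h1, smul_eq_mul]
  rw [h2]
  refine Finset.sum_congr rfl (fun j _ => ?_)
  rw [h1]
  have := hd j
  field_simp

/-- Row-sum parameters of the alternating words. -/
def fhq : ℕ → ℝ → ℝ → ℝ
  | 0, _, _ => 1
  | k + 1, u, v => u * fhq k v u

theorem fhq_even_odd (j : ℕ) : ∀ u v : ℝ,
    fhq (2 * j) u v = (u * v) ^ j ∧ fhq (2 * j + 1) u v = u * (u * v) ^ j := by
  induction j with
  | zero => intro u v; simp [fhq]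
  | succ j ih =>
    intro u v
    have e1 : 2 * (j + 1) = (2 * j + 1) + 1 := by ring
    have e2 : 2 * (j + 1) + 1 = (2 * j + 1) + 1 + 1 := by ring
    have h1 : fhq (2 * (j + 1)) u v = (u * v) ^ (j + 1) := by
      rw [e1, fhq, (ih v u).2]; ring
    refine ⟨h1, ?_⟩
    rw [e2, fhq, ← e1]
    have h2 : fhq (2 * (j + 1)) v u = (v * u) ^ (j + 1) := by
      rw [e1, fhq, (ih u v).2]; ring
    rw [h2]; ring

theorem fh_rowsum (k : ℕ) : ∀ (A B : Matrix X X ℝ) (u v : ℝ),
    (∀ x, ∑ y, A x y = u) → (∀ x, ∑ y, B x y = v) → ∀ x, ∑ y, altM k A B x y = fhq k u v := by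
  induction k with
  | zero =>
    intro A B u v hA hB x
    simp [altM, fhq, Matrix.one_apply]
  | succ k ih =>
    intro A B u v hA hB x
    rw [altM_succ, fhq]
    simp only [Matrix.mul_apply]
    rw [Finset.sum_comm]
    have : ∀ z, ∑ y, A x z * altM k B A z y = A x z * fhq k v u := by
      intro z
      rw [← Finset.mul_sum, ih B A v u hB hA z]
    simp only [this]
    rw [← Finset.sum_mul, hA x]

end IP

/-- The combinatorial data of a (thick) generalized `m`-gon, in matrix form. -/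
structure FHData (X : Type*) [Fintype X] [DecidableEq X] (m u v : ℕ) (A B : Matrix X X ℝ) : Prop where
  hm : 2 ≤ m
  hu : 2 ≤ u
  hv : 2 ≤ v
  hAt : Aᵀ = A
  hBt : Bᵀ = B
  hA : A * A = ((u : ℝ) - 1) • A + (u : ℝ) • (1 : Matrix X X ℝ)
  hB : B * B = ((v : ℝ) - 1) • B + (v : ℝ) • (1 : Matrix X X ℝ)
  hAr : ∀ x, ∑ y, A x y = (u : ℝ)
  hBr : ∀ x, ∑ y, B x y = (v : ℝ)
  h01 : ∀ k, k ≤ m → ∀ x y, altM k A B x y = 0 ∨ altM k A B x y = 1
  h01' : ∀ k, k ≤ m → ∀ x y, altM k B A x y = 0 ∨ altM k B A x y = 1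
  hd1 : ∀ k l, k < l → l ≤ m → ∀ x y, altM k A B x y = 0 ∨ altM l A B x y = 0
  hd2 : ∀ k l, k < l → l ≤ m → ∀ x y, altM k B A x y = 0 ∨ altM l B A x y = 0
  hd3 : ∀ k l, 1 ≤ k → k ≤ m → 1 ≤ l → l ≤ m → (k < m ∨ l < m) →
    ∀ x y, altM k A B x y = 0 ∨ altM l B A x y = 0
  hbr : altM m A B = altM m B A

/-- The orthogonal family of words. -/
def fhE {X : Type*} [Fintype X] [DecidableEq X] (m : ℕ) (A B : Matrix X X ℝ) :
    Fin m ⊕ Fin m → Matrix X X ℝ
  | Sum.inl k => altM k A B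
  | Sum.inr k => altM (k + 1) B A

/-- The squared norms of the orthogonal family of words. -/
def fhd (m : ℕ) (n u v : ℝ) : Fin m ⊕ Fin m → ℝ
  | Sum.inl k => n * fhq k u v
  | Sum.inr k => n * fhq (k + 1) v u

/-- All alternating words of length at most `m`. -/
def fhS {X : Type*} [Fintype X] [DecidableEq X] (m : ℕ) (A B : Matrix X X ℝ) :
    Set (Matrix X X ℝ) :=
  {M | ∃ k, k ≤ m ∧ (M = altM k A B ∨ M = altM k B A)}

theorem fhS_swap {X : Type*} [Fintype X] [DecidableEq X] (m : ℕ) (A B : Matrix X X ℝ) :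
    fhS m B A = fhS m A B := by
  ext M
  constructor
  · rintro ⟨k, hk, h | h⟩
    · exact ⟨k, hk, Or.inr h⟩
    · exact ⟨k, hk, Or.inl h⟩
  · rintro ⟨k, hk, h | h⟩
    · exact ⟨k, hk, Or.inr h⟩
    · exact ⟨k, hk, Or.inl h⟩

theorem fhq_pos (k : ℕ) : ∀ u v : ℝ, 0 < u → 0 < v → 0 < fhq k u v := by
  induction k with
  | zero => intro u v _ _; simp [fhq]
  | succ k ih => intro u v hu hv; rw [fhq]; exact mul_pos hu (ih v u hv hu)

theorem fh_orth_of_disj {X : Type*} [Fintype X] [DecidableEq X] {E F : Matrix X X ℝ}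
    (h : ∀ x y, E x y = 0 ∨ F x y = 0) : Matrix.trace (E * Fᵀ) = 0 := by
  rw [fh_trace_mul_transpose]
  refine Finset.sum_eq_zero (fun x _ => Finset.sum_eq_zero (fun y _ => ?_))
  rcases h x y with h | h <;> rw [h] <;> simp

namespace FHData

variable {X : Type*} [Fintype X] [DecidableEq X] {m u v : ℕ} {A B : Matrix X X ℝ}

theorem swap (D : FHData X m u v A B) : FHData X m v u B A := by
  refine ⟨D.hm, D.hv, D.hu, D.hBt, D.hAt, D.hB, D.hA, D.hBr, D.hAr, D.h01', D.h01, D.hd2, D.hd1,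
    ?_, D.hbr.symm⟩
  intro k l hk1 hkm hl1 hlm hlt x y
  exact (D.hd3 l k hl1 hlm hk1 hkm hlt.symm x y).symm

theorem norm_word (D : FHData X m u v A B) {k : ℕ} (hk : k ≤ m) :
    Matrix.trace (altM k A B * (altM k A B)ᵀ) = (Fintype.card X : ℝ) * fhq k u v := by
  rw [fh_trace_mul_transpose]
  have : ∀ x, ∑ y, altM k A B x y * altM k A B x y = fhq k u v := by
    intro x
    rw [← fh_rowsum k A B u v D.hAr D.hBr x]
    refine Finset.sum_congr rfl (fun y _ => ?_)
    rcases D.h01 k hk x y with h | h <;> rw [h] <;> simp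
  simp only [this]
  simp [Finset.sum_const, Finset.card_univ, nsmul_eq_mul]

theorem horth (D : FHData X m u v A B) : ∀ i j,
    Matrix.trace (fhE m A B i * (fhE m A B j)ᵀ) =
      if i = j then fhd m (Fintype.card X) u v i else 0 := by
  rintro (k | k) (l | l)
  · by_cases h : k = l
    · subst h
      rw [if_pos rfl]
      exact D.norm_word (le_of_lt k.2)
    · rw [if_neg (by simpa using h)]
      apply fh_orth_of_disj
      intro x y
      rcases lt_or_gt_of_ne (fun h' => h (Fin.ext h')) with h' | h'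
      · exact D.hd1 k l h' (le_of_lt l.2) x y
      · exact (D.hd1 l k h' (le_of_lt k.2) x y).symm
  · rw [if_neg (by simp)]
    apply fh_orth_of_disj
    intro x y
    show altM k A B x y = 0 ∨ altM (l + 1) B A x y = 0
    rcases Nat.eq_zero_or_pos (k : ℕ) with h0 | h0
    · rw [h0]; exact D.hd2 0 (l + 1) (Nat.succ_pos _) l.2 x y
    · exact D.hd3 k (l + 1) h0 (le_of_lt k.2) (Nat.succ_pos _) l.2 (Or.inl k.2) x y
  · rw [if_neg (by simp)]
    apply fh_orth_of_disj
    intro x y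
    show altM (k + 1) B A x y = 0 ∨ altM l A B x y = 0
    rcases Nat.eq_zero_or_pos (l : ℕ) with h0 | h0
    · rw [h0]; exact (D.hd2 0 (k + 1) (Nat.succ_pos _) k.2 x y).symm
    · exact (D.hd3 l (k + 1) h0 (le_of_lt l.2) (Nat.succ_pos _) k.2 (Or.inl l.2) x y).symm
  · by_cases h : k = l
    · subst h
      rw [if_pos rfl]
      exact D.swap.norm_word k.2
    · rw [if_neg (by simpa using h)]
      apply fh_orth_of_disj
      intro x y
      rcases lt_or_gt_of_ne (fun h' => h (Fin.ext h')) with h' | h'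
      · exact D.hd2 (k + 1) (l + 1) (by omega) l.2 x y
      · exact (D.hd2 (l + 1) (k + 1) (by omega) k.2 x y).symm

theorem span_S_le (D : FHData X m u v A B) :
    Submodule.span ℝ (fhS m A B) ≤ Submodule.span ℝ (Set.range (fhE m A B)) := by
  have hm := D.hm
  rw [Submodule.span_le]
  rintro M ⟨k, hk, rfl | rfl⟩
  · rcases Nat.lt_or_ge k m with h | h
    · exact Submodule.subset_span ⟨Sum.inl ⟨k, h⟩, rfl⟩
    · have : k = m := le_antisymm hk h
      subst this
      rw [D.hbr]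
      refine Submodule.subset_span ⟨Sum.inr ⟨k - 1, by omega⟩, ?_⟩
      show altM (k - 1 + 1) B A = _
      congr 1; omega
  · rcases Nat.eq_zero_or_pos k with h | h
    · subst h; exact Submodule.subset_span ⟨Sum.inl ⟨0, by omega⟩, rfl⟩
    · refine Submodule.subset_span ⟨Sum.inr ⟨k - 1, by omega⟩, ?_⟩
      show altM (k - 1 + 1) B A = _
      congr 1; omega

theorem A_mul_S (D : FHData X m u v A B) :
    ∀ M ∈ fhS m A B, A * M ∈ Submodule.span ℝ (fhS m A B) := by
  have hm := D.hm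
  have key : ∀ k, k ≤ m → A * altM k A B ∈ Submodule.span ℝ (fhS m A B) := by
    intro k hk
    rcases k with _ | k
    · have : A * altM 0 A B = altM 1 A B := by simp [altM]
      rw [this]; exact Submodule.subset_span ⟨1, by omega, Or.inl rfl⟩
    · rw [altM_succ, ← mul_assoc, D.hA, add_mul, smul_mul_assoc, smul_mul_assoc, one_mul]
      refine Submodule.add_mem _ (Submodule.smul_mem _ _ ?_) (Submodule.smul_mem _ _ ?_)
      · rw [← altM_succ]; exact Submodule.subset_span ⟨k + 1, hk, Or.inl rfl⟩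
      · exact Submodule.subset_span ⟨k, by omega, Or.inr rfl⟩
  rintro M ⟨k, hk, rfl | rfl⟩
  · exact key k hk
  · rcases Nat.lt_or_ge k m with h | h
    · rw [← altM_succ]; exact Submodule.subset_span ⟨k + 1, h, Or.inl rfl⟩
    · have : k = m := le_antisymm hk h
      subst this; rw [← D.hbr]; exact key k le_rfl

theorem A_mul_span (D : FHData X m u v A B) {h : Matrix X X ℝ}
    (hh : h ∈ Submodule.span ℝ (fhS m A B)) : A * h ∈ Submodule.span ℝ (fhS m A B) := by
  induction hh using Submodule.span_induction with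
  | mem x hx => exact D.A_mul_S x hx
  | zero => simp
  | add x y _ _ hx hy => rw [mul_add]; exact Submodule.add_mem _ hx hy
  | smul a x _ hx => rw [mul_smul_comm]; exact Submodule.smul_mem _ _ hx

theorem B_mul_span (D : FHData X m u v A B) {h : Matrix X X ℝ}
    (hh : h ∈ Submodule.span ℝ (fhS m A B)) : B * h ∈ Submodule.span ℝ (fhS m A B) := by
  have := D.swap.A_mul_span (h := h) (by rw [fhS_swap]; exact hh)
  rwa [fhS_swap] at this

theorem theta_mul_span (D : FHData X m u v A B) {h : Matrix X X ℝ}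
    (hh : h ∈ Submodule.span ℝ (fhS m A B)) :
    fhTheta A B (u : ℝ) (v : ℝ) * h ∈ Submodule.span ℝ (fhS m A B) := by
  have e : fhTheta A B (u : ℝ) (v : ℝ) * h = A * (B * h) + B * (A * h) - ((v : ℝ) - 1) • (A * h)
      - ((u : ℝ) - 1) • (B * h) + (((u : ℝ) - 1) * ((v : ℝ) - 1)) • h := by
    unfold fhTheta
    simp only [add_mul, sub_mul, smul_mul_assoc, one_mul, mul_assoc]
  rw [e]
  have hA := D.A_mul_span hh
  have hB := D.B_mul_span hh
  exact Submodule.add_mem _ (Submodule.sub_mem _ (Submodule.sub_mem _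
    (Submodule.add_mem _ (D.A_mul_span hB) (D.B_mul_span hA)) (Submodule.smul_mem _ _ hA))
    (Submodule.smul_mem _ _ hB)) (Submodule.smul_mem _ _ hh)

theorem one_mem_span (D : FHData X m u v A B) :
    (1 : Matrix X X ℝ) ∈ Submodule.span ℝ (fhS m A B) :=
  Submodule.subset_span ⟨0, Nat.zero_le _, Or.inl rfl⟩

theorem aeval_mem_span (D : FHData X m u v A B) (p : Polynomial ℝ) :
    Polynomial.aeval (fhTheta A B (u : ℝ) (v : ℝ)) p ∈ Submodule.span ℝ (Set.range (fhE m A B)) := by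
  apply D.span_S_le
  have hpow : ∀ k : ℕ, fhTheta A B (u : ℝ) (v : ℝ) ^ k ∈ Submodule.span ℝ (fhS m A B) := by
    intro k
    induction k with
    | zero => rw [pow_zero]; exact D.one_mem_span
    | succ k ih => rw [pow_succ']; exact D.theta_mul_span ih
  rw [Polynomial.aeval_eq_sum_range]
  exact Submodule.sum_mem _ (fun i _ => Submodule.smul_mem _ _ (hpow i))

end FHData

theorem fh_aeval_comm {X : Type*} [Fintype X] [DecidableEq X] {M Θ : Matrix X X ℝ}
    (h : M * Θ = Θ * M) (p : Polynomial ℝ) :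
    Polynomial.aeval Θ p * M = M * Polynomial.aeval Θ p := by
  rw [Polynomial.aeval_eq_sum_range, Finset.sum_mul, Finset.mul_sum]
  refine Finset.sum_congr rfl (fun i _ => ?_)
  have hc : Commute M (Θ ^ i) := Commute.pow_right h i
  rw [smul_mul_assoc, mul_smul_comm, hc.eq]

/-- The braid polynomial, as a function. -/
noncomputable def fhBeta (m : ℕ) (u c x : ℝ) : ℝ :=
  if m % 2 = 0 then fhAl x c (m / 2) else fhAl x c (m / 2 + 1) + u * fhAl x c (m / 2)

namespace FHData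

variable {X : Type*} [Fintype X] [DecidableEq X] {m u v : ℕ} {A B : Matrix X X ℝ}

theorem u_pos (D : FHData X m u v A B) : (0 : ℝ) < u := by
  have := D.hu
  exact_mod_cast (by omega : 0 < u)

theorem v_pos (D : FHData X m u v A B) : (0 : ℝ) < v := by
  have := D.hv
  exact_mod_cast (by omega : 0 < v)

theorem term_word (D : FHData X m u v A B) {P : Matrix X X ℝ} {θ : ℝ}
    (hPA : P * A = A * P) (hPB : P * B = B * P)
    (hΘP : fhTheta A B (u : ℝ) (v : ℝ) * P = θ • P)
    (hκ : (θ - ((u : ℝ) * v + 1)) * (θ + ((u : ℝ) + v)) ≠ 0) (k : ℕ) :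
    Matrix.trace (P * (altM k A B)ᵀ) ^ 2 / ((Fintype.card X : ℝ) * fhq k u v) =
      (Matrix.trace P) ^ 2 / (4 * (Fintype.card X : ℝ)) * fhF θ ((u : ℝ) * v) u v k := by
  have hΘP' : fhTheta B A (v : ℝ) (u : ℝ) * P = θ • P := by rw [fhTheta_symm]; exact hΘP
  have hκ' : (θ - ((v : ℝ) * u + 1)) * (θ + ((v : ℝ) + u)) ≠ 0 := by
    rw [mul_comm (v : ℝ) u, add_comm (v : ℝ) u]; exact hκ
  obtain ⟨j, rfl | rfl⟩ := Nat.even_or_odd' k
  · rw [altM_even, Matrix.transpose_pow, Matrix.transpose_mul, D.hAt, D.hBt,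
      (fh_trace_words D.hB D.hA hPB hPA hΘP' hκ' j).1, (fhq_even_odd j u v).1, fhF_even,
      mul_comm (v : ℝ) u]
    ring
  · have e : ((A * B) ^ j * A)ᵀ = (A * B) ^ j * A := by
      rw [Matrix.transpose_mul, Matrix.transpose_pow, Matrix.transpose_mul, D.hAt, D.hBt,
        fh_pow_shift]
    rw [altM_odd, e, (fh_trace_words D.hA D.hB hPA hPB hΘP hκ j).2, (fhq_even_odd j u v).2,
      fhF_odd]
    ring

theorem u_eq_v_of_odd (D : FHData X m u v A B) [Nonempty X] (hodd : m % 2 = 1) :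
    (u : ℝ) = v := by
  obtain ⟨M, rfl⟩ : ∃ M, m = 2 * M + 1 := ⟨m / 2, by omega⟩
  obtain ⟨x⟩ := ‹Nonempty X›
  have h1 := fh_rowsum (2 * M + 1) A B u v D.hAr D.hBr x
  have h2 := fh_rowsum (2 * M + 1) B A v u D.hBr D.hAr x
  rw [D.hbr, h2, (fhq_even_odd M u v).2, (fhq_even_odd M v u).2, mul_comm (v : ℝ) u] at h1
  have hc : ((u : ℝ) * v) ^ M ≠ 0 := pow_ne_zero _ (mul_pos D.u_pos D.v_pos).ne'
  exact (mul_right_cancel₀ hc h1).symm

theorem beta_zero (D : FHData X m u v A B) [Nonempty X] {P : Matrix X X ℝ} {θ : ℝ}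
    (hPA : P * A = A * P) (hPB : P * B = B * P)
    (hΘP : fhTheta A B (u : ℝ) (v : ℝ) * P = θ • P) (hP0 : P ≠ 0)
    (hκ : (θ - ((u : ℝ) * v + 1)) * (θ + ((u : ℝ) + v)) ≠ 0) :
    fhBeta m u ((u : ℝ) * v) θ = 0 := by
  unfold fhBeta
  split_ifs with h
  · obtain ⟨M, rfl⟩ : ∃ M, m = 2 * M := ⟨m / 2, by omega⟩
    have hbr := D.hbr
    rw [altM_even, altM_even] at hbr
    have e : 2 * M / 2 = M := by omega
    rw [e]
    exact fh_braid_even D.hA D.hB hΘP hP0 hκ M hbr
  · obtain ⟨M, rfl⟩ : ∃ M, m = 2 * M + 1 := ⟨m / 2, by omega⟩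
    have hbr := D.hbr
    rw [altM_odd, altM_odd] at hbr
    have e : (2 * M + 1) / 2 = M := by omega
    rw [e]
    exact fh_braid_odd D.hA D.hB hPA hPB hΘP hP0 hκ (D.u_eq_v_of_odd (by omega)) M hbr

theorem al_of_beta (D : FHData X m u v A B) [Nonempty X] {θ : ℝ}
    (h : fhBeta m u ((u : ℝ) * v) θ = 0) : fhAl θ ((u : ℝ) * v) m = 0 := by
  unfold fhBeta at h
  split_ifs at h with h2
  · obtain ⟨M, rfl⟩ : ∃ M, m = 2 * M := ⟨m / 2, by omega⟩
    have e : 2 * M / 2 = M := by omega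
    rw [e] at h
    exact fh_al_of_braid_even h
  · obtain ⟨M, rfl⟩ : ∃ M, m = 2 * M + 1 := ⟨m / 2, by omega⟩
    have e : (2 * M + 1) / 2 = M := by omega
    rw [e] at h
    have huv := D.u_eq_v_of_odd (by omega)
    rw [← huv] at h ⊢
    exact fh_al_of_braid_odd h

theorem mult_formula (D : FHData X m u v A B) [Nonempty X] {P : Matrix X X ℝ} {θ : ℝ}
    (p : Polynomial ℝ) (hp : P = Polynomial.aeval (fhTheta A B (u : ℝ) (v : ℝ)) p)
    (hPP : P * P = P) (hPt : Pᵀ = P)
    (hΘP : fhTheta A B (u : ℝ) (v : ℝ) * P = θ • P)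
    (hκ : (θ - ((u : ℝ) * v + 1)) * (θ + ((u : ℝ) + v)) ≠ 0)
    (hμ : Matrix.trace P ≠ 0) (h0 : fhAl θ ((u : ℝ) * v) m = 0) :
    Matrix.trace P * m * (((u : ℝ) + v + θ) * ((u : ℝ) * v + 1 - θ)) =
      2 * (Fintype.card X : ℝ) * (4 * ((u : ℝ) * v) - θ ^ 2) := by
  have hPA : P * A = A * P := by rw [hp]; exact fh_aeval_comm (fh_theta_comm_A D.hA) p
  have hPB : P * B = B * P := by rw [hp]; exact fh_aeval_comm (fh_theta_comm_B D.hB) p
  have hn : (0 : ℝ) < Fintype.card X := by exact_mod_cast Fintype.card_pos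
  have hu := D.u_pos
  have hv := D.v_pos
  have hm := D.hm
  have hΘP' : fhTheta B A (v : ℝ) (u : ℝ) * P = θ • P := by rw [fhTheta_symm]; exact hΘP
  have hκ' : (θ - ((v : ℝ) * u + 1)) * (θ + ((v : ℝ) + u)) ≠ 0 := by
    rw [mul_comm (v : ℝ) u, add_comm (v : ℝ) u]; exact hκ
  have hd : ∀ i, fhd m (Fintype.card X) u v i ≠ 0 := by
    rintro (k | k)
    · exact (mul_pos hn (fhq_pos k u v hu hv)).ne'
    · exact (mul_pos hn (fhq_pos (k + 1) v u hv hu)).ne'
  have hpar := fh_parseval (fhE m A B) (fhd m (Fintype.card X) u v) hd D.horth P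
    (by rw [hp]; exact D.aeval_mem_span p)
  rw [hPt, hPP, Fintype.sum_sum_type] at hpar
  have e1 : ∀ k : Fin m, Matrix.trace (P * (fhE m A B (Sum.inl k))ᵀ) ^ 2 /
      fhd m (Fintype.card X) u v (Sum.inl k) =
      (Matrix.trace P) ^ 2 / (4 * (Fintype.card X : ℝ)) * fhF θ ((u : ℝ) * v) u v k :=
    fun k => D.term_word hPA hPB hΘP hκ k
  have e2 : ∀ k : Fin m, Matrix.trace (P * (fhE m A B (Sum.inr k))ᵀ) ^ 2 /
      fhd m (Fintype.card X) u v (Sum.inr k) =
      (Matrix.trace P) ^ 2 / (4 * (Fintype.card X : ℝ)) * fhF θ ((u : ℝ) * v) v u (k + 1) := by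
    intro k
    have := D.swap.term_word hPB hPA hΘP' hκ' (k + 1)
    rw [mul_comm (v : ℝ) u] at this
    exact this
  simp only [e1, e2] at hpar
  rw [← Finset.mul_sum, ← Finset.mul_sum,
    Fin.sum_univ_eq_sum_range (fun k => fhF θ ((u : ℝ) * v) u v k) m,
    Fin.sum_univ_eq_sum_range (fun k => fhF θ ((u : ℝ) * v) v u (k + 1)) m, ← mul_add] at hpar
  have hS := fh_S_formula hu.ne' hv.ne' (by omega : 1 ≤ m) h0
  set S := ∑ k ∈ Finset.range m, fhF θ ((u : ℝ) * v) u v k +
    ∑ k ∈ Finset.range m, fhF θ ((u : ℝ) * v) v u (k + 1) with hSdef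
  have h4 : 4 * (Fintype.card X : ℝ) = Matrix.trace P * S := by
    have h5 : Matrix.trace P * (4 * (Fintype.card X : ℝ)) = Matrix.trace P * (Matrix.trace P * S) := by
      calc Matrix.trace P * (4 * (Fintype.card X : ℝ))
          = ((Matrix.trace P) ^ 2 / (4 * (Fintype.card X : ℝ)) * S) * (4 * (Fintype.card X : ℝ)) := by
            rw [← hpar]
        _ = Matrix.trace P * (Matrix.trace P * S) := by
            field_simp
    exact mul_left_cancel₀ hμ h5
  linear_combination (-(Matrix.trace P) / 2) * hS - ((4 * ((u : ℝ) * v) - θ ^ 2) / 2) * h4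

end FHData

end Cfsg.Agent.Lib.helper24
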