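import Mathlib

set_option autoImplicit false
set_option linter.unusedSectionVars false
set_option linter.unusedVariables false
set_option linter.unusedSimpArgs false

/-! Feit–Higman, spectral decomposition of a real symmetric matrix in the form needed (helper24). -/

namespace Cfsg.Agent.Lib.helper24

open Matrix Polynomial

theorem fh_spectral {X : Type*} [Fintype X] [DecidableEq X] (Θ : Matrix X X ℝ) (hΘ : Θᵀ = Θ) :
    ∃ ev : X → ℝ, Θ.charpoly = ∏ i, (Polynomial.X - Polynomial.C (ev i)) ∧
      (∀ g : Polynomial ℝ, (∀ i, g.eval (ev i) = 0) → Polynomial.aeval Θ g = 0) ∧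
      ∀ i₀ : X, ∃ p : Polynomial ℝ,
        Polynomial.aeval Θ p * Polynomial.aeval Θ p = Polynomial.aeval Θ p ∧
        (Polynomial.aeval Θ p)ᵀ = Polynomial.aeval Θ p ∧
        Θ * Polynomial.aeval Θ p = ev i₀ • Polynomial.aeval Θ p ∧
        Matrix.trace (Polynomial.aeval Θ p) = ((Finset.univ.filter (fun i => ev i = ev i₀)).card : ℝ) := by
  have hA : Θ.IsHermitian := by
    rw [Matrix.IsHermitian, Matrix.conjTranspose_eq_transpose_of_trivial]; exact hΘ
  set ev := hA.eigenvalues with hev
  set U := hA.eigenvectorUnitary with hU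
  have hsp : Θ = (U : Matrix X X ℝ) * Matrix.diagonal ev * star (U : Matrix X X ℝ) := by
    have h := hA.spectral_theorem
    rw [Unitary.conjStarAlgAut_apply] at h
    have e : (RCLike.ofReal ∘ hA.eigenvalues : X → ℝ) = ev := by
      funext i; simp [hev]
    rw [e] at h
    exact h
  have hUU : star (U : Matrix X X ℝ) * (U : Matrix X X ℝ) = 1 := Unitary.coe_star_mul_self U
  have hUU' : (U : Matrix X X ℝ) * star (U : Matrix X X ℝ) = 1 := Unitary.coe_mul_star_self U
  -- conjugation is multiplicative
  have hconj : ∀ g : Polynomial ℝ, Polynomial.aeval Θ g =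
      (U : Matrix X X ℝ) * Matrix.diagonal (fun i => g.eval (ev i)) * star (U : Matrix X X ℝ) := by
    intro g
    induction g using Polynomial.induction_on' with
    | add p q hp hq =>
      rw [map_add, hp, hq, ← add_mul, ← mul_add, Matrix.diagonal_add]
      congr 3
      funext i
      simp
    | monomial n a =>
      rw [Polynomial.aeval_monomial]
      have hpow : ∀ k : ℕ, Θ ^ k = (U : Matrix X X ℝ) * Matrix.diagonal (fun i => ev i ^ k) *
          star (U : Matrix X X ℝ) := by
        intro k
        induction k with
        | zero =>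
          simp only [pow_zero]
          have : (Matrix.diagonal fun i : X => (1 : ℝ)) = 1 := Matrix.diagonal_one
          rw [this, mul_one, hUU']
        | succ k ih =>
          rw [pow_succ, ih]
          conv_lhs => rw [hsp]
          have : (U : Matrix X X ℝ) * Matrix.diagonal (fun i => ev i ^ k) * star (U : Matrix X X ℝ) *
              ((U : Matrix X X ℝ) * Matrix.diagonal ev * star (U : Matrix X X ℝ)) =
              (U : Matrix X X ℝ) * (Matrix.diagonal (fun i => ev i ^ k) *
                (star (U : Matrix X X ℝ) * (U : Matrix X X ℝ)) * Matrix.diagonal ev) *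
                star (U : Matrix X X ℝ) := by
            simp only [mul_assoc]
          rw [this, hUU, mul_one, Matrix.diagonal_mul_diagonal]
          congr 3
      have e2 : (algebraMap ℝ (Matrix X X ℝ)) a = a • (1 : Matrix X X ℝ) :=
        Algebra.algebraMap_eq_smul_one a
      have e3 : a • ((U : Matrix X X ℝ) * Matrix.diagonal (fun i => ev i ^ n) * star (U : Matrix X X ℝ)) =
          (U : Matrix X X ℝ) * Matrix.diagonal (fun i => a * ev i ^ n) * star (U : Matrix X X ℝ) := by
        rw [← smul_mul_assoc, ← mul_smul_comm, ← Matrix.diagonal_smul]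
        rfl
      rw [hpow, e2, smul_mul_assoc, one_mul, e3]
      congr 3
      funext i
      simp [Polynomial.eval_monomial]
  refine ⟨ev, ?_, ?_, ?_⟩
  · have h := hA.charpoly_eq
    rw [h]
    apply Finset.prod_congr rfl
    intro i _
    simp [hev]
  · intro g hg
    rw [hconj g]
    have : (fun i => g.eval (ev i)) = fun _ : X => (0 : ℝ) := funext hg
    rw [this]
    have : (Matrix.diagonal fun _ : X => (0 : ℝ)) = 0 := Matrix.diagonal_zero
    rw [this, mul_zero, zero_mul]
  · intro i₀
    classical
    set s : Finset ℝ := Finset.univ.image ev with hs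
    set p : Polynomial ℝ := Lagrange.interpolate s id (fun l => if l = ev i₀ then (1 : ℝ) else 0) with hp
    have hpe : ∀ i, p.eval (ev i) = if ev i = ev i₀ then (1 : ℝ) else 0 := by
      intro i
      have hi : ev i ∈ s := Finset.mem_image.mpr ⟨i, Finset.mem_univ _, rfl⟩
      have := Lagrange.eval_interpolate_at_node (r := fun l => if l = ev i₀ then (1 : ℝ) else 0)
        (v := id) (Set.injOn_id (s : Set ℝ)) hi
      exact this
    have hP : Polynomial.aeval Θ p = (U : Matrix X X ℝ) *
        Matrix.diagonal (fun i => if ev i = ev i₀ then (1 : ℝ) else 0) * star (U : Matrix X X ℝ) := by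
      rw [hconj p]
      congr 3
      funext i
      exact hpe i
    refine ⟨p, ?_, ?_, ?_, ?_⟩
    · rw [hP]
      have : (U : Matrix X X ℝ) * Matrix.diagonal (fun i => if ev i = ev i₀ then (1 : ℝ) else 0) *
          star (U : Matrix X X ℝ) * ((U : Matrix X X ℝ) *
          Matrix.diagonal (fun i => if ev i = ev i₀ then (1 : ℝ) else 0) * star (U : Matrix X X ℝ)) =
          (U : Matrix X X ℝ) * (Matrix.diagonal (fun i => if ev i = ev i₀ then (1 : ℝ) else 0) *
          (star (U : Matrix X X ℝ) * (U : Matrix X X ℝ)) *
          Matrix.diagonal (fun i => if ev i = ev i₀ then (1 : ℝ) else 0)) * star (U : Matrix X X ℝ) := by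
        simp only [mul_assoc]
      rw [this, hUU, mul_one, Matrix.diagonal_mul_diagonal]
      congr 3
      funext i
      split_ifs <;> simp
    · rw [hP]
      rw [Matrix.transpose_mul, Matrix.transpose_mul, Matrix.diagonal_transpose]
      have e1 : (star (U : Matrix X X ℝ))ᵀ = (U : Matrix X X ℝ) := by
        rw [Matrix.star_eq_conjTranspose, Matrix.conjTranspose_eq_transpose_of_trivial,
          Matrix.transpose_transpose]
      have e2 : (U : Matrix X X ℝ)ᵀ = star (U : Matrix X X ℝ) := by
        rw [Matrix.star_eq_conjTranspose, Matrix.conjTranspose_eq_transpose_of_trivial]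
      rw [e1, e2, mul_assoc]
    · rw [hP]
      nth_rewrite 1 [hsp]
      have : (U : Matrix X X ℝ) * Matrix.diagonal ev * star (U : Matrix X X ℝ) * ((U : Matrix X X ℝ) *
          Matrix.diagonal (fun i => if ev i = ev i₀ then (1 : ℝ) else 0) * star (U : Matrix X X ℝ)) =
          (U : Matrix X X ℝ) * (Matrix.diagonal ev *
          (star (U : Matrix X X ℝ) * (U : Matrix X X ℝ)) *
          Matrix.diagonal (fun i => if ev i = ev i₀ then (1 : ℝ) else 0)) * star (U : Matrix X X ℝ) := by
        simp only [mul_assoc]
      rw [this, hUU, mul_one, Matrix.diagonal_mul_diagonal, ← smul_mul_assoc, ← mul_smul_comm,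
        ← Matrix.diagonal_smul]
      congr 3
      funext i
      simp only [Pi.smul_apply, smul_eq_mul]
      split_ifs with h
      · rw [h]
      · simp
    · rw [hP, Matrix.trace_mul_comm, ← mul_assoc, hUU, one_mul, Matrix.trace_diagonal,
        Finset.sum_ite, Finset.sum_const_zero, add_zero, Finset.sum_const, nsmul_eq_mul, mul_one]

end Cfsg.Agent.Lib.helper24
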