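import Cfsg.Agent.Lib.helper24.FHMat3
import Cfsg.Agent.Lib.helper24.FHSpec

set_option autoImplicit false
set_option linter.unusedSectionVars false
set_option linter.unusedVariables false
set_option linter.unusedSimpArgs false

/-! Feit–Higman, occurrence of the eigenvalues (helper24). -/

namespace Cfsg.Agent.Lib.helper24

open Matrix

/-- The span of the alternating words of length at most `ℓ`. -/
def fhH {X : Type*} [Fintype X] [DecidableEq X] (ℓ : ℕ) (A B : Matrix X X ℝ) :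
    Submodule ℝ (Matrix X X ℝ) := Submodule.span ℝ (fhS ℓ A B)

section Filt

variable {X : Type*} [Fintype X] [DecidableEq X] {A B : Matrix X X ℝ}

theorem fhH_mono {ℓ ℓ' : ℕ} (h : ℓ ≤ ℓ') : fhH ℓ A B ≤ fhH ℓ' A B := by
  apply Submodule.span_mono
  rintro M ⟨k, hk, h'⟩
  exact ⟨k, le_trans hk h, h'⟩

theorem fhH_swap (ℓ : ℕ) (A B : Matrix X X ℝ) : fhH ℓ B A = fhH ℓ A B := by
  unfold fhH; rw [fhS_swap]

theorem fh_word_mem {k ℓ : ℕ} (h : k ≤ ℓ) : altM k A B ∈ fhH ℓ A B :=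
  Submodule.subset_span ⟨k, h, Or.inl rfl⟩

theorem fh_word_mem' {k ℓ : ℕ} (h : k ≤ ℓ) : altM k B A ∈ fhH ℓ A B :=
  Submodule.subset_span ⟨k, h, Or.inr rfl⟩

end Filt

namespace FHData

variable {X : Type*} [Fintype X] [DecidableEq X] {m u v : ℕ} {A B : Matrix X X ℝ}

theorem A_mul_word (D : FHData X m u v A B) {k : ℕ} (hk : 1 ≤ k) :
    A * altM k A B ∈ fhH k A B := by
  obtain ⟨k, rfl⟩ : ∃ k', k = k' + 1 := ⟨k - 1, by omega⟩
  rw [altM_succ, ← mul_assoc, D.hA, add_mul, smul_mul_assoc, smul_mul_assoc, one_mul]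
  refine Submodule.add_mem _ (Submodule.smul_mem _ _ ?_) (Submodule.smul_mem _ _ ?_)
  · rw [← altM_succ]; exact fh_word_mem le_rfl
  · exact fh_word_mem' (Nat.le_succ k)

theorem A_mul_H (D : FHData X m u v A B) {ℓ : ℕ} {h : Matrix X X ℝ} (hh : h ∈ fhH ℓ A B) :
    A * h ∈ fhH (ℓ + 1) A B := by
  unfold fhH at hh
  induction hh using Submodule.span_induction with
  | mem x hx =>
    obtain ⟨k, hk, rfl | rfl⟩ := hx
    · rcases Nat.eq_zero_or_pos k with h0 | h0
      · subst h0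
        have : A * altM 0 A B = altM 1 A B := by simp [altM]
        rw [this]; exact fh_word_mem (by omega)
      · exact fhH_mono (by omega) (D.A_mul_word h0)
    · rw [← altM_succ]; exact fh_word_mem (by omega)
  | zero => simp
  | add x y _ _ hx hy => rw [mul_add]; exact Submodule.add_mem _ hx hy
  | smul a x _ hx => rw [mul_smul_comm]; exact Submodule.smul_mem _ _ hx

theorem B_mul_H (D : FHData X m u v A B) {ℓ : ℕ} {h : Matrix X X ℝ} (hh : h ∈ fhH ℓ A B) :
    B * h ∈ fhH (ℓ + 1) A B := by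
  have := D.swap.A_mul_H (ℓ := ℓ) (h := h) (by rw [fhH_swap]; exact hh)
  rwa [fhH_swap] at this

theorem theta_mul_H (D : FHData X m u v A B) {ℓ : ℕ} {h : Matrix X X ℝ} (hh : h ∈ fhH ℓ A B) :
    fhTheta A B (u : ℝ) (v : ℝ) * h ∈ fhH (ℓ + 2) A B := by
  have e : fhTheta A B (u : ℝ) (v : ℝ) * h = A * (B * h) + B * (A * h) - ((v : ℝ) - 1) • (A * h)
      - ((u : ℝ) - 1) • (B * h) + (((u : ℝ) - 1) * ((v : ℝ) - 1)) • h := by
    unfold fhTheta
    simp only [add_mul, sub_mul, smul_mul_assoc, one_mul, mul_assoc]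
  rw [e]
  have hA := D.A_mul_H hh
  have hB := D.B_mul_H hh
  exact Submodule.add_mem _ (Submodule.sub_mem _ (Submodule.sub_mem _
    (Submodule.add_mem _ (D.A_mul_H hB) (D.B_mul_H hA))
    (Submodule.smul_mem _ _ (fhH_mono (by omega) hA)))
    (Submodule.smul_mem _ _ (fhH_mono (by omega) hB)))
    (Submodule.smul_mem _ _ (fhH_mono (by omega) hh))

theorem theta_mul_pow (D : FHData X m u v A B) (j : ℕ) :
    fhTheta A B (u : ℝ) (v : ℝ) * (A * B) ^ (j + 1) - (A * B) ^ (j + 2) ∈ fhH (2 * j + 3) A B := by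
  have hw : (A * B) ^ (j + 1) ∈ fhH (2 * j + 2) A B := by
    have : (A * B) ^ (j + 1) = altM (2 * (j + 1)) A B := (altM_even (j + 1) A B).symm
    rw [this]; exact fh_word_mem (by omega)
  have hAw : A * (A * B) ^ (j + 1) ∈ fhH (2 * j + 2) A B := by
    have : (A * B) ^ (j + 1) = altM (2 * (j + 1)) A B := (altM_even (j + 1) A B).symm
    rw [this]
    have := D.A_mul_word (k := 2 * (j + 1)) (by omega)
    exact fhH_mono (by omega) this
  have e : fhTheta A B (u : ℝ) (v : ℝ) * (A * B) ^ (j + 1) - (A * B) ^ (j + 2) =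
      B * (A * (A * B) ^ (j + 1)) - ((v : ℝ) - 1) • (A * (A * B) ^ (j + 1))
      - ((u : ℝ) - 1) • (B * (A * B) ^ (j + 1)) + (((u : ℝ) - 1) * ((v : ℝ) - 1)) • (A * B) ^ (j + 1) := by
    have e2 : (A * B) ^ (j + 2) = A * (B * (A * B) ^ (j + 1)) := by
      rw [pow_succ' (A * B) (j + 1), mul_assoc]
    unfold fhTheta
    rw [e2]
    simp only [add_mul, sub_mul, smul_mul_assoc, one_mul, mul_assoc]
    abel
  rw [e]
  exact Submodule.add_mem _ (Submodule.sub_mem _ (Submodule.sub_mem _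
    (D.B_mul_H hAw)
    (Submodule.smul_mem _ _ (fhH_mono (by omega) hAw)))
    (Submodule.smul_mem _ _ (D.B_mul_H hw)))
    (Submodule.smul_mem _ _ (fhH_mono (by omega) hw))

theorem theta_pow_lead (D : FHData X m u v A B) (K : ℕ) :
    fhTheta A B (u : ℝ) (v : ℝ) ^ (K + 1) - (A * B) ^ (K + 1) - (B * A) ^ (K + 1) ∈
      fhH (2 * K + 1) A B := by
  induction K with
  | zero =>
    have e : fhTheta A B (u : ℝ) (v : ℝ) ^ (0 + 1) - (A * B) ^ (0 + 1) - (B * A) ^ (0 + 1) =
        -(((v : ℝ) - 1) • altM 1 A B) - ((u : ℝ) - 1) • altM 1 B A +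
          (((u : ℝ) - 1) * ((v : ℝ) - 1)) • altM 0 A B := by
      simp only [zero_add, pow_one, fhTheta, altM, mul_one]
      abel
    rw [e]
    exact Submodule.add_mem _ (Submodule.sub_mem _
      (Submodule.neg_mem _ (Submodule.smul_mem _ _ (fh_word_mem (by omega))))
      (Submodule.smul_mem _ _ (fh_word_mem' (by omega))))
      (Submodule.smul_mem _ _ (fh_word_mem (by omega)))
  | succ K ih =>
    have h1 := D.theta_mul_H ih
    have h2 := D.theta_mul_pow K
    have h3 := D.swap.theta_mul_pow K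
    rw [fhTheta_symm, fhH_swap] at h3
    have e : fhTheta A B (u : ℝ) (v : ℝ) ^ (K + 1 + 1) - (A * B) ^ (K + 1 + 1) - (B * A) ^ (K + 1 + 1) =
        fhTheta A B (u : ℝ) (v : ℝ) *
          (fhTheta A B (u : ℝ) (v : ℝ) ^ (K + 1) - (A * B) ^ (K + 1) - (B * A) ^ (K + 1)) +
        (fhTheta A B (u : ℝ) (v : ℝ) * (A * B) ^ (K + 1) - (A * B) ^ (K + 2)) +
        (fhTheta A B (u : ℝ) (v : ℝ) * (B * A) ^ (K + 1) - (B * A) ^ (K + 2)) := by
      rw [pow_succ' (fhTheta A B (u : ℝ) (v : ℝ)) (K + 1)]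
      simp only [mul_sub]
      abel
    rw [e]
    have e3 : 2 * (K + 1) + 1 = 2 * K + 1 + 2 := by ring
    have e4 : 2 * (K + 1) + 1 = 2 * K + 3 := by ring
    rw [e3]
    refine Submodule.add_mem _ (Submodule.add_mem _ h1 ?_) ?_
    · rw [← e3, e4]; exact h2
    · rw [← e3, e4]; exact h3

theorem theta_pow_mem (D : FHData X m u v A B) (i : ℕ) :
    fhTheta A B (u : ℝ) (v : ℝ) ^ i ∈ fhH (2 * i) A B := by
  induction i with
  | zero => rw [pow_zero]; exact fh_word_mem (k := 0) (by omega)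
  | succ i ih =>
    rw [pow_succ']
    have := D.theta_mul_H ih
    have e : 2 * (i + 1) = 2 * i + 2 := by ring
    rw [e]; exact this

theorem aeval_lead (D : FHData X m u v A B) {g : Polynomial ℝ} (hg : g.Monic) (K : ℕ)
    (hK : g.natDegree = K + 1) :
    Polynomial.aeval (fhTheta A B (u : ℝ) (v : ℝ)) g - (A * B) ^ (K + 1) - (B * A) ^ (K + 1) ∈
      fhH (2 * K + 1) A B := by
  have h := hg.as_sum
  rw [hK] at h
  have e : Polynomial.aeval (fhTheta A B (u : ℝ) (v : ℝ)) g =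
      fhTheta A B (u : ℝ) (v : ℝ) ^ (K + 1) +
        ∑ i ∈ Finset.range (K + 1), g.coeff i • fhTheta A B (u : ℝ) (v : ℝ) ^ i := by
    conv_lhs => rw [h]
    simp only [map_add, map_pow, Polynomial.aeval_X, map_sum, map_mul, Polynomial.aeval_C,
      Algebra.algebraMap_eq_smul_one, smul_mul_assoc, one_mul]
  rw [e]
  have e2 : fhTheta A B (u : ℝ) (v : ℝ) ^ (K + 1) +
        ∑ i ∈ Finset.range (K + 1), g.coeff i • fhTheta A B (u : ℝ) (v : ℝ) ^ i -
        (A * B) ^ (K + 1) - (B * A) ^ (K + 1) =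
      (fhTheta A B (u : ℝ) (v : ℝ) ^ (K + 1) - (A * B) ^ (K + 1) - (B * A) ^ (K + 1)) +
        ∑ i ∈ Finset.range (K + 1), g.coeff i • fhTheta A B (u : ℝ) (v : ℝ) ^ i := by abel
  rw [e2]
  refine Submodule.add_mem _ (D.theta_pow_lead K) (Submodule.sum_mem _ (fun i hi => ?_))
  have hi' : i < K + 1 := Finset.mem_range.mp hi
  exact Submodule.smul_mem _ _ (fhH_mono (by omega) (D.theta_pow_mem i))

theorem orth_H (D : FHData X m u v A B) {K : ℕ} (hK : 2 * K + 2 ≤ m) {h : Matrix X X ℝ}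
    (hh : h ∈ fhH (2 * K + 1) A B) : Matrix.trace (h * (altM (2 * K + 2) A B)ᵀ) = 0 := by
  unfold fhH at hh
  induction hh using Submodule.span_induction with
  | mem x hx =>
    obtain ⟨k, hk, rfl | rfl⟩ := hx
    · exact fh_orth_of_disj (D.hd1 k (2 * K + 2) (by omega) hK)
    · rcases Nat.eq_zero_or_pos k with h0 | h0
      · subst h0
        exact fh_orth_of_disj (D.hd1 0 (2 * K + 2) (by omega) hK)
      · apply fh_orth_of_disj
        intro x y
        exact (D.hd3 (2 * K + 2) k (by omega) hK h0 (by omega) (Or.inr (by omega)) x y).symm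
  | zero => simp
  | add x y _ _ hx hy => rw [add_mul, Matrix.trace_add, hx, hy, add_zero]
  | smul a x _ hx => rw [smul_mul_assoc, Matrix.trace_smul, hx, smul_zero]

theorem aeval_ne_zero (D : FHData X m u v A B) [Nonempty X] {g : Polynomial ℝ} (hg : g.Monic)
    (hdeg : 2 * g.natDegree ≤ m) :
    Polynomial.aeval (fhTheta A B (u : ℝ) (v : ℝ)) g ≠ 0 := by
  have hn : (0 : ℝ) < Fintype.card X := by exact_mod_cast Fintype.card_pos
  rcases Nat.eq_zero_or_pos g.natDegree with h0 | h0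
  · have : g = 1 := by
      have := Polynomial.eq_C_of_natDegree_eq_zero h0
      rw [this]
      have hl : g.leadingCoeff = 1 := hg
      rw [Polynomial.leadingCoeff, h0] at hl
      rw [hl]; simp
    rw [this, map_one]
    exact one_ne_zero
  · obtain ⟨K, hK⟩ : ∃ K, g.natDegree = K + 1 := ⟨g.natDegree - 1, by omega⟩
    intro hz
    have h1 := D.aeval_lead hg K hK
    rw [hz, zero_sub] at h1
    have h2 := D.orth_H (K := K) (by omega) h1
    rw [sub_mul, neg_mul, Matrix.trace_sub, Matrix.trace_neg] at h2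
    have e1 : (A * B) ^ (K + 1) = altM (2 * K + 2) A B := (altM_even (K + 1) A B).symm
    have e2 : (B * A) ^ (K + 1) = altM (2 * K + 2) B A := (altM_even (K + 1) B A).symm
    have h3 : Matrix.trace ((A * B) ^ (K + 1) * (altM (2 * K + 2) A B)ᵀ) =
        (Fintype.card X : ℝ) * fhq (2 * K + 2) u v := by
      rw [e1]; exact D.norm_word (by omega)
    have hq : 0 < fhq (2 * K + 2) (u : ℝ) (v : ℝ) := fhq_pos _ _ _ D.u_pos D.v_pos
    have h4 : 0 ≤ Matrix.trace ((B * A) ^ (K + 1) * (altM (2 * K + 2) A B)ᵀ) := by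
      rw [e2]
      rcases Nat.lt_or_ge (2 * K + 2) m with hlt | hge
      · rw [fh_orth_of_disj]
        intro x y
        exact (D.hd3 (2 * K + 2) (2 * K + 2) (by omega) (by omega) (by omega) (by omega)
          (Or.inl hlt) x y).symm
      · have : 2 * K + 2 = m := by omega
        rw [this, ← D.hbr, D.norm_word le_rfl]
        exact (mul_pos hn (fhq_pos _ _ _ D.u_pos D.v_pos)).le
    have := mul_pos hn hq
    linarith

end FHData

end Cfsg.Agent.Lib.helper24
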