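import Cfsg.Agent.Lib.helper24.FHMat4

set_option autoImplicit false
set_option linter.unusedSectionVars false
set_option linter.unusedVariables false
set_option linter.unusedSimpArgs false

/-! Feit–Higman, the spectrum of `Θ` (helper24). -/

namespace Cfsg.Agent.Lib.helper24

open Matrix

section Cancel

variable {X : Type*} [Fintype X] [DecidableEq X] {A B : Matrix X X ℝ} {u v : ℝ}

theorem fh_A_cancel {Y : Matrix X X ℝ} (hA : A * A = (u - 1) • A + u • (1 : Matrix X X ℝ))
    (hu : u ≠ 0) (h : A * Y = 0) : Y = 0 := by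
  have e1 : (A - (u - 1) • (1 : Matrix X X ℝ)) * A = u • (1 : Matrix X X ℝ) := by
    rw [sub_mul, hA, smul_mul_assoc, one_mul]; abel
  have e2 : Y = u⁻¹ • ((A - (u - 1) • (1 : Matrix X X ℝ)) * (A * Y)) := by
    rw [← mul_assoc, e1, smul_mul_assoc, one_mul, smul_smul, inv_mul_cancel₀ hu, one_smul]
  rw [e2, h, mul_zero, smul_zero]

theorem fh_pow_cancel (hA : A * A = (u - 1) • A + u • (1 : Matrix X X ℝ))
    (hB : B * B = (v - 1) • B + v • (1 : Matrix X X ℝ)) (hu : u ≠ 0) (hv : v ≠ 0) (j : ℕ)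
    {Y : Matrix X X ℝ} (h : (A * B) ^ j * Y = 0) : Y = 0 := by
  induction j with
  | zero => simpa using h
  | succ j ih =>
    apply ih
    rw [pow_succ', mul_assoc, mul_assoc] at h
    exact fh_A_cancel hB hv (fh_A_cancel hA hu h)

end Cancel

namespace FHData

variable {X : Type*} [Fintype X] [DecidableEq X] {m u v : ℕ} {A B : Matrix X X ℝ}

/-- For odd `m`, the value `-(u+v)` is not an eigenvalue of `Θ`. -/
theorem excl (D : FHData X m u v A B) [Nonempty X] (hodd : m % 2 = 1) {P : Matrix X X ℝ} {θ : ℝ}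
    (hPA : P * A = A * P) (hPB : P * B = B * P) (hPt : Pᵀ = P)
    (hΘP : fhTheta A B (u : ℝ) (v : ℝ) * P = θ • P) (hP0 : P ≠ 0) :
    θ ≠ -((u : ℝ) + v) := by
  intro hθ
  have huv := D.u_eq_v_of_odd hodd
  obtain ⟨M, rfl⟩ : ∃ M, m = 2 * M + 1 := ⟨m / 2, by omega⟩
  have hbr := D.hbr
  rw [altM_odd, altM_odd] at hbr
  have hCC : fhComm A B * fhComm A B * P = 0 := by
    rw [fh_CCP D.hA D.hB hΘP, hθ]
    simp
  have hCt : (fhComm A B)ᵀ = -fhComm A B := by
    unfold fhComm
    rw [Matrix.transpose_sub, Matrix.transpose_mul, Matrix.transpose_mul, D.hAt, D.hBt]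
    abel
  have hCP : fhComm A B * P = 0 := by
    have h1 : (fhComm A B * P)ᴴ * (fhComm A B * P) = 0 := by
      rw [Matrix.conjTranspose_eq_transpose_of_trivial, Matrix.transpose_mul, hPt, hCt]
      have : P * -fhComm A B * (fhComm A B * P) = -(P * (fhComm A B * fhComm A B * P)) := by
        simp only [mul_neg, neg_mul, mul_assoc]
      rw [this, hCC, mul_zero, neg_zero]
    exact Matrix.conjTranspose_mul_self_eq_zero.mp h1
  have hAB : A * B * P = B * A * P := by
    have h1 := hCP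
    unfold fhComm at h1
    rw [sub_mul] at h1
    exact sub_eq_zero.mp h1
  have hPBA : Commute P (B * A) := by
    show P * (B * A) = B * A * P
    rw [← mul_assoc, hPB, mul_assoc, hPA, mul_assoc]
  have hpow : ∀ j : ℕ, (A * B) ^ j * P = (B * A) ^ j * P := by
    intro j
    induction j with
    | zero => simp
    | succ j ih =>
      have hc : P * (B * A) ^ j = (B * A) ^ j * P := (Commute.pow_right hPBA j).eq
      calc (A * B) ^ (j + 1) * P = (A * B) * ((A * B) ^ j * P) := by rw [pow_succ', mul_assoc]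
        _ = (A * B) * ((B * A) ^ j * P) := by rw [ih]
        _ = (A * B * P) * (B * A) ^ j := by rw [← hc]; simp only [mul_assoc]
        _ = (B * A * P) * (B * A) ^ j := by rw [hAB]
        _ = (B * A) ^ (j + 1) * P := by rw [mul_assoc, hc, ← mul_assoc, ← pow_succ']
  have hY : (A * B) ^ M * ((A - B) * P) = 0 := by
    calc (A * B) ^ M * ((A - B) * P) = (A * B) ^ M * A * P - (A * B) ^ M * (B * P) := by
          rw [sub_mul, mul_sub, mul_assoc]
      _ = (B * A) ^ M * B * P - ((A * B) ^ M * P) * B := by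
          rw [hbr, ← hPB, ← mul_assoc ((A * B) ^ M) P B]
      _ = (B * A) ^ M * B * P - ((B * A) ^ M * P) * B := by rw [hpow]
      _ = 0 := by rw [mul_assoc ((B * A) ^ M) P B, hPB, ← mul_assoc, sub_self]
  have hABP : (A - B) * P = 0 := fh_pow_cancel D.hA D.hB D.u_pos.ne' D.v_pos.ne' M hY
  have hAP : A * P = B * P := by
    rw [sub_mul] at hABP; exact sub_eq_zero.mp hABP
  have hΘ : fhTheta A B (u : ℝ) (v : ℝ) * P = ((u : ℝ) ^ 2 + 1) • P := by
    have e1 : A * (B * P) = A * A * P := by rw [← hAP, mul_assoc]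
    have e2 : B * (A * P) = B * B * P := by rw [hAP, mul_assoc]
    unfold fhTheta
    simp only [add_mul, sub_mul, smul_mul_assoc, one_mul, mul_assoc]
    rw [e1, e2, D.hA, D.hB]
    simp only [add_mul, smul_mul_assoc, one_mul, hAP, ← huv]
    module
  rw [hΘP, hθ] at hΘ
  have h2 : (((u : ℝ) ^ 2 + 1) + ((u : ℝ) + v)) • P = 0 := by
    rw [add_smul, ← hΘ, ← add_smul]
    simp
  rcases smul_eq_zero.mp h2 with h3 | h3
  · have := D.u_pos
    have := D.v_pos
    nlinarith
  · exact hP0 h3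

end FHData

/-! ### Polynomial versions -/

open Polynomial in
/-- The polynomial version of `fhAl`. -/
noncomputable def fhAlP (c : ℝ) : ℕ → Polynomial ℝ
  | 0 => 0
  | 1 => 1
  | (k + 2) => Polynomial.X * fhAlP c (k + 1) - Polynomial.C c * fhAlP c k

theorem fhAlP_eval (c x : ℝ) (k : ℕ) : (fhAlP c k).eval x = fhAl x c k := by
  induction k using Nat.twoStepInduction with
  | zero => simp [fhAlP]
  | one => simp [fhAlP]
  | more k ih1 ih2 => rw [fhAlP, fhAl_add_two]; simp [ih1, ih2]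

theorem fhAlP_monic (c : ℝ) (k : ℕ) :
    (fhAlP c (k + 1)).Monic ∧ (fhAlP c (k + 1)).natDegree = k := by
  induction k using Nat.twoStepInduction with
  | zero => simp [fhAlP]
  | one => simp [fhAlP]
  | more k ih1 ih2 =>
    have e : fhAlP c (k + 2 + 1) =
        Polynomial.X * fhAlP c (k + 2) - Polynomial.C c * fhAlP c (k + 1) := by
      rw [fhAlP]
    have hm : (Polynomial.X * fhAlP c (k + 2)).Monic := Polynomial.monic_X.mul ih2.1
    have hd : (Polynomial.X * fhAlP c (k + 2)).natDegree = k + 2 := by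
      rw [Polynomial.natDegree_X_mul ih2.1.ne_zero, ih2.2]
    have hlt : (Polynomial.C c * fhAlP c (k + 1)).natDegree <
        (Polynomial.X * fhAlP c (k + 2)).natDegree := by
      rw [hd]
      exact lt_of_le_of_lt (Polynomial.natDegree_C_mul_le _ _) (by rw [ih1.2]; omega)
    rw [e]
    exact ⟨hm.sub_of_left (Polynomial.degree_lt_degree hlt),
      by rw [Polynomial.natDegree_sub_eq_left_of_natDegree_lt hlt, hd]⟩

/-- The polynomial version of `fhBeta`. -/
noncomputable def fhBetaP (m : ℕ) (u c : ℝ) : Polynomial ℝ :=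
  if m % 2 = 0 then fhAlP c (m / 2) else fhAlP c (m / 2 + 1) + Polynomial.C u * fhAlP c (m / 2)

theorem fhBetaP_eval (m : ℕ) (u c x : ℝ) : (fhBetaP m u c).eval x = fhBeta m u c x := by
  unfold fhBetaP fhBeta
  split_ifs <;> simp [fhAlP_eval]

theorem fhBetaP_monic {m : ℕ} (hm : 2 ≤ m) (u c : ℝ) :
    (fhBetaP m u c).Monic ∧ (m % 2 = 0 → 2 * (fhBetaP m u c).natDegree + 2 = m) ∧
      (m % 2 = 1 → 2 * (fhBetaP m u c).natDegree + 1 = m) := by
  unfold fhBetaP
  split_ifs with h
  · obtain ⟨M, rfl⟩ : ∃ M, m = 2 * (M + 1) := ⟨m / 2 - 1, by omega⟩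
    have e : 2 * (M + 1) / 2 = M + 1 := by omega
    rw [e]
    refine ⟨(fhAlP_monic c M).1, fun _ => ?_, fun h' => by omega⟩
    rw [(fhAlP_monic c M).2]; ring
  · obtain ⟨M, rfl⟩ : ∃ M, m = 2 * (M + 1) + 1 := ⟨m / 2 - 1, by omega⟩
    have e : (2 * (M + 1) + 1) / 2 = M + 1 := by omega
    rw [e]
    have h1 := fhAlP_monic c (M + 1)
    have h2 := fhAlP_monic c M
    have hlt : (Polynomial.C u * fhAlP c (M + 1)).natDegree < (fhAlP c (M + 1 + 1)).natDegree := by
      rw [h1.2]
      exact lt_of_le_of_lt (Polynomial.natDegree_C_mul_le _ _) (by rw [h2.2]; omega)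
    refine ⟨h1.1.add_of_left (Polynomial.degree_lt_degree hlt), fun h' => by omega, fun _ => ?_⟩
    rw [Polynomial.natDegree_add_eq_left_of_natDegree_lt hlt, h1.2]

namespace FHData

variable {X : Type*} [Fintype X] [DecidableEq X] {m u v : ℕ} {A B : Matrix X X ℝ}

/-- The spectrum of `Θ`: every root of the braid polynomial occurs, and every non-special
eigenvalue satisfies the multiplicity formula. -/
theorem spectrum (D : FHData X m u v A B) [Nonempty X] :
    ∃ Z : Set ℝ, (∀ x : ℝ, fhBeta m u ((u : ℝ) * v) x = 0 → x ∈ Z) ∧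
      ∀ θ ∈ Z, (θ - ((u : ℝ) * v + 1)) * (θ + ((u : ℝ) + v)) ≠ 0 →
        ∃ μ : ℕ, 1 ≤ μ ∧ (μ : ℝ) * m * (((u : ℝ) + v + θ) * ((u : ℝ) * v + 1 - θ)) =
          2 * (Fintype.card X : ℝ) * (4 * ((u : ℝ) * v) - θ ^ 2) := by
  have hΘt : (fhTheta A B (u : ℝ) (v : ℝ))ᵀ = fhTheta A B (u : ℝ) (v : ℝ) := by
    unfold fhTheta
    simp only [Matrix.transpose_add, Matrix.transpose_sub, Matrix.transpose_mul,
      Matrix.transpose_smul, Matrix.transpose_one, D.hAt, D.hBt]
    abel
  obtain ⟨ev, -, hev, hproj⟩ := fh_spectral (fhTheta A B (u : ℝ) (v : ℝ)) hΘt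
  have hfacts : ∀ i₀ : X, ∃ P : Matrix X X ℝ, ∃ p : Polynomial ℝ,
      P = Polynomial.aeval (fhTheta A B (u : ℝ) (v : ℝ)) p ∧ P * P = P ∧ Pᵀ = P ∧
      fhTheta A B (u : ℝ) (v : ℝ) * P = ev i₀ • P ∧ ∃ μ : ℕ, 1 ≤ μ ∧ Matrix.trace P = (μ : ℝ) ∧
      P ≠ 0 ∧ P * A = A * P ∧ P * B = B * P := by
    intro i₀
    obtain ⟨p, h1, h2, h3, h4⟩ := hproj i₀
    have hμ : 1 ≤ (Finset.univ.filter (fun i => ev i = ev i₀)).card :=
      Finset.card_pos.mpr ⟨i₀, by simp⟩
    refine ⟨Polynomial.aeval (fhTheta A B (u : ℝ) (v : ℝ)) p, p, rfl, h1, h2, h3, _, hμ, h4, ?_,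
      fh_aeval_comm (fh_theta_comm_A D.hA) p, fh_aeval_comm (fh_theta_comm_B D.hB) p⟩
    intro h0
    rw [h0, Matrix.trace_zero] at h4
    have : (1 : ℝ) ≤ ((Finset.univ.filter (fun i => ev i = ev i₀)).card : ℝ) := by
      exact_mod_cast hμ
    linarith
  refine ⟨Set.range ev, ?_, ?_⟩
  · intro x₀ hx
    by_contra hne
    have hne' : ∀ i, ev i ≠ x₀ := fun i h => hne ⟨i, h⟩
    obtain ⟨hβm, hβe, hβo⟩ := fhBetaP_monic D.hm (u : ℝ) ((u : ℝ) * v)
    have hroot : ∀ x : ℝ, fhBeta m u ((u : ℝ) * v) x = 0 →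
        x ∈ (fhBetaP m (u : ℝ) ((u : ℝ) * v)).roots.toFinset := by
      intro x hx
      rw [Multiset.mem_toFinset, Polynomial.mem_roots hβm.ne_zero, Polynomial.IsRoot,
        fhBetaP_eval]
      exact hx
    have hx₀ := hroot x₀ hx
    have hRc : ((fhBetaP m (u : ℝ) ((u : ℝ) * v)).roots.toFinset.erase x₀).card + 1 ≤
        (fhBetaP m (u : ℝ) ((u : ℝ) * v)).natDegree := by
      have h1 : ((fhBetaP m (u : ℝ) ((u : ℝ) * v)).roots.toFinset.erase x₀).card + 1 =
          (fhBetaP m (u : ℝ) ((u : ℝ) * v)).roots.toFinset.card := by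
        rw [Finset.card_erase_of_mem hx₀]
        have := Finset.card_pos.mpr ⟨x₀, hx₀⟩
        omega
      rw [h1]
      exact le_trans (Multiset.toFinset_card_le _) (Polynomial.card_roots' _)
    generalize hR : (fhBetaP m (u : ℝ) ((u : ℝ) * v)).roots.toFinset.erase x₀ = R at hRc
    obtain ⟨f2, hf2m, hf2d, hf2e⟩ : ∃ f2 : Polynomial ℝ, f2.Monic ∧
        (f2.natDegree = if m % 2 = 0 then 1 else 0) ∧
        (m % 2 = 0 → ∀ x : ℝ, x + ((u : ℝ) + v) = 0 → f2.eval x = 0) := by
      by_cases h : m % 2 = 0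
      · refine ⟨Polynomial.X + Polynomial.C ((u : ℝ) + v), Polynomial.monic_X_add_C _, ?_, ?_⟩
        · rw [if_pos h]; exact Polynomial.natDegree_X_add_C _
        · intro _ x hx; simp [hx]
      · refine ⟨1, Polynomial.monic_one, ?_, ?_⟩
        · rw [if_neg h]; exact Polynomial.natDegree_one
        · intro h'; exact absurd h' h
    have hprodm : (∏ x ∈ R, (Polynomial.X - Polynomial.C x)).Monic :=
      Polynomial.monic_prod_of_monic _ _ (fun x _ => Polynomial.monic_X_sub_C x)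
    have hgm : ((Polynomial.X - Polynomial.C ((u : ℝ) * v + 1)) * f2 *
        ∏ x ∈ R, (Polynomial.X - Polynomial.C x)).Monic :=
      ((Polynomial.monic_X_sub_C _).mul hf2m).mul hprodm
    have hgd : ((Polynomial.X - Polynomial.C ((u : ℝ) * v + 1)) * f2 *
        ∏ x ∈ R, (Polynomial.X - Polynomial.C x)).natDegree = 1 + f2.natDegree + R.card := by
      rw [Polynomial.Monic.natDegree_mul ((Polynomial.monic_X_sub_C _).mul hf2m) hprodm,
        Polynomial.Monic.natDegree_mul (Polynomial.monic_X_sub_C _) hf2m,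
        Polynomial.natDegree_X_sub_C,
        Polynomial.natDegree_prod_of_monic _ _ (fun x _ => Polynomial.monic_X_sub_C x)]
      simp
    have hdeg : 2 * ((Polynomial.X - Polynomial.C ((u : ℝ) * v + 1)) * f2 *
        ∏ x ∈ R, (Polynomial.X - Polynomial.C x)).natDegree ≤ m := by
      rw [hgd, hf2d]
      rcases Nat.mod_two_eq_zero_or_one m with h | h
      · rw [if_pos h]
        have := hβe h; omega
      · rw [if_neg (by omega)]
        have := hβo h; omega
    have hvan : ∀ i, ((Polynomial.X - Polynomial.C ((u : ℝ) * v + 1)) * f2 *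
        ∏ x ∈ R, (Polynomial.X - Polynomial.C x)).eval (ev i) = 0 := by
      intro i
      obtain ⟨P, p, hp, hPP, hPt, hΘP, μ, hμ1, htr, hP0, hPA, hPB⟩ := hfacts i
      rw [Polynomial.eval_mul, Polynomial.eval_mul]
      by_cases hκ : (ev i - ((u : ℝ) * v + 1)) * (ev i + ((u : ℝ) + v)) = 0
      · rcases mul_eq_zero.mp hκ with h1 | h1
        · have : (Polynomial.X - Polynomial.C ((u : ℝ) * v + 1)).eval (ev i) = 0 := by
            simp [h1]
          rw [this, zero_mul, zero_mul]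
        · rcases Nat.mod_two_eq_zero_or_one m with h | h
          · rw [hf2e h (ev i) h1, mul_zero, zero_mul]
          · exact absurd (by linarith) (D.excl h hPA hPB hPt hΘP hP0)
      · have hb := D.beta_zero hPA hPB hΘP hP0 hκ
        have hmem : ev i ∈ R := by
          rw [← hR, Finset.mem_erase]
          exact ⟨hne' i, hroot _ hb⟩
        have : (∏ x ∈ R, (Polynomial.X - Polynomial.C x)).eval (ev i) = 0 := by
          rw [Polynomial.eval_prod]
          exact Finset.prod_eq_zero hmem (by simp)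
        rw [this, mul_zero]
    exact D.aeval_ne_zero hgm hdeg (hev _ hvan)
  · rintro θ ⟨i, rfl⟩ hκ
    obtain ⟨P, p, hp, hPP, hPt, hΘP, μ, hμ1, htr, hP0, hPA, hPB⟩ := hfacts i
    refine ⟨μ, hμ1, ?_⟩
    have hb := D.beta_zero hPA hPB hΘP hP0 hκ
    have h0 := D.al_of_beta hb
    have hμ0 : Matrix.trace P ≠ 0 := by
      rw [htr]
      exact_mod_cast (by omega : μ ≠ 0)
    have := D.mult_formula p hp hPP hPt hΘP hκ hμ0 h0
    rw [htr] at this
    exact this

end FHData

end Cfsg.Agent.Lib.helper24
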