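import Cfsg.Agent.Lib.helper24.FHMat5

set_option autoImplicit false
set_option linter.unusedSectionVars false
set_option linter.unusedVariables false
set_option linter.unusedSimpArgs false

/-! Feit–Higman, the arithmetic conclusion (helper24). -/

namespace Cfsg.Agent.Lib.helper24

open Matrix

theorem fh_trig (r φ : ℝ) (k : ℕ) :
    fhAl (2 * r * Real.cos φ) (r ^ 2) k * Real.sin φ * r = r ^ k * Real.sin (k * φ) := by
  induction k using Nat.twoStepInduction with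
  | zero => simp
  | one => simp; ring
  | more k ih1 ih2 =>
    rw [fhAl_add_two]
    have e1 : ((k + 2 : ℕ) : ℝ) * φ = ((k + 1 : ℕ) : ℝ) * φ + φ := by push_cast; ring
    have e2 : ((k : ℕ) : ℝ) * φ = ((k + 1 : ℕ) : ℝ) * φ - φ := by push_cast; ring
    rw [e1, Real.sin_add]
    rw [e2, Real.sin_sub] at ih1
    linear_combination (2 * r * Real.cos φ) * ih2 - r ^ 2 * ih1

theorem fh_root_even {r : ℝ} (hr : 0 < r) {M : ℕ} (hM : 2 ≤ M) :
    fhAl (2 * r * Real.cos (Real.pi / M)) (r ^ 2) M = 0 := by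
  have hM' : (2 : ℝ) ≤ M := by exact_mod_cast hM
  have h := fh_trig r (Real.pi / M) M
  have e : (M : ℝ) * (Real.pi / M) = Real.pi := by field_simp
  rw [e, Real.sin_pi, mul_zero] at h
  have hs : 0 < Real.sin (Real.pi / M) := by
    apply Real.sin_pos_of_pos_of_lt_pi (by positivity)
    rw [div_lt_iff₀ (by positivity)]
    nlinarith [Real.pi_pos]
  rcases mul_eq_zero.mp h with h1 | h1
  · rcases mul_eq_zero.mp h1 with h2 | h2
    · exact h2
    · exact absurd h2 hs.ne'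
  · exact absurd h1 hr.ne'

theorem fh_root_odd {u : ℝ} (hu : 0 < u) {M : ℕ} (hM : 1 ≤ M) :
    fhAl (2 * u * Real.cos (2 * Real.pi / (2 * M + 1 : ℕ))) (u ^ 2) (M + 1) +
      u * fhAl (2 * u * Real.cos (2 * Real.pi / (2 * M + 1 : ℕ))) (u ^ 2) M = 0 := by
  have hM' : (1 : ℝ) ≤ M := by exact_mod_cast hM
  set φ : ℝ := 2 * Real.pi / (2 * M + 1 : ℕ) with hφ
  have h1 := fh_trig u φ (M + 1)
  have h2 := fh_trig u φ M
  have e : ((M + 1 : ℕ) : ℝ) * φ = 2 * Real.pi - (M : ℝ) * φ := by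
    rw [hφ]; push_cast; field_simp; ring
  rw [e, Real.sin_two_pi_sub] at h1
  have hs : 0 < Real.sin φ := by
    apply Real.sin_pos_of_pos_of_lt_pi
    · rw [hφ]; positivity
    · rw [hφ, div_lt_iff₀ (by positivity)]
      push_cast
      nlinarith [Real.pi_pos]
  have h3 : (fhAl (2 * u * Real.cos φ) (u ^ 2) (M + 1) + u * fhAl (2 * u * Real.cos φ) (u ^ 2) M) *
      (Real.sin φ * u) = 0 := by
    linear_combination h1 + u * h2
  exact (mul_eq_zero.mp h3).resolve_right (mul_pos hs hu).ne'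

theorem fhAl_neg (x c : ℝ) (k : ℕ) : fhAl (-x) c k = (-1) ^ (k + 1) * fhAl x c k := by
  induction k using Nat.twoStepInduction with
  | zero => simp
  | one => simp
  | more k ih1 ih2 =>
    rw [fhAl_add_two, fhAl_add_two, ih1, ih2]
    ring

theorem fhAl_neg_zero {x c : ℝ} {k : ℕ} (h : fhAl x c k = 0) : fhAl (-x) c k = 0 := by
  rw [fhAl_neg, h, mul_zero]

theorem fhAl_six (x c : ℝ) : fhAl x c 6 = x * (x ^ 2 - c) * (x ^ 2 - 3 * c) := by
  have e2 : fhAl x c 2 = x := fhAl_two x c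
  have e3 : fhAl x c 3 = x * fhAl x c 2 - c * fhAl x c 1 := fhAl_add_two x c 1
  have e4 : fhAl x c 4 = x * fhAl x c 3 - c * fhAl x c 2 := fhAl_add_two x c 2
  have e5 : fhAl x c 5 = x * fhAl x c 4 - c * fhAl x c 3 := fhAl_add_two x c 3
  have e6 : fhAl x c 6 = x * fhAl x c 5 - c * fhAl x c 4 := fhAl_add_two x c 4
  rw [e6, e5, e4, e3, e2, fhAl_one]
  ring

theorem fh_irr_lin {θ : ℝ} (hθ : Irrational θ) (a b : ℤ) (h : (a : ℝ) * θ + b = 0) :
    a = 0 ∧ b = 0 := by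
  by_cases ha : a = 0
  · subst ha
    simp at h
    exact ⟨rfl, by exact_mod_cast h⟩
  · exfalso
    apply hθ
    refine ⟨(-b : ℚ) / a, ?_⟩
    have ha' : (a : ℝ) ≠ 0 := by exact_mod_cast ha
    push_cast
    field_simp
    linarith

theorem fh_even_rat {u v N t t' : ℕ} (hu : 2 ≤ u) (hv : 2 ≤ v) (hN : 1 ≤ N) (ht : 1 ≤ t)
    (ht' : 1 ≤ t') {θ : ℝ}
    (h1 : (t : ℝ) * (((u : ℝ) + v + θ) * ((u : ℝ) * v + 1 - θ)) = 2 * N * (4 * ((u : ℝ) * v) - θ ^ 2))
    (h2 : (t' : ℝ) * (((u : ℝ) + v - θ) * ((u : ℝ) * v + 1 + θ)) = 2 * N * (4 * ((u : ℝ) * v) - θ ^ 2)) :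
    ¬ Irrational θ := by
  intro hirr
  have hu' : (2 : ℤ) ≤ u := by exact_mod_cast hu
  have hv' : (2 : ℤ) ≤ v := by exact_mod_cast hv
  have hB1 : 1 ≤ (u : ℤ) * v + 1 - u - v := by nlinarith
  have hP1 : 1 ≤ ((u : ℤ) + v) * ((u : ℤ) * v + 1) - 4 * ((u : ℤ) * v) := by
    have h3 : (0 : ℤ) ≤ ((u : ℤ) + v - 4) * ((u : ℤ) * v + 1) :=
      mul_nonneg (by linarith) (by nlinarith)
    nlinarith
  obtain ⟨ha, hb⟩ := fh_irr_lin hirr
    (((u : ℤ) * v + 1 - u - v) * (2 * N * ((t : ℤ) + t') - 2 * t * t'))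
    (2 * N * ((t : ℤ) - t') * (((u : ℤ) + v) * ((u : ℤ) * v + 1) - 4 * ((u : ℤ) * v)))
    (by push_cast; linear_combination (2 * (N : ℝ) - t') * h1 - (2 * (N : ℝ) - t) * h2)
  have htt : (t : ℤ) = t' := by
    rcases mul_eq_zero.mp hb with h | h
    · rcases mul_eq_zero.mp h with h' | h'
      · omega
      · omega
    · omega
  have ha' : 2 * (N : ℤ) * ((t : ℤ) + t') - 2 * t * t' = 0 := by
    rcases mul_eq_zero.mp ha with h | h
    · omega
    · exact h
  rw [← htt] at ha'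
  have htN : (t : ℤ) = 2 * N := by
    have h3 : 2 * (t : ℤ) * (2 * N - t) = 0 := by linear_combination ha'
    rcases mul_eq_zero.mp h3 with h | h
    · omega
    · omega
  have htN' : (t : ℝ) = 2 * N := by exact_mod_cast htN
  have hN0 : (2 : ℝ) * N ≠ 0 := by
    have : (1 : ℝ) ≤ N := by exact_mod_cast hN
    positivity
  rw [htN'] at h1
  have h4 := mul_left_cancel₀ hN0 h1
  obtain ⟨hc, hd⟩ := fh_irr_lin hirr ((u : ℤ) * v + 1 - u - v)
    (((u : ℤ) + v) * ((u : ℤ) * v + 1) - 4 * ((u : ℤ) * v))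
    (by push_cast; linear_combination h4)
  omega

theorem fh_odd_rat {u N t : ℕ} (hu : 2 ≤ u) (hN : 1 ≤ N) (ht : 1 ≤ t) {θ : ℝ}
    (hθ : θ + ((u : ℝ) + u) ≠ 0)
    (h1 : (t : ℝ) * (((u : ℝ) + u + θ) * ((u : ℝ) * u + 1 - θ)) = 2 * N * (4 * ((u : ℝ) * u) - θ ^ 2)) :
    ∃ q : ℚ, θ = q := by
  have hu' : (2 : ℝ) ≤ u := by exact_mod_cast hu
  have hN' : (1 : ℝ) ≤ N := by exact_mod_cast hN
  have h2 : (θ + ((u : ℝ) + u)) * ((t : ℝ) * ((u : ℝ) * u + 1 - θ) - 2 * N * (2 * u - θ)) = 0 := by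
    linear_combination h1
  have h3 : (t : ℝ) * ((u : ℝ) * u + 1 - θ) - 2 * N * (2 * u - θ) = 0 :=
    (mul_eq_zero.mp h2).resolve_left hθ
  by_cases h4 : (2 : ℝ) * N - t = 0
  · exfalso
    have h5 : (t : ℝ) = 2 * N := by linarith
    rw [h5] at h3
    have h6 : 2 * (N : ℝ) * (((u : ℝ) - 1) ^ 2) = 0 := by linear_combination h3
    have h7 : 0 < 2 * (N : ℝ) * (((u : ℝ) - 1) ^ 2) := by
      have : (0 : ℝ) < (u : ℝ) - 1 := by linarith
      positivity
    linarith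
  · refine ⟨((4 * N * u - t * (u * u + 1) : ℤ) : ℚ) / ((2 * N - t : ℤ) : ℚ), ?_⟩
    push_cast
    rw [eq_div_iff h4]
    linear_combination h3

theorem fh_niven {k : ℕ} (hk : 2 ≤ k) (h : ∃ q : ℚ, Real.cos (2 * Real.pi / k) = q) :
    k = 2 ∨ k = 3 ∨ k = 4 ∨ k = 6 := by
  have hk' : (2 : ℚ) ≤ k := by exact_mod_cast hk
  have hk0 : (k : ℚ) ≠ 0 := by positivity
  have h1 : ∃ q : ℚ, Real.cos (((2 / k : ℚ) : ℝ) * Real.pi) = q := by
    obtain ⟨q, hq⟩ := h
    refine ⟨q, ?_⟩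
    rw [← hq]
    congr 1
    push_cast
    ring
  have h2 : (2 / k : ℚ) ∈ Set.Icc (0 : ℚ) 1 := by
    constructor
    · positivity
    · rw [div_le_one (by positivity)]; exact hk'
  have h3 := niven_angle_div_pi_eq h1 h2
  simp only [Set.mem_insert_iff, Set.mem_singleton_iff] at h3
  rcases h3 with h3 | h3 | h3 | h3 | h3
  · exfalso
    rw [div_eq_zero_iff] at h3
    rcases h3 with h3 | h3
    · norm_num at h3
    · exact hk0 h3
  · right; right; right
    have : (k : ℚ) = 6 := by field_simp at h3; linarith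
    exact_mod_cast this
  · right; right; left
    have : (k : ℚ) = 4 := by field_simp at h3; linarith
    exact_mod_cast this
  · right; left
    have : (k : ℚ) = 3 := by field_simp at h3; linarith
    exact_mod_cast this
  · left
    have : (k : ℚ) = 2 := by field_simp at h3; linarith
    exact_mod_cast this

end Cfsg.Agent.Lib.helper24
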