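import Mathlib

/-!
# Cyclic vectors for elements of prime order `n` when `q` is a primitive root mod `n`

`F` a finite field with `q` elements, `n` a prime with `orderOf (q : ZMod n) = n - 1`.
A linear map `y` of an `n`-dimensional space with `y ^ n = 1`, `y ≠ 1` has a cyclic vector, and any
two such matrices are conjugate by a matrix of determinant `1`.
-/

set_option autoImplicit false

namespace Cfsg.Agent.Lib.helper24

open Module

section CyclicVec

variable {F : Type*} [Field F] [Fintype F] {V : Type*} [AddCommGroup V] [Module F V]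
  [FiniteDimensional F V]

/-- The restriction of `y` to an invariant subspace, as a self-map. -/
def fscEnd (y : V →ₗ[F] V) (U : Submodule F V) (hU : ∀ u ∈ U, y u ∈ U) : Function.End U :=
  fun u : U => (⟨y u, hU u u.2⟩ : U)

omit [Fintype F] [FiniteDimensional F V] in
theorem fsc_end_pow_apply (y : V →ₗ[F] V) (U : Submodule F V) (hU : ∀ u ∈ U, y u ∈ U)
    (k : ℕ) (u : U) :
    (((fscEnd y U hU) ^ k) u : V) = (y ^ k) u := by
  induction k generalizing u with
  | zero => rfl
  | succ k ih =>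
    rw [pow_succ', pow_succ']
    change y (((fscEnd y U hU) ^ k) u : V) = y ((y ^ k) u)
    rw [ih]

/-- An invariant subspace on which `y` (of prime order `n`) has no nonzero fixed vector has
dimension divisible by the order of `q` modulo `n`. -/
theorem fsc_orderOf_dvd_finrank {n : ℕ} [Fact n.Prime] (y : V →ₗ[F] V) (hy : y ^ n = 1)
    (U : Submodule F V) (hU : ∀ u ∈ U, y u ∈ U) (hfix : ∀ u ∈ U, y u = u → u = 0) :
    orderOf ((Fintype.card F : ℕ) : ZMod n) ∣ finrank F U := by
  classical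
  haveI : Finite V := Module.finite_of_finite F
  haveI : Fintype U := Fintype.ofFinite U
  set f : Function.End U := fscEnd y U hU with hf
  have hfn : f ^ n ^ 1 = 1 := by
    rw [pow_one]
    funext u
    apply Subtype.ext
    rw [hf, fsc_end_pow_apply y U hU n u, hy]
    rfl
  have h1 := Equiv.Perm.card_fixedPoints_modEq (f := f) (p := n) (n := 1) hfn
  have hfp : Function.fixedPoints f = {0} := by
    ext u
    simp only [Set.mem_singleton_iff]
    constructor
    · intro h
      have h' : y u = u := congrArg Subtype.val h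
      exact Subtype.ext (hfix u u.2 h')
    · rintro rfl
      apply Subtype.ext
      change y ((0 : U) : V) = ((0 : U) : V)
      simp
  have hc1 : Nat.card (Function.fixedPoints f) = 1 := by
    rw [Nat.card_coe_set_eq, hfp, Set.ncard_singleton]
  have hcU : Nat.card U = Fintype.card F ^ finrank F U := by
    rw [Nat.card_eq_fintype_card, Module.card_eq_pow_finrank (K := F) (V := U)]
  simp only [Fintype.card_eq_nat_card] at h1
  rw [hc1, hcU] at h1
  apply orderOf_dvd_of_pow_eq_one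
  have h2 := (ZMod.natCast_eq_natCast_iff _ _ n).2 h1
  push_cast at h2
  exact h2

/-- Existence of a cyclic vector. -/
theorem fsc_exists_cyclic_vector {n : ℕ} [Fact n.Prime] (hn3 : 3 ≤ n) (hnF : (n : F) ≠ 0)
    (hord : orderOf ((Fintype.card F : ℕ) : ZMod n) = n - 1)
    (hV : finrank F V = n) (y : V →ₗ[F] V) (hy : y ^ n = 1) (hy1 : y ≠ 1) :
    ∃ v : V, LinearIndependent F (fun j : Fin n => (y ^ (j : ℕ)) v) := by
  classical
  set S : V →ₗ[F] V := ∑ j ∈ Finset.range n, y ^ j with hS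
  have hSy : S * (y - 1) = 0 := by rw [hS, geom_sum_mul, hy, sub_self]
  have hyS : (y - 1) * S = 0 := by rw [hS, mul_geom_sum, hy, sub_self]
  have hyS' : ∀ v, y (S v) = S v := by
    intro v
    have := congrArg (fun g : V →ₗ[F] V => g v) hyS
    simp only [Module.End.mul_apply, LinearMap.sub_apply, Module.End.one_apply,
      LinearMap.zero_apply] at this
    exact sub_eq_zero.1 this
  have hSy' : ∀ v, S (y v) = S v := by
    intro v
    have := congrArg (fun g : V →ₗ[F] V => g v) hSy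
    simp only [Module.End.mul_apply, LinearMap.sub_apply, Module.End.one_apply,
      LinearMap.zero_apply, map_sub] at this
    exact sub_eq_zero.1 this
  have hpowfix : ∀ v, y v = v → ∀ j : ℕ, (y ^ j) v = v := by
    intro v hv j
    induction j with
    | zero => simp
    | succ j ih => rw [pow_succ, Module.End.mul_apply, hv, ih]
  have hSfix : ∀ v, y v = v → S v = (n : F) • v := by
    intro v hv
    rw [hS, LinearMap.sum_apply]
    rw [Finset.sum_congr rfl (fun j _ => hpowfix v hv j)]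
    rw [Finset.sum_const, Finset.card_range, Nat.cast_smul_eq_nsmul]
  set W : Submodule F V := LinearMap.ker S with hW
  have hWinv : ∀ w ∈ W, y w ∈ W := by
    intro w hw
    rw [hW, LinearMap.mem_ker] at hw ⊢
    rw [hSy', hw]
  have hWfix : ∀ w ∈ W, y w = w → w = 0 := by
    intro w hw hyw
    rw [hW, LinearMap.mem_ker, hSfix w hyw] at hw
    exact (smul_eq_zero.1 hw).resolve_left hnF
  have hproj : ∀ v, v - (n : F)⁻¹ • S v ∈ W := by
    intro v
    rw [hW, LinearMap.mem_ker, map_sub, map_smul, hSfix (S v) (hyS' v), smul_smul,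
      inv_mul_cancel₀ hnF, one_smul, sub_self]
  have hWbot : W ≠ ⊥ := by
    intro hbot
    apply hy1
    ext v
    have h1 := hproj v
    rw [hbot, Submodule.mem_bot, sub_eq_zero] at h1
    rw [Module.End.one_apply]
    conv_lhs => rw [h1]
    rw [map_smul, hyS' v]
    exact h1.symm
  have hdvdW := fsc_orderOf_dvd_finrank y hy W hWinv hWfix
  rw [hord] at hdvdW
  have hWpos : 0 < finrank F W := by
    rw [Module.finrank_pos_iff_exists_ne_zero]
    obtain ⟨w, hw, hw0⟩ := (Submodule.ne_bot_iff W).1 hWbot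
    exact ⟨⟨w, hw⟩, fun h => hw0 (congrArg Subtype.val h)⟩
  have hWle : finrank F W ≤ n := hV ▸ Submodule.finrank_le W
  have hWeq : finrank F W = n - 1 := by
    obtain ⟨c, hc⟩ := hdvdW
    have hc1 : c = 1 := by
      rcases c with _ | _ | c
      · rw [mul_zero] at hc; omega
      · rfl
      · exfalso
        have : (n - 1) * (c + 1 + 1) ≥ (n - 1) * 2 := Nat.mul_le_mul_left _ (by omega)
        have h2 : (n - 1) * 2 = 2 * n - 2 := by omega
        omega
    rw [hc, hc1, mul_one]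
  -- a nonzero fixed vector
  have hex0 : ∃ v₀ : V, y v₀ = v₀ ∧ v₀ ∉ W := by
    have hlt : W ≠ ⊤ := by
      intro htop
      rw [htop, finrank_top, hV] at hWeq
      omega
    obtain ⟨v, hv⟩ : ∃ v, v ∉ W := by
      by_contra hcon
      push Not at hcon
      exact hlt (Submodule.eq_top_iff'.2 hcon)
    refine ⟨S v, hyS' v, fun h => hv ?_⟩
    rw [hW, LinearMap.mem_ker, hSfix (S v) (hyS' v)] at h
    rw [hW, LinearMap.mem_ker]
    exact (smul_eq_zero.1 h).resolve_left hnF
  obtain ⟨v₀, hv₀, hv₀W⟩ := hex0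
  obtain ⟨w, hw, hw0⟩ := (Submodule.ne_bot_iff W).1 hWbot
  set v := v₀ + w with hv
  refine ⟨v, ?_⟩
  set U : Submodule F V := Submodule.span F (Set.range fun j : Fin n => (y ^ (j : ℕ)) v) with hUdef
  have hn0 : 0 < n := by omega
  have hvU : v ∈ U := by
    apply Submodule.subset_span
    exact ⟨⟨0, hn0⟩, by simp⟩
  have hUinv' : U ≤ U.comap y := by
    rw [hUdef]
    apply Submodule.span_le.2
    rintro _ ⟨j, rfl⟩
    rw [SetLike.mem_coe, Submodule.mem_comap, ← Module.End.mul_apply, ← pow_succ']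
    by_cases hj : (j : ℕ) + 1 < n
    · exact Submodule.subset_span ⟨⟨(j : ℕ) + 1, hj⟩, rfl⟩
    · have hj' : (j : ℕ) + 1 = n := by have := j.2; omega
      rw [hj', hy, Module.End.one_apply]
      exact hvU
  have hUinv : ∀ u ∈ U, y u ∈ U := fun u hu => hUinv' hu
  have hw1U : y w - w ∈ U := by
    have h1 : y v - v ∈ U := U.sub_mem (hUinv v hvU) hvU
    have h2 : y v - v = y w - w := by rw [hv, map_add, hv₀]; abel
    rwa [h2] at h1
  have hw1W : y w - w ∈ W := W.sub_mem (hWinv w hw) hw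
  have hw1ne : y w - w ≠ 0 := fun h => hw0 (hWfix w hw (sub_eq_zero.1 h))
  have hUWinv : ∀ u ∈ U ⊓ W, y u ∈ U ⊓ W := fun u hu => ⟨hUinv u hu.1, hWinv u hu.2⟩
  have hUWfix : ∀ u ∈ U ⊓ W, y u = u → u = 0 := fun u hu h => hWfix u hu.2 h
  have hdvdUW := fsc_orderOf_dvd_finrank y hy (U ⊓ W) hUWinv hUWfix
  rw [hord] at hdvdUW
  have hUWpos : 0 < finrank F ↥(U ⊓ W) := by
    rw [Module.finrank_pos_iff_exists_ne_zero]
    exact ⟨⟨y w - w, hw1U, hw1W⟩, fun h => hw1ne (congrArg Subtype.val h)⟩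
  have hUWge : n - 1 ≤ finrank F ↥(U ⊓ W) := Nat.le_of_dvd hUWpos hdvdUW
  have hUW : U ⊓ W = W :=
    Submodule.eq_of_le_of_finrank_le inf_le_right (by rw [hWeq]; exact hUWge)
  have hWU : W ≤ U := by rw [← hUW]; exact inf_le_left
  have hv₀U : v₀ ∈ U := by
    have : v₀ = v - w := by rw [hv]; abel
    rw [this]
    exact U.sub_mem hvU (hWU hw)
  have hWltU : W < U := lt_of_le_of_ne hWU (fun h => hv₀W (h ▸ hv₀U))
  have hUfin : n ≤ finrank F U := by
    have := Submodule.finrank_lt_finrank_of_lt hWltU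
    omega
  have hUtop : U = ⊤ := by
    apply Submodule.eq_top_of_finrank_eq
    have := Submodule.finrank_le U
    omega
  apply linearIndependent_of_top_le_span_of_card_eq_finrank
  · rw [← hUdef, hUtop]
  · rw [Fintype.card_fin, hV]

end CyclicVec

section Mat

variable {F : Type*} [Field F] [Fintype F]

/-- The cyclic shift matrix. -/
def fscCyc (F : Type*) [Field F] (n : ℕ) [NeZero n] : Matrix (Fin n) (Fin n) F :=
  Matrix.of fun i j => if i = j + 1 then 1 else 0

theorem fsc_exists_basis_matrix {n : ℕ} [Fact n.Prime] [NeZero n] (hn3 : 3 ≤ n) (hnF : (n : F) ≠ 0)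
    (hord : orderOf ((Fintype.card F : ℕ) : ZMod n) = n - 1)
    (Y : Matrix (Fin n) (Fin n) F) (hY : Y ^ n = 1) (hY1 : Y ≠ 1) :
    ∃ B : Matrix (Fin n) (Fin n) F, IsUnit B ∧ Y * B = B * fscCyc F n := by
  classical
  set y : (Fin n → F) →ₗ[F] (Fin n → F) := Matrix.toLinAlgEquiv' Y with hy
  have hyn : y ^ n = 1 := by rw [hy, ← map_pow, hY, map_one]
  have hy1 : y ≠ 1 := by
    intro h
    apply hY1
    apply (Matrix.toLinAlgEquiv' (R := F) (n := Fin n)).injective
    rw [map_one]
    exact h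
  have hV : Module.finrank F (Fin n → F) = n := by simp
  obtain ⟨v, hv⟩ := fsc_exists_cyclic_vector hn3 hnF hord hV y hyn hy1
  set B : Matrix (Fin n) (Fin n) F := Matrix.of fun (i j : Fin n) => (y ^ (j : ℕ)) v i with hB
  refine ⟨B, ?_, ?_⟩
  · apply Matrix.linearIndependent_cols_iff_isUnit.1
    exact hv
  · ext i j
    have h1 : (Y * B) i j = (y ((y ^ (j : ℕ)) v)) i := by
      rw [hy, Matrix.toLinAlgEquiv'_apply]
      rfl
    have h2 : (B * fscCyc F n) i j = (y ^ ((j + 1 : Fin n) : ℕ)) v i := by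
      rw [Matrix.mul_apply]
      simp [fscCyc, hB]
    rw [h1, h2, ← Module.End.mul_apply, ← pow_succ']
    have h3 : ((j + 1 : Fin n) : ℕ) = ((j : ℕ) + 1) % n := by
      rw [Fin.val_add]
      congr 2
      rw [Fin.val_one']
      exact Nat.mod_eq_of_lt (by omega)
    rw [h3, ← pow_eq_pow_mod _ hyn]

theorem fsc_exists_conj {n : ℕ} [Fact n.Prime] (hn3 : 3 ≤ n) (hnF : (n : F) ≠ 0)
    (hord : orderOf ((Fintype.card F : ℕ) : ZMod n) = n - 1)
    (Y₁ Y₂ : Matrix (Fin n) (Fin n) F) (h₁ : Y₁ ^ n = 1) (h₁' : Y₁ ≠ 1)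
    (h₂ : Y₂ ^ n = 1) (h₂' : Y₂ ≠ 1) :
    ∃ P : Matrix (Fin n) (Fin n) F, P.det = 1 ∧ Y₁ * P = P * Y₂ := by
  classical
  haveI : NeZero n := ⟨(Fact.out : n.Prime).ne_zero⟩
  obtain ⟨B₁, hB₁, hYB₁⟩ := fsc_exists_basis_matrix hn3 hnF hord Y₁ h₁ h₁'
  obtain ⟨B₂, hB₂, hYB₂⟩ := fsc_exists_basis_matrix hn3 hnF hord Y₂ h₂ h₂'
  have hd₁ : IsUnit B₁.det := (Matrix.isUnit_iff_isUnit_det B₁).1 hB₁
  have hd₂ : IsUnit B₂.det := (Matrix.isUnit_iff_isUnit_det B₂).1 hB₂
  have hd₁0 : B₁.det ≠ 0 := hd₁.ne_zero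
  have hd₂0 : B₂.det ≠ 0 := hd₂.ne_zero
  set c : F := (B₂.det / B₁.det - 1) / n with hc
  set D : Matrix (Fin n) (Fin n) F :=
    1 + Matrix.replicateCol Unit (fun _ => c) * Matrix.replicateRow Unit (fun _ => (1 : F)) with hD
  have hDdet : D.det = B₂.det / B₁.det := by
    rw [hD, Matrix.det_one_add_replicateCol_mul_replicateRow]
    simp only [dotProduct, one_mul, Finset.sum_const, Finset.card_univ, Fintype.card_fin,
      nsmul_eq_mul]
    rw [hc]
    field_simp
    ring
  have hDC : D * fscCyc F n = fscCyc F n * D := by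
    ext i j
    rw [hD, Matrix.add_mul, Matrix.mul_add, Matrix.one_mul, Matrix.mul_one, Matrix.add_apply,
      Matrix.add_apply]
    congr 1
    rw [Matrix.mul_apply, Matrix.mul_apply]
    simp only [Matrix.mul_apply, Matrix.replicateCol_apply, Matrix.replicateRow_apply,
      Finset.univ_unique, Finset.sum_singleton, mul_one, fscCyc, Matrix.of_apply, mul_ite,
      mul_zero, ite_mul, one_mul, zero_mul]
    rw [Finset.sum_ite_eq' Finset.univ (j + 1) (fun _ => c)]
    have : ∀ k : Fin n, (i = k + 1) = (k = i - 1) := by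
      intro k
      apply propext
      constructor
      · intro h; rw [h]; abel
      · intro h; rw [h]; abel
    simp only [this]
    rw [Finset.sum_ite_eq' Finset.univ (i - 1) (fun _ => c)]
    simp
  have hinv : fscCyc F n * B₂⁻¹ = B₂⁻¹ * Y₂ := by
    have e1 : B₂⁻¹ * (Y₂ * B₂) * B₂⁻¹ = B₂⁻¹ * (B₂ * fscCyc F n) * B₂⁻¹ := by rw [hYB₂]
    rw [Matrix.mul_assoc, Matrix.mul_assoc, Matrix.mul_nonsing_inv B₂ hd₂, Matrix.mul_one,
      ← Matrix.mul_assoc B₂⁻¹ B₂, Matrix.nonsing_inv_mul B₂ hd₂, Matrix.one_mul] at e1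
    exact e1.symm
  refine ⟨B₁ * D * B₂⁻¹, ?_, ?_⟩
  · rw [Matrix.det_mul, Matrix.det_mul, hDdet, Matrix.det_nonsing_inv, Ring.inverse_eq_inv']
    field_simp
  · calc Y₁ * (B₁ * D * B₂⁻¹) = (Y₁ * B₁) * D * B₂⁻¹ := by simp only [Matrix.mul_assoc]
      _ = B₁ * (fscCyc F n * D) * B₂⁻¹ := by rw [hYB₁]; simp only [Matrix.mul_assoc]
      _ = B₁ * D * (fscCyc F n * B₂⁻¹) := by rw [← hDC]; simp only [Matrix.mul_assoc]
      _ = B₁ * D * B₂⁻¹ * Y₂ := by rw [hinv]; simp only [Matrix.mul_assoc]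

end Mat

end Cfsg.Agent.Lib.helper24
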