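import Cfsg.Agent.Lib.helper24.OddInv

set_option autoImplicit false
set_option linter.unusedSectionVars false
set_option linter.unusedVariables false

/-! A four-group acting on a group of odd order: the group is generated by the centralisers of the three
involutions (elementary proof via square roots) (helper24). -/

namespace Cfsg.Agent.Lib.helper24

section Klein

variable {G : Type*} [Group G]

/-- Let `x, y` be commuting involutions normalising a subgroup `M` of odd order. An element of `M` inverted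
by `x` is a product `w c w` with `w ∈ C_M(xy)` and `c ∈ C_M(y)`. -/
theorem klein_inverted {M : Subgroup G} (hodd : Odd (Nat.card M))
    {x y : G} (hxx : x * x = 1) (hyy : y * y = 1) (hxy : x * y = y * x)
    (hnx : ∀ m ∈ M, x * m * x⁻¹ ∈ M) (hny : ∀ m ∈ M, y * m * y⁻¹ ∈ M)
    {z : G} (hz : z ∈ M) (hzx : x * z * x⁻¹ = z⁻¹) :
    ∃ w c : G, w ∈ M ∧ (x * y) * w = w * (x * y) ∧ c ∈ M ∧ y * c = c * y ∧ z = w * c * w := by
  obtain ⟨k, hk⟩ := hodd
  have hodd : Odd (Nat.card M) := ⟨k, hk⟩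
  have hxi : x⁻¹ = x := oi_t_inv hxx
  have hyi : y⁻¹ = y := oi_t_inv hyy
  set A := y * z * y⁻¹ with hA
  have hAM : A ∈ M := hny z hz
  set a := A ^ (k + 1) with ha
  have haM : a ∈ M := pow_mem hAM _
  have haa : a * a = A := oi_sqrt hk hAM
  set B := a * z * a with hB
  have hBM : B ∈ M := mul_mem (mul_mem haM hz) haM
  set S := B ^ (k + 1) with hSdef
  have hSM : S ∈ M := pow_mem hBM _
  have hSS : S * S = B := oi_sqrt hk hBM
  set v := a⁻¹ * S * a⁻¹ with hv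
  have hvM : v ∈ M := mul_mem (mul_mem (inv_mem haM) hSM) (inv_mem haM)
  have hvAv : v * A * v = z := by
    have e1 : v * A * v = a⁻¹ * S * (a⁻¹ * A * a⁻¹) * S * a⁻¹ := by rw [hv]; group
    have e2 : a⁻¹ * A * a⁻¹ = 1 := by rw [← haa]; group
    rw [e1, e2, mul_one, mul_assoc a⁻¹ S S, hSS, hB]
    group
  have huniq : ∀ v' ∈ M, v' * A * v' = z → v' = v := by
    intro v' hv'M hv'
    have e1 : (a * v' * a) * (a * v' * a) = S * S := by
      have : (a * v' * a) * (a * v' * a) = a * (v' * (a * a) * v') * a := by group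
      rw [this, haa, hv', hSS]
    have e2 : a * v' * a = S :=
      oi_sq_inj hodd (mul_mem (mul_mem haM hv'M) haM) hSM e1
    rw [hv, ← e2]; group
  -- conjugation by y
  have hyA : y * A * y⁻¹ = z := by
    have : y * A * y⁻¹ = (y * y) * z * (y⁻¹ * y⁻¹) := by rw [hA]; group
    rw [this, hyi, hyy, one_mul, mul_one]
  have hyv : y * v * y⁻¹ = v⁻¹ := by
    have h1 : (y * v * y⁻¹)⁻¹ * A * (y * v * y⁻¹)⁻¹ = z := by
      have e1 : (y * v * y⁻¹) * (y * A * y⁻¹) * (y * v * y⁻¹) = y * (v * A * v) * y⁻¹ := by group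
      rw [hyA, hvAv, ← hA] at e1
      rw [← e1]; group
    have h2 := huniq _ (inv_mem (hny v hvM)) h1
    exact inv_eq_iff_eq_inv.mp h2
  -- conjugation by x
  have hxA : x * A * x⁻¹ = A⁻¹ := by
    have e1 : x * A * x⁻¹ = (x * y) * z * (y⁻¹ * x⁻¹) := by rw [hA]; group
    have e2 : y⁻¹ * x⁻¹ = x⁻¹ * y⁻¹ := by rw [← mul_inv_rev, ← mul_inv_rev, hxy]
    have e3 : (y * x) * z * (x⁻¹ * y⁻¹) = y * (x * z * x⁻¹) * y⁻¹ := by group
    rw [e1, e2, hxy, e3, hzx, hA]; group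
  have hxv : x * v * x⁻¹ = v⁻¹ := by
    have h1 : (x * v * x⁻¹)⁻¹ * A * (x * v * x⁻¹)⁻¹ = z := by
      have e1 : (x * v * x⁻¹) * (x * A * x⁻¹) * (x * v * x⁻¹) = x * (v * A * v) * x⁻¹ := by group
      rw [hxA, hvAv, hzx] at e1
      have e2 : (x * v * x⁻¹)⁻¹ * A * (x * v * x⁻¹)⁻¹ = ((x * v * x⁻¹) * A⁻¹ * (x * v * x⁻¹))⁻¹ := by group
      rw [e2, e1, inv_inv]
    have h2 := huniq _ (inv_mem (hnx v hvM)) h1
    exact inv_eq_iff_eq_inv.mp h2
  have hxyv : (x * y) * v = v * (x * y) := by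
    have e1 : (x * y) * v * (x * y)⁻¹ = x * (y * v * y⁻¹) * x⁻¹ := by group
    have e2 : x * v⁻¹ * x⁻¹ = (x * v * x⁻¹)⁻¹ := by group
    have e3 : (x * y) * v * (x * y)⁻¹ = v := by rw [e1, hyv, e2, hxv, inv_inv]
    calc (x * y) * v = ((x * y) * v * (x * y)⁻¹) * (x * y) := by group
      _ = v * (x * y) := by rw [e3]
  set w := v ^ (k + 1) with hw
  have hwM : w ∈ M := pow_mem hvM _
  have hww : w * w = v := oi_sqrt hk hvM
  have hxyw : (x * y) * w = w * (x * y) := by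
    have c : Commute (x * y) v := hxyv
    exact (c.pow_right _).eq
  have hyw : y * w * y⁻¹ = w⁻¹ := oi_conj_pow_inv hyv _
  refine ⟨w, w⁻¹ * z * w⁻¹, hwM, hxyw, mul_mem (mul_mem (inv_mem hwM) hz) (inv_mem hwM), ?_, by group⟩
  have hyw' : y * w⁻¹ * y⁻¹ = w := by
    have e : y * w⁻¹ * y⁻¹ = (y * w * y⁻¹)⁻¹ := by group
    rw [e, hyw, inv_inv]
  have h3 : y * (w⁻¹ * z * w⁻¹) * y⁻¹ = w⁻¹ * z * w⁻¹ := by
    have e1 : y * (w⁻¹ * z * w⁻¹) * y⁻¹ = (y * w⁻¹ * y⁻¹) * (y * z * y⁻¹) * (y * w⁻¹ * y⁻¹) := by group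
    rw [e1, hyw', ← hA]
    have e2 : w⁻¹ * z * w⁻¹ = w⁻¹ * (v * A * v) * w⁻¹ := by rw [hvAv]
    rw [e2, ← hww]; group
  calc y * (w⁻¹ * z * w⁻¹) = (y * (w⁻¹ * z * w⁻¹) * y⁻¹) * y := by group
    _ = (w⁻¹ * z * w⁻¹) * y := by rw [h3]

/-- Let `x, y` be commuting involutions normalising a subgroup `M` of odd order. If a subgroup `H` contains
`C_M(x)`, `C_M(y)` and `C_M(xy)`, then `M ≤ H`. -/
theorem klein_gen {M : Subgroup G} (hodd : Odd (Nat.card M))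
    {x y : G} (hxx : x * x = 1) (hyy : y * y = 1) (hxy : x * y = y * x)
    (hnx : ∀ m ∈ M, x * m * x⁻¹ ∈ M) (hny : ∀ m ∈ M, y * m * y⁻¹ ∈ M)
    (H : Subgroup G)
    (hx : ∀ m ∈ M, x * m = m * x → m ∈ H) (hy : ∀ m ∈ M, y * m = m * y → m ∈ H)
    (hxy' : ∀ m ∈ M, (x * y) * m = m * (x * y) → m ∈ H) : M ≤ H := by
  intro m hm
  obtain ⟨c₀, z, hc₀, hc₀x, hz, hzx, rfl⟩ := oi_exists hxx hodd hnx hm
  obtain ⟨w, c, hw, hwxy, hc, hcy, rfl⟩ := klein_inverted hodd hxx hyy hxy hnx hny hz hzx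
  exact mul_mem (hx c₀ hc₀ hc₀x) (mul_mem (mul_mem (hxy' w hw hwxy) (hy c hc hcy)) (hxy' w hw hwxy))

end Klein

end Cfsg.Agent.Lib.helper24
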