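import Mathlib
import Cfsg.Prelude.Def_LieRecognition

set_option autoImplicit false
set_option linter.unusedSectionVars false

/-! An involution acting on a subgroup of odd order: square roots and the decomposition
`X = C_X(t) · I` where `I` is the set of elements of `X` inverted by `t` (helper24). -/

namespace Cfsg.Agent.Lib.helper24

section OddInv

variable {M : Type*} [Group M]

theorem oi_pow_card {X : Subgroup M} {x : M} (hx : x ∈ X) : x ^ Nat.card X = 1 := by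
  have h := pow_card_eq_one' (G := X) (x := ⟨x, hx⟩)
  have h2 : (((⟨x, hx⟩ : X) ^ Nat.card X : X) : M) = 1 := by rw [h]; rfl
  rw [Subgroup.coe_pow] at h2
  exact h2

/-- Square roots exist in a subgroup of odd order. -/
theorem oi_sqrt {X : Subgroup M} {k : ℕ} (hk : Nat.card X = 2 * k + 1) {x : M} (hx : x ∈ X) :
    x ^ (k + 1) * x ^ (k + 1) = x := by
  have h1 := oi_pow_card hx
  rw [hk] at h1
  rw [← pow_add]
  have : k + 1 + (k + 1) = (2 * k + 1) + 1 := by ring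
  rw [this, pow_succ, h1, one_mul]

/-- Square roots are unique in a subgroup of odd order. -/
theorem oi_sq_inj {X : Subgroup M} (hodd : Odd (Nat.card X)) {x y : M} (hx : x ∈ X) (hy : y ∈ X)
    (h : x * x = y * y) : x = y := by
  obtain ⟨k, hk⟩ := hodd
  have h1 := oi_sqrt hk hx
  have h2 := oi_sqrt hk hy
  have h3 : x ^ (k + 1) * x ^ (k + 1) = (x * x) ^ (k + 1) := by
    rw [← pow_two, ← pow_two, ← pow_mul, ← pow_mul, mul_comm]
  have h4 : y ^ (k + 1) * y ^ (k + 1) = (y * y) ^ (k + 1) := by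
    rw [← pow_two, ← pow_two, ← pow_mul, ← pow_mul, mul_comm]
  rw [← h1, ← h2, h3, h4, h]

theorem oi_t_inv {t : M} (ht : t * t = 1) : t⁻¹ = t := inv_eq_of_mul_eq_one_left ht

/-- the element `w = (t x t⁻¹)⁻¹ x` is inverted by `t` -/
theorem oi_w_inverted {t : M} (ht : t * t = 1) (x : M) :
    t * ((t * x * t⁻¹)⁻¹ * x) * t⁻¹ = ((t * x * t⁻¹)⁻¹ * x)⁻¹ := by
  have hti := oi_t_inv ht
  have e1 : t * ((t * x * t⁻¹)⁻¹ * x) * t⁻¹ = (t * t) * (x⁻¹ * t⁻¹ * x * t⁻¹) := by group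
  have e2 : ((t * x * t⁻¹)⁻¹ * x)⁻¹ = x⁻¹ * t * x * t⁻¹ := by group
  rw [e1, e2, ht, one_mul, hti]

theorem oi_conj_pow_inv {t z : M} (h : t * z * t⁻¹ = z⁻¹) (n : ℕ) :
    t * z ^ n * t⁻¹ = (z ^ n)⁻¹ := by
  rw [← conj_pow, h, inv_pow]

/-- Existence of the decomposition `x = y z`, `y ∈ C_X(t)`, `z ∈ X` inverted by `t`. -/
theorem oi_exists {X : Subgroup M} {t : M} (ht : t * t = 1) (hodd : Odd (Nat.card X))
    (hnorm : ∀ x ∈ X, t * x * t⁻¹ ∈ X) {x : M} (hx : x ∈ X) :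
    ∃ y z : M, y ∈ X ∧ t * y = y * t ∧ z ∈ X ∧ t * z * t⁻¹ = z⁻¹ ∧ x = y * z := by
  obtain ⟨k, hk⟩ := hodd
  have hti := oi_t_inv ht
  set w := (t * x * t⁻¹)⁻¹ * x with hw
  have hwX : w ∈ X := mul_mem (inv_mem (hnorm x hx)) hx
  have hwinv : t * w * t⁻¹ = w⁻¹ := oi_w_inverted ht x
  set z := w ^ (k + 1) with hz
  have hzX : z ∈ X := pow_mem hwX _
  have hzz : z * z = w := oi_sqrt hk hwX
  have hzinv : t * z * t⁻¹ = z⁻¹ := oi_conj_pow_inv hwinv _
  refine ⟨x * z⁻¹, z, mul_mem hx (inv_mem hzX), ?_, hzX, hzinv, by group⟩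
  -- t * (x z⁻¹) = (x z⁻¹) * t
  have h1 : t * z⁻¹ * t⁻¹ = z := by
    have e : t * z⁻¹ * t⁻¹ = (t * z * t⁻¹)⁻¹ := by group
    rw [e, hzinv, inv_inv]
  have h2 : (t * x * t⁻¹) * z * z = x := by
    rw [mul_assoc, hzz, hw]; group
  have h3 : t * (x * z⁻¹) * t⁻¹ = x * z⁻¹ := by
    have : t * (x * z⁻¹) * t⁻¹ = (t * x * t⁻¹) * (t * z⁻¹ * t⁻¹) := by group
    rw [this, h1]
    nth_rewrite 2 [← h2]
    group
  calc t * (x * z⁻¹) = (t * (x * z⁻¹) * t⁻¹) * t := by group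
    _ = x * z⁻¹ * t := by rw [h3]

/-- Uniqueness of the decomposition. -/
theorem oi_unique {X : Subgroup M} {t : M} (hodd : Odd (Nat.card X))
    {y z y' z' : M} (hy : t * y = y * t) (hz : z ∈ X) (hzinv : t * z * t⁻¹ = z⁻¹)
    (hy' : t * y' = y' * t) (hz' : z' ∈ X) (hzinv' : t * z' * t⁻¹ = z'⁻¹)
    (h : y * z = y' * z') : y = y' ∧ z = z' := by
  have key : ∀ y z : M, t * y = y * t → t * z * t⁻¹ = z⁻¹ → (t * (y * z) * t⁻¹)⁻¹ * (y * z) = z * z := by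
    intro y z hy hz
    have h1 : t * (y * z) * t⁻¹ = (t * y) * t⁻¹ * (t * z * t⁻¹) := by group
    rw [h1, hy, hz]
    group
  have h1 := key y z hy hzinv
  have h2 := key y' z' hy' hzinv'
  rw [h] at h1
  have h3 : z = z' := oi_sq_inj hodd hz hz' (by rw [← h1, ← h2])
  subst h3
  exact ⟨mul_right_cancel h, rfl⟩

end OddInv

end Cfsg.Agent.Lib.helper24
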