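import Mathlib

set_option autoImplicit false

namespace Cfsg.Agent.Lib.helper24

section
variable {F : Type*} [Field F] [Fintype F] [CharP F 2]

/-- every symmetric alternating biadditive form on a finite field of characteristic 2 is
`B' + B'ᵀ` for a biadditive `B'` -/
theorem quad_exists_half (B : F →+ F →+ F) (hB : ∀ x, B x x = 0) (hsymm : ∀ x y, B x y = B y x) :
    ∃ B' : F →+ F →+ F, ∀ x y, B x y = B' x y + B' y x := by
  letI : Algebra (ZMod 2) F := ZMod.algebra F 2
  obtain ⟨n, ⟨b⟩⟩ : ∃ n : ℕ, Nonempty (Module.Basis (Fin n) (ZMod 2) F) :=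
    ⟨_, ⟨Module.finBasis (ZMod 2) F⟩⟩
  obtain ⟨l, hl⟩ : ∃ l : Fin n → F → F, ∀ i x, l i x = algebraMap (ZMod 2) F (b.repr x i) :=
    ⟨_, fun _ _ => rfl⟩
  have hladd : ∀ i x y, l i (x + y) = l i x + l i y := by
    intro i x y; simp [hl, map_add]
  have hl01 : ∀ i x, l i x = 0 ∨ l i x = 1 := by
    intro i x
    rw [hl]
    have : ∀ c : ZMod 2, c = 0 ∨ c = 1 := by decide
    rcases this (b.repr x i) with h | h <;> simp [h]
  have hsum : ∀ x, x = ∑ i, l i x * b i := by
    intro x
    conv_lhs => rw [← b.sum_repr x]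
    refine Finset.sum_congr rfl fun i _ => ?_
    rw [hl, Algebra.smul_def]
  obtain ⟨Bf, hBf⟩ : ∃ Bf : F → F → F, ∀ x y, Bf x y =
      ∑ i, ∑ j, (if i < j then (1 : F) else 0) * (l i x * l j y * B (b i) (b j)) :=
    ⟨_, fun _ _ => rfl⟩
  have hadd1 : ∀ x x' y, Bf (x + x') y = Bf x y + Bf x' y := by
    intro x x' y
    simp only [hBf, hladd, ← Finset.sum_add_distrib]
    refine Finset.sum_congr rfl fun i _ => Finset.sum_congr rfl fun j _ => ?_
    ring
  have hadd2 : ∀ x y y', Bf x (y + y') = Bf x y + Bf x y' := by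
    intro x y y'
    simp only [hBf, hladd, ← Finset.sum_add_distrib]
    refine Finset.sum_congr rfl fun i _ => Finset.sum_congr rfl fun j _ => ?_
    ring
  have hexp : ∀ x y, B x y = ∑ i, ∑ j, l i x * l j y * B (b i) (b j) := by
    intro x y
    calc B x y = B (∑ i, l i x * b i) (∑ j, l j y * b j) := by rw [← hsum x, ← hsum y]
      _ = ∑ i, ∑ j, l i x * l j y * B (b i) (b j) := by
        rw [map_sum B, AddMonoidHom.finsetSum_apply]
        refine Finset.sum_congr rfl fun i _ => ?_
        rw [map_sum]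
        refine Finset.sum_congr rfl fun j _ => ?_
        rcases hl01 i x with h | h <;> rcases hl01 j y with h' | h' <;> simp [h, h']
  refine ⟨AddMonoidHom.mk' (fun x => AddMonoidHom.mk' (Bf x) (hadd2 x))
    (fun x x' => by ext y; exact hadd1 x x' y), ?_⟩
  intro x y
  show B x y = Bf x y + Bf y x
  rw [hexp x y, hBf x y, hBf y x]
  have hswap : ∑ i, ∑ j, (if i < j then (1 : F) else 0) * (l i y * l j x * B (b i) (b j)) =
      ∑ i, ∑ j, (if j < i then (1 : F) else 0) * (l i x * l j y * B (b i) (b j)) := by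
    rw [Finset.sum_comm]
    refine Finset.sum_congr rfl fun i _ => Finset.sum_congr rfl fun j _ => ?_
    rw [hsymm (b j) (b i)]; ring
  rw [hswap, ← Finset.sum_add_distrib]
  refine Finset.sum_congr rfl fun i _ => ?_
  rw [← Finset.sum_add_distrib]
  refine Finset.sum_congr rfl fun j _ => ?_
  rcases lt_trichotomy i j with h | h | h
  · simp [h, not_lt.mpr h.le]
  · subst h; simp [hB]
  · simp [h, not_lt.mpr h.le]

end

end Cfsg.Agent.Lib.helper24
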