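import Mathlib
import Cfsg.Prelude.Def_LieRecognition

set_option autoImplicit false
set_option linter.unusedSectionVars false

/-! Basic facts in the rank-one set-up `Cfsg.IsRankOneSetup G Ω a t Q` (helper24). -/

namespace Cfsg.Agent.Lib.helper24

open MulAction
open scoped Pointwise

section Basic

variable {G Ω : Type*} [Group G] [MulAction G Ω] {a : Ω} {t : G} {Q : Subgroup G}

theorem ro_tsmul_ne (hS : Cfsg.IsRankOneSetup G Ω a t Q) : t • a ≠ a := fun h =>
  hS.not_mem (by simpa [MulAction.mem_stabilizer_iff] using h)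

theorem ro_t_smul_smul (hS : Cfsg.IsRankOneSetup G Ω a t Q) (c : Ω) : t • t • c = c := by
  rw [← mul_smul, hS.mul_self, one_smul]

theorem ro_t_inv (hS : Cfsg.IsRankOneSetup G Ω a t Q) : t⁻¹ = t :=
  inv_eq_of_mul_eq_one_left hS.mul_self

theorem ro_two_trans (hS : Cfsg.IsRankOneSetup G Ω a t Q) {x y x' y' : Ω} (h : x ≠ y) (h' : x' ≠ y') :
    ∃ g : G, g • x = x' ∧ g • y = y' :=
  MulAction.is_two_pretransitive_iff.mp hS.two_transitive h h'

theorem ro_trans (hS : Cfsg.IsRankOneSetup G Ω a t Q) (x y : Ω) : ∃ g : G, g • x = y := by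
  have := hS.two_transitive
  have : IsPretransitive G Ω := MulAction.isPretransitive_of_is_two_pretransitive
  exact MulAction.exists_smul_eq G x y

/-- Non-identity elements of `Q` fix no point other than `a`. -/
theorem ro_semireg (hS : Cfsg.IsRankOneSetup G Ω a t Q) {x : G} (hx : x ∈ Q) {c : Ω} (hc : c ≠ a)
    (hxc : x • c = c) : x = 1 := by
  obtain ⟨g, hga, hgc⟩ := ro_two_trans hS (Ne.symm hc) (Ne.symm (ro_tsmul_ne hS))
  have hg : g ∈ stabilizer G a := hga
  have h1 : g * x * g⁻¹ ∈ Q := hS.conj_mem g hg x hx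
  have h2 : g * x * g⁻¹ ∈ stabilizer G (t • a) := by
    rw [mem_stabilizer_iff, mul_smul, mul_smul, ← hgc, inv_smul_smul, hxc]
  have h3 : g * x * g⁻¹ ∈ Q ⊓ stabilizer G (t • a) := ⟨h1, h2⟩
  rw [hS.inf_eq_bot, Subgroup.mem_bot] at h3
  have h4 : x = g⁻¹ * (g * x * g⁻¹) * g := by group
  rw [h4, h3]; group

theorem ro_Q_fix (hS : Cfsg.IsRankOneSetup G Ω a t Q) {x : G} (hx : x ∈ Q) : x • a = a :=
  hS.le hx

/-- A non-identity element of `Q` has `a` as its only fixed point. -/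
theorem ro_Q_fix_iff (hS : Cfsg.IsRankOneSetup G Ω a t Q) {x : G} (hx : x ∈ Q) (hx1 : x ≠ 1) (c : Ω) :
    x • c = c ↔ c = a := by
  constructor
  · intro h
    by_contra hc
    exact hx1 (ro_semireg hS hx hc h)
  · rintro rfl
    exact ro_Q_fix hS hx

theorem ro_D_le_normalizer (hS : Cfsg.IsRankOneSetup G Ω a t Q) :
    stabilizer G a ⊓ stabilizer G (t • a) ≤ Subgroup.normalizer (Q : Set G) := by
  intro d hd
  rw [Subgroup.mem_normalizer_iff]
  intro n
  constructor
  · intro hn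
    exact hS.conj_mem d hd.1 n hn
  · intro hn
    have := hS.conj_mem d⁻¹ (inv_mem hd.1) _ hn
    simpa [mul_assoc] using this

/-- `G_a = Q D` elementwise. -/
theorem ro_decomp (hS : Cfsg.IsRankOneSetup G Ω a t Q) {g : G} (hg : g ∈ stabilizer G a) :
    ∃ q ∈ Q, ∃ d ∈ stabilizer G a ⊓ stabilizer G (t • a), g = q * d := by
  have h1 : g ∈ Q ⊔ (stabilizer G a ⊓ stabilizer G (t • a)) := by rw [hS.sup_eq]; exact hg
  have h2 := Subgroup.coe_mul_of_right_le_normalizer_left Q _ (ro_D_le_normalizer hS)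
  have h3 : g ∈ ((Q : Set G) * ((stabilizer G a ⊓ stabilizer G (t • a) : Subgroup G) : Set G)) := by
    rw [← h2]; exact h1
  obtain ⟨q, hq, d, hd, rfl⟩ := h3
  exact ⟨q, hq, d, hd, rfl⟩

/-- `Q` is transitive on the points other than `a`. -/
theorem ro_Q_trans' (hS : Cfsg.IsRankOneSetup G Ω a t Q) {c : Ω} (hc : c ≠ a) :
    ∃ x ∈ Q, x • (t • a) = c := by
  obtain ⟨g, hga, hgc⟩ := ro_two_trans hS (Ne.symm (ro_tsmul_ne hS)) (Ne.symm hc)
  obtain ⟨q, hq, d, hd, rfl⟩ := ro_decomp hS (g := g) hga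
  refine ⟨q, hq, ?_⟩
  have hd2 : d • (t • a) = t • a := hd.2
  rw [← hgc, mul_smul, hd2]

theorem ro_Q_trans (hS : Cfsg.IsRankOneSetup G Ω a t Q) {c d : Ω} (hc : c ≠ a) (hd : d ≠ a) :
    ∃ x ∈ Q, x • c = d := by
  obtain ⟨x, hx, hxc⟩ := ro_Q_trans' hS hc
  obtain ⟨y, hy, hyd⟩ := ro_Q_trans' hS hd
  refine ⟨y * x⁻¹, mul_mem hy (inv_mem hx), ?_⟩
  rw [mul_smul, ← hxc, inv_smul_smul, hyd]

theorem ro_Q_smul_ne (hS : Cfsg.IsRankOneSetup G Ω a t Q) {x : G} (hx : x ∈ Q) {c : Ω} (hc : c ≠ a) :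
    x • c ≠ a := by
  intro h
  apply hc
  have : x • c = x • a := by rw [h, ro_Q_fix hS hx]
  exact smul_left_cancel x this

/-- `Q` is regular on the points other than `a`. -/
theorem ro_Q_regular (hS : Cfsg.IsRankOneSetup G Ω a t Q) (c d : Ω) (hc : c ≠ a) (hd : d ≠ a) :
    ∃! x : Q, (x : G) • c = d := by
  obtain ⟨x, hx, hxc⟩ := ro_Q_trans hS hc hd
  refine ⟨⟨x, hx⟩, hxc, ?_⟩
  rintro ⟨y, hy⟩ hyc
  have h1 : (x⁻¹ * y) • c = c := by
    rw [mul_smul]; simp only at hyc; rw [hyc, ← hxc, inv_smul_smul]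
  have h2 := ro_semireg hS (mul_mem (inv_mem hx) hy) hc h1
  ext
  simp only
  exact (inv_mul_eq_one.mp h2).symm

theorem ro_Q_unique (hS : Cfsg.IsRankOneSetup G Ω a t Q) {x y : G} (hx : x ∈ Q) (hy : y ∈ Q) {c : Ω}
    (hc : c ≠ a) (h : x • c = y • c) : x = y := by
  have h1 : (y⁻¹ * x) • c = c := by rw [mul_smul, h, inv_smul_smul]
  have h2 := ro_semireg hS (mul_mem (inv_mem hy) hx) hc h1
  exact (inv_mul_eq_one.mp h2).symm

/-- The bijection between `Q` and the points other than `a`. -/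
noncomputable def roEquiv (hS : Cfsg.IsRankOneSetup G Ω a t Q) : Q ≃ {c : Ω // c ≠ a} :=
  Equiv.ofBijective (fun x => ⟨(x : G) • (t • a), ro_Q_smul_ne hS x.2 (ro_tsmul_ne hS)⟩) (by
    constructor
    · intro x y hxy
      have h := congrArg Subtype.val hxy
      simp only at h
      exact Subtype.ext (ro_Q_unique hS x.2 y.2 (ro_tsmul_ne hS) h)
    · rintro ⟨c, hc⟩
      obtain ⟨x, hx, hxc⟩ := ro_Q_trans' hS hc
      exact ⟨⟨x, hx⟩, Subtype.ext hxc⟩)

end Basic

section Fin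

variable {G Ω : Type*} [Group G] [Finite G] [MulAction G Ω] {a : Ω} {t : G} {Q : Subgroup G}

theorem ro_finite (hS : Cfsg.IsRankOneSetup G Ω a t Q) : Finite Ω := by
  have : Finite {c : Ω // c ≠ a} := Finite.of_equiv _ (roEquiv hS)
  classical
  have e : Ω ≃ Option {c : Ω // c ≠ a} :=
    { toFun := fun c => if h : c = a then none else some ⟨c, h⟩
      invFun := fun o => match o with
        | none => a
        | some c => c.1
      left_inv := by
        intro c
        by_cases h : c = a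
        · simp [h]
        · simp [h]
      right_inv := by
        intro o
        cases o with
        | none => simp
        | some c => simp [c.2] }
  exact Finite.of_equiv _ e.symm

theorem ro_card (hS : Cfsg.IsRankOneSetup G Ω a t Q) : Nat.card Ω = Nat.card Q + 1 := by
  have := ro_finite hS
  classical
  have e : Ω ≃ Option {c : Ω // c ≠ a} :=
    { toFun := fun c => if h : c = a then none else some ⟨c, h⟩
      invFun := fun o => match o with
        | none => a
        | some c => c.1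
      left_inv := by
        intro c
        by_cases h : c = a
        · simp [h]
        · simp [h]
      right_inv := by
        intro o
        cases o with
        | none => simp
        | some c => simp [c.2] }
  rw [Nat.card_congr e, Finite.card_option, Nat.card_congr (roEquiv hS)]


omit [Finite G] in
/-- In a subgroup of odd order, an element squaring to `1` is `1`. -/
theorem odd_sq_eq_one {H : Subgroup G} (hodd : Odd (Nat.card H)) {x : G} (hx : x ∈ H)
    (hxx : x * x = 1) : x = 1 := by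
  have h1 : orderOf x ∣ 2 := orderOf_dvd_of_pow_eq_one (by rw [pow_two, hxx])
  have h2 : orderOf x ∣ Nat.card H := Subgroup.orderOf_dvd_natCard H hx
  have h3 : orderOf x ∣ Nat.gcd 2 (Nat.card H) := Nat.dvd_gcd h1 h2
  have h4 : Nat.gcd 2 (Nat.card H) = 1 := Nat.Coprime.gcd_eq_one (Nat.coprime_two_left.mpr hodd)
  rw [h4, Nat.dvd_one] at h3
  exact orderOf_eq_one_iff.mp h3

omit [Finite G] in
theorem ro_QD_disj (hS : Cfsg.IsRankOneSetup G Ω a t Q) {x : G} (hx : x ∈ Q)
    (hx2 : x ∈ stabilizer G a ⊓ stabilizer G (t • a)) : x = 1 := by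
  have : x ∈ Q ⊓ stabilizer G (t • a) := ⟨hx, hx2.2⟩
  rw [hS.inf_eq_bot, Subgroup.mem_bot] at this
  exact this

omit [Finite G] in
/-- `|G_a| = |Q| |D|`. -/
theorem ro_card_Ga (hS : Cfsg.IsRankOneSetup G Ω a t Q) :
    Nat.card (stabilizer G a) = Nat.card Q * Nat.card ↥(stabilizer G a ⊓ stabilizer G (t • a)) := by
  have e : (Q × ↥(stabilizer G a ⊓ stabilizer G (t • a))) ≃ stabilizer G a :=
    Equiv.ofBijective (fun p => ⟨(p.1 : G) * (p.2 : G), mul_mem (hS.le p.1.2) p.2.2.1⟩) (by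
      constructor
      · rintro ⟨⟨q, hq⟩, ⟨d, hd⟩⟩ ⟨⟨q', hq'⟩, ⟨d', hd'⟩⟩ h
        have h' : q * d = q' * d' := congrArg Subtype.val h
        have h1 : q'⁻¹ * q = d' * d⁻¹ := by
          rw [inv_mul_eq_iff_eq_mul, ← mul_assoc, ← h', mul_inv_cancel_right]
        have h2 : q'⁻¹ * q = 1 :=
          ro_QD_disj hS (mul_mem (inv_mem hq') hq) (by rw [h1]; exact mul_mem hd' (inv_mem hd))
        have h3 : q = q' := (inv_mul_eq_one.mp h2).symm
        subst h3
        have h4 : d = d' := mul_left_cancel h'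
        subst h4
        rfl
      · rintro ⟨g, hg⟩
        obtain ⟨q, hq, d, hd, rfl⟩ := ro_decomp hS hg
        exact ⟨⟨⟨q, hq⟩, ⟨d, hd⟩⟩, rfl⟩)
  rw [← Nat.card_congr e, Nat.card_prod]

/-- `|G| = |Q| |D| (|Q| + 1)`. -/
theorem ro_card_G (hS : Cfsg.IsRankOneSetup G Ω a t Q) :
    Nat.card G = Nat.card Q * Nat.card ↥(stabilizer G a ⊓ stabilizer G (t • a)) * (Nat.card Q + 1) := by
  have := hS.two_transitive
  have : IsPretransitive G Ω := MulAction.isPretransitive_of_is_two_pretransitive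
  rw [← ro_card_Ga hS, ← ro_card hS, ← MulAction.index_stabilizer_of_transitive G a,
    Subgroup.card_mul_index]

/-- Elements of `G_a` squaring to `1` lie in `Q`. -/
theorem ro_inv_mem_Q (hS : Cfsg.IsRankOneSetup G Ω a t Q) {s : G} (hs : s ∈ stabilizer G a)
    (hss : s * s = 1) : s ∈ Q := by
  obtain ⟨q, hq, d, hd, rfl⟩ := ro_decomp hS hs
  have h1 : d * d = (q * (d * q * d⁻¹))⁻¹ := by
    rw [eq_inv_iff_mul_eq_one]
    have : d * d * (q * (d * q * d⁻¹)) = (d * q⁻¹) * ((q * d) * (q * d)) * (d * q⁻¹)⁻¹ := by group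
    rw [this, hss]; group
  have h2 : d * d ∈ Q := by
    rw [h1]
    exact inv_mem (mul_mem hq (hS.conj_mem d hd.1 q hq))
  have h3 : d * d = 1 := ro_QD_disj hS h2 (mul_mem hd hd)
  have h4 : d = 1 := odd_sq_eq_one hS.odd_card hd h3
  rw [h4, mul_one]
  exact hq

theorem ro_odd_card (hS : Cfsg.IsRankOneSetup G Ω a t Q) : Odd (Nat.card Ω) := by
  rw [ro_card hS]
  exact hS.even_card.add_one

/-- An element squaring to `1` has a fixed point. -/
theorem ro_inv_fix (hS : Cfsg.IsRankOneSetup G Ω a t Q) {u : G} (huu : u * u = 1) :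
    ∃ c : Ω, u • c = c := by
  have hfin := ro_finite hS
  have hP : IsPGroup 2 (Subgroup.zpowers u) := by
    rintro ⟨g, hg⟩
    refine ⟨1, ?_⟩
    obtain ⟨n, rfl⟩ := Subgroup.mem_zpowers_iff.mp hg
    ext
    simp only [pow_one, Subgroup.coe_pow, Subgroup.coe_one]
    rw [← zpow_natCast, ← zpow_mul, mul_comm, zpow_mul]
    have : u ^ ((2 : ℕ) : ℤ) = 1 := by
      rw [zpow_natCast, pow_two, huu]
    rw [this, one_zpow]
  have : Fact (Nat.Prime 2) := ⟨Nat.prime_two⟩
  have hnd : ¬ 2 ∣ Nat.card Ω := by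
    have := ro_odd_card hS
    exact fun h => (Nat.not_even_iff_odd.mpr this) (even_iff_two_dvd.mpr h)
  obtain ⟨c, hc⟩ := hP.nonempty_fixed_point_of_prime_not_dvd_card Ω hnd
  refine ⟨c, ?_⟩
  have := hc ⟨u, Subgroup.mem_zpowers u⟩
  exact this

/-- An involution has at most one fixed point. -/
theorem ro_inv_fix_unique (hS : Cfsg.IsRankOneSetup G Ω a t Q) {u : G} (hu1 : u ≠ 1) (huu : u * u = 1)
    {c d : Ω} (hc : u • c = c) (hd : u • d = d) : c = d := by
  obtain ⟨g, hg⟩ := ro_trans hS c a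
  have h1 : g * u * g⁻¹ ∈ stabilizer G a := by
    rw [mem_stabilizer_iff, mul_smul, mul_smul, ← hg, inv_smul_smul, hc]
  have h2 : (g * u * g⁻¹) * (g * u * g⁻¹) = 1 := by
    have : (g * u * g⁻¹) * (g * u * g⁻¹) = g * (u * u) * g⁻¹ := by group
    rw [this, huu]; group
  have h3 : g * u * g⁻¹ ∈ Q := ro_inv_mem_Q hS h1 h2
  have h4 : g * u * g⁻¹ ≠ 1 := by
    intro h
    apply hu1
    have : u = g⁻¹ * (g * u * g⁻¹) * g := by group
    rw [this, h]; group
  have h5 : (g * u * g⁻¹) • (g • d) = g • d := by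
    rw [mul_smul, mul_smul, inv_smul_smul, hd]
  have h6 := (ro_Q_fix_iff hS h3 h4 (g • d)).mp h5
  rw [← hg] at h6
  exact (smul_left_cancel g h6).symm

/-- An involution in `G_a` fixes only `a`. -/
theorem ro_inv_Ga_fix (hS : Cfsg.IsRankOneSetup G Ω a t Q) {s : G} (hs : s ∈ stabilizer G a)
    (hs1 : s ≠ 1) (hss : s * s = 1) {c : Ω} (hc : s • c = c) : c = a :=
  ro_inv_fix_unique hS hs1 hss hc hs


/-- `Q` contains an involution. -/
theorem ro_exists_inv_Q (hS : Cfsg.IsRankOneSetup G Ω a t Q) : ∃ s ∈ Q, s ≠ 1 ∧ s * s = 1 := by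
  have : Fact (Nat.Prime 2) := ⟨Nat.prime_two⟩
  obtain ⟨x, hx⟩ := exists_prime_orderOf_dvd_card' (G := Q) 2 (even_iff_two_dvd.mp hS.even_card)
  refine ⟨x, x.2, ?_, ?_⟩
  · intro h
    have h1 : x = 1 := Subtype.ext h
    rw [h1, orderOf_one] at hx
    omega
  · have h2 : x ^ 2 = 1 := by rw [← hx]; exact pow_orderOf_eq_one x
    have h3 : ((x ^ 2 : Q) : G) = 1 := by rw [h2]; rfl
    rw [← pow_two]
    exact_mod_cast h3


omit [Finite G] in
theorem conj_ne_one {g u : G} (hu : u ≠ 1) : g * u * g⁻¹ ≠ 1 := by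
  intro h
  apply hu
  have : u = g⁻¹ * (g * u * g⁻¹) * g := by group
  rw [this, h]; group

omit [Finite G] in
theorem conj_mul_self {g u : G} (hu : u * u = 1) : (g * u * g⁻¹) * (g * u * g⁻¹) = 1 := by
  have : (g * u * g⁻¹) * (g * u * g⁻¹) = g * (u * u) * g⁻¹ := by group
  rw [this, hu]; group

omit [Finite G] in
/-- Two involutions whose product has odd order are conjugate. -/
theorem inv_conj_of_odd {s u : G} (hss : s * s = 1) (huu : u * u = 1) (hodd : Odd (orderOf (s * u))) :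
    ∃ g : G, g * s * g⁻¹ = u := by
  obtain ⟨k, hk⟩ := hodd
  refine ⟨(s * u) ^ k, ?_⟩
  have hsinv : s⁻¹ = s := inv_eq_of_mul_eq_one_left hss
  have huinv : u⁻¹ = u := inv_eq_of_mul_eq_one_left huu
  have h1 : s * (s * u) * s⁻¹ = (s * u)⁻¹ := by
    rw [mul_inv_rev, hsinv, huinv, ← mul_assoc, hss, one_mul]
  have h2 : s * (s * u) ^ k * s⁻¹ = ((s * u)⁻¹) ^ k := by
    rw [← h1, conj_pow]
  have h3 : (s * u) ^ k * s = s * ((s * u)⁻¹) ^ k := by
    rw [← h2, hsinv, ← mul_assoc, ← mul_assoc, hss, one_mul]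
  have h4 : (s * u) ^ (2 * k + 1) = 1 := by rw [← hk]; exact pow_orderOf_eq_one _
  have h5 : ((s * u)⁻¹) ^ k * ((s * u) ^ k)⁻¹ = s * u := by
    rw [inv_pow, ← mul_inv_rev, ← pow_add, inv_eq_iff_eq_inv, eq_inv_iff_mul_eq_one, ← pow_succ]
    have : k + k + 1 = 2 * k + 1 := by ring
    rw [this, h4]
  rw [h3, mul_assoc, h5, ← mul_assoc, hss, one_mul]

/-- The product of an involution of `G_a` with an involution outside `G_a` has odd order. -/
theorem ro_odd_order_mul (hS : Cfsg.IsRankOneSetup G Ω a t Q) {s u : G} (hs : s ∈ stabilizer G a)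
    (hs1 : s ≠ 1) (hss : s * s = 1) (hu : u ∉ stabilizer G a) (huu : u * u = 1) :
    Odd (orderOf (s * u)) := by
  by_contra hodd
  rw [Nat.not_odd_iff_even] at hodd
  obtain ⟨k, hk⟩ := hodd
  have hpos : 0 < orderOf (s * u) := orderOf_pos (s * u)
  have hsinv : s⁻¹ = s := inv_eq_of_mul_eq_one_left hss
  have huinv : u⁻¹ = u := inv_eq_of_mul_eq_one_left huu
  set r := s * u with hr
  set z := r ^ k with hz
  have hz1 : z ≠ 1 := by
    intro h
    have := orderOf_dvd_of_pow_eq_one h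
    have := Nat.le_of_dvd (by omega) this
    omega
  have hzz : z * z = 1 := by
    rw [hz, ← pow_add, ← hk]; exact pow_orderOf_eq_one _
  have hzinv : z⁻¹ = z := inv_eq_of_mul_eq_one_left hzz
  have h1 : s * r * s⁻¹ = r⁻¹ := by
    rw [hr, mul_inv_rev, hsinv, huinv, ← mul_assoc, hss, one_mul]
  have h2 : u * r * u⁻¹ = r⁻¹ := by
    rw [hr, mul_inv_rev, hsinv, huinv, mul_assoc, mul_assoc, huu, mul_one]
  have h3 : s * z * s⁻¹ = z := by
    rw [hz, ← conj_pow, h1, inv_pow, ← hz, hzinv]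
  have h4 : u * z * u⁻¹ = z := by
    rw [hz, ← conj_pow, h2, inv_pow, ← hz, hzinv]
  have h5 : s * z = z * s := by
    rw [hsinv] at h3
    calc s * z = s * z * (s * s) := by rw [hss, mul_one]
      _ = (s * z * s) * s := by group
      _ = z * s := by rw [h3]
  have h6 : u * z = z * u := by
    rw [huinv] at h4
    calc u * z = u * z * (u * u) := by rw [huu, mul_one]
      _ = (u * z * u) * u := by group
      _ = z * u := by rw [h4]
  have hsa : s • a = a := hs
  have h7 : s • (z • a) = z • a := by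
    rw [← mul_smul, h5, mul_smul, hsa]
  have h8 : z • a = a := ro_inv_Ga_fix hS hs hs1 hss h7
  have h9 : z • (u • a) = u • a := by
    rw [← mul_smul, ← h6, mul_smul, h8]
  have h10 : u • a = a := ro_inv_Ga_fix hS h8 hz1 hzz h9
  exact hu h10

/-- Every involution of `G` is conjugate to an involution of `G_a`. -/
theorem ro_inv_conj_Ga (hS : Cfsg.IsRankOneSetup G Ω a t Q) {u : G} (hu1 : u ≠ 1) (huu : u * u = 1) :
    ∃ g : G, g * u * g⁻¹ ∈ stabilizer G a := by
  obtain ⟨c, hc⟩ := ro_inv_fix hS huu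
  obtain ⟨g, hg⟩ := ro_trans hS c a
  refine ⟨g, ?_⟩
  rw [mem_stabilizer_iff, mul_smul, mul_smul, ← hg, inv_smul_smul, hc]

/-- Every involution of `G` is conjugate to `t`. -/
theorem ro_inv_conj_t (hS : Cfsg.IsRankOneSetup G Ω a t Q) {u : G} (hu1 : u ≠ 1) (huu : u * u = 1) :
    ∃ g : G, g * u * g⁻¹ = t := by
  obtain ⟨g, hg⟩ := ro_inv_conj_Ga hS hu1 huu
  have h1 := ro_odd_order_mul hS hg (conj_ne_one hu1) (conj_mul_self huu) hS.not_mem hS.mul_self
  obtain ⟨h, hh⟩ := inv_conj_of_odd (conj_mul_self huu) hS.mul_self h1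
  refine ⟨h * g, ?_⟩
  rw [← hh]; group

end Fin

end Cfsg.Agent.Lib.helper24
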