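import Cfsg.Agent.Lib.helper24.RankOne
import Cfsg.Agent.Lib.helper24.OddInv

set_option autoImplicit false
set_option linter.unusedSectionVars false
set_option linter.unusedVariables false

/-! Rank-one set-up, second layer: the set `K` of elements of `D` inverted by `t`, the structure equation,
centralisers of subsets of `D` fixing three points (helper24). -/

namespace Cfsg.Agent.Lib.helper24

open MulAction

section Gen

variable {G : Type*} [Group G]

/-- Two involutions whose product has odd order are conjugate by an involution of the dihedral group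
they generate. -/
theorem inv_conj_of_odd' {s u : G} (hss : s * s = 1) (huu : u * u = 1) (hodd : Odd (orderOf (s * u))) :
    ∃ v : G, v * v = 1 ∧ v * s * v = u ∧ ∀ e : G, e * s = s * e → e * u = u * e → e * v = v * e := by
  obtain ⟨k, hk⟩ := hodd
  have hsinv : s⁻¹ = s := inv_eq_of_mul_eq_one_left hss
  have huinv : u⁻¹ = u := inv_eq_of_mul_eq_one_left huu
  have h1 : s * (s * u) * s⁻¹ = (s * u)⁻¹ := by
    rw [mul_inv_rev, hsinv, huinv, ← mul_assoc, hss, one_mul]
  have h2 : s * (s * u) ^ k * s = ((s * u)⁻¹) ^ k := by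
    rw [← h1, conj_pow, hsinv]
  have h4 : (s * u) ^ (2 * k + 1) = 1 := by rw [← hk]; exact pow_orderOf_eq_one _
  refine ⟨(s * u) ^ k * s, ?_, ?_, ?_⟩
  · have e1 : (s * u) ^ k * s * ((s * u) ^ k * s) = (s * u) ^ k * (s * (s * u) ^ k * s) := by group
    rw [e1, h2, inv_pow, mul_inv_cancel]
  · have e1 : (s * u) ^ k * s * s * ((s * u) ^ k * s) = (s * u) ^ k * (s * s) * (s * u) ^ k * s := by group
    rw [e1, hss, mul_one, ← pow_add]
    have e2 : (s * u) ^ (k + k) = (s * u)⁻¹ := by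
      rw [eq_inv_iff_mul_eq_one, ← pow_succ]
      have : k + k + 1 = 2 * k + 1 := by ring
      rw [this, h4]
    rw [e2, mul_inv_rev, hsinv, huinv, mul_assoc, hss, mul_one]
  · intro e hes heu
    have c1 : Commute e s := hes
    have c2 : Commute e u := heu
    exact ((c1.mul_right c2).pow_right k).mul_right c1

/-- In a subgroup of odd order no non-identity element is inverted by another element. -/
theorem odd_inverted_eq_one {D : Subgroup G} (hodd : Odd (Nat.card D)) {e f : G} (he : e ∈ D) (hf : f ∈ D)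
    (h : f * e * f⁻¹ = e⁻¹) : e = 1 := by
  obtain ⟨j, hj⟩ := hodd
  have h1 : (f * f) * e * (f * f)⁻¹ = e := by
    have e1 : (f * f) * e * (f * f)⁻¹ = f * (f * e * f⁻¹) * f⁻¹ := by group
    have e2 : f * e⁻¹ * f⁻¹ = (f * e * f⁻¹)⁻¹ := by group
    rw [e1, h, e2, h, inv_inv]
  have h2 : Commute (f * f) e := by
    have : (f * f) * e = ((f * f) * e * (f * f)⁻¹) * (f * f) := by group
    rw [h1] at this
    exact this
  have h3 : f ^ (j + 1) * f ^ (j + 1) = f := oi_sqrt hj hf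
  have h4 : (f * f) ^ (j + 1) = f := by
    rw [(Commute.refl f).mul_pow, h3]
  have h5 : Commute f e := by
    rw [← h4]; exact h2.pow_left _
  have h6 : f * e * f⁻¹ = e := by
    rw [h5.eq]; group
  rw [h6] at h
  have h7 : e * e = 1 := by
    nth_rewrite 1 [h]
    group
  exact odd_sq_eq_one ⟨j, hj⟩ he h7

end Gen

section Fin

variable {G Ω : Type*} [Group G] [Finite G] [MulAction G Ω] {a : Ω} {t : G} {Q : Subgroup G}

/-- An involution sending `a` to `t • a` is `t * k` with `k ∈ K`. -/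
theorem ro_swap_mem_K (hS : Cfsg.IsRankOneSetup G Ω a t Q) {v : G} (hvv : v * v = 1) (hva : v • a = t • a) :
    t * v ∈ Cfsg.invertedBy (stabilizer G a ⊓ stabilizer G (t • a)) t := by
  have hti := ro_t_inv hS
  have hvi : v⁻¹ = v := inv_eq_of_mul_eq_one_left hvv
  have hvb : v • (t • a) = a := by rw [← hva, ← mul_smul, hvv, one_smul]
  refine ⟨⟨?_, ?_⟩, ?_⟩
  · show (t * v) • a = a
    rw [mul_smul, hva, ro_t_smul_smul hS]
  · show (t * v) • (t • a) = t • a
    rw [mul_smul, hvb]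
  · rw [mul_inv_rev, hvi, hti, ← mul_assoc, hS.mul_self, one_mul]

/-- Elements of `K` give involutions `t * k`. -/
theorem ro_K_inv (hS : Cfsg.IsRankOneSetup G Ω a t Q) {k : G}
    (hk : k ∈ Cfsg.invertedBy (stabilizer G a ⊓ stabilizer G (t • a)) t) : (t * k) * (t * k) = 1 := by
  have hti := ro_t_inv hS
  have h := hk.2
  rw [hti] at h
  have e : t * k * (t * k) = (t * k * t) * k := by group
  rw [e, h, inv_mul_cancel]

theorem ro_K_tkt (hS : Cfsg.IsRankOneSetup G Ω a t Q) {k : G}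
    (hk : k ∈ Cfsg.invertedBy (stabilizer G a ⊓ stabilizer G (t • a)) t) : t * k * t = k⁻¹ := by
  have hti := ro_t_inv hS
  have h := hk.2
  rw [hti] at h
  exact h

/-- `t s t` for an involution `s` of `G_a`: an involution fixing `t • a`, not in `G_a`. -/
theorem ro_tst (hS : Cfsg.IsRankOneSetup G Ω a t Q) {s : G} (hs : s ∈ stabilizer G a) (hs1 : s ≠ 1)
    (hss : s * s = 1) :
    (t * s * t) * (t * s * t) = 1 ∧ t * s * t ≠ 1 ∧ (t * s * t) • (t • a) = t • a ∧
      t * s * t ∉ stabilizer G a := by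
  have hti := ro_t_inv hS
  have hsa : s • a = a := hs
  have e1 : (t * s * t) * (t * s * t) = 1 := by
    have := conj_mul_self (g := t) hss
    rw [hti] at this
    exact this
  have e2 : t * s * t ≠ 1 := by
    have := conj_ne_one (g := t) hs1
    rw [hti] at this
    exact this
  have e3 : (t * s * t) • (t • a) = t • a := by
    rw [mul_smul, mul_smul, ro_t_smul_smul hS, hsa]
  refine ⟨e1, e2, e3, ?_⟩
  intro h
  have h' : (t * s * t) • a = a := h
  exact ro_tsmul_ne hS (ro_inv_fix_unique hS e2 e1 e3 h')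

/-- `K` acts transitively by conjugation on the involutions of `G_a`. -/
theorem ro_K_conj_trans (hS : Cfsg.IsRankOneSetup G Ω a t Q) {s s' : G}
    (hs : s ∈ stabilizer G a) (hs1 : s ≠ 1) (hss : s * s = 1)
    (hs' : s' ∈ stabilizer G a) (hs1' : s' ≠ 1) (hss' : s' * s' = 1) :
    ∃ k ∈ Cfsg.invertedBy (stabilizer G a ⊓ stabilizer G (t • a)) t, k⁻¹ * s * k = s' := by
  have hti := ro_t_inv hS
  obtain ⟨e1, e2, e3, e4⟩ := ro_tst hS hs hs1 hss
  have hodd := ro_odd_order_mul hS hs' hs1' hss' e4 e1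
  obtain ⟨v, hvv, hv, -⟩ := inv_conj_of_odd' hss' e1 hodd
  have hvi : v⁻¹ = v := inv_eq_of_mul_eq_one_left hvv
  -- `v s' v = t s t` fixes `v • a`
  have h1 : (t * s * t) • (v • a) = v • a := by
    have hsa' : s' • a = a := hs'
    rw [← hv, mul_smul, mul_smul, ← mul_smul v v, hvv, one_smul, hsa']
  have h2 : v • a = t • a := ro_inv_fix_unique hS e2 e1 h1 e3
  have hk := ro_swap_mem_K hS hvv h2
  refine ⟨t * v, hk, ?_⟩
  rw [mul_inv_rev, hvi, hti]
  have e5 : v * t * s * (t * v) = v * (t * s * t) * v := by group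
  rw [e5, ← hv]
  have e6 : v * (v * s' * v) * v = (v * v) * s' * (v * v) := by group
  rw [e6, hvv, one_mul, mul_one]

/-- Conjugation by `K` is injective on each involution of `G_a`. -/
theorem ro_K_conj_inj (hS : Cfsg.IsRankOneSetup G Ω a t Q) {s k₁ k₂ : G}
    (hs : s ∈ stabilizer G a) (hs1 : s ≠ 1) (hss : s * s = 1)
    (hk₁ : k₁ ∈ Cfsg.invertedBy (stabilizer G a ⊓ stabilizer G (t • a)) t)
    (hk₂ : k₂ ∈ Cfsg.invertedBy (stabilizer G a ⊓ stabilizer G (t • a)) t)
    (h : k₁⁻¹ * s * k₁ = k₂⁻¹ * s * k₂) : k₁ = k₂ := by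
  have hti := ro_t_inv hS
  obtain ⟨e1, e2, e3, e4⟩ := ro_tst hS hs hs1 hss
  set s' := k₁⁻¹ * s * k₁ with hs'def
  have hs'Ga : s' ∈ stabilizer G a := mul_mem (mul_mem (inv_mem hk₁.1.1) hs) hk₁.1.1
  have hs'1 : s' ≠ 1 := by
    have := conj_ne_one (g := k₁⁻¹) hs1
    rwa [inv_inv] at this
  have hs's' : s' * s' = 1 := by
    have := conj_mul_self (g := k₁⁻¹) hss
    rwa [inv_inv] at this
  have hodd := ro_odd_order_mul hS hs'Ga hs'1 hs's' e4 e1
  obtain ⟨v, hvv, hv, hvc⟩ := inv_conj_of_odd' hs's' e1 hodd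
  have hvi : v⁻¹ = v := inv_eq_of_mul_eq_one_left hvv
  have h1 : (t * s * t) • (v • a) = v • a := by
    have hsa' : s' • a = a := hs'Ga
    rw [← hv, mul_smul, mul_smul, ← mul_smul v v, hvv, one_smul, hsa']
  have h2 : v • a = t • a := ro_inv_fix_unique hS e2 e1 h1 e3
  have hk₀ := ro_swap_mem_K hS hvv h2
  -- e = k₂⁻¹ k₁ centralises s' and t s t
  set e := k₂⁻¹ * k₁ with he
  have heD : e ∈ stabilizer G a ⊓ stabilizer G (t • a) := mul_mem (inv_mem hk₂.1) hk₁.1
  have hes' : e * s' = s' * e := by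
    have e5 : e * s' = k₂⁻¹ * (k₁ * s' * k₁⁻¹) * k₁ := by rw [he]; group
    have e6 : k₁ * s' * k₁⁻¹ = s := by rw [hs'def]; group
    have e7 : s' * e = (k₂⁻¹ * s * k₂) * k₂⁻¹ * k₁ := by rw [he, ← h]; group
    rw [e5, e6, e7]; group
  have hd : (k₁ * k₂⁻¹) * s = s * (k₁ * k₂⁻¹) := by
    have e5 : s = k₁ * s' * k₁⁻¹ := by rw [hs'def]; group
    have e6 : s = k₂ * s' * k₂⁻¹ := by rw [h]; group
    calc (k₁ * k₂⁻¹) * s = k₁ * k₂⁻¹ * (k₂ * s' * k₂⁻¹) := by rw [← e6]
      _ = (k₁ * s' * k₁⁻¹) * (k₁ * k₂⁻¹) := by group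
      _ = s * (k₁ * k₂⁻¹) := by rw [← e5]
  have het : e = t * (k₁ * k₂⁻¹)⁻¹ * t := by
    have e5 : t * (k₁ * k₂⁻¹)⁻¹ * t = (t * k₂ * t) * (t * t) * (t * k₁ * t)⁻¹ := by
      rw [hS.mul_self]
      have : (t * k₁ * t)⁻¹ = t⁻¹ * k₁⁻¹ * t⁻¹ := by group
      rw [this, hti]
      have : t * k₂ * t * 1 * (t * k₁⁻¹ * t) = t * k₂ * (t * t) * k₁⁻¹ * t := by group
      rw [this, hS.mul_self]
      group
    rw [e5, ro_K_tkt hS hk₁, ro_K_tkt hS hk₂, hS.mul_self, he]
    group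
  have hes1 : e * (t * s * t) = (t * s * t) * e := by
    have c : Commute ((k₁ * k₂⁻¹)⁻¹) s := (Commute.inv_left (show Commute (k₁ * k₂⁻¹) s from hd))
    rw [het]
    have e5 : t * (k₁ * k₂⁻¹)⁻¹ * t * (t * s * t) = t * (k₁ * k₂⁻¹)⁻¹ * (t * t) * s * t := by group
    have e6 : t * s * t * (t * (k₁ * k₂⁻¹)⁻¹ * t) = t * s * (t * t) * (k₁ * k₂⁻¹)⁻¹ * t := by group
    rw [e5, e6, hS.mul_self, mul_one, mul_one, mul_assoc t _ s, c.eq]
    group
  have hev : e * v = v * e := hvc e hes' hes1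
  -- `t * k₁` inverts `e`
  have hinv1 : (t * k₁) * e * (t * k₁)⁻¹ = e⁻¹ := by
    have e5 : (t * k₁) * e * (t * k₁)⁻¹ = t * (k₁ * k₂⁻¹) * t⁻¹ := by rw [he]; group
    rw [e5, het, hti]
    have : (t * (k₁ * k₂⁻¹)⁻¹ * t)⁻¹ = t⁻¹ * (k₁ * k₂⁻¹) * t⁻¹ := by group
    rw [this, hti]
  -- so `v * (t * k₁)` inverts `e`, and lies in `D`
  have hf : v * (t * k₁) ∈ stabilizer G a ⊓ stabilizer G (t • a) := by
    have : v * (t * k₁) = (t * v)⁻¹ * k₁ := by
      rw [mul_inv_rev, hvi, hti]; group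
    rw [this]
    exact mul_mem (inv_mem hk₀.1) hk₁.1
  have hinv2 : (v * (t * k₁)) * e * (v * (t * k₁))⁻¹ = e⁻¹ := by
    have e5 : (v * (t * k₁)) * e * (v * (t * k₁))⁻¹ = v * ((t * k₁) * e * (t * k₁)⁻¹) * v⁻¹ := by group
    rw [e5, hinv1]
    have c : Commute v e⁻¹ := (Commute.inv_right (show Commute v e from hev.symm))
    rw [c.eq]; group
  have he1 : e = 1 := odd_inverted_eq_one hS.odd_card heD hf hinv2
  rw [he] at he1
  have : k₁ = k₂ * (k₂⁻¹ * k₁) := by group
  rw [this, he1, mul_one]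


/-- The fixed point of `t` is neither `a` nor `t • a`. -/
theorem ro_t_fix_ne (hS : Cfsg.IsRankOneSetup G Ω a t Q) {c : Ω} (hc : t • c = c) : c ≠ a ∧ c ≠ t • a := by
  constructor
  · rintro rfl
    exact ro_tsmul_ne hS hc
  · rintro rfl
    rw [ro_t_smul_smul hS] at hc
    exact ro_tsmul_ne hS hc.symm

/-- The structure equation: a unique pair `(s, r)`, `s` an involution of `G_a`, `r ∈ Q`,
with `t s t = r⁻¹ t r`. -/
theorem ro_structure_eq (hS : Cfsg.IsRankOneSetup G Ω a t Q) :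
    ∃! p : G × G, p.1 ∈ Cfsg.involutionsIn (MulAction.stabilizer G a : Set G) ∧ p.2 ∈ Q ∧
      t * p.1 * t = p.2⁻¹ * t * p.2 := by
  have hti := ro_t_inv hS
  have hb := ro_tsmul_ne hS
  obtain ⟨c₀, hc₀⟩ := ro_inv_fix hS hS.mul_self
  obtain ⟨hc₀a, hc₀b⟩ := ro_t_fix_ne hS hc₀
  obtain ⟨r, hr, hrc⟩ := ro_Q_trans' hS hc₀a
  -- s = t r⁻¹ t r t
  have hs_eq : t * (t * r⁻¹ * t * r * t) * t = r⁻¹ * t * r := by
    have : t * (t * r⁻¹ * t * r * t) * t = (t * t) * r⁻¹ * t * r * (t * t) := by group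
    rw [this, hS.mul_self, one_mul, mul_one]
  have hs_conj : t * r⁻¹ * t * r * t = (t * r⁻¹) * t * (t * r⁻¹)⁻¹ := by
    rw [mul_inv_rev, inv_inv, hti]; group
  have hsa : (t * r⁻¹ * t * r * t) • a = a := by
    rw [mul_smul, mul_smul, mul_smul, mul_smul, hrc, hc₀, ← hrc, inv_smul_smul, ro_t_smul_smul hS]
  refine ⟨(t * r⁻¹ * t * r * t, r), ⟨⟨hsa, ?_, ?_⟩, hr, hs_eq⟩, ?_⟩
  · rw [hs_conj]; exact conj_ne_one hS.ne_one
  · rw [hs_conj]; exact conj_mul_self hS.mul_self
  · rintro ⟨s', r'⟩ ⟨⟨hs'a, hs'1, hs's'⟩, hr', heq⟩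
    simp only at hs'a hs'1 hs's' hr' heq
    have hs'a' : s' • a = a := hs'a
    -- r'⁻¹ t r' fixes t • a
    have h1 : (r'⁻¹ * t * r') • (t • a) = t • a := by
      rw [← heq, mul_smul, mul_smul, ro_t_smul_smul hS, hs'a']
    have h2 : t • (r' • (t • a)) = r' • (t • a) := by
      have := congrArg (fun c => r' • c) h1
      simp only [mul_smul, smul_inv_smul] at this
      exact this
    have h3 : r' • (t • a) = c₀ := ro_inv_fix_unique hS hS.ne_one hS.mul_self h2 hc₀
    have h4 : r' = r := ro_Q_unique hS hr' hr hb (by rw [h3, hrc])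
    subst h4
    have h5 : s' = t * (t * s' * t) * t := by
      have : t * (t * s' * t) * t = (t * t) * s' * (t * t) := by group
      rw [this, hS.mul_self, one_mul, mul_one]
    rw [h5, heq]
    have : t * (r'⁻¹ * t * r') * t = t * r'⁻¹ * t * r' * t := by group
    rw [this]


/-- `t` normalises the two-point stabiliser `D`. -/
theorem ro_t_norm_D (hS : Cfsg.IsRankOneSetup G Ω a t Q) :
    ∀ x ∈ stabilizer G a ⊓ stabilizer G (t • a), t * x * t⁻¹ ∈ stabilizer G a ⊓ stabilizer G (t • a) := by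
  intro x hx
  have hti := ro_t_inv hS
  have hxa : x • a = a := hx.1
  have hxb : x • (t • a) = t • a := hx.2
  rw [hti]
  constructor
  · show (t * x * t) • a = a
    rw [mul_smul, mul_smul, hxb, ro_t_smul_smul hS]
  · show (t * x * t) • (t • a) = t • a
    rw [mul_smul, mul_smul, ro_t_smul_smul hS, hxa]

theorem ro_one_mem_K (hS : Cfsg.IsRankOneSetup G Ω a t Q) :
    (1 : G) ∈ Cfsg.invertedBy (stabilizer G a ⊓ stabilizer G (t • a)) t :=
  ⟨one_mem _, by simp⟩

/-- For the pair `(s, r)` of the structure equation, an element of `D` centralises `t` iff it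
centralises `s`. -/
theorem ro_cent_t_iff_cent_s (hS : Cfsg.IsRankOneSetup G Ω a t Q) {s r : G}
    (hs : s ∈ Cfsg.involutionsIn (MulAction.stabilizer G a : Set G)) (hr : r ∈ Q)
    (heq : t * s * t = r⁻¹ * t * r) {d : G} (hd : d ∈ stabilizer G a ⊓ stabilizer G (t • a)) :
    t * d = d * t ↔ s * d = d * s := by
  have hti := ro_t_inv hS
  obtain ⟨hsa, hs1, hss⟩ := hs
  have key : ∀ d ∈ stabilizer G a ⊓ stabilizer G (t • a), t * d = d * t → s * d = d * s := by
    intro d hd hdt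
    obtain ⟨p, -, huniq⟩ := ro_structure_eq hS
    have h1 := huniq (s, r) ⟨⟨hsa, hs1, hss⟩, hr, heq⟩
    have h2 := huniq (d * s * d⁻¹, d * r * d⁻¹) ⟨⟨mul_mem (mul_mem hd.1 hsa) (inv_mem hd.1),
      conj_ne_one hs1, conj_mul_self hss⟩, hS.conj_mem d hd.1 r hr, by
        have hdt' : d⁻¹ * t = t * d⁻¹ := by
          have c : Commute t d := hdt
          exact (c.inv_right).symm.eq
        calc t * (d * s * d⁻¹) * t = (t * d) * s * (d⁻¹ * t) := by group
          _ = d * (t * s * t) * d⁻¹ := by rw [hdt, hdt']; group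
          _ = d * (r⁻¹ * t * r) * d⁻¹ := by rw [heq]
          _ = (d * r * d⁻¹)⁻¹ * (d * t) * d⁻¹ * (d * r * d⁻¹) := by group
          _ = (d * r * d⁻¹)⁻¹ * t * (d * r * d⁻¹) := by rw [← hdt]; group⟩
    have h3 : (d * s * d⁻¹, d * r * d⁻¹) = (s, r) := by rw [h1, h2]
    have h4 : d * s * d⁻¹ = s := congrArg Prod.fst h3
    calc s * d = (d * s * d⁻¹) * d := by rw [h4]
      _ = d * s := by group
  constructor
  · exact key d hd
  · intro hds
    obtain ⟨y, z, hy, hyt, hz, hzt, rfl⟩ := oi_exists hS.mul_self hS.odd_card (ro_t_norm_D hS) hd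
    have hys : s * y = y * s := key y hy hyt
    have hzs : s * z = z * s := by
      have c1 : Commute s (y * z) := hds
      have c2 : Commute s y := hys
      have : Commute s (y⁻¹ * (y * z)) := c2.inv_right.mul_right c1
      rw [inv_mul_cancel_left] at this
      exact this
    have hz1 : z = 1 := by
      apply ro_K_conj_inj hS hsa hs1 hss ⟨hz, hzt⟩ (ro_one_mem_K hS)
      rw [mul_assoc, hzs, ← mul_assoc, inv_mul_cancel, one_mul, inv_one, one_mul, mul_one]
    rw [hz1, mul_one]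
    exact hyt

end Fin

end Cfsg.Agent.Lib.helper24
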