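import Cfsg.Agent.Lib.helper24.RankOne2

set_option autoImplicit false
set_option linter.unusedSectionVars false
set_option linter.unusedVariables false

/-! Rank-one set-up, third layer: centralisers of subsets of the two-point stabiliser `D` that fix at least
three points (helper24). -/

namespace Cfsg.Agent.Lib.helper24

open MulAction

section Fin

variable {G Ω : Type*} [Group G] [Finite G] [MulAction G Ω] {a : Ω} {t : G} {Q : Subgroup G}

/-- If `X ⊆ D` fixes `c ≠ a`, the element of `Q` carrying `t • a` to `c` centralises `X`. -/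
theorem ro_fix_Q' (hS : Cfsg.IsRankOneSetup G Ω a t Q) {X : Set G}
    (hX : X ⊆ ((stabilizer G a ⊓ stabilizer G (t • a) : Subgroup G) : Set G)) {c : Ω} (hc : c ≠ a)
    (hXc : ∀ x ∈ X, x • c = c) : ∃ r ∈ Q, r ∈ Subgroup.centralizer X ∧ r • (t • a) = c := by
  obtain ⟨r, hr, hrc⟩ := ro_Q_trans' hS hc
  refine ⟨r, hr, ?_, hrc⟩
  rw [Subgroup.mem_centralizer_iff]
  intro x hx
  have hxD := hX hx
  have hxb : x • (t • a) = t • a := hxD.2
  have h1 : x * r * x⁻¹ ∈ Q := hS.conj_mem x hxD.1 r hr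
  have h2 : (x * r * x⁻¹) • (t • a) = r • (t • a) := by
    have hxb' : x⁻¹ • (t • a) = t • a := by
      rw [inv_smul_eq_iff, hxb]
    rw [mul_smul, mul_smul, hxb', hrc, hXc x hx]
  have h3 : x * r * x⁻¹ = r := ro_Q_unique hS h1 hr (ro_tsmul_ne hS) h2
  calc x * r = (x * r * x⁻¹) * x := by group
    _ = r * x := by rw [h3]

/-- `C_Q(X)` is transitive on the fixed points of `X` other than `a`. -/
theorem ro_fix_Q (hS : Cfsg.IsRankOneSetup G Ω a t Q) {X : Set G}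
    (hX : X ⊆ ((stabilizer G a ⊓ stabilizer G (t • a) : Subgroup G) : Set G)) {c d : Ω} (hc : c ≠ a) (hd : d ≠ a)
    (hXc : ∀ x ∈ X, x • c = c) (hXd : ∀ x ∈ X, x • d = d) :
    ∃ r ∈ Q, r ∈ Subgroup.centralizer X ∧ r • c = d := by
  obtain ⟨r₁, hr₁, hr₁c, hr₁'⟩ := ro_fix_Q' hS hX hc hXc
  obtain ⟨r₂, hr₂, hr₂c, hr₂'⟩ := ro_fix_Q' hS hX hd hXd
  refine ⟨r₂ * r₁⁻¹, mul_mem hr₂ (inv_mem hr₁), mul_mem hr₂c (inv_mem hr₁c), ?_⟩
  rw [mul_smul, ← hr₁', inv_smul_smul, hr₂']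

/-- The centraliser of `X` in the stabiliser of `t • a` is transitive on the fixed points of `X`
other than `t • a`. -/
theorem ro_fix_Qt (hS : Cfsg.IsRankOneSetup G Ω a t Q) {X : Set G}
    (hX : X ⊆ ((stabilizer G a ⊓ stabilizer G (t • a) : Subgroup G) : Set G)) {c d : Ω}
    (hc : c ≠ t • a) (hd : d ≠ t • a)
    (hXc : ∀ x ∈ X, x • c = c) (hXd : ∀ x ∈ X, x • d = d) :
    ∃ g ∈ Subgroup.centralizer X, g • c = d ∧ g • (t • a) = t • a := by
  have hti := ro_t_inv hS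
  have hX' : (fun x => t * x * t) '' X ⊆ ((stabilizer G a ⊓ stabilizer G (t • a) : Subgroup G) : Set G) := by
    rintro _ ⟨x, hx, rfl⟩
    have := ro_t_norm_D hS x (hX hx)
    rwa [hti] at this
  have hc' : t • c ≠ a := by
    intro h
    apply hc
    rw [← h, ro_t_smul_smul hS]
  have hd' : t • d ≠ a := by
    intro h
    apply hd
    rw [← h, ro_t_smul_smul hS]
  have hXc' : ∀ x ∈ (fun x => t * x * t) '' X, x • (t • c) = t • c := by
    rintro _ ⟨x, hx, rfl⟩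
    rw [mul_smul, mul_smul, ro_t_smul_smul hS, hXc x hx]
  have hXd' : ∀ x ∈ (fun x => t * x * t) '' X, x • (t • d) = t • d := by
    rintro _ ⟨x, hx, rfl⟩
    rw [mul_smul, mul_smul, ro_t_smul_smul hS, hXd x hx]
  obtain ⟨r, hr, hrc, hr'⟩ := ro_fix_Q hS hX' hc' hd' hXc' hXd'
  refine ⟨t * r * t, ?_, ?_, ?_⟩
  · rw [Subgroup.mem_centralizer_iff]
    intro x hx
    rw [Subgroup.mem_centralizer_iff] at hrc
    have h1 := hrc (t * x * t) ⟨x, hx, rfl⟩
    calc x * (t * r * t) = (t * t) * x * (t * r * t) := by rw [hS.mul_self, one_mul]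
      _ = t * ((t * x * t) * r) * t := by group
      _ = t * (r * (t * x * t)) * t := by rw [h1]
      _ = (t * r * t) * x * (t * t) := by group
      _ = (t * r * t) * x := by rw [hS.mul_self, mul_one]
  · rw [mul_smul, mul_smul, hr', ro_t_smul_smul hS]
  · rw [mul_smul, mul_smul, ro_t_smul_smul hS, ro_Q_fix hS hr]

/-- The centraliser of `X` permutes the fixed points of `X`. -/
theorem cent_smul_fix {G Ω : Type*} [Group G] [MulAction G Ω] {X : Set G} {g : G}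
    (hg : g ∈ Subgroup.centralizer X) {c : Ω}
    (hXc : ∀ x ∈ X, x • c = c) : ∀ x ∈ X, x • (g • c) = g • c := by
  intro x hx
  rw [Subgroup.mem_centralizer_iff] at hg
  rw [← mul_smul, hg x hx, mul_smul, hXc x hx]

/-- With a third fixed point, `C_G(X)` is transitive on the fixed points of `X`. -/
theorem ro_fix_trans (hS : Cfsg.IsRankOneSetup G Ω a t Q) {X : Set G}
    (hX : X ⊆ ((stabilizer G a ⊓ stabilizer G (t • a) : Subgroup G) : Set G)) {e : Ω}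
    (hea : e ≠ a) (heb : e ≠ t • a) (hXe : ∀ x ∈ X, x • e = e) {c : Ω} (hXc : ∀ x ∈ X, x • c = c) :
    ∃ g ∈ Subgroup.centralizer X, g • a = c := by
  have hXa : ∀ x ∈ X, x • a = a := fun x hx => (hX hx).1
  have hXb : ∀ x ∈ X, x • (t • a) = t • a := fun x hx => (hX hx).2
  have hb := ro_tsmul_ne hS
  by_cases hcb : c = t • a
  · obtain ⟨g₁, hg₁, hg₁a, -⟩ := ro_fix_Qt hS hX (Ne.symm hb) heb hXa hXe
    obtain ⟨g₂, -, hg₂, hg₂e⟩ := ro_fix_Q hS hX hea hb hXe hXb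
    refine ⟨g₂ * g₁, mul_mem hg₂ hg₁, ?_⟩
    rw [mul_smul, hg₁a, hg₂e, hcb]
  · obtain ⟨g₁, hg₁, hg₁a, -⟩ := ro_fix_Qt hS hX (Ne.symm hb) hcb hXa hXc
    exact ⟨g₁, hg₁, hg₁a⟩

/-- With a third fixed point, `C_G(X)` is doubly transitive on the fixed points of `X`. -/
theorem ro_fix_two_trans (hS : Cfsg.IsRankOneSetup G Ω a t Q) {X : Set G}
    (hX : X ⊆ ((stabilizer G a ⊓ stabilizer G (t • a) : Subgroup G) : Set G)) {e : Ω}
    (hea : e ≠ a) (heb : e ≠ t • a) (hXe : ∀ x ∈ X, x • e = e) {b₁ b₂ c₁ c₂ : Ω}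
    (hb₁ : ∀ x ∈ X, x • b₁ = b₁) (hb₂ : ∀ x ∈ X, x • b₂ = b₂)
    (hc₁ : ∀ x ∈ X, x • c₁ = c₁) (hc₂ : ∀ x ∈ X, x • c₂ = c₂) (hb : b₁ ≠ b₂) (hc : c₁ ≠ c₂) :
    ∃ g ∈ Subgroup.centralizer X, g • b₁ = c₁ ∧ g • b₂ = c₂ := by
  obtain ⟨h₁, hh₁, hh₁a⟩ := ro_fix_trans hS hX hea heb hXe hb₁
  obtain ⟨h₂, hh₂, hh₂a⟩ := ro_fix_trans hS hX hea heb hXe hc₁
  have hp : h₁⁻¹ • b₂ ≠ a := by
    intro h
    apply hb
    rw [← hh₁a, ← h, smul_inv_smul]
  have hq : h₂⁻¹ • c₂ ≠ a := by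
    intro h
    apply hc
    rw [← hh₂a, ← h, smul_inv_smul]
  obtain ⟨r, hrQ, hr, hrp⟩ := ro_fix_Q hS hX hp hq (cent_smul_fix (inv_mem hh₁) hb₂)
    (cent_smul_fix (inv_mem hh₂) hc₂)
  refine ⟨h₂ * r * h₁⁻¹, mul_mem (mul_mem hh₂ hr) (inv_mem hh₁), ?_, ?_⟩
  · have hra : r • a = a := ro_Q_fix hS hrQ
    rw [mul_smul, mul_smul, ← hh₁a, inv_smul_smul, hra, hh₂a]
  · rw [mul_smul, mul_smul, hrp, smul_inv_smul]

/-- With a third fixed point, `C_Q(X)` contains an involution. -/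
theorem ro_fix_inv (hS : Cfsg.IsRankOneSetup G Ω a t Q) {X : Set G}
    (hX : X ⊆ ((stabilizer G a ⊓ stabilizer G (t • a) : Subgroup G) : Set G)) {e : Ω}
    (hea : e ≠ a) (heb : e ≠ t • a) (hXe : ∀ x ∈ X, x • e = e) :
    ∃ s ∈ Q, s ∈ Subgroup.centralizer X ∧ s ≠ 1 ∧ s * s = 1 := by
  have hXa : ∀ x ∈ X, x • a = a := fun x hx => (hX hx).1
  have hXb : ∀ x ∈ X, x • (t • a) = t • a := fun x hx => (hX hx).2
  have hb := ro_tsmul_ne hS
  obtain ⟨h, hh, hha, hhb⟩ := ro_fix_two_trans hS hX hea heb hXe hXa hXb hXb hXa (Ne.symm hb) hb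
  -- `h` has even order
  have hpos : 0 < orderOf h := orderOf_pos h
  have heven : Even (orderOf h) := by
    by_contra hodd
    rw [Nat.not_even_iff_odd] at hodd
    obtain ⟨j, hj⟩ := hodd
    have h1 : h ^ (2 * j + 1) = 1 := by rw [← hj]; exact pow_orderOf_eq_one h
    have h2 : (h * h) ^ (j + 1) = h := by
      rw [(Commute.refl h).mul_pow, ← pow_add]
      have : j + 1 + (j + 1) = (2 * j + 1) + 1 := by ring
      rw [this, pow_succ, h1, one_mul]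
    have h3 : (h * h) • a = a := by rw [mul_smul, hha, hhb]
    have h4 : ∀ n : ℕ, ((h * h) ^ n) • a = a := by
      intro n
      induction n with
      | zero => simp
      | succ n ih => rw [pow_succ, mul_smul, h3, ih]
    have h5 := h4 (j + 1)
    rw [h2, hha] at h5
    exact hb h5
  obtain ⟨m, hm⟩ := heven
  have hu1 : h ^ m ≠ 1 := pow_ne_one_of_lt_orderOf (by omega) (by omega)
  have huu : h ^ m * h ^ m = 1 := by
    rw [← pow_add, ← hm]; exact pow_orderOf_eq_one h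
  have huC : h ^ m ∈ Subgroup.centralizer X := pow_mem hh m
  obtain ⟨c, hc⟩ := ro_inv_fix hS huu
  have hXc : ∀ x ∈ X, x • c = c := by
    intro x hx
    have hcomm : x * h ^ m = h ^ m * x := (Subgroup.mem_centralizer_iff.mp huC) x hx
    have h1 : (h ^ m) • (x • c) = x • c := by
      rw [← mul_smul, ← hcomm, mul_smul, hc]
    exact ro_inv_fix_unique hS hu1 huu h1 hc
  obtain ⟨g, hg, hga⟩ := ro_fix_trans hS hX hea heb hXe hXc
  have hsa : (g⁻¹ * h ^ m * g⁻¹⁻¹) • a = a := by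
    rw [inv_inv, mul_smul, mul_smul, hga, hc, ← hga, inv_smul_smul]
  refine ⟨g⁻¹ * h ^ m * g⁻¹⁻¹, ?_, mul_mem (mul_mem (inv_mem hg) huC) (inv_mem (inv_mem hg)),
    conj_ne_one hu1, conj_mul_self huu⟩
  exact ro_inv_mem_Q hS hsa (conj_mul_self huu)

/-- With a third fixed point, `C_G(X)` contains an involution interchanging `a` and `t • a`. -/
theorem ro_fix_swap (hS : Cfsg.IsRankOneSetup G Ω a t Q) {X : Set G}
    (hX : X ⊆ ((stabilizer G a ⊓ stabilizer G (t • a) : Subgroup G) : Set G)) {e : Ω}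
    (hea : e ≠ a) (heb : e ≠ t • a) (hXe : ∀ x ∈ X, x • e = e) :
    ∃ v ∈ Subgroup.centralizer X, v * v = 1 ∧ v • a = t • a := by
  have hXa : ∀ x ∈ X, x • a = a := fun x hx => (hX hx).1
  have hXb : ∀ x ∈ X, x • (t • a) = t • a := fun x hx => (hX hx).2
  have hb := ro_tsmul_ne hS
  obtain ⟨s, hsQ, hsC, hs1, hss⟩ := ro_fix_inv hS hX hea heb hXe
  have hsb : s • (t • a) ≠ t • a := by
    intro h
    exact hb ((ro_Q_fix_iff hS hsQ hs1 (t • a)).mp h)
  obtain ⟨g, hg, hgb, hgsb⟩ := ro_fix_two_trans hS hX hea heb hXe hXb (cent_smul_fix hsC hXb) hXa hXb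
    (Ne.symm hsb) (Ne.symm hb)
  refine ⟨g * s * g⁻¹, mul_mem (mul_mem hg hsC) (inv_mem hg), conj_mul_self hss, ?_⟩
  have h1 : g⁻¹ • a = t • a := by rw [inv_smul_eq_iff, hgb]
  rw [mul_smul, mul_smul, h1, hgsb]

/-- A subset of `D` fixing a third point is conjugate under `D` to a subset of `C_D(t)`. -/
theorem ro_conj_into_cent_t (hS : Cfsg.IsRankOneSetup G Ω a t Q) {X : Set G}
    (hX : X ⊆ ((stabilizer G a ⊓ stabilizer G (t • a) : Subgroup G) : Set G)) {e : Ω}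
    (hea : e ≠ a) (heb : e ≠ t • a) (hXe : ∀ x ∈ X, x • e = e) :
    ∃ k ∈ (stabilizer G a ⊓ stabilizer G (t • a)), ∀ x ∈ X, (k * x * k⁻¹) * t = t * (k * x * k⁻¹) := by
  have hti := ro_t_inv hS
  obtain ⟨v, hvC, hvv, hva⟩ := ro_fix_swap hS hX hea heb hXe
  have hk₀ := ro_swap_mem_K hS hvv hva
  obtain ⟨m, hm⟩ := hS.odd_card
  have hjj : (t * v) ^ (m + 1) * (t * v) ^ (m + 1) = t * v := oi_sqrt hm hk₀.1
  have hjinv : t * (t * v) ^ (m + 1) * t⁻¹ = ((t * v) ^ (m + 1))⁻¹ := oi_conj_pow_inv hk₀.2 _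
  set j := (t * v) ^ (m + 1) with hj
  have hjD : j ∈ stabilizer G a ⊓ stabilizer G (t • a) := pow_mem hk₀.1 _
  have h1 : j⁻¹ * t * j = v := by
    have e1 : j⁻¹ * t * j = t * (t * j * t⁻¹)⁻¹ * j := by
      rw [mul_inv_rev, mul_inv_rev, inv_inv, hti, ← mul_assoc, ← mul_assoc, hS.mul_self, one_mul]
    rw [e1, hjinv, inv_inv, mul_assoc, hjj, ← mul_assoc, hS.mul_self, one_mul]
  refine ⟨j, hjD, ?_⟩
  intro x hx
  have hxv : x * v = v * x := (Subgroup.mem_centralizer_iff.mp hvC) x hx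
  calc (j * x * j⁻¹) * t = j * (x * (j⁻¹ * t * j)) * j⁻¹ := by group
    _ = j * ((j⁻¹ * t * j) * x) * j⁻¹ := by rw [h1, hxv]
    _ = t * (j * x * j⁻¹) := by group


omit [Finite G] in
/-- Among three distinct points one differs from two given points. -/
theorem exists_third {Ω : Type*} {b c d : Ω} (hbc : b ≠ c) (hbd : b ≠ d) (hcd : c ≠ d) (p q : Ω) :
    (b ≠ p ∧ b ≠ q) ∨ (c ≠ p ∧ c ≠ q) ∨ (d ≠ p ∧ d ≠ q) := by
  grind

omit [Finite G] in
/-- A set fixing three distinct points fixes a point other than two given ones. -/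
theorem exists_third_fix {X : Set G} (p q : Ω)
    (h3 : ∃ b c d : Ω, b ≠ c ∧ b ≠ d ∧ c ≠ d ∧ ∀ x ∈ X, x • b = b ∧ x • c = c ∧ x • d = d) :
    ∃ e : Ω, e ≠ p ∧ e ≠ q ∧ ∀ x ∈ X, x • e = e := by
  obtain ⟨b, c, d, hbc, hbd, hcd, hfix⟩ := h3
  rcases exists_third hbc hbd hcd p q with h | h | h
  · exact ⟨b, h.1, h.2, fun x hx => (hfix x hx).1⟩
  · exact ⟨c, h.1, h.2, fun x hx => (hfix x hx).2.1⟩
  · exact ⟨d, h.1, h.2, fun x hx => (hfix x hx).2.2⟩

end Fin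

end Cfsg.Agent.Lib.helper24
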