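import Cfsg.Agent.Lib.helper24.RankOne3
import Cfsg.Agent.S1128

set_option autoImplicit false
set_option linter.unusedSectionVars false
set_option linter.unusedVariables false

/-! Rank-one set-up, fourth layer: consequences of the nilpotence of `Q` (which follows from Thompson's
theorem on fixed-point-free automorphisms of prime order, taken here as a hypothesis) (helper24). -/

namespace Cfsg.Agent.Lib.helper24

open MulAction

universe u w

/-- A non-trivial finite `2`-group has a central involution. -/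
theorem two_group_central_invol {P : Type*} [Group P] [Finite P] [Nontrivial P] (hP : IsPGroup 2 P) :
    ∃ z : P, z ≠ 1 ∧ z * z = 1 ∧ ∀ x : P, z * x = x * z := by
  haveI : Fact (Nat.Prime 2) := ⟨Nat.prime_two⟩
  haveI := hP.center_nontrivial
  have hZ : IsPGroup 2 (Subgroup.center P) := hP.to_subgroup _
  have hdvd : 2 ∣ Nat.card (Subgroup.center P) := by
    rcases hZ.card_eq_or_dvd with h1 | h1
    · exfalso
      have := Finite.one_lt_card (α := Subgroup.center P)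
      omega
    · exact h1
  obtain ⟨z, hz⟩ := exists_prime_orderOf_dvd_card' 2 hdvd
  rw [orderOf_eq_prime_iff] at hz
  refine ⟨z, ?_, ?_, ?_⟩
  · intro h1; exact hz.2 (Subtype.ext h1)
  · have := congrArg Subtype.val hz.1
    rw [pow_two] at this
    exact this
  · intro x
    exact (Subgroup.mem_center_iff.mp z.2 x).symm

/-- A finite nilpotent group of even order has a central involution. -/
theorem nilpotent_central_invol {H : Type*} [Group H] [Finite H] (hnil : Group.IsNilpotent H)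
    (heven : Even (Nat.card H)) : ∃ z : H, z ≠ 1 ∧ z * z = 1 ∧ ∀ x : H, z * x = x * z := by
  classical
  haveI : Fact (Nat.Prime 2) := ⟨Nat.prime_two⟩
  have q := (Group.isNilpotent_of_finite_tfae (G := H)).out 0 3
  have hnorm : ∀ (p : ℕ), Fact (Nat.Prime p) → ∀ (P : Sylow p H), (P : Subgroup H).Normal := q.mp hnil
  obtain ⟨S⟩ := (inferInstance : Nonempty (Sylow 2 H))
  have hcard0 : Nat.card H ≠ 0 := Nat.card_pos.ne'
  have hScard := S.card_eq_multiplicity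
  have hfpos : 0 < (Nat.card H).factorization 2 :=
    Nat.Prime.factorization_pos_of_dvd Nat.prime_two hcard0 (even_iff_two_dvd.mp heven)
  haveI : Nontrivial (S : Subgroup H) := by
    rw [← Finite.one_lt_card_iff_nontrivial, hScard]
    exact Nat.one_lt_two_pow (by omega)
  obtain ⟨z, hz1, hzz, hzc⟩ := two_group_central_invol S.isPGroup'
  refine ⟨(z : H), fun h => hz1 (Subtype.ext h), congrArg Subtype.val hzz, ?_⟩
  -- the centraliser of z contains every Sylow subgroup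
  have hC : Subgroup.centralizer ({(z : H)} : Set H) = ⊤ := by
    apply Subgroup.eq_top_of_card_eq
    apply Nat.dvd_antisymm (Subgroup.card_subgroup_dvd_card _)
    have hCcard0 : Nat.card (Subgroup.centralizer ({(z : H)} : Set H)) ≠ 0 := Nat.card_pos.ne'
    rw [← Nat.factorization_le_iff_dvd hcard0 hCcard0]
    intro p
    by_cases hp : p.Prime
    · haveI : Fact p.Prime := ⟨hp⟩
      obtain ⟨P⟩ := (inferInstance : Nonempty (Sylow p H))
      have hPle : (P : Subgroup H) ≤ Subgroup.centralizer ({(z : H)} : Set H) := by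
        intro x hx
        rw [Subgroup.mem_centralizer_iff]
        intro y hy
        rw [Set.mem_singleton_iff] at hy
        rw [hy]
        by_cases hp2 : p = 2
        · subst hp2
          -- P = S
          have hPS : P = S := by
            obtain ⟨g, hg⟩ := MulAction.exists_smul_eq H S P
            haveI := hnorm 2 inferInstance S
            rw [← hg, Sylow.smul_eq_of_normal]
          rw [hPS] at hx
          exact congrArg Subtype.val (hzc ⟨x, hx⟩)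
        · have hdisj : Disjoint (S : Subgroup H) (P : Subgroup H) :=
            IsPGroup.disjoint_of_ne 2 p (Ne.symm hp2) _ _ S.isPGroup' P.isPGroup'
          exact Subgroup.commute_of_normal_of_disjoint _ _ (hnorm 2 inferInstance S) (hnorm p inferInstance P)
            hdisj (z : H) x z.2 hx
      have h1 := Subgroup.card_dvd_of_le hPle
      rw [P.card_eq_multiplicity] at h1
      exact (hp.pow_dvd_iff_le_factorization hCcard0).mp h1
    · rw [Nat.factorization_eq_zero_of_not_prime _ hp]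
      exact Nat.zero_le _
  intro x
  have hx : x ∈ Subgroup.centralizer ({(z : H)} : Set H) := by rw [hC]; exact Subgroup.mem_top x
  exact Subgroup.mem_centralizer_iff.mp hx (z : H) rfl

section RO

variable {G : Type u} {Ω : Type w} [Group G] [Finite G] [MulAction G Ω] {a : Ω} {t : G} {Q : Subgroup G}

/-- A square root inside `K`: for `k ∈ K` there is `h ∈ D` with `h * h = k` and `h * t = t * h⁻¹`. -/
theorem ro_K_sqrt (hS : Cfsg.IsRankOneSetup G Ω a t Q) {k : G}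
    (hk : k ∈ Cfsg.invertedBy (stabilizer G a ⊓ stabilizer G (t • a)) t) :
    ∃ h ∈ stabilizer G a ⊓ stabilizer G (t • a), h * h = k ∧ h * t = t * h⁻¹ := by
  have hti := ro_t_inv hS
  have htt := hS.mul_self
  obtain ⟨hkD, hkinv⟩ := hk
  have hodd : Odd (orderOf k) := by
    have hdvd : orderOf k ∣ Nat.card ↥(stabilizer G a ⊓ stabilizer G (t • a)) := by
      have := orderOf_dvd_natCard (⟨k, hkD⟩ : ↥(stabilizer G a ⊓ stabilizer G (t • a)))
      rwa [Subgroup.orderOf_mk] at this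
    exact hS.odd_card.of_dvd_nat hdvd
  obtain ⟨m, hm⟩ := hodd
  refine ⟨k ^ (m + 1), Subgroup.pow_mem _ hkD _, ?_, ?_⟩
  · rw [← pow_add]
    have : m + 1 + (m + 1) = orderOf k + 1 := by omega
    rw [this, pow_succ, pow_orderOf_eq_one, one_mul]
  · have e := conj_pow (a := t) (b := k) (i := m + 1)
    rw [hkinv, hti] at e
    have e' : t * k ^ (m + 1) * t = (k ^ (m + 1))⁻¹ := by rw [← e, inv_pow]
    rw [← e', ← mul_assoc, ← mul_assoc, htt, one_mul]

/-- An involution swapping `a` and `t • a` is conjugate to `t` by an element of `D`. -/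
theorem ro_swap_conj_t (hS : Cfsg.IsRankOneSetup G Ω a t Q) {v : G} (hvv : v * v = 1)
    (hva : v • a = t • a) :
    ∃ h ∈ stabilizer G a ⊓ stabilizer G (t • a), h * v * h⁻¹ = t := by
  have htt := hS.mul_self
  obtain ⟨h, hhD, hhh, hht⟩ := ro_K_sqrt hS (ro_swap_mem_K hS hvv hva)
  refine ⟨h, hhD, ?_⟩
  have e1 : v = t * (h * h) := by rw [hhh, ← mul_assoc, htt, one_mul]
  calc h * v * h⁻¹ = h * (t * (h * h)) * h⁻¹ := by rw [← e1]
    _ = (h * t) * h := by group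
    _ = (t * h⁻¹) * h := by rw [hht]
    _ = t := by group

/-- With a Klein four-group in `G`, the stabiliser `G_a` contains two distinct involutions. -/
theorem ro_two_inv_Ga (hS : Cfsg.IsRankOneSetup G Ω a t Q)
    (h2 : ∃ x y : G, x ≠ 1 ∧ y ≠ 1 ∧ x ≠ y ∧ x * x = 1 ∧ y * y = 1 ∧ x * y = y * x) :
    ∃ s s' : G, s ∈ stabilizer G a ∧ s ≠ 1 ∧ s * s = 1 ∧ s' ∈ stabilizer G a ∧ s' ≠ 1 ∧ s' * s' = 1 ∧
      s ≠ s' := by
  obtain ⟨x, y, hx1, hy1, hxy, hxx, hyy, hc⟩ := h2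
  obtain ⟨c, hcx⟩ := ro_inv_fix hS hxx
  have hcy : y • c = c := by
    have : x • (y • c) = y • c := by rw [← mul_smul, hc, mul_smul, hcx]
    exact ro_inv_fix_unique hS hx1 hxx this hcx
  obtain ⟨g, hg⟩ := ro_trans hS c a
  refine ⟨g * x * g⁻¹, g * y * g⁻¹, ?_, conj_ne_one hx1, conj_mul_self hxx, ?_, conj_ne_one hy1,
    conj_mul_self hyy, ?_⟩
  · rw [mem_stabilizer_iff, mul_smul, mul_smul, ← hg, inv_smul_smul, hcx]
  · rw [mem_stabilizer_iff, mul_smul, mul_smul, ← hg, inv_smul_smul, hcy]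
  · intro e
    apply hxy
    have e1 : x = g⁻¹ * (g * x * g⁻¹) * g := by group
    rw [e1, e]; group

/-- With a Klein four-group in `G`, `K` contains an element of prime order. -/
theorem ro_exists_K_prime (hS : Cfsg.IsRankOneSetup G Ω a t Q)
    (h2 : ∃ x y : G, x ≠ 1 ∧ y ≠ 1 ∧ x ≠ y ∧ x * x = 1 ∧ y * y = 1 ∧ x * y = y * x) :
    ∃ y ∈ Cfsg.invertedBy (stabilizer G a ⊓ stabilizer G (t • a)) t, y ≠ 1 ∧
      ∃ p : ℕ, p.Prime ∧ y ^ p = 1 := by
  have hti := ro_t_inv hS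
  obtain ⟨s, s', hs, hs1, hss, hs', hs1', hss', hne⟩ := ro_two_inv_Ga hS h2
  obtain ⟨k, hk, hks⟩ := ro_K_conj_trans hS hs hs1 hss hs' hs1' hss'
  have hk1 : k ≠ 1 := by
    rintro rfl
    apply hne
    rw [← hks]; group
  obtain ⟨hkD, hkinv⟩ := hk
  have hn1 : orderOf k ≠ 1 := fun h => hk1 (orderOf_eq_one_iff.mp h)
  have hnpos : 0 < orderOf k := orderOf_pos k
  have hp : (orderOf k).minFac.Prime := Nat.minFac_prime hn1
  have hdvd : (orderOf k).minFac ∣ orderOf k := Nat.minFac_dvd _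
  obtain ⟨j, hj⟩ := hdvd
  have hjpos : 0 < j := by
    rcases Nat.eq_zero_or_pos j with h0 | h0
    · rw [h0, mul_zero] at hj; omega
    · exact h0
  have hjlt : j < orderOf k := by
    have := hp.two_le
    nlinarith
  refine ⟨k ^ j, ⟨Subgroup.pow_mem _ hkD _, ?_⟩, pow_ne_one_of_lt_orderOf (by omega) hjlt,
    (orderOf k).minFac, hp, ?_⟩
  · have e := conj_pow (a := t) (b := k) (i := j)
    rw [hkinv] at e
    rw [← e, inv_pow]
  · rw [← pow_mul, mul_comm, ← hj, pow_orderOf_eq_one]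

/-- Conjugation by elements of `G_a` as automorphisms of `Q`. -/
def roConj (hS : Cfsg.IsRankOneSetup G Ω a t Q) : ↥(stabilizer G a) →* MulAut ↥Q :=
  MonoidHom.mk' (fun g =>
    { toFun := fun x => ⟨(g : G) * x * (g : G)⁻¹, hS.conj_mem g g.2 x x.2⟩
      invFun := fun x => ⟨(g : G)⁻¹ * x * (g : G), by
        have := hS.conj_mem (g : G)⁻¹ (inv_mem g.2) x x.2
        rwa [inv_inv] at this⟩
      left_inv := fun x => Subtype.ext (by
        show (g : G)⁻¹ * ((g : G) * x * (g : G)⁻¹) * (g : G) = x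
        group)
      right_inv := fun x => Subtype.ext (by
        show (g : G) * ((g : G)⁻¹ * x * (g : G)) * (g : G)⁻¹ = x
        group)
      map_mul' := fun x y => Subtype.ext (by
        show (g : G) * ((x : G) * y) * (g : G)⁻¹ = ((g : G) * x * (g : G)⁻¹) * ((g : G) * y * (g : G)⁻¹)
        group) })
    (fun g g' => by
      apply MulEquiv.ext
      intro x
      apply Subtype.ext
      show ((g : G) * g') * x * ((g : G) * g')⁻¹ = (g : G) * ((g' : G) * x * (g' : G)⁻¹) * (g : G)⁻¹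
      group)

theorem roConj_apply (hS : Cfsg.IsRankOneSetup G Ω a t Q) (g : ↥(stabilizer G a)) (x : ↥Q) :
    ((roConj hS g x : ↥Q) : G) = (g : G) * x * (g : G)⁻¹ := rfl

/-- `Q` is nilpotent, given Thompson's theorem on fixed-point-free automorphisms of prime order. -/
theorem ro_Q_nilpotent [FaithfulSMul G Ω]
    (hT : ∀ (H : Type u) [Group H] [Finite H] (φ : H ≃* H),
      MonoidHom.FixedPointFree (φ : H →* H) → ∀ p : ℕ, p.Prime → orderOf φ = p → Group.IsNilpotent H)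
    (hS : Cfsg.IsRankOneSetup G Ω a t Q)
    (h2 : ∃ x y : G, x ≠ 1 ∧ y ≠ 1 ∧ x ≠ y ∧ x * x = 1 ∧ y * y = 1 ∧ x * y = y * x) :
    Group.IsNilpotent Q := by
  obtain ⟨y, hyK, hy1, p, hp, hyp⟩ := ro_exists_K_prime hS h2
  have hfpf := Cfsg.Agent.S1128.result hS h2 y hyK hy1
  have hyGa : y ∈ stabilizer G a := hyK.1.1
  haveI : Fact p.Prime := ⟨hp⟩
  have hfix : ∀ x : ↥Q, roConj hS ⟨y, hyGa⟩ x = x → x = 1 := by
    intro x hx
    have hx' : y * (x : G) * y⁻¹ = x := congrArg Subtype.val hx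
    have hmem : (x : G) ∈ Q ⊓ Subgroup.centralizer {y} := by
      refine ⟨x.2, ?_⟩
      show (x : G) ∈ Subgroup.centralizer {y}
      rw [Subgroup.mem_centralizer_iff]
      intro z hz
      rw [Set.mem_singleton_iff] at hz
      rw [hz]
      calc y * (x : G) = (y * x * y⁻¹) * y := by group
        _ = x * y := by rw [hx']
    rw [hfpf, Subgroup.mem_bot] at hmem
    exact Subtype.ext hmem
  refine hT ↥Q (roConj hS ⟨y, hyGa⟩) (fun x hx => hfix x hx) p hp ?_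
  apply orderOf_eq_prime
  · rw [← map_pow]
    have : (⟨y, hyGa⟩ : ↥(stabilizer G a)) ^ p = 1 := Subtype.ext hyp
    rw [this, map_one]
  · intro h1
    obtain ⟨s, hsQ, hs1, hss⟩ := ro_exists_inv_Q hS
    apply hs1
    have := hfix ⟨s, hsQ⟩ (by rw [h1]; rfl)
    exact congrArg Subtype.val this

/-- If `Q` is nilpotent, the involutions of `G_a` are central in `Q`. -/
theorem ro_inv_central (hS : Cfsg.IsRankOneSetup G Ω a t Q) (hnil : Group.IsNilpotent Q)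
    {s : G} (hs : s ∈ stabilizer G a) (hs1 : s ≠ 1) (hss : s * s = 1) {x : G} (hx : x ∈ Q) :
    s * x = x * s := by
  obtain ⟨z, hz1, hzz, hzc⟩ := nilpotent_central_invol hnil hS.even_card
  have hzGa : (z : G) ∈ stabilizer G a := hS.le z.2
  have hz1' : (z : G) ≠ 1 := fun h => hz1 (Subtype.ext h)
  have hzz' : (z : G) * z = 1 := congrArg Subtype.val hzz
  obtain ⟨k, hk, hks⟩ := ro_K_conj_trans hS hzGa hz1' hzz' hs hs1 hss
  have hkx : k * x * k⁻¹ ∈ Q := hS.conj_mem k hk.1.1 x hx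
  have hc : (z : G) * (k * x * k⁻¹) = (k * x * k⁻¹) * z := congrArg Subtype.val (hzc ⟨_, hkx⟩)
  rw [← hks]
  calc k⁻¹ * (z : G) * k * x = k⁻¹ * ((z : G) * (k * x * k⁻¹)) * k := by group
    _ = k⁻¹ * ((k * x * k⁻¹) * z) * k := by rw [hc]
    _ = x * (k⁻¹ * (z : G) * k) := by group

/-- The product of two involutions with `(u v)² ≠ 1` is conjugate to `u' * t` with `u'` an involution of
`G_a`, provided the involutions of `G_a` commute pairwise. -/
theorem ro_prod_conj (hS : Cfsg.IsRankOneSetup G Ω a t Q)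
    (hcomm : ∀ s s' : G, s ∈ stabilizer G a → s * s = 1 → s' ∈ stabilizer G a → s' * s' = 1 →
      s * s' = s' * s)
    {u v : G} (hu1 : u ≠ 1) (hu2 : u * u = 1) (hv2 : v * v = 1) (hx : (u * v) * (u * v) ≠ 1) :
    ∃ g : G, ∃ u' : G, u' ∈ stabilizer G a ∧ u' ≠ 1 ∧ u' * u' = 1 ∧ g * (u * v) * g⁻¹ = u' * t := by
  obtain ⟨g₀, hg₀⟩ := ro_inv_conj_Ga hS hu1 hu2
  have hu₁1 : g₀ * u * g₀⁻¹ ≠ 1 := conj_ne_one hu1
  have hu₁2 := conj_mul_self (g := g₀) hu2
  have hv₁2 := conj_mul_self (g := g₀) hv2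
  have hv₁ : g₀ * v * g₀⁻¹ ∉ stabilizer G a := by
    intro hmem
    apply hx
    have hc := hcomm _ _ hg₀ hu₁2 hmem hv₁2
    have e : (u * v) * (u * v) =
        g₀⁻¹ * ((g₀ * u * g₀⁻¹) * (g₀ * v * g₀⁻¹) * (g₀ * u * g₀⁻¹) * (g₀ * v * g₀⁻¹)) * g₀ := by group
    rw [e, hc, mul_assoc (g₀ * v * g₀⁻¹) (g₀ * u * g₀⁻¹) (g₀ * u * g₀⁻¹), hu₁2, mul_one, hv₁2]
    group
  have hva : (g₀ * v * g₀⁻¹) • a ≠ a := fun h => hv₁ (mem_stabilizer_iff.mpr h)
  obtain ⟨x, hxQ, hxa⟩ := ro_Q_trans hS hva (ro_tsmul_ne hS)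
  have hxGa : x ∈ stabilizer G a := hS.le hxQ
  have hv₂a : (x * (g₀ * v * g₀⁻¹) * x⁻¹) • a = t • a := by
    rw [mul_smul, mul_smul]
    have hxi : x⁻¹ • a = a := inv_mem hxGa
    rw [hxi, hxa]
  have hv₂2 := conj_mul_self (g := x) hv₁2
  obtain ⟨h, hhD, hh⟩ := ro_swap_conj_t hS hv₂2 hv₂a
  refine ⟨h * x * g₀, h * (x * (g₀ * u * g₀⁻¹) * x⁻¹) * h⁻¹, ?_, conj_ne_one (conj_ne_one hu₁1),
    conj_mul_self (conj_mul_self hu₁2), ?_⟩
  · exact mul_mem (mul_mem hhD.1 (mul_mem (mul_mem hxGa hg₀) (inv_mem hxGa))) (inv_mem hhD.1)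
  · rw [← hh]; group

/-- No involution centralises `s * t`, for `s` an involution of `G_a`. -/
theorem ro_cent_st_no_inv [FaithfulSMul G Ω] (hS : Cfsg.IsRankOneSetup G Ω a t Q)
    (h2 : ∃ x y : G, x ≠ 1 ∧ y ≠ 1 ∧ x ≠ y ∧ x * x = 1 ∧ y * y = 1 ∧ x * y = y * x)
    {s : G} (hs : s ∈ stabilizer G a) (hs1 : s ≠ 1) (hss : s * s = 1)
    {z : G} (hz1 : z ≠ 1) (hzz : z * z = 1) (hzc : z * (s * t) = (s * t) * z) : False := by
  have hti := ro_t_inv hS
  have htt := hS.mul_self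
  have hsi : s⁻¹ = s := inv_eq_of_mul_eq_one_left hss
  have hsa : s • a = a := hs
  obtain ⟨c, hc⟩ := ro_inv_fix hS hzz
  have hρc : (s * t) • c = c := by
    apply ro_inv_fix_unique hS hz1 hzz _ hc
    rw [← mul_smul, hzc, mul_smul, hc]
  have htc : t • c = s • c := by
    have h1 : s • t • c = c := by rw [← mul_smul]; exact hρc
    have h3 : t • c = s⁻¹ • c := by rw [eq_inv_smul_iff]; exact h1
    rw [h3, hsi]
  have hca : c ≠ a := by
    intro hca
    apply ro_tsmul_ne hS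
    rw [hca] at htc
    rw [htc, hsa]
  have hcc' : c ≠ s • c := by
    intro h
    exact hca (ro_inv_Ga_fix hS hs hs1 hss h.symm)
  have hρc' : (s * t) • (s • c) = s • c := by
    rw [← htc, mul_smul, ro_t_smul_smul hS]
    exact htc.symm
  obtain ⟨g₁, hg₁a, hg₁b⟩ := ro_two_trans hS (Ne.symm (ro_tsmul_ne hS)) hcc'
  have hg₁a' : g₁⁻¹ • c = a := by rw [inv_smul_eq_iff]; exact hg₁a.symm
  have hg₁b' : g₁⁻¹ • (s • c) = t • a := by rw [inv_smul_eq_iff]; exact hg₁b.symm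
  have ht'2 : (g₁⁻¹ * s * g₁) * (g₁⁻¹ * s * g₁) = 1 := by
    have e : (g₁⁻¹ * s * g₁) * (g₁⁻¹ * s * g₁) = g₁⁻¹ * (s * s) * g₁ := by group
    rw [e, hss]; group
  have ht'a : (g₁⁻¹ * s * g₁) • a = t • a := by
    rw [mul_smul, mul_smul, hg₁a, hg₁b']
  obtain ⟨h₃, hh₃D, hh₃⟩ := ro_swap_conj_t hS ht'2 ht'a
  have hh₃a : h₃ • a = a := hh₃D.1
  have hh₃b : h₃ • (t • a) = t • a := hh₃D.2
  have hh₃a' : h₃⁻¹ • a = a := by rw [inv_smul_eq_iff, hh₃a]
  have hh₃b' : h₃⁻¹ • (t • a) = t • a := by rw [inv_smul_eq_iff, hh₃b]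
  -- ρ' = h₃ g₁⁻¹ (s t) g₁ h₃⁻¹ lies in K
  have hρ'a : (h₃ * g₁⁻¹ * (s * t) * g₁ * h₃⁻¹) • a = a := by
    rw [mul_smul, mul_smul, mul_smul, mul_smul, hh₃a', hg₁a, hρc, hg₁a', hh₃a]
  have hρ'b : (h₃ * g₁⁻¹ * (s * t) * g₁ * h₃⁻¹) • (t • a) = t • a := by
    rw [mul_smul, mul_smul, mul_smul, mul_smul, hh₃b', hg₁b, hρc', hg₁b', hh₃b]
  have hρ'inv : t * (h₃ * g₁⁻¹ * (s * t) * g₁ * h₃⁻¹) * t⁻¹ = (h₃ * g₁⁻¹ * (s * t) * g₁ * h₃⁻¹)⁻¹ := by
    have e1 : (h₃ * (g₁⁻¹ * s * g₁) * h₃⁻¹) * (h₃ * g₁⁻¹ * (s * t) * g₁ * h₃⁻¹) *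
        (h₃ * (g₁⁻¹ * s * g₁) * h₃⁻¹)⁻¹ = h₃ * g₁⁻¹ * (s * (s * t) * s⁻¹) * g₁ * h₃⁻¹ := by group
    have e2 : s * (s * t) * s⁻¹ = (s * t)⁻¹ := by
      rw [← mul_assoc, hss, one_mul, mul_inv_rev, hti]
    have e3 : (h₃ * g₁⁻¹ * (s * t) * g₁ * h₃⁻¹)⁻¹ = h₃ * g₁⁻¹ * (s * t)⁻¹ * g₁ * h₃⁻¹ := by group
    rw [hh₃] at e1
    rw [e1, e2, e3]
  have hρ'K : h₃ * g₁⁻¹ * (s * t) * g₁ * h₃⁻¹ ∈
      Cfsg.invertedBy (stabilizer G a ⊓ stabilizer G (t • a)) t := ⟨⟨hρ'a, hρ'b⟩, hρ'inv⟩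
  have hst1 : s * t ≠ 1 := by
    intro h
    apply hS.not_mem
    have e : t = s⁻¹ * (s * t) := by group
    rw [e, h, mul_one]; exact inv_mem hs
  have hρ'1 : h₃ * g₁⁻¹ * (s * t) * g₁ * h₃⁻¹ ≠ 1 := by
    intro h
    apply hst1
    have e : s * t = g₁ * h₃⁻¹ * (h₃ * g₁⁻¹ * (s * t) * g₁ * h₃⁻¹) * h₃ * g₁⁻¹ := by group
    rw [e, h]; group
  -- z' = h₃ g₁⁻¹ z g₁ h₃⁻¹
  have hz'a : (h₃ * g₁⁻¹ * z * g₁ * h₃⁻¹) • a = a := by
    rw [mul_smul, mul_smul, mul_smul, mul_smul, hh₃a', hg₁a, hc, hg₁a', hh₃a]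
  have hz'2 : (h₃ * g₁⁻¹ * z * g₁ * h₃⁻¹) * (h₃ * g₁⁻¹ * z * g₁ * h₃⁻¹) = 1 := by
    have e : (h₃ * g₁⁻¹ * z * g₁ * h₃⁻¹) * (h₃ * g₁⁻¹ * z * g₁ * h₃⁻¹) =
        h₃ * g₁⁻¹ * (z * z) * g₁ * h₃⁻¹ := by group
    rw [e, hzz]; group
  have hz'1 : h₃ * g₁⁻¹ * z * g₁ * h₃⁻¹ ≠ 1 := by
    intro h
    apply hz1
    have e : z = g₁ * h₃⁻¹ * (h₃ * g₁⁻¹ * z * g₁ * h₃⁻¹) * h₃ * g₁⁻¹ := by group
    rw [e, h]; group
  have hz'Q : h₃ * g₁⁻¹ * z * g₁ * h₃⁻¹ ∈ Q := ro_inv_mem_Q hS hz'a hz'2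
  have hfpf := Cfsg.Agent.S1128.result hS h2 _ hρ'K hρ'1
  have hmem : h₃ * g₁⁻¹ * z * g₁ * h₃⁻¹ ∈
      Q ⊓ Subgroup.centralizer {h₃ * g₁⁻¹ * (s * t) * g₁ * h₃⁻¹} := by
    refine ⟨hz'Q, ?_⟩
    show h₃ * g₁⁻¹ * z * g₁ * h₃⁻¹ ∈ Subgroup.centralizer {h₃ * g₁⁻¹ * (s * t) * g₁ * h₃⁻¹}
    rw [Subgroup.mem_centralizer_iff]
    intro y hy
    rw [Set.mem_singleton_iff] at hy
    rw [hy]
    calc h₃ * g₁⁻¹ * (s * t) * g₁ * h₃⁻¹ * (h₃ * g₁⁻¹ * z * g₁ * h₃⁻¹)
        = h₃ * g₁⁻¹ * ((s * t) * z) * g₁ * h₃⁻¹ := by group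
      _ = h₃ * g₁⁻¹ * (z * (s * t)) * g₁ * h₃⁻¹ := by rw [hzc]
      _ = h₃ * g₁⁻¹ * z * g₁ * h₃⁻¹ * (h₃ * g₁⁻¹ * (s * t) * g₁ * h₃⁻¹) := by group
  rw [hfpf, Subgroup.mem_bot] at hmem
  exact hz'1 hmem

/-- Core of the statement on products of two involutions. -/
theorem ro_prod_inv [FaithfulSMul G Ω] (hS : Cfsg.IsRankOneSetup G Ω a t Q)
    (h2 : ∃ x y : G, x ≠ 1 ∧ y ≠ 1 ∧ x ≠ y ∧ x * x = 1 ∧ y * y = 1 ∧ x * y = y * x)
    (hcomm : ∀ s s' : G, s ∈ stabilizer G a → s * s = 1 → s' ∈ stabilizer G a → s' * s' = 1 →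
      s * s' = s' * s)
    (u v : G) (hu1 : u ≠ 1) (hu2 : u * u = 1) (hv1 : v ≠ 1) (hv2 : v * v = 1)
    (hx : (u * v) * (u * v) ≠ 1) :
    (∃ g : G, ∃ u' ∈ Cfsg.involutionsIn (MulAction.stabilizer G a : Set G),
        g * (u * v) * g⁻¹ = u' * t) ∧
      Odd (Nat.card ↥(Subgroup.centralizer {u * v})) := by
  obtain ⟨g, u', hu', hu'1, hu'2, hg⟩ := ro_prod_conj hS hcomm hu1 hu2 hv2 hx
  refine ⟨⟨g, u', ⟨hu', hu'1, hu'2⟩, hg⟩, ?_⟩
  rw [← Nat.not_even_iff_odd]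
  intro heven
  haveI : Fact (Nat.Prime 2) := ⟨Nat.prime_two⟩
  obtain ⟨z, hz⟩ := exists_prime_orderOf_dvd_card' (G := ↥(Subgroup.centralizer {u * v})) 2
    (even_iff_two_dvd.mp heven)
  rw [orderOf_eq_prime_iff] at hz
  have hz1 : (z : G) ≠ 1 := fun h => hz.2 (Subtype.ext h)
  have hzz : (z : G) * z = 1 := by
    have := congrArg Subtype.val hz.1
    rw [pow_two] at this
    exact this
  have hzc : (u * v) * (z : G) = z * (u * v) := Subgroup.mem_centralizer_iff.mp z.2 (u * v) rfl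
  apply ro_cent_st_no_inv hS h2 hu' hu'1 hu'2 (z := g * z * g⁻¹) (conj_ne_one hz1) (conj_mul_self hzz)
  rw [← hg]
  calc g * z * g⁻¹ * (g * (u * v) * g⁻¹) = g * (z * (u * v)) * g⁻¹ := by group
    _ = g * ((u * v) * z) * g⁻¹ := by rw [hzc]
    _ = g * (u * v) * g⁻¹ * (g * z * g⁻¹) := by group

/-- If `Q` is nilpotent, the involutions of `G_a` commute pairwise. -/
theorem ro_inv_comm (hS : Cfsg.IsRankOneSetup G Ω a t Q) (hnil : Group.IsNilpotent Q) :
    ∀ s s' : G, s ∈ stabilizer G a → s * s = 1 → s' ∈ stabilizer G a → s' * s' = 1 →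
      s * s' = s' * s := by
  intro s s' hs hss hs' hss'
  by_cases hs1 : s = 1
  · rw [hs1, one_mul, mul_one]
  · exact ro_inv_central hS hnil hs hs1 hss (ro_inv_mem_Q hS hs' hss')

/-- If `Q` is nilpotent: the involutions of `G_a` lie in the centre of `Q` and, with `1`, form a
subgroup. -/
theorem ro_core_inv (hS : Cfsg.IsRankOneSetup G Ω a t Q) (hnil : Group.IsNilpotent Q) :
    (∀ s ∈ Cfsg.involutionsIn (MulAction.stabilizer G a : Set G), s ∈ Q ∧ ∀ x ∈ Q, s * x = x * s) ∧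
      ∀ s ∈ Cfsg.involutionsIn (MulAction.stabilizer G a : Set G),
        ∀ s' ∈ Cfsg.involutionsIn (MulAction.stabilizer G a : Set G),
        s * s' = 1 ∨ s * s' ∈ Cfsg.involutionsIn (MulAction.stabilizer G a : Set G) := by
  constructor
  · rintro s ⟨hs, hs1, hss⟩
    have hs' : s ∈ stabilizer G a := hs
    exact ⟨ro_inv_mem_Q hS hs' hss, fun x hx => ro_inv_central hS hnil hs' hs1 hss hx⟩
  · rintro s ⟨hs, hs1, hss⟩ s' ⟨hs', hs1', hss'⟩
    have hsG : s ∈ stabilizer G a := hs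
    have hsG' : s' ∈ stabilizer G a := hs'
    by_cases h1 : s * s' = 1
    · exact Or.inl h1
    · refine Or.inr ⟨?_, h1, ?_⟩
      · exact mul_mem hsG hsG'
      · have hc := ro_inv_comm hS hnil s s' hsG hss hsG' hss'
        calc s * s' * (s * s') = s * (s' * s) * s' := by group
          _ = s * (s * s') * s' := by rw [hc]
          _ = (s * s) * (s' * s') := by group
          _ = 1 := by rw [hss, hss', mul_one]

end RO



end Cfsg.Agent.Lib.helper24
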