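import Mathlib

/-! S6000, sub-lemma of piece AELT2 (helper24): double count of commuting pairs. -/

set_option autoImplicit false

namespace Cfsg.Agent.Lib.helper89.S60

open Classical in
/-- A subgroup such that two elements outside it differ by an element of it is the whole group or has index 2. -/
theorem h24_index_two {H : Type*} [Group H] [Finite H] (K : Subgroup H)
    (h : ∀ a b : H, a ∉ K → b ∉ K → a⁻¹ * b ∈ K) :
    2 * Nat.card K = Nat.card H * (if K = ⊤ then 2 else 1) := by
  classical
  by_cases hK : K = ⊤
  · rw [if_pos hK, hK, Subgroup.card_top, mul_comm]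
  · rw [if_neg hK, mul_one]
    obtain ⟨g₀, hg₀⟩ : ∃ g₀ : H, g₀ ∉ K := by
      by_contra hcon
      exact hK ((Subgroup.eq_top_iff' K).mpr (fun x => by
        by_contra hx
        exact hcon ⟨x, hx⟩))
    have e : K ≃ {x : H // x ∉ K} :=
      { toFun := fun k => ⟨g₀ * k, fun hk => hg₀ (by
          have := K.mul_mem hk (K.inv_mem k.2)
          simpa using this)⟩
        invFun := fun x => ⟨g₀⁻¹ * x, h g₀ x hg₀ x.2⟩
        left_inv := fun k => by ext; simp
        right_inv := fun x => by ext; simp }
    have hsum : Nat.card H = Nat.card {x : H // x ∈ K} + Nat.card {x : H // x ∉ K} := by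
      rw [← Nat.card_sum]
      exact Nat.card_congr (Equiv.sumCompl (fun x : H => x ∈ K)).symm
    have h1 : Nat.card {x : H // x ∉ K} = Nat.card K := (Nat.card_congr e).symm
    have h2 : Nat.card {x : H // x ∈ K} = Nat.card K := rfl
    rw [hsum, h1, h2]
    ring

theorem h24_comm_count {G : Type*} [Group G] [Finite G] (T : Subgroup G) (hZ : Subgroup.center G ≤ T)
    (H1 : ∀ t ∈ T, ∀ g h : G, ¬ Commute t g → ¬ Commute t h → Commute t (g⁻¹ * h))
    (H2 : ∀ g : G, ∀ s ∈ T, ∀ t ∈ T, ¬ Commute s g → ¬ Commute t g → Commute (s⁻¹ * t) g) :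
    Nat.card (Subgroup.center G) * Nat.card G = Nat.card (Subgroup.centralizer (T : Set G)) * Nat.card T := by
  classical
  haveI : Fintype G := Fintype.ofFinite G
  haveI : Fintype T := Fintype.ofFinite T
  -- the double count
  have hdc : ∑ t : T, Nat.card {g : G // Commute (t : G) g} = ∑ g : G, Nat.card {t : T // Commute (t : G) g} := by
    rw [← Nat.card_sigma, ← Nat.card_sigma]
    exact Nat.card_congr
      { toFun := fun x => ⟨x.2.1, ⟨x.1, x.2.2⟩⟩
        invFun := fun x => ⟨x.2.1, ⟨x.1, x.2.2⟩⟩
        left_inv := fun x => rfl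
        right_inv := fun x => rfl }
  -- rows
  have hA : ∀ t : T, 2 * Nat.card {g : G // Commute (t : G) g} =
      Nat.card G * (if (t : G) ∈ Subgroup.center G then 2 else 1) := by
    intro t
    have hmem : ∀ g : G, g ∈ Subgroup.centralizer ({(t : G)} : Set G) ↔ Commute (t : G) g := by
      intro g
      rw [Subgroup.mem_centralizer_iff]
      constructor
      · intro hh; exact hh _ rfl
      · intro hh s hs; rw [Set.mem_singleton_iff.mp hs]; exact hh
    have key := h24_index_two (Subgroup.centralizer ({(t : G)} : Set G)) (by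
      intro a b ha hb
      rw [hmem] at ha hb ⊢
      exact H1 t t.2 a b ha hb)
    have hc : Nat.card (Subgroup.centralizer ({(t : G)} : Set G)) = Nat.card {g : G // Commute (t : G) g} :=
      Nat.card_congr (Equiv.subtypeEquivRight hmem)
    have htop : Subgroup.centralizer ({(t : G)} : Set G) = ⊤ ↔ (t : G) ∈ Subgroup.center G := by
      rw [Subgroup.eq_top_iff', Subgroup.mem_center_iff]
      constructor
      · intro hh g; exact ((hmem g).mp (hh g)).eq.symm
      · intro hh g; exact (hmem g).mpr (hh g).symm
    rw [← hc, key]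
    congr 1
    exact if_congr htop rfl rfl
  -- columns
  have hB : ∀ g : G, 2 * Nat.card {t : T // Commute (t : G) g} =
      Nat.card T * (if g ∈ Subgroup.centralizer (T : Set G) then 2 else 1) := by
    intro g
    have hmem : ∀ t : T, t ∈ (Subgroup.centralizer ({g} : Set G)).subgroupOf T ↔ Commute (t : G) g := by
      intro t
      rw [Subgroup.mem_subgroupOf, Subgroup.mem_centralizer_iff]
      constructor
      · intro hh; exact (hh _ rfl).symm
      · intro hh s hs; rw [Set.mem_singleton_iff.mp hs]; exact hh.eq.symm
    have key := h24_index_two ((Subgroup.centralizer ({g} : Set G)).subgroupOf T) (by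
      intro a b ha hb
      rw [hmem] at ha hb ⊢
      have := H2 g a a.2 b b.2 ha hb
      simpa using this)
    have hc : Nat.card ((Subgroup.centralizer ({g} : Set G)).subgroupOf T) = Nat.card {t : T // Commute (t : G) g} :=
      Nat.card_congr (Equiv.subtypeEquivRight hmem)
    have htop : (Subgroup.centralizer ({g} : Set G)).subgroupOf T = ⊤ ↔ g ∈ Subgroup.centralizer (T : Set G) := by
      rw [Subgroup.eq_top_iff', Subgroup.mem_centralizer_iff]
      constructor
      · intro hh t ht; exact ((hmem ⟨t, ht⟩).mp (hh ⟨t, ht⟩)).eq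
      · intro hh t; exact (hmem t).mpr (hh t t.2)
    rw [← hc, key]
    congr 1
    exact if_congr htop rfl rfl
  -- sums of the indicators
  have hsA : ∑ t : T, (if (t : G) ∈ Subgroup.center G then 2 else 1) = Nat.card T + Nat.card (Subgroup.center G) := by
    have h1 : ∀ t : T, (if (t : G) ∈ Subgroup.center G then 2 else 1) = 1 + (if (t : G) ∈ Subgroup.center G then 1 else 0) := by
      intro t; split_ifs <;> rfl
    simp only [h1, Finset.sum_add_distrib, Finset.sum_const, Finset.card_univ, smul_eq_mul, mul_one,
      Finset.sum_boole]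
    congr 1
    · exact (Nat.card_eq_fintype_card).symm
    · rw [← Fintype.card_subtype, ← Nat.card_eq_fintype_card]
      exact Nat.card_congr
        { toFun := fun x => ⟨(x.1 : G), x.2⟩
          invFun := fun z => ⟨⟨(z : G), hZ z.2⟩, z.2⟩
          left_inv := fun x => rfl
          right_inv := fun z => rfl }
  have hsB : ∑ g : G, (if g ∈ Subgroup.centralizer (T : Set G) then 2 else 1) =
      Nat.card G + Nat.card (Subgroup.centralizer (T : Set G)) := by
    have h1 : ∀ g : G, (if g ∈ Subgroup.centralizer (T : Set G) then 2 else 1) =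
        1 + (if g ∈ Subgroup.centralizer (T : Set G) then 1 else 0) := by
      intro g; split_ifs <;> rfl
    simp only [h1, Finset.sum_add_distrib, Finset.sum_const, Finset.card_univ, smul_eq_mul, mul_one,
      Finset.sum_boole]
    congr 1
    · exact (Nat.card_eq_fintype_card).symm
    · rw [← Fintype.card_subtype, ← Nat.card_eq_fintype_card]
      rfl
  have e1 : 2 * ∑ t : T, Nat.card {g : G // Commute (t : G) g} = Nat.card G * (Nat.card T + Nat.card (Subgroup.center G)) := by
    rw [Finset.mul_sum, ← hsA, Finset.mul_sum]
    exact Finset.sum_congr rfl (fun t _ => hA t)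
  have e2 : 2 * ∑ g : G, Nat.card {t : T // Commute (t : G) g} = Nat.card T * (Nat.card G + Nat.card (Subgroup.centralizer (T : Set G))) := by
    rw [Finset.mul_sum, ← hsB, Finset.mul_sum]
    exact Finset.sum_congr rfl (fun g _ => hB g)
  rw [hdc, e2] at e1
  have h3 := mul_comm (Nat.card G) (Nat.card T)
  have h4 : Nat.card G * Nat.card (Subgroup.center G) = Nat.card T * Nat.card (Subgroup.centralizer (T : Set G)) := by
    have e1' : Nat.card T * Nat.card G + Nat.card T * Nat.card (Subgroup.centralizer (T : Set G)) =
        Nat.card G * Nat.card T + Nat.card G * Nat.card (Subgroup.center G) := by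
      rw [← mul_add, ← mul_add]; exact e1
    omega
  rw [mul_comm (Nat.card (Subgroup.center G)), mul_comm (Nat.card (Subgroup.centralizer (T : Set G)))]
  exact h4

end Cfsg.Agent.Lib.helper89.S60
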