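import Mathlib
import Cfsg.Agent.Lib.helper24.S6eDefs
import Cfsg.Agent.Lib.helper43.S6eACEN
import Cfsg.Agent.Lib.helper32.S6eAAVGr
import Cfsg.Agent.Lib.helper6.S6eATR
import Cfsg.Agent.Lib.helper58.S6eASQ
import Cfsg.Agent.Lib.helper82.S6eACOM
import Cfsg.Agent.Lib.helper53.S6eACNT
import Cfsg.Agent.Lib.helper9.S6eAANT
import Cfsg.Agent.Lib.helper9.S6eAFR4
import Cfsg.Agent.Lib.helper7.S6eAFRG
import Cfsg.Agent.Lib.helper7.S6eAINV
import Cfsg.Agent.Lib.helper11.S6eNCHAR
import Cfsg.Agent.Lib.helper4.S6eN35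
import Cfsg.Agent.Lib.helper97.S6eNBIG
import Cfsg.Agent.Lib.helper54.S6eIDX
import Cfsg.Agent.Lib.helper30.S6eAR5

set_option autoImplicit false

namespace Cfsg.Agent.Lib.helper24

open Matrix Cfsg Cfsg.Geo

/-- The structural facts about `R`, assembled. -/
theorem s6_good {F : Type*} [Field F] [Fintype F] (h2 : (2 : F) ≠ 0) (R : Subgroup (GL S6I F))
    (hRs : IsSymplecticTypeGroup 2 R) (hRi : ActsAbsolutelyIrreducibly (matrixSet R))
    (hRf : R ≤ spGL 2 F) (hR5 : Nat.card R = 2 ^ 5) (hRZ : Nat.card (Subgroup.center R) = 2)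
    (hRm : IsOfMinusType 2 R) : S6Good R := by
  have hcard : Nat.card R = 32 := by
    rw [hR5]
    norm_num
  obtain ⟨hneg, hcen⟩ := s6_center h2 R hRi hRf hRZ
  have havg := fun A => h32_s6_avg h2 R hRi hcard A
  have htr := s6_trace_zero h2 R hcard hneg havg
  have hsq := s6_sq h2 R hRs hRf htr
  have hcomm := s6_comm R hsq
  have hcnt := s6_count h2 R hcard hneg hcen hsq hcomm
  have hanti := s6_invol_anti h2 R hRm hneg
  have hcnt12 : 12 ≤ Nat.card {s : GL S6I F // s ∈ R ∧
      (s : Matrix S6I S6I F) * (s : Matrix S6I S6I F) = 1} := by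
    rcases hcnt with h | h
    · rw [h]
    · rw [h]
      norm_num
  obtain ⟨t, ht, ht2, hta⟩ := s6_frame4 h2 R hcomm hanti hcnt12
  have hfr := s6_frame_gen h2 R hcard hneg t ht ht2 hta
  refine ⟨hcard, hRf, ?_, hneg, hsq, hcomm, htr, hanti, ⟨t, hfr⟩, s6_invol_card h2 R hneg t hfr, havg⟩
  intro y hy
  apply hRi.2 y
  rintro m ⟨g, hg, rfl⟩
  exact hy g hg

/-- The necessity direction of S6002: a derangement of order `r` for every odd prime `r` dividing
the index, unless `r = 5` and `p` has order `4` modulo `5`. -/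
theorem s6_nec_main {F : Type*} [Field F] [Fintype F] {p : ℕ} [Fact p.Prime] [CharP F p]
    (hF : Fintype.card F = p) (h2 : (2 : F) ≠ 0) (R : Subgroup (GL S6I F)) (hG : S6Good R)
    (r : ℕ) [Fact r.Prime] (hr2 : r ≠ 2) (hr5 : ¬ (r = 5 ∧ orderOf ((p : ℕ) : ZMod 5) = 4))
    (hΩ : r ∣ (subgroupNormalizer R).relIndex (spGL 2 F)) : S6Derang R r := by
  have hp : p.Prime := Fact.out
  have hr : r.Prime := Fact.out
  have hp2 : p ≠ 2 := by
    rintro rfl
    apply h2
    have h := CharP.cast_eq_zero F 2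
    exact_mod_cast h
  by_cases hrp : r = p
  · subst hrp
    exact s6_nec_char h2 R hG r hp2
  · have hrF : ((r : ℕ) : F) ≠ 0 := by
      intro h
      have h1 := (CharP.cast_eq_zero_iff F p r).1 h
      exact hrp ((Nat.prime_dvd_prime_iff_eq hp hr).1 h1).symm
    by_cases h3 : r = 3
    · subst h3
      exact s6_nec_three h2 R hG (by exact_mod_cast hrF)
    · by_cases h5 : r = 5
      · subst h5
        have hord : orderOf ((p : ℕ) : ZMod 5) ≠ 4 := fun h => hr5 ⟨rfl, h⟩
        have hdiv := s6_arith5 p hp (fun h => hrp h.symm) hord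
        exact s6_nec_five h2 R hG (by exact_mod_cast hrF) (by rw [hF]; exact hdiv)
      · have hr7 : 7 ≤ r := by
          by_contra hlt
          have hlt' : r < 7 := by omega
          have h2le := hr.two_le
          interval_cases r
          · exact hr2 rfl
          · exact h3 rfl
          · exact absurd hr (by decide)
          · exact h5 rfl
          · exact absurd hr (by decide)
        exact s6_nec_big h2 R hG r hr7 (s6_index_dvd R r hΩ)

end Cfsg.Agent.Lib.helper24
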