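import Mathlib
import Cfsg.Agent.S5957
import Cfsg.Agent.Lib.helper24.QuadExt2
import Cfsg.Agent.Lib.helper6.SLCard

/-!
# Subfield subgroups: membership of scalar multiples of matrices over the subfield
-/

set_option autoImplicit false

namespace Cfsg.Agent.Lib.helper24

open Module Matrix Cfsg.Geo

section SubfA

variable {F : Type*} [Field F] {n : ℕ}

/-- A scalar multiple of an invertible matrix with entries in the subfield lies in the subfield
group. -/
theorem subf_mem_of_eq_smul (F₀ : Subfield F) (g : GL (Fin n) F) (σ : F) (hσ : σ ≠ 0)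
    (M₀ : Matrix (Fin n) (Fin n) F) (hM₀ : ∀ i j, M₀ i j ∈ F₀)
    (hg : (g : Matrix (Fin n) (Fin n) F) = σ • M₀) : g ∈ subfieldSubgroup F₀ 1 := by
  classical
  have hgdet : (g : Matrix (Fin n) (Fin n) F).det ≠ 0 := by
    have h1 : IsUnit (g : Matrix (Fin n) (Fin n) F) := g.isUnit
    exact ((Matrix.isUnit_iff_isUnit_det _).1 h1).ne_zero
  have hdet : M₀.det ≠ 0 := by
    intro h
    apply hgdet
    rw [hg, Matrix.det_smul, h, mul_zero]
  obtain ⟨M', hM'⟩ : ∃ M' : Matrix (Fin n) (Fin n) F₀, M' = fun i j => ⟨M₀ i j, hM₀ i j⟩ :=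
    ⟨_, rfl⟩
  have hM'map : (F₀.subtype : F₀ →+* F).mapMatrix M' = M₀ := by
    ext i j
    rw [hM']
    rfl
  have hdet' : M'.det ≠ 0 := by
    intro h
    apply hdet
    rw [← hM'map, ← RingHom.map_det, h, map_zero]
  have hs : (⟨σ • 1, σ⁻¹ • 1,
      by rw [smul_mul_smul_comm, mul_one, mul_inv_cancel₀ hσ, one_smul],
      by rw [smul_mul_smul_comm, mul_one, inv_mul_cancel₀ hσ, one_smul]⟩ : GL (Fin n) F) ∈
      scalars (Fin n) F := (mem_scalars_iff _).2 ⟨Units.mk0 σ hσ, rfl⟩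
  have hprod : Matrix.GeneralLinearGroup.map (F₀.subtype : F₀ →+* F)
      (Matrix.GeneralLinearGroup.mkOfDetNeZero M' hdet') *
      (⟨σ • 1, σ⁻¹ • 1,
      by rw [smul_mul_smul_comm, mul_one, mul_inv_cancel₀ hσ, one_smul],
      by rw [smul_mul_smul_comm, mul_one, inv_mul_cancel₀ hσ, one_smul]⟩ : GL (Fin n) F) = g := by
    apply Units.ext
    show (F₀.subtype : F₀ →+* F).mapMatrix M' * (σ • (1 : Matrix (Fin n) (Fin n) F)) = _
    rw [hM'map, hg, Matrix.mul_smul, Matrix.mul_one]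
  rw [subfieldSubgroup]
  refine Subgroup.mem_map.2 ⟨g, ?_, by simp⟩
  rw [← hprod]
  exact Subgroup.mul_mem_sup (MonoidHom.mem_range.2 ⟨_, rfl⟩) hs

/-- Elements of the subfield group are scalar multiples of matrices over the subfield. -/
theorem subf_eq_smul_of_mem (F₀ : Subfield F) (g : GL (Fin n) F)
    (hg : g ∈ subfieldSubgroup F₀ 1) :
    ∃ (σ : F) (M₀ : Matrix (Fin n) (Fin n) F), σ ≠ 0 ∧ (∀ i j, M₀ i j ∈ F₀) ∧
      (g : Matrix (Fin n) (Fin n) F) = σ • M₀ := by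
  classical
  rw [subfieldSubgroup] at hg
  obtain ⟨y, hy, hyg⟩ := Subgroup.mem_map.1 hg
  have hyg' : y = g := by
    rw [← hyg]
    simp
  subst hyg'
  obtain ⟨h, hh, s, hs, hprod⟩ := Subgroup.mem_sup_of_normal_right.1 hy
  obtain ⟨h₀, rfl⟩ := MonoidHom.mem_range.1 hh
  obtain ⟨c, hc⟩ := (mem_scalars_iff s).1 hs
  refine ⟨(c : F), (F₀.subtype : F₀ →+* F).mapMatrix (h₀ : Matrix (Fin n) (Fin n) F₀), c.ne_zero,
    ?_, ?_⟩
  · intro i j
    exact (h₀ i j).2
  · rw [← hprod, Units.val_mul, hc, Matrix.mul_smul, Matrix.mul_one]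
    rfl

end SubfA

end Cfsg.Agent.Lib.helper24
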