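import Mathlib
import Cfsg.Agent.Lib.helper24.SubfA

set_option autoImplicit false

namespace Cfsg.Agent.Lib.helper24

open Module Matrix Cfsg.Geo

section SubfB

variable {F : Type*} [Field F] {n : ℕ}

/-- Nonzero weights, invariant under an involution of the index set, with prescribed product. -/
theorem subf_weights {ι : Type} [Fintype ι] [DecidableEq ι] (π : ι → ι)
    (hπ : ∀ i, π (π i) = i) (i₀ : ι) (t : F) (ht : t ≠ 0) (h : π i₀ = i₀ ∨ IsSquare t) :
    ∃ w : ι → F, (∀ i, w i ≠ 0) ∧ (∀ i, w (π i) = w i) ∧ ∏ i, w i = t := by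
  classical
  by_cases hfix : π i₀ = i₀
  · refine ⟨fun i => if i = i₀ then t else 1, ?_, ?_, ?_⟩
    · intro i
      by_cases hi : i = i₀ <;> simp [hi, ht]
    · intro i
      have h1 : π i = i₀ ↔ i = i₀ := by
        constructor
        · intro h1
          have h2 := congrArg π h1
          rw [hπ, hfix] at h2
          exact h2
        · intro h1
          rw [h1, hfix]
      show (if π i = i₀ then t else 1) = if i = i₀ then t else 1
      simp only [h1]
    · simp
  · obtain ⟨s, hs⟩ := h.resolve_left hfix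
    have hs0 : s ≠ 0 := by
      rintro rfl
      apply ht
      rw [hs, mul_zero]
    refine ⟨fun i => if i = i₀ ∨ i = π i₀ then s else 1, ?_, ?_, ?_⟩
    · intro i
      by_cases hi : i = i₀ ∨ i = π i₀ <;> simp [hi, hs0]
    · intro i
      have h1 : (π i = i₀ ∨ π i = π i₀) ↔ (i = i₀ ∨ i = π i₀) := by
        constructor
        · rintro (h1 | h1)
          · right
            rw [← h1, hπ]
          · left
            have h2 := congrArg π h1
            rw [hπ, hπ] at h2
            exact h2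
        · rintro (h1 | h1)
          · right
            rw [h1]
          · left
            rw [h1, hπ]
      show (if π i = i₀ ∨ π i = π i₀ then s else 1) = if i = i₀ ∨ i = π i₀ then s else 1
      simp only [h1]
    · rw [Finset.prod_eq_mul i₀ (π i₀) (Ne.symm hfix)]
      · simp [hs]
      · intro c _ hc
        simp [hc.1, hc.2]
      · intro h1
        exact absurd (Finset.mem_univ _) h1
      · intro h1
        exact absurd (Finset.mem_univ _) h1

/-- If `x` acts on a basis as `lam` times a signed permutation with coefficients in the subfield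
(the permutation being an involution), then `x` is conjugate by a matrix of determinant one to
`lam` times a matrix over the subfield. -/
theorem subf_conj_of_basis (F₀ : Subfield F) (x : Matrix (Fin n) (Fin n) F) {ι : Type}
    [Fintype ι] [DecidableEq ι] (b : Basis ι F (Fin n → F)) (π : ι → ι) (ε : ι → F)
    (hε : ∀ i, ε i ∈ F₀) (lam : F) (hx : ∀ i, x *ᵥ b i = lam • ε i • b (π i))
    (hw : ∀ t : F, t ≠ 0 → ∃ w : ι → F, (∀ i, w i ≠ 0) ∧ (∀ i, w (π i) = w i) ∧ ∏ i, w i = t) :
    ∃ P M₀ : Matrix (Fin n) (Fin n) F, P.det = 1 ∧ x * P = P * (lam • M₀) ∧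
      ∀ i j, M₀ i j ∈ F₀ := by
  classical
  have hcard : Fintype.card ι = n := by
    have h1 := Module.finrank_eq_card_basis b
    rw [Module.finrank_fin_fun] at h1
    exact h1.symm
  obtain ⟨e⟩ : Nonempty (ι ≃ Fin n) := ⟨Fintype.equivFinOfCardEq hcard⟩
  have hD₀ : IsUnit ((Pi.basisFun F (Fin n)).det (b.reindex e)) := Basis.isUnit_det _ _
  obtain ⟨w, hw0, hwπ, hwprod⟩ := hw ((Pi.basisFun F (Fin n)).det (b.reindex e))⁻¹
    (inv_ne_zero hD₀.ne_zero)
  have hwu : ∀ i, IsUnit (w i) := fun i => isUnit_iff_ne_zero.2 (hw0 i)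
  obtain ⟨b₂, hb₂⟩ : ∃ b₂ : Basis ι F (Fin n → F), b₂ = b.isUnitSMul hwu := ⟨_, rfl⟩
  have hb₂a : ∀ i, b₂ i = w i • b i := by
    intro i
    rw [hb₂, Basis.isUnitSMul_apply]
  have hx₂ : ∀ i, x *ᵥ b₂ i = lam • ε i • b₂ (π i) := by
    intro i
    rw [hb₂a, hb₂a, Matrix.mulVec_smul, hx, hwπ]
    module
  obtain ⟨φ, hφ⟩ : ∃ φ : (Fin n → F) ≃ₗ[F] (Fin n → F),
      φ = (Pi.basisFun F (Fin n)).equiv b₂ e.symm := ⟨_, rfl⟩
  have hφB : ∀ j, φ (Pi.single j 1) = b₂ (e.symm j) := by
    intro j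
    rw [hφ, ← Pi.basisFun_apply, Basis.equiv_apply]
  obtain ⟨P, hP⟩ : ∃ P : Matrix (Fin n) (Fin n) F, P = LinearMap.toMatrix' φ.toLinearMap :=
    ⟨_, rfl⟩
  have hPv : ∀ v, P *ᵥ v = φ v := by
    intro v
    rw [hP, ← Matrix.toLin'_apply, Matrix.toLin'_toMatrix']
    rfl
  have hPdet : P.det = 1 := by
    rw [hP, LinearMap.det_toMatrix']
    have h1 := Basis.det_comp (Pi.basisFun F (Fin n)) φ.toLinearMap (Pi.basisFun F (Fin n))
    rw [Basis.det_self, mul_one] at h1
    rw [← h1]
    have h2 : (φ.toLinearMap ∘ (Pi.basisFun F (Fin n)) : Fin n → (Fin n → F)) =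
        fun j => w (e.symm j) • (b.reindex e) j := by
      funext j
      simp [hφB, hb₂a, Basis.reindex_apply]
    rw [h2, AlternatingMap.map_smul_univ, smul_eq_mul]
    have h3 : ∏ j, w (e.symm j) = ∏ i, w i := Equiv.prod_comp e.symm w
    rw [h3, hwprod, inv_mul_cancel₀ hD₀.ne_zero]
  obtain ⟨M₀, hM₀⟩ : ∃ M₀ : Matrix (Fin n) (Fin n) F,
      M₀ = Matrix.of (fun r j => if r = e (π (e.symm j)) then ε (e.symm j) else 0) := ⟨_, rfl⟩
  refine ⟨P, M₀, hPdet, ?_, ?_⟩
  · apply matrix_ext_basis (Pi.basisFun F (Fin n))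
    intro j
    have hcol : M₀ *ᵥ Pi.single j 1 = ε (e.symm j) • Pi.single (e (π (e.symm j))) 1 := by
      rw [Matrix.mulVec_single_one]
      ext r
      rw [hM₀]
      simp [Matrix.col, Pi.single_apply]
    have hL : (x * P) *ᵥ (Pi.basisFun F (Fin n)) j = lam • ε (e.symm j) • b₂ (π (e.symm j)) := by
      rw [Pi.basisFun_apply, ← Matrix.mulVec_mulVec, hPv, hφB, hx₂]
    have hR : (P * (lam • M₀)) *ᵥ (Pi.basisFun F (Fin n)) j =
        lam • ε (e.symm j) • b₂ (π (e.symm j)) := by
      rw [Pi.basisFun_apply, ← Matrix.mulVec_mulVec, Matrix.smul_mulVec, hcol, hPv, map_smul,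
        map_smul, hφB, Equiv.symm_apply_apply]
    rw [hL, hR]
  · intro i j
    rw [hM₀]
    simp only [Matrix.of_apply]
    split_ifs
    · exact hε _
    · exact F₀.zero_mem

end SubfB

end Cfsg.Agent.Lib.helper24
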