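import Mathlib
import Cfsg.Agent.Lib.helper24.SubfB

set_option autoImplicit false

namespace Cfsg.Agent.Lib.helper24

open Module Matrix Cfsg.Geo

section SubfC

variable {F : Type*} [Field F] {n : ℕ}

/-- In characteristic two, a matrix with scalar square is a scalar times a permutation matrix of
an involution in a suitable basis. -/
theorem subf_basis_char_two [Fintype F] (h2 : (2 : F) = 0) (x : Matrix (Fin n) (Fin n) F)
    (z : F) (hz : z ≠ 0) (hx : x * x = z • (1 : Matrix (Fin n) (Fin n) F)) :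
    ∃ (ι : Type) (_ : Fintype ι) (_ : DecidableEq ι) (b : Basis ι F (Fin n → F)) (π : ι → ι)
      (lam : F), lam ≠ 0 ∧ (∀ i, π (π i) = i) ∧ ∀ i, x *ᵥ b i = lam • (1 : F) • b (π i) := by
  classical
  obtain ⟨lam, hlam⟩ := FiniteField.isSquare_of_char_two (qe_two_eq_zero_iff.1 h2) z
  have hlam0 : lam ≠ 0 := by
    rintro rfl
    apply hz
    rw [hlam, mul_zero]
  have hX : ∀ v, Matrix.toLin' x (Matrix.toLin' x v) = z • v := by
    intro v
    rw [Matrix.toLin'_apply, Matrix.toLin'_apply, Matrix.mulVec_mulVec, hx, Matrix.smul_mulVec,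
      Matrix.one_mulVec]
  obtain ⟨κ, lamT, hκ, hlamT, b₀, c, h1, h2', h3⟩ :=
    Cfsg.Agent.S5957.mono_all (Matrix.toLin' x) z hz hX
  haveI := hκ
  haveI := hlamT
  have hc : ∀ l, c l = lam := by
    intro l
    have h4 := hX (b₀ (Sum.inr l))
    rw [h3, map_smul, h3, smul_smul] at h4
    have h5 : (c l * c l - z) • b₀ (Sum.inr l) = 0 := by rw [sub_smul, h4, sub_self]
    have h6 : c l * c l = z := by
      rcases smul_eq_zero.1 h5 with h6 | h6
      · exact sub_eq_zero.1 h6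
      · exact absurd h6 (b₀.ne_zero _)
    have h7 : (c l - lam) * (c l - lam) = 0 := by
      have h8 : (c l - lam) * (c l - lam) = c l * c l + lam * lam - 2 * (c l * lam) := by ring
      rw [h8, h2, zero_mul, sub_zero, h6, hlam]
      have h9 : lam * lam + lam * lam = 2 * (lam * lam) := by ring
      rw [h9, h2, zero_mul]
    exact sub_eq_zero.1 (mul_self_eq_zero.1 h7)
  obtain ⟨v, hv⟩ : ∃ v : (κ ⊕ κ) ⊕ lamT → F,
      v = Sum.elim (Sum.elim (fun _ => 1) (fun _ => lam⁻¹)) (fun _ => 1) := ⟨_, rfl⟩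
  have hvu : ∀ i, IsUnit (v i) := by
    intro i
    rw [hv]
    rcases i with (k | k) | l <;> simp [hlam0]
  obtain ⟨b, hb⟩ : ∃ b : Basis ((κ ⊕ κ) ⊕ lamT) F (Fin n → F), b = b₀.isUnitSMul hvu :=
    ⟨_, rfl⟩
  have hba : ∀ i, b i = v i • b₀ i := by
    intro i
    rw [hb, Basis.isUnitSMul_apply]
  refine ⟨(κ ⊕ κ) ⊕ lamT, inferInstance, inferInstance, b, Sum.map Sum.swap id, lam, hlam0,
    ?_, ?_⟩
  · rintro ((k | k) | l) <;> rfl
  · rintro ((k | k) | l)
    · show x *ᵥ b (Sum.inl (Sum.inl k)) = lam • (1 : F) • b (Sum.inl (Sum.inr k))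
      rw [hba, hba, hv]
      simp only [Sum.elim_inl, Sum.elim_inr, one_smul]
      rw [← Matrix.toLin'_apply, h1, smul_smul, mul_inv_cancel₀ hlam0, one_smul]
    · show x *ᵥ b (Sum.inl (Sum.inr k)) = lam • (1 : F) • b (Sum.inl (Sum.inl k))
      rw [hba, hba, hv]
      simp only [Sum.elim_inl, Sum.elim_inr, one_smul]
      rw [Matrix.mulVec_smul, ← Matrix.toLin'_apply, h2', smul_smul, hlam, ← mul_assoc,
        inv_mul_cancel₀ hlam0, one_mul]
    · show x *ᵥ b (Sum.inr l) = lam • (1 : F) • b (Sum.inr l)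
      rw [hba, hv]
      simp only [Sum.elim_inr, one_smul]
      rw [← Matrix.toLin'_apply, h3, hc]

/-- In odd characteristic, a matrix whose square is the square of a scalar has an eigenbasis
with eigenvalues `± lam`. -/
theorem subf_basis_eigen (h2 : (2 : F) ≠ 0) (hn0 : 0 < n) (x : Matrix (Fin n) (Fin n) F)
    (lam : F) (hlam : lam ≠ 0) (hx : x * x = (lam * lam) • (1 : Matrix (Fin n) (Fin n) F)) :
    ∃ (b : Basis (Fin n) F (Fin n → F)) (δ : Fin n → F), (∀ j, δ j = 1 ∨ δ j = -1) ∧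
      ∀ j, x *ᵥ b j = lam • δ j • b j := by
  classical
  obtain ⟨y, hy⟩ : ∃ y : Matrix (Fin n) (Fin n) F, y = lam⁻¹ • x := ⟨_, rfl⟩
  have hxy : x = lam • y := by
    rw [hy, smul_smul, mul_inv_cancel₀ hlam, one_smul]
  have hyy : y * y = 1 := by
    rw [hy, Matrix.smul_mul, Matrix.mul_smul, hx, smul_smul, smul_smul]
    have h1 : lam⁻¹ * lam⁻¹ * (lam * lam) = 1 := by field_simp
    rw [h1, one_smul]
  obtain ⟨k₀, δ, hk₀, hδS, hyk⟩ := exists_eigenbasis y {1, -1} (involution_span y hyy h2)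
  have hδ : ∀ j, δ j = 1 ∨ δ j = -1 := fun j => by simpa using hδS j
  have hli : LinearIndependent F k₀.col := Matrix.linearIndependent_cols_iff_isUnit.2 hk₀
  haveI : Nonempty (Fin n) := ⟨⟨0, hn0⟩⟩
  obtain ⟨bc, hbc⟩ : ∃ bc : Basis (Fin n) F (Fin n → F), ∀ j, bc j = k₀.col j :=
    ⟨basisOfLinearIndependentOfCardEqFinrank hli (by simp), fun j => by
      rw [coe_basisOfLinearIndependentOfCardEqFinrank]⟩
  refine ⟨bc, δ, hδ, ?_⟩
  intro j
  rw [hbc, hxy, Matrix.smul_mulVec]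
  congr 1
  ext r
  have h1 : (y *ᵥ k₀.col j) r = (y * k₀) r j := rfl
  rw [h1, hyk, Matrix.mul_diagonal]
  simp [Matrix.col, mul_comm]

/-- The determinant of a matrix whose square is a nonsquare scalar. -/
theorem qe_det_of_nonsquare (x : Matrix (Fin n) (Fin n) F) (z : F) (hz : ¬ IsSquare z)
    (hx : x * x = z • (1 : Matrix (Fin n) (Fin n) F)) :
    ∃ m, n = 2 * m ∧ x.det = (-z) ^ m := by
  classical
  have hirr : ∀ t : F, t * t - 0 * t - z ≠ 0 := by
    intro t h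
    exact hz ⟨t, by linear_combination -h⟩
  have hT₁ : ∀ v, Matrix.toLin' x (Matrix.toLin' x v) = (0 : F) • Matrix.toLin' x v + z • v := by
    intro v
    rw [Matrix.toLin'_apply, Matrix.toLin'_apply, Matrix.mulVec_mulVec, hx, Matrix.smul_mulVec,
      Matrix.one_mulVec, zero_smul, zero_add]
  obtain ⟨m, b₁, hb₁⟩ := pair_basis_exists (Matrix.toLin' x) 0 z hT₁ hirr
  have hfin : n = 2 * m := by
    have h1 := pair_basis_finrank b₁
    simpa using h1
  refine ⟨m, hfin, ?_⟩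
  have hx0 : ∀ i, x *ᵥ b₁ (i, 0) = b₁ (i, 1) := by
    intro i
    rw [hb₁ i, Matrix.toLin'_apply]
  have hx1 : ∀ i, x *ᵥ b₁ (i, 1) = z • b₁ (i, 0) := by
    intro i
    rw [← hx0 i, Matrix.mulVec_mulVec, hx, Matrix.smul_mulVec, Matrix.one_mulVec]
  obtain ⟨bx, hbxdef⟩ : ∃ bx : Basis (Fin 2 × Fin m) F (Fin n → F),
      bx = b₁.reindex (Equiv.prodComm _ _) := ⟨_, rfl⟩
  have hbx : ∀ r i, bx (r, i) = b₁ (i, r) := by
    intro r i
    rw [hbxdef, Basis.reindex_apply]
    rfl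
  obtain ⟨ML, hMLdef⟩ : ∃ ML : (Fin n → F) →ₗ[F] (Fin n → F),
      ML = Matrix.toLin bx bx (Matrix.blockDiagonal (fun _ : Fin m => !![0, z; 1, 0])) :=
    ⟨_, rfl⟩
  have hML : ∀ i r, ML (b₁ (i, r)) =
      (!![0, z; 1, 0] : Matrix (Fin 2) (Fin 2) F) 0 r • b₁ (i, 0) +
        (!![0, z; 1, 0] : Matrix (Fin 2) (Fin 2) F) 1 r • b₁ (i, 1) := by
    intro i r
    rw [← hbx r i, hMLdef, Matrix.toLin_self, Fintype.sum_prod_type, Fin.sum_univ_two]
    rw [Finset.sum_eq_single i, Finset.sum_eq_single i]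
    · rw [Matrix.blockDiagonal_apply_eq, Matrix.blockDiagonal_apply_eq, hbx, hbx]
    · intro i' _ hne
      rw [Matrix.blockDiagonal_apply_ne _ _ _ hne, zero_smul]
    · intro h
      exact absurd (Finset.mem_univ _) h
    · intro i' _ hne
      rw [Matrix.blockDiagonal_apply_ne _ _ _ hne, zero_smul]
    · intro h
      exact absurd (Finset.mem_univ _) h
  have hMLx : ML = Matrix.toLin' x := by
    apply b₁.ext
    rintro ⟨i, r⟩
    rw [hML, Matrix.toLin'_apply]
    fin_cases r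
    · show _ = x *ᵥ b₁ (i, 0)
      rw [hx0]
      simp
    · show _ = x *ᵥ b₁ (i, 1)
      rw [hx1]
      simp
  have hdet : LinearMap.det ML = (-z) ^ m := by
    rw [hMLdef, LinearMap.det_toLin, Matrix.det_blockDiagonal]
    simp [Matrix.det_fin_two_of]
  rw [← LinearMap.det_toLin', ← hMLx, hdet]

/-- In even dimension every scalar is the square of a matrix. -/
theorem qe_exists_sq_eq (m : ℕ) (h : n = 2 * m) (z : F) :
    ∃ X : Matrix (Fin n) (Fin n) F, X * X = z • (1 : Matrix (Fin n) (Fin n) F) := by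
  classical
  obtain ⟨e⟩ : Nonempty (Fin 2 × Fin m ≃ Fin n) := ⟨finProdFinEquiv.trans (finCongr h.symm)⟩
  have hA : (!![0, z; 1, 0] : Matrix (Fin 2) (Fin 2) F) * !![0, z; 1, 0] = z • 1 := by
    ext i j
    fin_cases i <;> fin_cases j <;> simp [Matrix.mul_apply, Fin.sum_univ_two]
  refine ⟨(Matrix.blockDiagonal (fun _ : Fin m => (!![0, z; 1, 0] : Matrix (Fin 2) (Fin 2) F))).submatrix
    e.symm e.symm, ?_⟩
  rw [Matrix.submatrix_mul_equiv, ← Matrix.blockDiagonal_mul]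
  have h1 : (fun k : Fin m => (!![0, z; 1, 0] : Matrix (Fin 2) (Fin 2) F) * !![0, z; 1, 0]) =
      z • (1 : Fin m → Matrix (Fin 2) (Fin 2) F) := by
    funext k
    rw [hA]
    rfl
  rw [h1, Matrix.blockDiagonal_smul, Matrix.blockDiagonal_one]
  ext i j
  simp [Matrix.submatrix_apply, Matrix.smul_apply, Matrix.one_apply]

end SubfC

end Cfsg.Agent.Lib.helper24
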