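import Mathlib
import Cfsg.Agent.Lib.helper24.SubfC

set_option autoImplicit false

namespace Cfsg.Agent.Lib.helper24

open Module Matrix Cfsg.Geo

section SubfD

variable {F : Type*} [Field F] {n : ℕ}

/-- A nonsquare `w` with `w ^ m = 1` forces the 2-part of `q - 1` to divide `m`. -/
theorem qe_val_le_of_nonsquare_pow_eq_one [Fintype F] (hodd : Odd (Fintype.card F)) (w : F)
    (hw : ¬ IsSquare w) (m : ℕ) (hm : m ≠ 0) (hwm : w ^ m = 1) :
    padicValNat 2 (Fintype.card F - 1) ≤ padicValNat 2 m := by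
  classical
  have hchar : ringChar F ≠ 2 := by
    intro h
    have := FiniteField.even_card_iff_char_two.1 h
    rw [Nat.odd_iff] at hodd
    omega
  have hneg : (-1 : F) ≠ 1 := Ring.neg_one_ne_one_of_char_ne_two hchar
  have hq1 : 1 < Fintype.card F := Fintype.one_lt_card
  have hw0 : w ≠ 0 := by
    rintro rfl
    exact hw ⟨0, by simp⟩
  have hwp : w ^ (Fintype.card F / 2) = -1 :=
    (FiniteField.pow_dichotomy hchar hw0).resolve_left
      (fun h => hw ((FiniteField.isSquare_iff hchar hw0).2 h))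
  obtain ⟨a, o, ho, hao⟩ := Nat.exists_eq_two_pow_mul_odd (by omega : Fintype.card F - 1 ≠ 0)
  rw [hao, qe_padic_two_pow_mul_odd a o ho]
  have ha1 : 1 ≤ a := by
    by_contra h
    have h0 : a = 0 := by omega
    rw [h0, pow_zero, one_mul] at hao
    rw [Nat.odd_iff] at hodd ho
    omega
  obtain ⟨a', rfl⟩ : ∃ a', a = a' + 1 := ⟨a - 1, by omega⟩
  have hhalf : Fintype.card F / 2 = o * 2 ^ a' := by
    have h1 : Fintype.card F = 2 * (o * 2 ^ a') + 1 := by
      have h2 : Fintype.card F = 2 ^ (a' + 1) * o + 1 := by omega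
      rw [h2, pow_succ]
      ring
    rw [h1]
    omega
  have hμ : (w ^ o) ^ 2 ^ a' = -1 := by
    rw [← pow_mul, ← hhalf, hwp]
  have hμ2 : (w ^ o) ^ 2 ^ (a' + 1) = 1 := by
    rw [pow_succ, pow_mul, hμ]
    norm_num
  have hord : orderOf (w ^ o) = 2 ^ (a' + 1) :=
    orderOf_eq_prime_pow (by rw [hμ]; exact hneg) hμ2
  have hdvd : 2 ^ (a' + 1) ∣ m := by
    rw [← hord]
    apply orderOf_dvd_of_pow_eq_one
    rw [← pow_mul, mul_comm, pow_mul, hwm, one_pow]
  exact (padicValNat_dvd_iff_le (p := 2) hm).1 hdvd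

/-- A nonsquare of 2-power order. -/
theorem qe_exists_nonsquare_pow_eq_one [Fintype F] (hodd : Odd (Fintype.card F)) (m : ℕ)
    (hm : 2 ^ padicValNat 2 (Fintype.card F - 1) ∣ m) : ∃ w : F, ¬ IsSquare w ∧ w ^ m = 1 := by
  classical
  have hq1 : 1 < Fintype.card F := Fintype.one_lt_card
  obtain ⟨a, o, ho, hao⟩ := Nat.exists_eq_two_pow_mul_odd (by omega : Fintype.card F - 1 ≠ 0)
  rw [hao, qe_padic_two_pow_mul_odd a o ho] at hm
  have ha1 : 1 ≤ a := by
    by_contra h
    have h0 : a = 0 := by omega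
    rw [h0, pow_zero, one_mul] at hao
    rw [Nat.odd_iff] at hodd ho
    omega
  obtain ⟨g, hg⟩ := IsCyclic.exists_ofOrder_eq_natCard (α := Fˣ)
  rw [Nat.card_eq_fintype_card, Fintype.card_units] at hg
  have ho0 : o ≠ 0 := by
    rintro rfl
    exact absurd ho (by decide)
  have hordμ : orderOf (g ^ o) = 2 ^ a := by
    rw [orderOf_pow_of_dvd ho0 (by rw [hg, hao]; exact dvd_mul_left _ _), hg, hao,
      Nat.mul_div_cancel _ (Nat.pos_of_ne_zero ho0)]
  refine ⟨((g ^ o : Fˣ) : F), ?_, ?_⟩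
  · rintro ⟨s, hs⟩
    have hs0 : s ≠ 0 := by
      rintro rfl
      rw [mul_zero] at hs
      exact (g ^ o).ne_zero hs
    have h1 : ((g ^ o : Fˣ) : F) ^ (2 ^ (a - 1) * o) = 1 := by
      rw [hs, ← pow_two, ← pow_mul]
      have h2 : 2 * (2 ^ (a - 1) * o) = Fintype.card F - 1 := by
        rw [hao, ← mul_assoc, ← pow_succ', Nat.sub_add_cancel ha1]
      rw [h2]
      exact FiniteField.pow_card_sub_one_eq_one s hs0
    have h3 : (g ^ o) ^ (2 ^ (a - 1) * o) = 1 := by
      apply Units.ext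
      rw [Units.val_pow_eq_pow_val, h1, Units.val_one]
    have h4 := orderOf_dvd_of_pow_eq_one h3
    rw [hordμ] at h4
    have h5 : 2 ^ a = 2 ^ (a - 1) * 2 := by
      rw [← pow_succ, Nat.sub_add_cancel ha1]
    rw [h5] at h4
    have h6 : 2 ∣ o := (Nat.mul_dvd_mul_iff_left (pow_pos (by norm_num) _)).1 h4
    rw [Nat.odd_iff] at ho
    omega
  · obtain ⟨d, hd⟩ := hm
    rw [← Units.val_pow_eq_pow_val, hd, pow_mul, ← hordμ, pow_orderOf_eq_one, one_pow,
      Units.val_one]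

/-- When `|F| = |F₀|²` is odd, every element of the subfield `F₀` is a square in `F`. -/
theorem subf_isSquare_of_mem [Fintype F] (F₀ : Subfield F)
    (hcard : Fintype.card F = (Nat.card F₀) ^ 2) (hodd : Odd (Fintype.card F)) (t : F)
    (ht : t ∈ F₀) : IsSquare t := by
  classical
  by_cases ht0 : t = 0
  · rw [ht0]
    exact ⟨0, by simp⟩
  have hchar : ringChar F ≠ 2 := by
    intro h
    have := FiniteField.even_card_iff_char_two.1 h
    rw [Nat.odd_iff] at hodd
    omega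
  haveI : Fintype F₀ := Fintype.ofFinite F₀
  have h1 : (⟨t, ht⟩ : F₀) ^ Fintype.card F₀ = ⟨t, ht⟩ := FiniteField.pow_card _
  have h2 : t ^ Nat.card F₀ = t := by
    have h3 := congrArg Subtype.val h1
    rw [Nat.card_eq_fintype_card]
    simpa using h3
  have hq₀odd : Odd (Nat.card F₀) := by
    rw [hcard] at hodd
    exact Nat.Odd.of_mul_right (by rw [← pow_two]; exact hodd)
  obtain ⟨j, hj⟩ := hq₀odd
  have h4 : t ^ (2 * j) = 1 := by
    rw [hj, pow_succ] at h2
    have h5 : t ^ (2 * j) * t = 1 * t := by rw [h2, one_mul]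
    exact mul_right_cancel₀ ht0 h5
  rw [FiniteField.isSquare_iff hchar ht0]
  have h6 : Fintype.card F / 2 = 2 * j * (j + 1) := by
    rw [hcard, hj]
    have h7 : (2 * j + 1) ^ 2 = 2 * (2 * j * (j + 1)) + 1 := by ring
    rw [h7]
    omega
  rw [h6, pow_mul, h4, one_pow]

theorem padicValNat_prod_ne_zero {ι : Type*} (p : ℕ) [hp : Fact p.Prime] (s : Finset ι)
    (f : ι → ℕ) (hf : ∀ i ∈ s, f i ≠ 0) :
    padicValNat p (∏ i ∈ s, f i) = ∑ i ∈ s, padicValNat p (f i) := by
  classical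
  induction s using Finset.induction_on with
  | empty => simp
  | insert a s ha ih =>
    rw [Finset.prod_insert ha, Finset.sum_insert ha,
      padicValNat.mul (hf a (Finset.mem_insert_self a s))
        (Finset.prod_ne_zero_iff.2 (fun i hi => hf i (Finset.mem_insert_of_mem hi))),
      ih (fun i hi => hf i (Finset.mem_insert_of_mem hi))]

theorem padic_two_pow_sub_one_odd_exp (a k j : ℕ) (ha : Odd a) (hk : Odd k) :
    padicValNat 2 ((a ^ k) ^ j - 1) = padicValNat 2 (a ^ j - 1) := by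
  have hX : Odd (a ^ j) := ha.pow
  have hpos : 1 ≤ a ^ j := Nat.one_le_iff_ne_zero.2 (fun h => by rw [h] at hX; exact absurd hX (by decide))
  obtain ⟨Y, hY⟩ : ∃ Y, a ^ j = Y + 1 := ⟨a ^ j - 1, by omega⟩
  have h1 : (a ^ k) ^ j = (a ^ j) ^ k := by rw [← pow_mul, ← pow_mul, mul_comm]
  have h2 := geom_sum_mul_add Y k
  rw [← hY] at h2
  have h3 : (a ^ k) ^ j - 1 = (∑ i ∈ Finset.range k, (a ^ j) ^ i) * Y := by
    rw [h1, ← h2]
    omega
  have h4 : a ^ j - 1 = Y := by omega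
  rw [h3, h4]
  by_cases hY0 : Y = 0
  · rw [hY0, mul_zero]
  have hS : Odd (∑ i ∈ Finset.range k, (a ^ j) ^ i) := by
    rw [Finset.odd_sum_iff_odd_card_odd]
    have h5 : (Finset.range k).filter (fun i => Odd ((a ^ j) ^ i)) = Finset.range k := by
      apply Finset.filter_true_of_mem
      intro i _
      exact hX.pow
    rw [h5, Finset.card_range]
    exact hk
  have hS0 : (∑ i ∈ Finset.range k, (a ^ j) ^ i) ≠ 0 := by
    intro h
    rw [h] at hS
    exact absurd hS (by decide)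
  rw [padicValNat.mul hS0 hY0,
    padicValNat.eq_zero_of_not_dvd (fun h => (Nat.not_even_iff_odd.2 hS) (even_iff_two_dvd.2 h)),
    zero_add]

theorem padic_two_gl_prod (a k n : ℕ) (ha : Odd a) (ha2 : 2 ≤ a) (hk : Odd k) :
    padicValNat 2 (∏ i : Fin n, ((a ^ k) ^ n - (a ^ k) ^ (i : ℕ))) =
      padicValNat 2 (∏ i : Fin n, (a ^ n - a ^ (i : ℕ))) := by
  have hk0 : k ≠ 0 := by
    rintro rfl
    exact absurd hk (by decide)
  have hak2 : 2 ≤ a ^ k := le_trans ha2 (Nat.le_self_pow hk0 a)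
  have hne : ∀ (c : ℕ), 2 ≤ c → ∀ i ∈ (Finset.univ : Finset (Fin n)), c ^ n - c ^ (i : ℕ) ≠ 0 := by
    intro c hc i _
    have := Nat.pow_lt_pow_right (by omega : 1 < c) i.2
    omega
  rw [padicValNat_prod_ne_zero 2 _ _ (hne _ hak2), padicValNat_prod_ne_zero 2 _ _ (hne _ ha2)]
  apply Finset.sum_congr rfl
  intro i _
  have hsplit : ∀ c : ℕ, Odd c → 2 ≤ c →
      padicValNat 2 (c ^ n - c ^ (i : ℕ)) = padicValNat 2 (c ^ (n - (i : ℕ)) - 1) := by
    intro c hc hc2
    have h1 : c ^ n - c ^ (i : ℕ) = c ^ (i : ℕ) * (c ^ (n - (i : ℕ)) - 1) := by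
      rw [Nat.mul_sub, mul_one, ← pow_add, Nat.add_sub_cancel' (le_of_lt i.2)]
    have h2 : c ^ (n - (i : ℕ)) - 1 ≠ 0 := by
      have := Nat.pow_lt_pow_right (by omega : 1 < c) (by omega : 0 < n - (i : ℕ))
      rw [pow_zero] at this
      omega
    have h3 : Odd (c ^ (i : ℕ)) := hc.pow
    have h4 : c ^ (i : ℕ) ≠ 0 := by
      intro h
      rw [h] at h3
      exact absurd h3 (by decide)
    rw [h1, padicValNat.mul h4 h2,
      padicValNat.eq_zero_of_not_dvd (fun h => (Nat.not_even_iff_odd.2 h3) (even_iff_two_dvd.2 h)),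
      zero_add]
  rw [hsplit _ ha.pow hak2, hsplit _ ha ha2, padic_two_pow_sub_one_odd_exp a k _ ha hk]

end SubfD

end Cfsg.Agent.Lib.helper24
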