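import Mathlib
import Cfsg.Agent.Lib.helper24.SubfD

set_option autoImplicit false

namespace Cfsg.Agent.Lib.helper24

open Module Matrix Cfsg.Geo

section SubfE

variable {F : Type*} [Field F] {n : ℕ}

/-- For `|F| = |F₀|^k` odd with `k` odd, the subfield subgroup has odd index in `SL_n(F)`. -/
theorem subf_index_odd [Fintype F] (F₀ : Subfield F) (hn : 1 ≤ n) (k : ℕ) (hkodd : Odd k)
    (hcard : Fintype.card F = (Nat.card F₀) ^ k) (hoddq : Odd (Fintype.card F)) :
    ¬ 2 ∣ ((subfieldSubgroup F₀ (1 : GL (Fin n) F)).comap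
      (Matrix.SpecialLinearGroup.toGL :
        Matrix.SpecialLinearGroup (Fin n) F →* GL (Fin n) F)).index := by
  classical
  haveI : Fintype F₀ := Fintype.ofFinite F₀
  have hψH : ∀ A : Matrix.SpecialLinearGroup (Fin n) F₀,
      Matrix.SpecialLinearGroup.map (F₀.subtype : F₀ →+* F) A ∈
        (subfieldSubgroup F₀ (1 : GL (Fin n) F)).comap
          (Matrix.SpecialLinearGroup.toGL :
            Matrix.SpecialLinearGroup (Fin n) F →* GL (Fin n) F) := by
    intro A
    rw [Subgroup.mem_comap]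
    apply subf_mem_of_eq_smul F₀ _ 1 one_ne_zero
      ((Matrix.SpecialLinearGroup.map (F₀.subtype : F₀ →+* F) A :
        Matrix.SpecialLinearGroup (Fin n) F) : Matrix (Fin n) (Fin n) F)
    · intro i j
      rw [Matrix.SpecialLinearGroup.map_apply_coe]
      exact (A i j).2
    · rw [one_smul]
      rfl
  have hψinj : Function.Injective
      ((Matrix.SpecialLinearGroup.map (F₀.subtype : F₀ →+* F)).codRestrict _ hψH) := by
    intro A B hAB
    have h1 : Matrix.SpecialLinearGroup.map (F₀.subtype : F₀ →+* F) A =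
        Matrix.SpecialLinearGroup.map (F₀.subtype : F₀ →+* F) B := congrArg Subtype.val hAB
    apply Matrix.SpecialLinearGroup.ext
    intro i j
    have h2 := congrArg
      (fun M : Matrix.SpecialLinearGroup (Fin n) F => (M : Matrix (Fin n) (Fin n) F) i j) h1
    simp only [Matrix.SpecialLinearGroup.map_apply_coe] at h2
    exact Subtype.ext h2
  have hdvd := Subgroup.card_dvd_of_injective _ hψinj
  have hidx := Subgroup.card_mul_index ((subfieldSubgroup F₀ (1 : GL (Fin n) F)).comap
      (Matrix.SpecialLinearGroup.toGL :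
        Matrix.SpecialLinearGroup (Fin n) F →* GL (Fin n) F))
  have hc1 := Cfsg.Agent.Lib.helper6.card_SL (F := F) n hn
  have hc2 := Cfsg.Agent.Lib.helper6.card_SL (F := F₀) n hn
  have hq₀ : Nat.card F₀ = Fintype.card F₀ := Nat.card_eq_fintype_card
  rw [hq₀] at hcard
  have hk0 : k ≠ 0 := by
    rintro rfl
    exact absurd hkodd (by decide)
  have hq₀odd : Odd (Fintype.card F₀) := by
    rw [hcard, Nat.odd_pow_iff hk0] at hoddq
    exact hoddq
  have hq₀2 : 2 ≤ Fintype.card F₀ := Fintype.one_lt_card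
  rw [hcard] at hc1
  have hv := padic_two_gl_prod (Fintype.card F₀) k n hq₀odd hq₀2 hkodd
  rw [← hc1, ← hc2] at hv
  have hak2 : 2 ≤ Fintype.card F₀ ^ k := le_trans hq₀2 (Nat.le_self_pow hk0 _)
  have hcS : Nat.card (Matrix.SpecialLinearGroup (Fin n) F) ≠ 0 := Nat.card_pos.ne'
  have hcS₀ : Nat.card (Matrix.SpecialLinearGroup (Fin n) F₀) ≠ 0 := Nat.card_pos.ne'
  rw [padicValNat.mul (by omega) hcS, padicValNat.mul (by omega) hcS₀] at hv
  have hv1 : padicValNat 2 (Fintype.card F₀ ^ k - 1) = padicValNat 2 (Fintype.card F₀ - 1) := by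
    have h3 := padic_two_pow_sub_one_odd_exp (Fintype.card F₀) k 1 hq₀odd hkodd
    simpa using h3
  have hveq : padicValNat 2 (Nat.card (Matrix.SpecialLinearGroup (Fin n) F)) =
      padicValNat 2 (Nat.card (Matrix.SpecialLinearGroup (Fin n) F₀)) := by omega
  intro h2
  obtain ⟨c, hc⟩ := hdvd
  obtain ⟨d, hd⟩ := h2
  have h4 : 2 ^ (padicValNat 2 (Nat.card (Matrix.SpecialLinearGroup (Fin n) F₀)) + 1) ∣
      Nat.card (Matrix.SpecialLinearGroup (Fin n) F) := by
    rw [← hidx, hc, hd, pow_succ]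
    have h5 := pow_padicValNat_dvd (p := 2) (n := Nat.card (Matrix.SpecialLinearGroup (Fin n) F₀))
    obtain ⟨e, he⟩ := h5
    exact ⟨e * c * d, by
      nth_rewrite 1 [he]
      ring⟩
  have h6 := (padicValNat_dvd_iff_le (p := 2) hcS).1 h4
  omega

/-- In a field with a square number of elements, the negative of a nonsquare is a nonsquare. -/
theorem neg_nonsquare_of_card_sq [Fintype F] (c : ℕ) (hcard : Fintype.card F = c ^ 2) (w : F)
    (hw : ¬ IsSquare w) : ¬ IsSquare (-w) := by
  have hmod4 : Fintype.card F % 4 ≠ 3 := by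
    rw [hcard, Nat.pow_mod]
    have h1 : c % 4 < 4 := Nat.mod_lt _ (by norm_num)
    interval_cases (c % 4) <;> norm_num
  obtain ⟨i, hi⟩ := FiniteField.isSquare_neg_one_iff.2 hmod4
  rintro ⟨s, hs⟩
  apply hw
  exact ⟨i * s, by linear_combination (i * i) * hs - w * hi⟩

end SubfE

end Cfsg.Agent.Lib.helper24
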