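import Mathlib
import Cfsg.Agent.Lib.helper24.SffDefs
import Cfsg.Agent.Lib.helper24.SubfE
import Cfsg.Agent.Lib.helper43.SffIDX
import Cfsg.Agent.Lib.helper32.SffN3
import Cfsg.Agent.Lib.helper46.SffN4A1
import Cfsg.Agent.Lib.helper25.SffN4A2
import Cfsg.Agent.Lib.helper25.SffN4A3

/-!
# S5965: the necessity direction at the matrix level (assembly of the split pieces)
-/

set_option autoImplicit false

namespace Cfsg.Agent.Lib.helper24

open Module Matrix Cfsg.Geo Polynomial

theorem sff_aux_sq (a : ℕ) : a + 1 ∣ a ^ 2 - 1 := by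
  rcases a with _ | c
  · simp
  · have h : (c + 1) ^ 2 = (c + 1 + 1) * c + 1 := by ring
    rw [h, Nat.add_sub_cancel]
    exact Dvd.intro _ rfl

/-- The necessity direction of S5965 at the matrix level. -/
theorem sff_nec_main {F : Type*} [Field F] [Fintype F] (F₀ : Subfield F) {n : ℕ} (hn : 2 ≤ n)
    (k : ℕ) (hk : k.Prime) (hcard : Fintype.card F = (Nat.card F₀) ^ k) (r : ℕ) [Fact r.Prime]
    (hr2 : r ≠ 2) (hrk : r ≠ k) (hrF : (r : F) ≠ 0) (hgap : ¬ (n = 6 ∧ r = 3))
    (hB : ¬ (k = 2 ∧ r = n ∧ (n = 3 ∨ n = 5) ∧ padicValNat r (Nat.card F₀ + 1) = 1))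
    (hΩ : r ∣ ((subfieldSubgroup F₀ (1 : GL (Fin n) F)).comap
      (Matrix.SpecialLinearGroup.toGL :
        Matrix.SpecialLinearGroup (Fin n) F →* GL (Fin n) F)).index) :
    SffDerang F₀ r n := by
  have hr : r.Prime := Fact.out
  obtain ⟨j, hj2, hjn, hj1, hj0⟩ := sff_idx F₀ hn k hk hcard r hr2 hrk hrF hΩ
  have hq1 : 1 < Fintype.card F := Fintype.one_lt_card
  have hq₀pos : 0 < Nat.card F₀ := by
    rcases Nat.eq_zero_or_pos (Nat.card F₀) with h | h
    · rw [h, zero_pow hk.ne_zero] at hcard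
      omega
    · exact h
  by_cases hd : r ∣ Fintype.card F - 1
  swap
  · exact h32_sff_nec_nodvd F₀ r hrF hd j hjn hj1 hj0
  have hnd₀ : ¬ r ∣ Nat.card F₀ - 1 := by
    intro h
    apply hj0
    have h1 : Nat.card F₀ - 1 ∣ Nat.card F₀ ^ j - 1 := by
      have h2 := Nat.sub_dvd_pow_sub_pow (Nat.card F₀) 1 j
      rwa [one_pow] at h2
    exact h.trans h1
  have hq₀ : ¬ r ∣ Nat.card F₀ := by
    intro h
    have h1 : r ∣ Fintype.card F := by
      rw [hcard]
      exact h.trans (dvd_pow_self _ hk.ne_zero)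
    have h3 := Nat.dvd_sub h1 hd
    have h4 : Fintype.card F - (Fintype.card F - 1) = 1 := by omega
    rw [h4] at h3
    exact hr.one_lt.ne' (Nat.dvd_one.1 h3)
  have he1 : 1 ≤ padicValNat r (Fintype.card F - 1) :=
    one_le_padicValNat_of_dvd (by omega) hd
  by_cases hd₁ : r ∣ Nat.card F₀ + 1
  · have hk2 : k = 2 := by
      by_contra hk2
      have hkodd : Odd k := hk.odd_of_ne_two hk2
      have h1 : Nat.card F₀ + 1 ∣ Nat.card F₀ ^ k + 1 ^ k :=
        hkodd.nat_add_dvd_pow_add_pow (Nat.card F₀) 1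
      rw [one_pow, ← hcard] at h1
      have h2 : r ∣ Fintype.card F + 1 := hd₁.trans h1
      have h3 := Nat.dvd_sub h2 hd
      have h4 : (Fintype.card F + 1) - (Fintype.card F - 1) = 2 := by omega
      rw [h4] at h3
      exact hr2 ((Nat.prime_dvd_prime_iff_eq hr Nat.prime_two).1 h3)
    subst hk2
    have hn3 : 3 ≤ n := by
      by_contra h
      have hj2' : j = 2 := by omega
      apply hj0
      rw [hj2']
      exact hd₁.trans (sff_aux_sq _)
    by_cases hrn : r ∣ n
    · by_cases hex : r = n ∧ (n = 3 ∨ n = 5)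
      · have hv1 : padicValNat r (Nat.card F₀ + 1) ≠ 1 := fun h => hB ⟨rfl, hex.1, hex.2, h⟩
        have hv2 : 2 ≤ padicValNat r (Nat.card F₀ + 1) := by
          have h1 := one_le_padicValNat_of_dvd (p := r) (n := Nat.card F₀ + 1) (by omega) hd₁
          omega
        have hv3 : 2 ≤ padicValNat r (Fintype.card F - 1) := by
          have h1 : r ^ 2 ∣ Nat.card F₀ + 1 := (padicValNat_dvd_iff_le (by omega)).2 hv2
          have h2 : Nat.card F₀ + 1 ∣ Fintype.card F - 1 := by
            rw [hcard]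
            exact sff_aux_sq _
          exact (padicValNat_dvd_iff_le (by omega)).1 (h1.trans h2)
        have hvn : padicValNat r n = 1 := by
          rw [← hex.1]
          exact padicValNat_self
        exact sff_nec_one F₀ hn r hr2 hd hq₀ hnd₀ (fun h => by omega) (by omega)
      · exact sff_nec_sym F₀ (by omega) r hr2 hd hd₁ hrn hex hgap
    · have hvn : padicValNat r n = 0 := padicValNat.eq_zero_of_not_dvd hrn
      exact sff_nec_one F₀ hn r hr2 hd hq₀ hnd₀ (fun h => by omega) (by omega)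
  · by_cases hn4 : 4 ≤ n
    · exact sff_nec_pm F₀ hn4 r hr2 hd hnd₀ hd₁
    · have hrn : ¬ r ∣ n := by
        intro h
        have h1 : r ≤ n := Nat.le_of_dvd (by omega) h
        have h2 : 2 ≤ r := hr.two_le
        have h3 : r = 3 := by omega
        rw [h3] at hq₀ hnd₀ hd₁
        omega
      have hvn : padicValNat r n = 0 := padicValNat.eq_zero_of_not_dvd hrn
      exact sff_nec_one F₀ hn r hr2 hd hq₀ hnd₀ (fun _ => hd₁) (by omega)

end Cfsg.Agent.Lib.helper24
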