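import Mathlib
import Cfsg.Agent.Lib.helper24.SfoDefs
import Cfsg.Agent.Lib.helper30.SfoOLBcore
import Cfsg.Agent.Lib.helper43.SfoOIDXcore
import Cfsg.Agent.Lib.helper48.SfoOORB
import Cfsg.Agent.Lib.helper33.SfoCNTE
import Cfsg.Agent.Lib.helper77.SfoCNTO
import Cfsg.Agent.Lib.helper83.SfoODET

/-! S5981 pieces OLB and OIDX (wrappers by helper24 around the cores of helper30 and helper43). -/

set_option autoImplicit false

namespace Cfsg.Agent.Lib.helper24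

open Module Matrix Cfsg.Geo

/-- OLB -/
theorem h24_sfo_card_lb {F : Type*} [Field F] [Fintype F] (h2 : (2 : F) ≠ 0) (r : ℕ)
    [Fact r.Prime] (hr2 : r ≠ 2) (hrF : (r : F) ≠ 0)
    (hi : Even (orderOf ((Fintype.card F : ℕ) : ZMod r)))
    (d : ℕ) (Q : (Fin d → F) → F) (hQ : IsNondegenerateQuadraticForm Q) :
    (∑ t ∈ (Finset.range d).filter (fun t => orderOf ((Fintype.card F : ℕ) : ZMod r) ∣ t),
        padicValNat r (Fintype.card F ^ t - 1)) +
      (if orderOf ((Fintype.card F : ℕ) : ZMod r) ∣ d ∧ r ∣ sfoCount Q 1 then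
        padicValNat r (Fintype.card F ^ d - 1) else 0)
      ≤ padicValNat r (Nat.card (sfoIsom Q)) :=
  Cfsg.Agent.Lib.helper30.h30_sfo_card_lb_core h2 r hr2 hrF hi
    (fun _ Q' hQ' c hc hpos => sfo_card_step h2 Q' hQ' c hc hpos)
    (fun d' k hdk Q' hQ' => h33_sfo_count_even h2 d' k hdk Q' hQ')
    (fun d' k hdk Q' hQ' => sfo_count_odd h2 d' k hdk Q' hQ')
    d Q hQ

/-- OIDX -/
theorem h24_sfo_idx_even {F : Type*} [Field F] [Fintype F] {n : ℕ} (h2 : (2 : F) ≠ 0)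
    (Q : (Fin n → F) → F) (hQ : IsNondegenerateQuadraticForm Q) (r : ℕ) [Fact r.Prime]
    (hr2 : r ≠ 2) (hrF : (r : F) ≠ 0)
    (hi : Even (orderOf ((Fintype.card F : ℕ) : ZMod r)))
    (hΩ : r ∣ (quadSimilarityGroup Q).relIndex (specialLinear (Fin n) F)) :
    orderOf ((Fintype.card F : ℕ) : ZMod r) ∣ n ∧ ¬ r ∣ sfoCount Q 1 :=
  helper43_sfo_idx_even_core Q r hr2 hrF (h24_sfo_card_lb h2 r hr2 hrF hi n Q hQ)
    (fun g hg => sfo_det_sq h2 Q hQ g hg) hΩ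

end Cfsg.Agent.Lib.helper24
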