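import Mathlib
import Cfsg.Agent.Lib.helper24.SfoDefs
import Cfsg.Agent.Lib.helper40.SfoOEVEN
import Cfsg.Agent.Lib.helper18.SffC3B
import Cfsg.Agent.Lib.helper32.SffN3

/-! S5981 piece ONODD (spare copy by helper24): if `r ∤ q - 1` and the order of `q` modulo `r` is
odd and at most `n`, there is a derangement of order `r`. -/

set_option autoImplicit false

namespace Cfsg.Agent.Lib.helper24

open Module Matrix Cfsg.Geo

/-- ONODD (spare copy) -/
theorem h24_sfo_nec_odd {F : Type*} [Field F] [Fintype F] {n : ℕ} (h2 : (2 : F) ≠ 0)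
    (Q : (Fin n → F) → F) (hQ : IsNondegenerateQuadraticForm Q) (r : ℕ) [Fact r.Prime]
    (hr2 : r ≠ 2) (hrF : (r : F) ≠ 0) (hnd : ¬ r ∣ Fintype.card F - 1)
    (hi : Odd (orderOf ((Fintype.card F : ℕ) : ZMod r)))
    (hin : orderOf ((Fintype.card F : ℕ) : ZMod r) ≤ n) : SfoDerang Q r := by
  classical
  have hr : r.Prime := Fact.out
  have hi_pos : 0 < orderOf ((Fintype.card F : ℕ) : ZMod r) := hi.pos
  have hn : 0 < n := lt_of_lt_of_le hi_pos hin
  obtain ⟨y, hyr, hyfix⟩ := sff_exists_fix (F := F) (n := n) r hrF hin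
  have hroot := h32_eq_one_of_pow_prime (F := F) r hnd
  refine ⟨y, ?_, ⟨1, by rw [hyr, one_smul]⟩, ?_, ?_⟩
  · apply hroot
    rw [← Matrix.det_pow, hyr, Matrix.det_one]
  · intro z hz
    have hz1 : z = 1 := by
      apply hroot
      have h1 : (y ^ r) ⟨0, hn⟩ ⟨0, hn⟩ = z ^ r := by
        rw [hz, _root_.smul_pow, one_pow, Matrix.smul_apply, Matrix.one_apply_eq, smul_eq_mul,
          mul_one]
      rw [hyr, Matrix.one_apply_eq] at h1
      exact h1.symm
    rw [hz1, one_smul] at hz
    rw [hz] at hyfix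
    have h3 : (Matrix.toLin' (1 : Matrix (Fin n) (Fin n) F) - 1 : Module.End F (Fin n → F)) = 0 := by
      rw [Matrix.toLin'_one]
      exact sub_self _
    rw [h3, LinearMap.ker_zero, finrank_top, Module.finrank_fin_fun] at hyfix
    omega
  · rintro ⟨P, g, hP, hg, hx⟩
    have hPu : IsUnit P.det := isUnit_iff_ne_zero.mpr hP
    have hpow : (g : Matrix (Fin n) (Fin n) F) ^ r = 1 := by
      have h1 := h32_conj_pow y P (g : Matrix (Fin n) (Fin n) F) hx r
      rw [hyr, one_mul] at h1
      have h3 : P⁻¹ * P = P⁻¹ * (P * (g : Matrix (Fin n) (Fin n) F) ^ r) := by rw [← h1]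
      rw [← mul_assoc, Matrix.nonsing_inv_mul P hPu, one_mul] at h3
      exact h3.symm
    have hev := h40_sfo_fix_even h2 Q hQ r hr2 hrF hnd g hg hpow
    have hfix : Module.finrank F
        (LinearMap.ker (Matrix.toLin' (g : Matrix (Fin n) (Fin n) F) - 1))
        = n - orderOf ((Fintype.card F : ℕ) : ZMod r) := by
      rw [← hyfix]
      have h1 := h32_finrank_ker_conj y P (g : Matrix (Fin n) (Fin n) F) hP hx 1
      rw [one_smul] at h1
      exact h1.symm
    rw [hfix, Nat.sub_sub_self hin] at hev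
    exact (Nat.not_even_iff_odd.2 hi) hev

end Cfsg.Agent.Lib.helper24
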