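import Mathlib
import Cfsg.Agent.Lib.helper24.SfoDefs
import Cfsg.Agent.Lib.helper14.SfoOTRV
import Cfsg.Agent.Lib.helper43.SfoON1
import Cfsg.Agent.Lib.helper43.SfoON3
import Cfsg.Agent.Lib.helper24.SfoOIDX
import Cfsg.Agent.Lib.helper97.SfoONEVEN
import Cfsg.Agent.Lib.helper79.SfoOIDX0
import Cfsg.Agent.Lib.helper24.SfoONODD

/-!
# Assembly for S5981 (orthogonal-type subgroups of `SL_n(q)`, `q` odd)

Reduction between the group-level statement and the matrix-level predicates of `SfoDefs`, and the
necessity direction for odd `r`, from the pieces proved by the team.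
-/

set_option autoImplicit false

namespace Cfsg.Agent.Lib.helper24

open Module Matrix Cfsg.Geo

/-- From conjugacy by a determinant-one matrix to conjugacy inside the special linear group. -/
theorem sfo_red_suff {F : Type*} [Field F] {n : ℕ} (Q : (Fin n → F) → F)
    (x : GL (Fin n) F) (h : SfoConj Q (x : Matrix (Fin n) (Fin n) F)) :
    ∃ g ∈ specialLinear (Fin n) F, g⁻¹ * x * g ∈ quadSimilarityGroup Q := by
  obtain ⟨P, g, hP, hg, hconj⟩ := h
  have hPu : IsUnit P.det := by
    rw [hP]
    exact isUnit_one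
  refine ⟨Matrix.nonsingInvUnit P hPu, ?_, ?_⟩
  · show Matrix.GeneralLinearGroup.det (Matrix.nonsingInvUnit P hPu) = 1
    apply Units.ext
    rw [Matrix.GeneralLinearGroup.val_det_apply]
    exact hP
  · have h1 : x * Matrix.nonsingInvUnit P hPu = Matrix.nonsingInvUnit P hPu * g := by
      apply Units.ext
      rw [Units.val_mul, Units.val_mul]
      exact hconj
    have h2 : (Matrix.nonsingInvUnit P hPu)⁻¹ * x * Matrix.nonsingInvUnit P hPu = g := by
      rw [mul_assoc, h1, ← mul_assoc, inv_mul_cancel, one_mul]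
    rw [h2]
    exact hg

/-- A matrix-level derangement gives an element of the special linear group with no conjugate
in the similarity group. -/
theorem sfo_red_nec {F : Type*} [Field F] {n : ℕ} (Q : (Fin n → F) → F)
    (X : Matrix (Fin n) (Fin n) F) (hdet : X.det = 1) (hnc : ¬ SfoWeakConj Q X) :
    ∃ x ∈ specialLinear (Fin n) F, (x : Matrix (Fin n) (Fin n) F) = X ∧
      ¬ ∃ g ∈ specialLinear (Fin n) F, g⁻¹ * x * g ∈ quadSimilarityGroup Q := by
  have hXu : IsUnit X.det := by
    rw [hdet]
    exact isUnit_one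
  refine ⟨Matrix.nonsingInvUnit X hXu, ?_, rfl, ?_⟩
  · show Matrix.GeneralLinearGroup.det (Matrix.nonsingInvUnit X hXu) = 1
    apply Units.ext
    rw [Matrix.GeneralLinearGroup.val_det_apply]
    exact hdet
  · rintro ⟨g, _, hg⟩
    apply hnc
    refine ⟨(g : Matrix (Fin n) (Fin n) F), g⁻¹ * Matrix.nonsingInvUnit X hXu * g, ?_, hg, ?_⟩
    · have h1 : IsUnit (g : Matrix (Fin n) (Fin n) F) := g.isUnit
      exact ((Matrix.isUnit_iff_isUnit_det _).1 h1).ne_zero
    · have h1 : g * (g⁻¹ * Matrix.nonsingInvUnit X hXu * g) = Matrix.nonsingInvUnit X hXu * g := by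
        group
      have h2 := congrArg Units.val h1
      rw [Units.val_mul, Units.val_mul] at h2
      exact h2.symm

/-- The necessity direction of S5981 for odd `r`, at the matrix level. -/
theorem sfo_nec_main {F : Type*} [Field F] [Fintype F] {n : ℕ} (hn : 3 ≤ n) (h2 : (2 : F) ≠ 0)
    (Q : (Fin n → F) → F) (hQ : IsNondegenerateQuadraticForm Q) (r : ℕ) [Fact r.Prime]
    (hr2 : r ≠ 2) (hgap : ¬ (n = 6 ∧ r = 3))
    (hB : ¬ ((r = 3 ∨ r = 5) ∧ n = r ∧ padicValNat r (Fintype.card F - 1) = 1))
    (hΩ : r ∣ (quadSimilarityGroup Q).relIndex (specialLinear (Fin n) F)) : SfoDerang Q r := by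
  have hr : r.Prime := Fact.out
  have hq1 : 1 < Fintype.card F := Fintype.one_lt_card
  by_cases hrF : (r : F) = 0
  · exact sfo_nec_char (by omega) h2 Q hQ r hrF
  by_cases hd : r ∣ Fintype.card F - 1
  · by_cases hrn : r ∣ n
    · by_cases hex : r = n ∧ (n = 3 ∨ n = 5)
      · have hv1 : padicValNat r (Fintype.card F - 1) ≠ 1 := by
          intro h
          apply hB
          refine ⟨?_, hex.1.symm, h⟩
          rcases hex.2 with h3 | h5
          · left
            omega
          · right
            omega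
        have hv2 : 2 ≤ padicValNat r (Fintype.card F - 1) := by
          have h1 := one_le_padicValNat_of_dvd (p := r) (n := Fintype.card F - 1) (by omega) hd
          omega
        have hvn : padicValNat r n = 1 := by
          rw [← hex.1]
          exact padicValNat_self
        exact sfo_nec_one hn h2 Q hQ r hr2 hd (by omega)
      · exact sfo_nec_sym (by omega) h2 Q hQ r hr2 hd hrn hex hgap
    · have hvn : padicValNat r n = 0 := padicValNat.eq_zero_of_not_dvd hrn
      have he1 : 1 ≤ padicValNat r (Fintype.card F - 1) :=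
        one_le_padicValNat_of_dvd (by omega) hd
      exact sfo_nec_one hn h2 Q hQ r hr2 hd (by omega)
  · by_cases hi : Even (orderOf ((Fintype.card F : ℕ) : ZMod r))
    · obtain ⟨hdiv, hcnt⟩ := h24_sfo_idx_even h2 Q hQ r hr2 hrF hi hΩ
      exact sfo_nec_even (by omega) h2 Q hQ r hr2 hrF hd hdiv hcnt
    · obtain ⟨j, hj1, hjn, hj⟩ := sfo_idx_le Q r hrF hΩ
      have hpow : ((Fintype.card F : ℕ) : ZMod r) ^ j = 1 := by
        have h1 : ((Fintype.card F ^ j - 1 : ℕ) : ZMod r) = 0 :=
          (ZMod.natCast_eq_zero_iff _ _).2 hj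
        have h3 : 1 ≤ Fintype.card F ^ j := Nat.one_le_pow _ _ (by omega)
        rw [Nat.cast_sub h3, Nat.cast_pow, Nat.cast_one, sub_eq_zero] at h1
        exact h1
      have hle : orderOf ((Fintype.card F : ℕ) : ZMod r) ≤ n :=
        (Nat.le_of_dvd (by omega) (orderOf_dvd_of_pow_eq_one hpow)).trans hjn
      exact h24_sfo_nec_odd h2 Q hQ r hr2 hrF hd (Nat.not_even_iff_odd.1 hi) hle

end Cfsg.Agent.Lib.helper24
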