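import Mathlib
import Cfsg.Agent.Lib.helper24.SfuDefs
import Cfsg.Agent.Lib.helper30.SfuIDXU
import Cfsg.Agent.Lib.helper11.SfuUN1
import Cfsg.Agent.Lib.helper84.SfuUN3
import Cfsg.Agent.Lib.helper24.SfuUN2

/-!
# Assembly for S5982 (unitary-type subgroups of `SL_n(q₀²)`)

Reduction between the group-level statement and the matrix-level predicates of `SfuDefs`, and the
necessity direction for odd `r`, from the pieces proved by the team.
-/

set_option autoImplicit false

namespace Cfsg.Agent.Lib.helper24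

open Module Matrix Cfsg.Geo

/-- From conjugacy by a determinant-one matrix to conjugacy inside the special linear group. -/
theorem sfu_red_suff {F : Type*} [Field F] {n : ℕ} (f : (Fin n → F) → (Fin n → F) → F)
    (x : GL (Fin n) F) (h : SfuConj f (x : Matrix (Fin n) (Fin n) F)) :
    ∃ g ∈ specialLinear (Fin n) F, g⁻¹ * x * g ∈ similarityGroup f := by
  obtain ⟨P, g, hP, hg, hconj⟩ := h
  have hPu : IsUnit P.det := by
    rw [hP]
    exact isUnit_one
  refine ⟨Matrix.nonsingInvUnit P hPu, ?_, ?_⟩
  · show Matrix.GeneralLinearGroup.det (Matrix.nonsingInvUnit P hPu) = 1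
    apply Units.ext
    rw [Matrix.GeneralLinearGroup.val_det_apply]
    exact hP
  · have h1 : x * Matrix.nonsingInvUnit P hPu = Matrix.nonsingInvUnit P hPu * g := by
      apply Units.ext
      rw [Units.val_mul, Units.val_mul]
      exact hconj
    have h2 : (Matrix.nonsingInvUnit P hPu)⁻¹ * x * Matrix.nonsingInvUnit P hPu = g := by
      rw [mul_assoc, h1, ← mul_assoc, inv_mul_cancel, one_mul]
    rw [h2]
    exact hg

/-- A matrix-level derangement gives an element of the special linear group with no conjugate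
in the similarity group. -/
theorem sfu_red_nec {F : Type*} [Field F] {n : ℕ} (f : (Fin n → F) → (Fin n → F) → F)
    (X : Matrix (Fin n) (Fin n) F) (hdet : X.det = 1) (hnc : ¬ SfuWeakConj f X) :
    ∃ x ∈ specialLinear (Fin n) F, (x : Matrix (Fin n) (Fin n) F) = X ∧
      ¬ ∃ g ∈ specialLinear (Fin n) F, g⁻¹ * x * g ∈ similarityGroup f := by
  have hXu : IsUnit X.det := by
    rw [hdet]
    exact isUnit_one
  refine ⟨Matrix.nonsingInvUnit X hXu, ?_, rfl, ?_⟩
  · show Matrix.GeneralLinearGroup.det (Matrix.nonsingInvUnit X hXu) = 1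
    apply Units.ext
    rw [Matrix.GeneralLinearGroup.val_det_apply]
    exact hdet
  · rintro ⟨g, _, hg⟩
    apply hnc
    refine ⟨(g : Matrix (Fin n) (Fin n) F), g⁻¹ * Matrix.nonsingInvUnit X hXu * g, ?_, hg, ?_⟩
    · have h1 : IsUnit (g : Matrix (Fin n) (Fin n) F) := g.isUnit
      exact ((Matrix.isUnit_iff_isUnit_det _).1 h1).ne_zero
    · have h1 : g * (g⁻¹ * Matrix.nonsingInvUnit X hXu * g) = Matrix.nonsingInvUnit X hXu * g := by
        group
      have h2 := congrArg Units.val h1
      rw [Units.val_mul, Units.val_mul] at h2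
      exact h2.symm

/-- The necessity direction of S5982 for odd `r`, at the matrix level. -/
theorem sfu_nec_main {F : Type*} [Field F] [Fintype F] {n : ℕ} (hn : 3 ≤ n) (q₀ : ℕ)
    (hcard : Fintype.card F = q₀ ^ 2) (f : (Fin n → F) → (Fin n → F) → F)
    (hf : IsUnitaryFormPow q₀ f) (r : ℕ) [Fact r.Prime] (hr2 : r ≠ 2) (hrF : (r : F) ≠ 0)
    (hgap : ¬ (n = 6 ∧ r = 3))
    (hB : ¬ ((r = 3 ∨ r = 5) ∧ n = r ∧ padicValNat r (q₀ - 1) = 1))
    (hΩ : r ∣ (similarityGroup f).relIndex (specialLinear (Fin n) F)) : SfuDerang f r := by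
  have hr : r.Prime := Fact.out
  obtain ⟨j, hj2, hjn, hj1⟩ := sfu_idx (by omega) q₀ hcard f hf r hr2 hrF hΩ
  have hq1 : 1 < Fintype.card F := Fintype.one_lt_card
  have hq₀0 : q₀ ≠ 0 := by
    rintro rfl
    rw [zero_pow (by norm_num)] at hcard
    omega
  have hq₀1 : q₀ ≠ 1 := by
    rintro rfl
    rw [one_pow] at hcard
    omega
  have hfact : Fintype.card F - 1 = (q₀ - 1) * (q₀ + 1) := by
    rw [hcard]
    obtain ⟨c, rfl⟩ : ∃ c, q₀ = c + 1 := ⟨q₀ - 1, by omega⟩
    have h : (c + 1) ^ 2 = c * (c + 1 + 1) + 1 := by ring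
    rw [h, Nat.add_sub_cancel, Nat.add_sub_cancel]
  have hdvdq : q₀ - 1 ∣ Fintype.card F - 1 := by
    rw [hfact]
    exact Dvd.intro _ rfl
  by_cases hd : r ∣ q₀ - 1
  · have hdq : r ∣ Fintype.card F - 1 := hd.trans hdvdq
    have he1 : 1 ≤ padicValNat r (Fintype.card F - 1) :=
      one_le_padicValNat_of_dvd (by omega) hdq
    by_cases hrn : r ∣ n
    · by_cases hex : r = n ∧ (n = 3 ∨ n = 5)
      · have hv1 : padicValNat r (q₀ - 1) ≠ 1 := by
          intro h
          apply hB
          refine ⟨?_, hex.1.symm, h⟩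
          rcases hex.2 with h3 | h5
          · left
            omega
          · right
            omega
        have hv2 : 2 ≤ padicValNat r (q₀ - 1) := by
          have h1 := one_le_padicValNat_of_dvd (p := r) (n := q₀ - 1) (by omega) hd
          omega
        have hv3 : 2 ≤ padicValNat r (Fintype.card F - 1) := by
          have h1 : r ^ 2 ∣ q₀ - 1 := (padicValNat_dvd_iff_le (by omega)).2 hv2
          exact (padicValNat_dvd_iff_le (by omega)).1 (h1.trans hdvdq)
        have hvn : padicValNat r n = 1 := by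
          rw [← hex.1]
          exact padicValNat_self
        exact sfu_nec_one hn q₀ hcard f hf r hr2 hd (by omega)
      · exact sfu_nec_sym (by omega) q₀ hcard f hf r hr2 hd hrn hex hgap
    · have hvn : padicValNat r n = 0 := padicValNat.eq_zero_of_not_dvd hrn
      exact sfu_nec_one hn q₀ hcard f hf r hr2 hd (by omega)
  · have hnd : ¬ r ∣ Fintype.card F - 1 := by
      intro hdq
      rw [hfact] at hdq
      rcases (Nat.Prime.dvd_mul hr).1 hdq with h | h
      · exact hd h
      · have h2 : ((q₀ + 1 : ℕ) : ZMod r) = 0 := (ZMod.natCast_eq_zero_iff _ _).2 h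
        have h3 : -(q₀ : ZMod r) = 1 := by
          push_cast at h2
          linear_combination (-1 : ZMod r) * h2
        rw [h3, one_pow] at hj1
        have h4 : ((2 : ℕ) : ZMod r) = 0 := by
          push_cast
          linear_combination hj1
        rw [ZMod.natCast_eq_zero_iff] at h4
        exact hr2 ((Nat.prime_dvd_prime_iff_eq hr Nat.prime_two).1 h4)
    exact h24_sfu_nec_nodvd q₀ hcard f hf r hr2 hrF hnd j hjn hj1

end Cfsg.Agent.Lib.helper24
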