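import Mathlib
import Cfsg.Agent.Lib.helper24.SpC
import Cfsg.Agent.Lib.helper24.ElD

/-!
# Orthogonal decompositions permuted by an isometry of prime order: necessary conditions
-/

set_option autoImplicit false

namespace Cfsg.Agent.Lib.helper24

open Module

section spd

variable {F : Type*} [Field F] [Fintype F] {V : Type*} [AddCommGroup V] [Module F V] [Finite V]

theorem sp_nec_all_fixed (ω : V →ₗ[F] V →ₗ[F] F) (halt : ∀ v, ω v v = 0) (T : Module.End F V)
    (hT : ∀ u v, ω (T u) (T v) = ω u v) (r : ℕ) [Fact r.Prime]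
    (hq0 : ((Fintype.card F : ℕ) : ZMod r) ≠ 0) (hrF : ((r : ℕ) : F) ≠ 0) (hTr : T ^ r = 1)
    (i c : ℕ) (hi : i = orderOf ((Fintype.card F : ℕ) : ZMod r))
    (hc : c = if Even i then i else 2 * i) {t : ℕ} (D : Fin t → Submodule F V) (a : ℕ)
    (hD : SpDecomp ω a D) (hinv : ∀ j, ∀ d ∈ D j, T d ∈ D j) :
    t * (a % c) ≤ finrank F (LinearMap.ker (T - 1)) := by
  have hj : ∀ j, a % c ≤ finrank F ↥(LinearMap.ker (T - 1) ⊓ D j) := by
    intro j
    have h5 := sp_dvd_rel ω halt T hT r hq0 hrF hTr i c hi hc (D j) (hD.nd j) (hinv j)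
    rw [hD.dim j] at h5
    have hle : finrank F ↥(LinearMap.ker (T - 1) ⊓ D j) ≤ a := by
      rw [← hD.dim j]
      exact Submodule.finrank_mono inf_le_right
    obtain ⟨e, he⟩ := h5
    obtain ⟨fj, hfj⟩ : ∃ fj, fj = finrank F ↥(LinearMap.ker (T - 1) ⊓ D j) := ⟨_, rfl⟩
    rw [← hfj] at he hle ⊢
    have h6 : a = fj + c * e := by omega
    rw [h6, Nat.add_mul_mod_self_left]
    exact Nat.mod_le _ _
  have hind' : iSupIndep (fun j => LinearMap.ker (T - 1) ⊓ D j) :=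
    hD.indep.mono (fun j => inf_le_right)
  have h1 := el_finrank_iSup _ hind'
  have h2 : (⨆ j, LinearMap.ker (T - 1) ⊓ D j) ≤ LinearMap.ker (T - 1) :=
    iSup_le (fun j => inf_le_left)
  have h3 := Submodule.finrank_mono h2
  calc t * (a % c) = ∑ _j : Fin t, a % c := by
        rw [Finset.sum_const, Finset.card_univ, Fintype.card_fin, smul_eq_mul]
    _ ≤ ∑ j, finrank F ↥(LinearMap.ker (T - 1) ⊓ D j) := Finset.sum_le_sum (fun j _ => hj j)
    _ = finrank F ↥(⨆ j, LinearMap.ker (T - 1) ⊓ D j) := h1.symm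
    _ ≤ _ := h3

theorem sp_nec_small (ω : V →ₗ[F] V →ₗ[F] F) (halt : ∀ v, ω v v = 0) (T : Module.End F V)
    (hT : ∀ u v, ω (T u) (T v) = ω u v) (r : ℕ) [Fact r.Prime]
    (hq0 : ((Fintype.card F : ℕ) : ZMod r) ≠ 0) (hrF : ((r : ℕ) : F) ≠ 0) (hTr : T ^ r = 1)
    (i c : ℕ) (hi : i = orderOf ((Fintype.card F : ℕ) : ZMod r))
    (hc : c = if Even i then i else 2 * i) {t : ℕ} (D : Fin t → Submodule F V) (a : ℕ)
    (hD : SpDecomp ω a D) (hT1 : T ≠ 1) (hinv : ∀ j, ∀ d ∈ D j, T d ∈ D j) : c ≤ a := by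
  by_contra hlt
  push Not at hlt
  apply hT1
  have hj : ∀ j, D j ≤ LinearMap.ker (T - 1) := by
    intro j
    have h5 := sp_dvd_rel ω halt T hT r hq0 hrF hTr i c hi hc (D j) (hD.nd j) (hinv j)
    rw [hD.dim j] at h5
    have hle : finrank F ↥(LinearMap.ker (T - 1) ⊓ D j) ≤ a := by
      rw [← hD.dim j]
      exact Submodule.finrank_mono inf_le_right
    have h6 : a - finrank F ↥(LinearMap.ker (T - 1) ⊓ D j) = 0 :=
      Nat.eq_zero_of_dvd_of_lt h5 (by omega)
    have h7 : LinearMap.ker (T - 1) ⊓ D j = D j := by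
      apply Submodule.eq_of_le_of_finrank_le inf_le_right
      rw [hD.dim j]
      omega
    rw [← h7]
    exact inf_le_left
  have h8 : (⊤ : Submodule F V) ≤ LinearMap.ker (T - 1) := by
    rw [← hD.top]
    exact iSup_le hj
  apply LinearMap.ext
  intro v
  have h9 := h8 (Submodule.mem_top : v ∈ ⊤)
  rw [LinearMap.mem_ker, LinearMap.sub_apply, sub_eq_zero] at h9
  exact h9

theorem sp_c_dvd (r : ℕ) [Fact r.Prime] (hr2 : r ≠ 2) (q : ℕ) (hq0 : (q : ZMod r) ≠ 0)
    (i c : ℕ) (hi : i = orderOf (q : ZMod r)) (hc : c = if Even i then i else 2 * i) :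
    c ∣ r - 1 := by
  have hr : r.Prime := Fact.out
  have h1 : i ∣ r - 1 := by
    rw [hi]
    exact orderOf_dvd_of_pow_eq_one (ZMod.pow_card_sub_one_eq_one hq0)
  rw [hc]
  split_ifs with hev
  · exact h1
  · have hodd : Odd i := Nat.not_even_iff_odd.mp hev
    have hrodd := hr.odd_of_ne_two hr2
    have h2 : 2 ∣ r - 1 := by
      obtain ⟨k, hk⟩ := hrodd
      exact ⟨k, by omega⟩
    exact Nat.Coprime.mul_dvd_of_dvd_of_dvd (Nat.coprime_two_left.mpr hodd) h2 h1

/-- An element of order `r` with a small range, permuting a decomposition, forces `c ≤ a`. -/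
theorem sp_nec_c_le_a (ω : V →ₗ[F] V →ₗ[F] F) (halt : ∀ v, ω v v = 0) (T : Module.End F V)
    (hT : ∀ u v, ω (T u) (T v) = ω u v) (r : ℕ) [Fact r.Prime] (hr2 : r ≠ 2)
    (hq0 : ((Fintype.card F : ℕ) : ZMod r) ≠ 0) (hrF : ((r : ℕ) : F) ≠ 0) (hTr : T ^ r = 1)
    (i c : ℕ) (hi : i = orderOf ((Fintype.card F : ℕ) : ZMod r))
    (hc : c = if Even i then i else 2 * i) {t : ℕ} (D : Fin t → Submodule F V) (a : ℕ)
    (ha : 2 ≤ a) (hD : SpDecomp ω a D) (σ : Equiv.Perm (Fin t))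
    (hσ : ∀ j, (D j).map T = D (σ j)) (hT1 : T ≠ 1)
    (hrank : finrank F (LinearMap.range (T - 1)) ≤ c) : c ≤ a := by
  have hr : r.Prime := Fact.out
  have hfixed : ∀ j, σ j = j := by
    intro j₀
    by_contra hj₀
    have h1 := el_nec_rank T r hr hTr D hD.indep hD.top a (by omega) hD.dim σ hσ j₀ hj₀
    have h2 := LinearMap.finrank_range_add_finrank_ker (T - 1)
    have h3 := Nat.le_of_dvd (Nat.sub_pos_of_lt hr.one_lt) (sp_c_dvd r hr2 _ hq0 i c hi hc)
    have h4 : (r - 1) * 2 ≤ (r - 1) * a := Nat.mul_le_mul_left _ ha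
    have h5 := hr.one_lt
    omega
  apply sp_nec_small ω halt T hT r hq0 hrF hTr i c hi hc D a hD hT1
  intro j d hd
  have h1 := hσ j
  rw [hfixed j] at h1
  rw [← h1]
  exact Submodule.mem_map_of_mem hd

/-- An element of order `r` with a small fixed space, permuting a decomposition, forces the
residue condition. -/
theorem sp_nec_mod (ω : V →ₗ[F] V →ₗ[F] F) (halt : ∀ v, ω v v = 0) (T : Module.End F V)
    (hT : ∀ u v, ω (T u) (T v) = ω u v) (r : ℕ) [Fact r.Prime]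
    (hq0 : ((Fintype.card F : ℕ) : ZMod r) ≠ 0) (hrF : ((r : ℕ) : F) ≠ 0) (hTr : T ^ r = 1)
    (i c : ℕ) (hi : i = orderOf ((Fintype.card F : ℕ) : ZMod r))
    (hc : c = if Even i then i else 2 * i) {t : ℕ} (D : Fin t → Submodule F V) (a : ℕ)
    (hD : SpDecomp ω a D) (σ : Equiv.Perm (Fin t))
    (hσ : ∀ j, (D j).map T = D (σ j)) (hca : c ≤ a) (hc1 : 1 ≤ c) (n : ℕ) (hn : n = a * t)
    (hfix : finrank F (LinearMap.ker (T - 1)) ≤ n % c) : n % c = t * (a % c) := by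
  have hr : r.Prime := Fact.out
  have hlt : n % c < c := Nat.mod_lt _ hc1
  have hfixed : ∀ j, σ j = j := by
    intro j₀
    by_contra hj₀
    have h1 := el_nec_cycle_fix T r hr hTr D hD.indep hD.top a (by omega) hD.dim σ hσ j₀ hj₀
    omega
  have hinv : ∀ j, ∀ d ∈ D j, T d ∈ D j := by
    intro j d hd
    have h1 := hσ j
    rw [hfixed j] at h1
    rw [← h1]
    exact Submodule.mem_map_of_mem hd
  have h1 := sp_nec_all_fixed ω halt T hT r hq0 hrF hTr i c hi hc D a hD hinv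
  have h2 : n % c = (t * (a % c)) % c := by
    rw [hn, Nat.mul_comm a t, Nat.mul_mod t a c, Nat.mul_mod t (a % c) c, Nat.mod_mod]
  rw [h2]
  apply Nat.mod_eq_of_lt
  omega

end spd

end Cfsg.Agent.Lib.helper24
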