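import Mathlib
import Cfsg.Agent.Lib.helper24.SpD
import Cfsg.Agent.Lib.helper24.SpF

/-!
# Elements of odd prime order of `Sp_{2d}(q)` and orthogonal decompositions: the criterion
-/

set_option autoImplicit false

namespace Cfsg.Agent.Lib.helper24

open Module Matrix Cfsg.Agent.Lib.helper50 Cfsg.Agent.Lib.helper17

section spg

variable {F : Type*} [Field F] [Fintype F]

theorem sp_main {p : ℕ} [Fact p.Prime] [CharP F p] (d : ℕ) (hd : 2 ≤ d)
    (a t : ℕ) (hat : 2 * d = a * t) (ha : 2 ≤ a) (hae : Even a)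
    (r : ℕ) [Fact r.Prime] (hr2 : r ≠ 2) (hrp : r ≠ p)
    (hΩ : r ∣ Nat.card {D : Fin t → Submodule F (Fin d ⊕ Fin d → F) //
      SpDecomp (Cfsg.Agent.S0245.omegaJ d F) a D} / t.factorial)
    (i c : ℕ) (hi : i = orderOf ((Fintype.card F : ℕ) : ZMod r))
    (hc : c = if Even i then i else 2 * i) :
    (∀ x : Matrix.symplecticGroup (Fin d) F,
      (∃ z : F, ((x ^ r : Matrix.symplecticGroup (Fin d) F) :
        Matrix (Fin d ⊕ Fin d) (Fin d ⊕ Fin d) F) =
          z • (1 : Matrix (Fin d ⊕ Fin d) (Fin d ⊕ Fin d) F)) →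
      (∀ z : F, (x : Matrix (Fin d ⊕ Fin d) (Fin d ⊕ Fin d) F) ≠
        z • (1 : Matrix (Fin d ⊕ Fin d) (Fin d ⊕ Fin d) F)) →
      ∃ D : Fin t → Submodule F (Fin d ⊕ Fin d → F),
        SpDecomp (Cfsg.Agent.S0245.omegaJ d F) a D ∧
        ∃ σ : Equiv.Perm (Fin t), ∀ j, (D j).map (Matrix.toLin' x.1) = D (σ j)) ↔
    (c ≤ a ∧ (2 * d) % c = t * (a % c)) := by
  have hr : r.Prime := Fact.out
  have hp : p.Prime := Fact.out
  obtain ⟨f', -, hF⟩ := FiniteField.card F p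
  have hpr : p.Coprime r := (Nat.coprime_primes hp hr).mpr (Ne.symm hrp)
  have hq0 : ((Fintype.card F : ℕ) : ZMod r) ≠ 0 := el_card_ne_zero p f' hF r hpr
  have hrF : ((r : ℕ) : F) ≠ 0 := el_natCast_ne_zero p f' hF r hpr
  have hrodd : Odd r := hr.odd_of_ne_two hr2
  have hi1 : 1 ≤ i := by
    rw [hi]
    exact sp_order_pos r hq0
  have hcev : Even c := by
    rw [hc]
    split_ifs with h
    · exact h
    · exact even_two_mul i
  have hc1 : 1 ≤ c := by
    rw [hc]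
    split_ifs with h
    · exact hi1
    · omega
  obtain ⟨e, hce'⟩ := hcev
  have hce : c = 2 * e := by omega
  have he : 1 ≤ e := by omega
  have hdimV : finrank F (Fin d ⊕ Fin d → F) = a * t := (sp_finrank_std d).trans hat
  constructor
  · intro h
    obtain ⟨D₀, hD₀, -⟩ := sp_suff p f' hF r hpr hr2 i c hi hc a hae t (Fin d ⊕ Fin d → F)
      (Cfsg.Agent.S0245.omegaJ d F) (Cfsg.Agent.S0245.omegaJ_alt d F)
      (Cfsg.Agent.S0245.omegaJ_nondeg d F) 1 (fun u v => rfl) (one_pow r) hdimV (Or.inr rfl)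
    obtain ⟨a', ha'⟩ := hae
    have ha2 : a = 2 * a' := by omega
    subst ha2
    have hcd : c ≤ 2 * d := sp_count_le d a' t (by omega) r hq0 i c hi hc D₀ hD₀ hΩ
    have hed : e ≤ d := by omega
    -- first element: small range
    obtain ⟨x₁, hx₁r, hx₁1, hx₁rank⟩ := sp_exists_x1 (F := F) r hq0 hrF i c hi hc e he hce d hed
    obtain ⟨D, hD, σ, hσ⟩ := h x₁ ⟨1, by rw [hx₁r, one_smul]; rfl⟩
      (lag_not_scalar d r (by omega) hrodd x₁ hx₁r hx₁1)
    have hT₁r : (Matrix.toLin' x₁.1) ^ r = 1 := by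
      rw [sp_toLin_pow, hx₁r]
      exact Matrix.toLin'_one
    have hT₁1 : Matrix.toLin' x₁.1 ≠ 1 := fun h1 => hx₁1 (sp_toLin_eq_one d x₁ h1)
    have hca : c ≤ 2 * a' := sp_nec_c_le_a (Cfsg.Agent.S0245.omegaJ d F)
      (Cfsg.Agent.S0245.omegaJ_alt d F) (Matrix.toLin' x₁.1) (sp_toLin_isom d x₁) r hr2 hq0 hrF
      hT₁r i c hi hc D (2 * a') ha hD σ hσ hT₁1 hx₁rank
    refine ⟨hca, ?_⟩
    -- second element: small fixed space
    have hb1 := Nat.div_add_mod (2 * d) c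
    have hb2 := Nat.mod_lt (2 * d) hc1
    obtain ⟨b, hb⟩ : ∃ b, b = 2 * d / c := ⟨_, rfl⟩
    rw [← hb] at hb1
    have hcb : c * b = 2 * (e * b) := by
      rw [hce]
      ring
    have heb : e * b ≤ d := by omega
    obtain ⟨x₂, hx₂r, hx₂fix⟩ := sp_exists_xb (F := F) r hq0 hrF i c hi hc e he hce b d heb
    have hfix : finrank F (LinearMap.ker (Matrix.toLin' x₂.1 - 1)) ≤ (2 * d) % c := by
      have h1 : 2 * (d - e * b) = (2 * d) % c := by omega
      rw [← h1]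
      exact hx₂fix
    have hx₂1 : x₂ ≠ 1 := by
      intro h1
      rw [h1] at hfix
      have h2 : LinearMap.ker (Matrix.toLin' (1 : Matrix.symplecticGroup (Fin d) F).1 - 1) = ⊤ := by
        have h3 : Matrix.toLin' (1 : Matrix.symplecticGroup (Fin d) F).1 = 1 := Matrix.toLin'_one
        rw [h3, sub_self, LinearMap.ker_zero]
      rw [h2, finrank_top, sp_finrank_std] at hfix
      omega
    obtain ⟨D₂, hD₂, σ₂, hσ₂⟩ := h x₂ ⟨1, by rw [hx₂r, one_smul]; rfl⟩
      (lag_not_scalar d r (by omega) hrodd x₂ hx₂r hx₂1)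
    have hT₂r : (Matrix.toLin' x₂.1) ^ r = 1 := by
      rw [sp_toLin_pow, hx₂r]
      exact Matrix.toLin'_one
    exact sp_nec_mod (Cfsg.Agent.S0245.omegaJ d F) (Cfsg.Agent.S0245.omegaJ_alt d F)
      (Matrix.toLin' x₂.1) (sp_toLin_isom d x₂) r hq0 hrF hT₂r i c hi hc D₂ (2 * a') hD₂ σ₂ hσ₂
      hca hc1 (2 * d) hat hfix
  · rintro ⟨-, hmod⟩ x ⟨z, hz⟩ -
    have hT₀r : (Matrix.toLin' x.1) ^ r = z • (1 : Module.End F (Fin d ⊕ Fin d → F)) := by
      rw [sp_toLin_pow, hz, map_smul, Matrix.toLin'_one]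
      rfl
    -- z * z = 1
    have hzz : z * z = 1 := by
      obtain ⟨u, hu⟩ : ∃ u : Fin d ⊕ Fin d → F, u ≠ 0 := by
        refine ⟨Pi.single (Sum.inl ⟨0, by omega⟩) 1, ?_⟩
        intro h1
        have h2 := congrFun h1 (Sum.inl ⟨0, by omega⟩)
        simp at h2
      obtain ⟨v, hv⟩ : ∃ v, Cfsg.Agent.S0245.omegaJ d F u v ≠ 0 := by
        by_contra hcon
        push Not at hcon
        exact hu (Cfsg.Agent.S0245.omegaJ_nondeg d F u hcon)
      have h1 := sp_isom_pow (Cfsg.Agent.S0245.omegaJ d F) (Matrix.toLin' x.1)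
        (sp_toLin_isom d x) r u v
      rw [hT₀r] at h1
      simp only [LinearMap.smul_apply, Module.End.one_apply, map_smul, smul_eq_mul] at h1
      have h2 : (z * z - 1) * Cfsg.Agent.S0245.omegaJ d F u v = 0 := by
        linear_combination h1
      rcases mul_eq_zero.mp h2 with h3 | h3
      · exact sub_eq_zero.mp h3
      · exact absurd h3 hv
    have hz0 : z ≠ 0 := by
      rintro rfl
      rw [mul_zero] at hzz
      exact zero_ne_one hzz
    have hT : ∀ u v, Cfsg.Agent.S0245.omegaJ d F ((z • Matrix.toLin' x.1) u)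
        ((z • Matrix.toLin' x.1) v) = Cfsg.Agent.S0245.omegaJ d F u v := by
      intro u v
      simp only [LinearMap.smul_apply, map_smul, smul_eq_mul]
      rw [sp_toLin_isom, ← mul_assoc, hzz, one_mul]
    have hTr : (z • Matrix.toLin' x.1) ^ r = 1 := by
      rw [smul_pow, hT₀r, smul_smul, ← pow_succ]
      obtain ⟨k, hk⟩ := hrodd
      have h1 : r + 1 = 2 * (k + 1) := by omega
      rw [h1, pow_mul, pow_two, hzz, one_pow, one_smul]
    obtain ⟨D, hD, hDinv⟩ := sp_suff p f' hF r hpr hr2 i c hi hc a hae t (Fin d ⊕ Fin d → F)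
      (Cfsg.Agent.S0245.omegaJ d F) (Cfsg.Agent.S0245.omegaJ_alt d F)
      (Cfsg.Agent.S0245.omegaJ_nondeg d F) (z • Matrix.toLin' x.1) hT hTr hdimV
      (Or.inl (by rw [← hat]; exact hmod))
    refine ⟨D, hD, 1, fun j => ?_⟩
    rw [Equiv.Perm.one_apply]
    apply el_map_eq (Matrix.toLin' x.1) r hr.ne_zero z hz0 hT₀r (D j)
    intro u hu
    have h1 := (D j).smul_mem z (hDinv j u hu)
    rw [LinearMap.smul_apply, smul_smul, hzz, one_smul] at h1
    exact h1

end spg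

end Cfsg.Agent.Lib.helper24
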