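import Mathlib
import Cfsg.Agent.Lib.helper24.SqF
import Cfsg.Agent.Lib.helper24.SpG

/-!
# Elements of prime order of `Sp_{2d}(q)` and nondegenerate `m`-subspaces: the criterion
-/

set_option autoImplicit false

namespace Cfsg.Agent.Lib.helper24

open Module Matrix Cfsg.Agent.Lib.helper50 Cfsg.Agent.Lib.helper17

universe u

section sqg

variable {F : Type u} [Field F]

theorem sq_scalar (d : ℕ) (hd : 1 ≤ d) (x : Matrix.symplecticGroup (Fin d) F) (r : ℕ) (z : F)
    (hz : (x ^ r).1 = z • (1 : Matrix (Fin d ⊕ Fin d) (Fin d ⊕ Fin d) F)) :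
    (Matrix.toLin' x.1) ^ r = z • (1 : Module.End F (Fin d ⊕ Fin d → F)) ∧ z * z = 1 := by
  have hT₀r : (Matrix.toLin' x.1) ^ r = z • (1 : Module.End F (Fin d ⊕ Fin d → F)) := by
    rw [sp_toLin_pow, hz, map_smul, Matrix.toLin'_one]
    rfl
  refine ⟨hT₀r, ?_⟩
  obtain ⟨u, hu⟩ : ∃ u : Fin d ⊕ Fin d → F, u ≠ 0 := by
    refine ⟨Pi.single (Sum.inl ⟨0, by omega⟩) 1, ?_⟩
    intro h1
    have h2 := congrFun h1 (Sum.inl ⟨0, by omega⟩)
    simp at h2
  obtain ⟨v, hv⟩ : ∃ v, Cfsg.Agent.S0245.omegaJ d F u v ≠ 0 := by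
    by_contra hcon
    push Not at hcon
    exact hu (Cfsg.Agent.S0245.omegaJ_nondeg d F u hcon)
  have h1 := sp_isom_pow (Cfsg.Agent.S0245.omegaJ d F) (Matrix.toLin' x.1)
    (sp_toLin_isom d x) r u v
  rw [hT₀r] at h1
  simp only [LinearMap.smul_apply, Module.End.one_apply, map_smul, smul_eq_mul] at h1
  have h2 : (z * z - 1) * Cfsg.Agent.S0245.omegaJ d F u v = 0 := by
    linear_combination h1
  rcases mul_eq_zero.mp h2 with h3 | h3
  · exact sub_eq_zero.mp h3
  · exact absurd h3 hv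

theorem sq_top_nd (d : ℕ) :
    SpNd (Cfsg.Agent.S0245.omegaJ d F) (⊤ : Submodule F (Fin d ⊕ Fin d → F)) :=
  fun u _ hu => Cfsg.Agent.S0245.omegaJ_nondeg d F u (fun w => hu w Submodule.mem_top)

theorem sq_map_of_smul (d : ℕ) (x : Matrix.symplecticGroup (Fin d) F) (z : F) (hzz : z * z = 1)
    (D : Submodule F (Fin d ⊕ Fin d → F))
    (hD : ∀ u ∈ D, (z • Matrix.toLin' x.1) u ∈ D) : D.map (Matrix.toLin' x.1) ≤ D := by
  rintro _ ⟨u, hu, rfl⟩
  have h1 := D.smul_mem z (hD u hu)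
  rw [LinearMap.smul_apply, smul_smul, hzz, one_smul] at h1
  exact h1

/-- `r = 2 ≠ p`. -/
theorem sq_caseC {p : ℕ} [Fact p.Prime] [CharP F p] (hp2 : p ≠ 2) (d m : ℕ) (hd : 1 ≤ d)
    (hme : Even m) (hmd : m ≤ 2 * d) (x : Matrix.symplecticGroup (Fin d) F) (z : F)
    (hz : (x ^ 2).1 = z • (1 : Matrix (Fin d ⊕ Fin d) (Fin d ⊕ Fin d) F)) :
    ∃ W : Submodule F (Fin d ⊕ Fin d → F), finrank F W = m ∧
      SpNd (Cfsg.Agent.S0245.omegaJ d F) W ∧ W.map (Matrix.toLin' x.1) ≤ W := by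
  have h2 : (2 : F) ≠ 0 := sq_two_ne p hp2
  obtain ⟨hT2, hzz⟩ := sq_scalar d hd x 2 z hz
  have hz' : z = 1 ∨ z = -1 := by
    have h3 : (z - 1) * (z + 1) = 0 := by linear_combination hzz
    rcases mul_eq_zero.mp h3 with h | h
    · left
      exact sub_eq_zero.mp h
    · right
      exact eq_neg_of_add_eq_zero_left h
  have hTT : ∀ v, Matrix.toLin' x.1 (Matrix.toLin' x.1 v) = z • v := by
    intro v
    have h3 := congrArg (fun φ : Module.End F (Fin d ⊕ Fin d → F) => φ v) hT2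
    simpa [pow_two] using h3
  have hT4 : (Matrix.toLin' x.1) ^ 4 = 1 := by
    have h3 : (Matrix.toLin' x.1) ^ 4 = ((Matrix.toLin' x.1) ^ 2) ^ 2 := by
      rw [← pow_mul]
    rw [h3, hT2, smul_pow, one_pow, pow_two, hzz, one_smul]
  obtain ⟨j, hj⟩ := hme
  obtain ⟨D, -, hD, hDinv, hDdim⟩ := sq_inv2 (Cfsg.Agent.S0245.omegaJ d F)
    (Cfsg.Agent.S0245.omegaJ_alt d F) h2 (Matrix.toLin' x.1) (sp_toLin_isom d x) z hz' hTT 4
    (by omega) hT4 j ⊤ (sq_top_nd d) (fun w _ => Submodule.mem_top) (by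
      rw [finrank_top, sp_finrank_std]
      omega)
  refine ⟨D, by rw [hDdim, hj]; ring, hD, ?_⟩
  rintro _ ⟨u, hu, rfl⟩
  exact hDinv u hu

/-- `r = p = 2`. -/
theorem sq_caseB [CharP F 2] (d m : ℕ) (hd : 2 ≤ d) (hme : Even m) (hmd : m < d) :
    (∀ x : Matrix.symplecticGroup (Fin d) F,
      (∃ z : F, (x ^ 2).1 = z • (1 : Matrix (Fin d ⊕ Fin d) (Fin d ⊕ Fin d) F)) →
      (∀ z : F, x.1 ≠ z • (1 : Matrix (Fin d ⊕ Fin d) (Fin d ⊕ Fin d) F)) →
      ∃ W : Submodule F (Fin d ⊕ Fin d → F), finrank F W = m ∧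
        SpNd (Cfsg.Agent.S0245.omegaJ d F) W ∧ W.map (Matrix.toLin' x.1) ≤ W) ↔
    ((2 * d) % 4 = 2 ∨ m % 4 = 0) := by
  have h2 : (2 : F) = 0 := by
    have h3 : ((2 : ℕ) : F) = 0 := CharP.cast_eq_zero F 2
    exact_mod_cast h3
  obtain ⟨j, hj⟩ := hme
  constructor
  · intro h
    by_contra hcond
    push Not at hcond
    have hde : Even d := by
      rcases Nat.even_or_odd d with h3 | ⟨e, he⟩
      · exact h3
      · omega
    obtain ⟨x, hx2, hns, hiso, hβ⟩ := sq_exists_invol (F := F) d hd hde h2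
    obtain ⟨W, hWdim, hWnd, hWinv⟩ := h x ⟨1, by rw [hx2, one_smul]; rfl⟩ hns
    have hTT : ∀ v, Matrix.toLin' x.1 (Matrix.toLin' x.1 v) = v := by
      intro v
      have h3 : (Matrix.toLin' x.1) ^ 2 = 1 := by
        rw [sp_toLin_pow, hx2]
        exact Matrix.toLin'_one
      have h4 := congrArg (fun φ : Module.End F (Fin d ⊕ Fin d → F) => φ v) h3
      simpa [pow_two] using h4
    have hev := sq_c2_nec (Cfsg.Agent.S0245.omegaJ d F) (Cfsg.Agent.S0245.omegaJ_alt d F) h2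
      (Matrix.toLin' x.1) (sp_toLin_isom d x) hTT hiso hβ W hWnd
      (fun w hw => hWinv (Submodule.mem_map_of_mem hw)) j (by rw [hWdim, hj]; ring)
    obtain ⟨a, ha⟩ := hev
    omega
  · intro hcond x ⟨z, hz⟩ _
    obtain ⟨hT2, hzz⟩ := sq_scalar d (by omega) x 2 z hz
    have hz1 : z = 1 := by
      have h3 : (z - 1) * (z - 1) = 0 := by linear_combination hzz - (z - 1) * h2
      rcases mul_eq_zero.mp h3 with h | h <;> exact sub_eq_zero.mp h
    rw [hz1, one_smul] at hT2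
    obtain ⟨D, -, hD, hDinv, hDdim⟩ := sq_c2_suff (Cfsg.Agent.S0245.omegaJ d F)
      (Cfsg.Agent.S0245.omegaJ_alt d F) h2 (Matrix.toLin' x.1) (sp_toLin_isom d x) hT2 (2 * d)
      ⊤ (by rw [finrank_top, sp_finrank_std]) (sq_top_nd d) (fun w _ => Submodule.mem_top) j
      (by rw [finrank_top, sp_finrank_std]; omega) (by
        rw [finrank_top, sp_finrank_std]
        rcases hcond with h | h
        · right
          exact h
        · left
          exact ⟨m / 4, by omega⟩)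
    refine ⟨D, by rw [hDdim, hj]; ring, hD, ?_⟩
    rintro _ ⟨u, hu, rfl⟩
    exact hDinv u hu

/-- `r = p > 2`. -/
theorem sq_caseA {p : ℕ} [Fact p.Prime] [CharP F p] (hp2 : p ≠ 2) (d m : ℕ) (hd : 2 ≤ d)
    (hme : Even m) (hmd : m < d) :
    (∀ x : Matrix.symplecticGroup (Fin d) F,
      (∃ z : F, (x ^ p).1 = z • (1 : Matrix (Fin d ⊕ Fin d) (Fin d ⊕ Fin d) F)) →
      (∀ z : F, x.1 ≠ z • (1 : Matrix (Fin d ⊕ Fin d) (Fin d ⊕ Fin d) F)) →
      ∃ W : Submodule F (Fin d ⊕ Fin d → F), finrank F W = m ∧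
        SpNd (Cfsg.Agent.S0245.omegaJ d F) W ∧ W.map (Matrix.toLin' x.1) ≤ W) ↔
    (∀ μ : Multiset ℕ, (∀ a ∈ μ, 0 < a ∧ a ≤ p) → (∀ a : ℕ, Odd a → Even (μ.count a)) →
      μ.sum = 2 * d → ∃ ν : Multiset ℕ, ν ≤ μ ∧ ν.sum = m ∧ ∀ a : ℕ, Odd a → Even (ν.count a)) := by
  have hpp : p.Prime := Fact.out
  have h2 : (2 : F) ≠ 0 := sq_two_ne p hp2
  have hpodd : Odd p := hpp.odd_of_ne_two hp2
  constructor
  · intro h μ hparts hcount hsum
    have hreal := sq_real_all (F := F) p hp2 (Multiset.card μ) μ rfl hparts hcount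
    obtain ⟨g, hgp, hgker⟩ := sq_real_sp p μ hreal (fun a ha => (hparts a ha).2) d hsum
    have hTp : (Matrix.toLin' g.1) ^ p = 1 := by
      rw [sp_toLin_pow, hgp]
      exact Matrix.toLin'_one
    by_cases hsc : ∃ z : F, g.1 = z • (1 : Matrix (Fin d ⊕ Fin d) (Fin d ⊕ Fin d) F)
    · obtain ⟨z, hz⟩ := hsc
      have hT1 : Matrix.toLin' g.1 - 1 = (z - 1) • (1 : Module.End F (Fin d ⊕ Fin d → F)) := by
        rw [hz, map_smul, Matrix.toLin'_one]
        apply LinearMap.ext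
        intro u
        simp only [LinearMap.sub_apply, LinearMap.smul_apply, LinearMap.id_coe, id_eq,
          Module.End.one_apply, sub_smul, one_smul]
      have hkk : LinearMap.ker ((Matrix.toLin' g.1 - 1) ^ 1) =
          LinearMap.ker ((Matrix.toLin' g.1 - 1) ^ 2) := by
        rw [hT1]
        by_cases hz1 : z - 1 = 0
        · rw [hz1, zero_smul, pow_one, zero_pow (by omega)]
        · ext u
          have hk : ∀ n : ℕ, (((z - 1) • (1 : Module.End F (Fin d ⊕ Fin d → F))) ^ n) u =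
              (z - 1) ^ n • u := by
            intro n
            rw [smul_pow, one_pow, LinearMap.smul_apply, Module.End.one_apply]
          rw [LinearMap.mem_ker, LinearMap.mem_ker, hk, hk, smul_eq_zero, smul_eq_zero]
          constructor
          · rintro (h | h)
            · exact absurd h (pow_ne_zero 1 hz1)
            · exact Or.inr h
          · rintro (h | h)
            · exact absurd h (pow_ne_zero 2 hz1)
            · exact Or.inr h
      have h12 : (μ.map (fun b => min 1 b)).sum = (μ.map (fun b => min 2 b)).sum := by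
        rw [← hgker 1, ← hgker 2, hkk]
      have hle := sq_D12 μ h12
      have hall : ∀ b ∈ μ, b = 1 := by
        intro b hb
        have h3 := hle b hb
        have h4 := (hparts b hb).1
        omega
      have hrep := Multiset.eq_replicate_card.mpr hall
      have hcard : Multiset.card μ = 2 * d := by
        rw [hrep, Multiset.sum_replicate, smul_eq_mul, mul_one] at hsum
        exact hsum
      refine ⟨Multiset.replicate m 1, ?_, ?_, ?_⟩
      · rw [hrep, Multiset.replicate_le_replicate]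
        omega
      · rw [Multiset.sum_replicate, smul_eq_mul, mul_one]
      · intro a _
        rw [Multiset.count_replicate]
        split_ifs
        · exact hme
        · exact Even.zero
    · push Not at hsc
      obtain ⟨W, hWdim, hWnd, hWinv⟩ := h g ⟨1, by rw [hgp, one_smul]; rfl⟩ hsc
      obtain ⟨ν, hν1, hν2, hν3⟩ := sq_type_sub (Cfsg.Agent.S0245.omegaJ d F)
        (Cfsg.Agent.S0245.omegaJ_alt d F) (Cfsg.Agent.S0245.omegaJ_nondeg d F) h2
        (Matrix.toLin' g.1) (sp_toLin_isom d g) p hTp μ (fun a ha => (hparts a ha).1) hgker W hWnd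
        (fun w hw => hWinv (Submodule.mem_map_of_mem hw))
      exact ⟨ν, hν1, by rw [hν2, hWdim], hν3⟩
  · intro h x ⟨z, hz⟩ _
    obtain ⟨hT₀r, hzz⟩ := sq_scalar d (by omega) x p z hz
    have hT : ∀ u v, Cfsg.Agent.S0245.omegaJ d F ((z • Matrix.toLin' x.1) u)
        ((z • Matrix.toLin' x.1) v) = Cfsg.Agent.S0245.omegaJ d F u v := by
      intro u v
      simp only [LinearMap.smul_apply, map_smul, smul_eq_mul]
      rw [sp_toLin_isom, ← mul_assoc, hzz, one_mul]
    have hTp : (z • Matrix.toLin' x.1) ^ p = 1 := by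
      rw [smul_pow, hT₀r, smul_smul, ← pow_succ]
      obtain ⟨k, hk⟩ := hpodd
      have h1 : p + 1 = 2 * (k + 1) := by omega
      rw [h1, pow_mul, pow_two, hzz, one_pow, one_smul]
    have hNp := sq_unip p (z • Matrix.toLin' x.1) hTp
    obtain ⟨μ, hμ1, hμ2, hμ3, hμ4⟩ := sq_struct (Cfsg.Agent.S0245.omegaJ d F)
      (Cfsg.Agent.S0245.omegaJ_alt d F) h2 (z • Matrix.toLin' x.1) hT p hpp.one_le hTp p hNp
      (2 * d) ⊤ (by rw [finrank_top, sp_finrank_std]) (sq_top_nd d)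
      (fun w _ => Submodule.mem_top)
    have hμsum : μ.sum = 2 * d := by
      have h3 := hμ3 p
      rw [sq_D_top μ p (fun a ha => (hμ1 a ha).2), hNp, LinearMap.ker_zero, top_inf_eq,
        finrank_top, sp_finrank_std] at h3
      exact h3.symm
    obtain ⟨ν, hν1, hν2, hν3⟩ := h μ hμ1 hμ2 hμsum
    obtain ⟨D, -, hD, hDinv, hDdim⟩ := hμ4 ν hν1 hν3
    exact ⟨D, by rw [hDdim, hν2], hD, sq_map_of_smul d x z hzz D hDinv⟩

/-- `r ≠ p` odd. -/
theorem sq_caseD [Fintype F] {p : ℕ} [Fact p.Prime] [CharP F p] (d m : ℕ) (hd : 2 ≤ d)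
    (hm : 2 ≤ m) (hme : Even m) (hmd : m < d) (r : ℕ) [Fact r.Prime] (hr2 : r ≠ 2) (hrp : r ≠ p)
    (hrΩ : r ∣ Nat.card {W : Submodule F (Fin d ⊕ Fin d → F) //
      finrank F W = m ∧ SpNd (Cfsg.Agent.S0245.omegaJ d F) W})
    (i c : ℕ) (hi : i = orderOf ((Fintype.card F : ℕ) : ZMod r))
    (hc : c = if Even i then i else 2 * i) :
    (∀ x : Matrix.symplecticGroup (Fin d) F,
      (∃ z : F, (x ^ r).1 = z • (1 : Matrix (Fin d ⊕ Fin d) (Fin d ⊕ Fin d) F)) →
      (∀ z : F, x.1 ≠ z • (1 : Matrix (Fin d ⊕ Fin d) (Fin d ⊕ Fin d) F)) →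
      ∃ W : Submodule F (Fin d ⊕ Fin d → F), finrank F W = m ∧
        SpNd (Cfsg.Agent.S0245.omegaJ d F) W ∧ W.map (Matrix.toLin' x.1) ≤ W) ↔
    (c ≤ m ∧ m % c ≤ (2 * d) % c) := by
  have hr : r.Prime := Fact.out
  have hp : p.Prime := Fact.out
  obtain ⟨f', -, hF⟩ := FiniteField.card F p
  have hpr : p.Coprime r := (Nat.coprime_primes hp hr).mpr (Ne.symm hrp)
  have hq0 : ((Fintype.card F : ℕ) : ZMod r) ≠ 0 := el_card_ne_zero p f' hF r hpr
  have hrF : ((r : ℕ) : F) ≠ 0 := el_natCast_ne_zero p f' hF r hpr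
  have hrodd : Odd r := hr.odd_of_ne_two hr2
  have hi1 : 1 ≤ i := by
    rw [hi]
    exact sp_order_pos r hq0
  have hcev : Even c := by
    rw [hc]
    split_ifs with h
    · exact h
    · exact even_two_mul i
  have hc1 : 1 ≤ c := by
    rw [hc]
    split_ifs with h
    · exact hi1
    · omega
  obtain ⟨e, hce'⟩ := hcev
  have hce : c = 2 * e := by omega
  have he : 1 ≤ e := by omega
  have hrq : ¬ r ∣ Fintype.card F := by
    rwa [← ZMod.natCast_eq_zero_iff]
  constructor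
  · intro h
    obtain ⟨k, hk⟩ := hme
    have hk2 : m = 2 * k := by omega
    subst hk2
    obtain ⟨e', rfl⟩ : ∃ e', d = k + e' := ⟨d - k, by omega⟩
    obtain ⟨j, hj1, hj2, hj3⟩ := sq_count_arith k e' r hrq hrΩ
    have hcdvd : c ∣ 2 * j := by
      have hle : 1 ≤ Fintype.card F ^ (2 * j) := Nat.one_le_pow _ _ Fintype.card_pos
      have h6 := (ZMod.natCast_eq_zero_iff _ _).mpr hj3
      rw [Nat.cast_sub hle, Nat.cast_pow, Nat.cast_one, sub_eq_zero] at h6
      have h7 : i ∣ 2 * j := by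
        rw [hi]
        exact orderOf_dvd_of_pow_eq_one h6
      rw [hc]
      split_ifs with hev
      · exact h7
      · have hodd : Odd i := Nat.not_even_iff_odd.mp hev
        have h9 : i ∣ j := Nat.Coprime.dvd_of_dvd_mul_left (Nat.coprime_two_right.mpr hodd) h7
        exact Nat.mul_dvd_mul_left 2 h9
    have hcd : c ≤ 2 * (k + e') := by
      have h3 := Nat.le_of_dvd (by omega) hcdvd
      omega
    have hb1 := Nat.div_add_mod (2 * (k + e')) c
    have hb2 := Nat.mod_lt (2 * (k + e')) hc1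
    obtain ⟨b, hb⟩ : ∃ b, b = 2 * (k + e') / c := ⟨_, rfl⟩
    rw [← hb] at hb1
    have hcb : c * b = 2 * (e * b) := by
      rw [hce]
      ring
    have heb : e * b ≤ k + e' := by omega
    obtain ⟨x₂, hx₂r, hx₂fix⟩ := sp_exists_xb (F := F) r hq0 hrF i c hi hc e he hce b (k + e') heb
    have hfix : finrank F (LinearMap.ker (Matrix.toLin' x₂.1 - 1)) ≤ (2 * (k + e')) % c := by
      have h1 : 2 * (k + e' - e * b) = (2 * (k + e')) % c := by omega
      rw [← h1]
      exact hx₂fix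
    have hx₂1 : x₂ ≠ 1 := by
      intro h1
      rw [h1] at hfix
      have h2 : LinearMap.ker (Matrix.toLin' (1 : Matrix.symplecticGroup (Fin (k + e')) F).1 - 1)
          = ⊤ := by
        have h3 : Matrix.toLin' (1 : Matrix.symplecticGroup (Fin (k + e')) F).1 = 1 :=
          Matrix.toLin'_one
        rw [h3, sub_self, LinearMap.ker_zero]
      rw [h2, finrank_top, sp_finrank_std] at hfix
      omega
    obtain ⟨W, hWdim, hWnd, hWinv⟩ := h x₂ ⟨1, by rw [hx₂r, one_smul]; rfl⟩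
      (lag_not_scalar (k + e') r (by omega) hrodd x₂ hx₂r hx₂1)
    have hT₂r : (Matrix.toLin' x₂.1) ^ r = 1 := by
      rw [sp_toLin_pow, hx₂r]
      exact Matrix.toLin'_one
    have hdvd := sp_dvd_rel (Cfsg.Agent.S0245.omegaJ (k + e') F)
      (Cfsg.Agent.S0245.omegaJ_alt (k + e') F) (Matrix.toLin' x₂.1) (sp_toLin_isom (k + e') x₂) r
      hq0 hrF hT₂r i c hi hc W hWnd (fun w hw => hWinv (Submodule.mem_map_of_mem hw))
    have hf1 : finrank F ↥(LinearMap.ker (Matrix.toLin' x₂.1 - 1) ⊓ W) ≤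
        finrank F (LinearMap.ker (Matrix.toLin' x₂.1 - 1)) := Submodule.finrank_mono inf_le_left
    have hf2 : finrank F ↥(LinearMap.ker (Matrix.toLin' x₂.1 - 1) ⊓ W) ≤ finrank F W :=
      Submodule.finrank_mono inf_le_right
    obtain ⟨f, hf⟩ : ∃ f, f = finrank F ↥(LinearMap.ker (Matrix.toLin' x₂.1 - 1) ⊓ W) :=
      ⟨_, rfl⟩
    rw [← hf] at hdvd hf1 hf2
    rw [hWdim] at hdvd hf2
    obtain ⟨s, hs⟩ := hdvd
    have hms : 2 * k = f + c * s := by omega
    have hmod : (2 * k) % c = f := by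
      rw [hms, Nat.add_mul_mod_self_left, Nat.mod_eq_of_lt (by omega)]
    have hmodle : (2 * k) % c ≤ (2 * (k + e')) % c := by omega
    refine ⟨?_, hmodle⟩
    by_contra hcon
    have hlt : 2 * k < c := by omega
    rw [Nat.mod_eq_of_lt hlt] at hmodle
    obtain ⟨s', hs'⟩ := hcdvd
    have h10 : c * b < c * s' := by omega
    have h11 : c * s' < c * (b + 1) := by
      rw [Nat.mul_succ]
      omega
    have h12 : b < s' := Nat.lt_of_mul_lt_mul_left h10
    have h13 : s' < b + 1 := Nat.lt_of_mul_lt_mul_left h11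
    omega
  · rintro ⟨-, hmod⟩ x ⟨z, hz⟩ -
    obtain ⟨hT₀r, hzz⟩ := sq_scalar d (by omega) x r z hz
    have hT : ∀ u v, Cfsg.Agent.S0245.omegaJ d F ((z • Matrix.toLin' x.1) u)
        ((z • Matrix.toLin' x.1) v) = Cfsg.Agent.S0245.omegaJ d F u v := by
      intro u v
      simp only [LinearMap.smul_apply, map_smul, smul_eq_mul]
      rw [sp_toLin_isom, ← mul_assoc, hzz, one_mul]
    have hTr : (z • Matrix.toLin' x.1) ^ r = 1 := by
      rw [smul_pow, hT₀r, smul_smul, ← pow_succ]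
      obtain ⟨k, hk⟩ := hrodd
      have h1 : r + 1 = 2 * (k + 1) := by omega
      rw [h1, pow_mul, pow_two, hzz, one_pow, one_smul]
    obtain ⟨D, hD, hDinv, hDdim⟩ := sp_exists_inv_nd (Cfsg.Agent.S0245.omegaJ d F)
      (Cfsg.Agent.S0245.omegaJ_alt d F) (Cfsg.Agent.S0245.omegaJ_nondeg d F)
      (z • Matrix.toLin' x.1) hT p f' hF r hpr hr2 hTr i c hi hc m hme
      (by rw [sp_finrank_std]; omega) (Or.inl (by rw [sp_finrank_std]; exact hmod))
    exact ⟨D, hDdim, hD, sq_map_of_smul d x z hzz D hDinv⟩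

/-- The criterion for nondegenerate `m`-subspaces. -/
theorem sq_main [Fintype F] {p : ℕ} [Fact p.Prime] [CharP F p] (d m : ℕ) (hd : 2 ≤ d)
    (hm : 2 ≤ m) (hme : Even m) (hmd : m < d) (r : ℕ) [Fact r.Prime]
    (hrΩ : r ∣ Nat.card {W : Submodule F (Fin d ⊕ Fin d → F) //
      finrank F W = m ∧ SpNd (Cfsg.Agent.S0245.omegaJ d F) W})
    (i c : ℕ) (hi : i = orderOf ((Fintype.card F : ℕ) : ZMod r))
    (hc : c = if Even i then i else 2 * i) :
    (∀ x : Matrix.symplecticGroup (Fin d) F,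
      (∃ z : F, (x ^ r).1 = z • (1 : Matrix (Fin d ⊕ Fin d) (Fin d ⊕ Fin d) F)) →
      (∀ z : F, x.1 ≠ z • (1 : Matrix (Fin d ⊕ Fin d) (Fin d ⊕ Fin d) F)) →
      ∃ W : Submodule F (Fin d ⊕ Fin d → F), finrank F W = m ∧
        SpNd (Cfsg.Agent.S0245.omegaJ d F) W ∧ W.map (Matrix.toLin' x.1) ≤ W) ↔
    ((r = p ∧ 2 < p ∧ (∀ μ : Multiset ℕ, (∀ a ∈ μ, 0 < a ∧ a ≤ p) →
        (∀ a : ℕ, Odd a → Even (μ.count a)) → μ.sum = 2 * d →
        ∃ ν : Multiset ℕ, ν ≤ μ ∧ ν.sum = m ∧ ∀ a : ℕ, Odd a → Even (ν.count a))) ∨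
     (r = p ∧ p = 2 ∧ ((2 * d) % 4 = 2 ∨ m % 4 = 0)) ∨
     (r = 2 ∧ p ≠ 2) ∨
     (r ≠ p ∧ 2 < r ∧ c ≤ m ∧ m % c ≤ (2 * d) % c)) := by
  have hr : r.Prime := Fact.out
  have hp : p.Prime := Fact.out
  by_cases hrp : r = p
  · subst hrp
    by_cases hr2 : r = 2
    · subst hr2
      rw [sq_caseB d m hd hme hmd]
      constructor
      · intro h
        exact Or.inr (Or.inl ⟨rfl, rfl, h⟩)
      · rintro (⟨-, h, -⟩ | ⟨-, -, h⟩ | ⟨-, h⟩ | ⟨h, -⟩)
        · omega
        · exact h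
        · exact absurd rfl h
        · exact absurd rfl h
    · rw [sq_caseA hr2 d m hd hme hmd]
      have hr3 : 2 < r := by
        have := hr.two_le
        omega
      constructor
      · intro h
        exact Or.inl ⟨rfl, hr3, h⟩
      · rintro (⟨-, -, h⟩ | ⟨-, h, -⟩ | ⟨h, -⟩ | ⟨h, -⟩)
        · exact h
        · exact absurd h hr2
        · exact absurd h hr2
        · exact absurd rfl h
  · by_cases hr2 : r = 2
    · subst hr2
      have hp2 : p ≠ 2 := fun h => hrp h.symm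
      constructor
      · intro _
        exact Or.inr (Or.inr (Or.inl ⟨rfl, hp2⟩))
      · intro _ x ⟨z, hz⟩ _
        exact sq_caseC hp2 d m (by omega) hme (by omega) x z hz
    · rw [sq_caseD d m hd hm hme hmd r hr2 hrp hrΩ i c hi hc]
      have hr3 : 2 < r := by
        have := hr.two_le
        omega
      constructor
      · intro h
        exact Or.inr (Or.inr (Or.inr ⟨hrp, hr3, h⟩))
      · rintro (⟨h, -⟩ | ⟨h, -⟩ | ⟨h, -⟩ | ⟨-, -, h⟩)
        · exact absurd h hrp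
        · exact absurd h hrp
        · exact absurd h hr2
        · exact h

end sqg

end Cfsg.Agent.Lib.helper24
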