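import Mathlib
import Cfsg.Agent.Lib.helper24.SroDefs
import Cfsg.Agent.Lib.helper42.FormsNondeg

/-! S5989 split, piece REAL: realisation of semisimple elements of odd prime order in `Ω(Q)` for
an even-dimensional nondegenerate quadratic form `Q` of given type. -/

set_option autoImplicit false
set_option linter.unusedSectionVars false
set_option linter.unusedVariables false
set_option linter.style.haveILetI false
set_option linter.deprecated false

namespace Cfsg.Agent.Lib.helper24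

open Module Cfsg.Agent.Lib.helper45 Cfsg.Agent.Lib.helper49

universe u

section sroreal

variable {F : Type u} [Field F] [Fintype F]

/-- The value distribution of the whole space. -/
theorem sro_nu_top {V : Type u} [AddCommGroup V] [Module F V] (Q : QuadraticForm F V) :
    srNu Q ⊤ = fun a : F => Nat.card {v : V // Q v = a} := by
  funext a
  unfold srNu
  apply Nat.card_congr
  exact Equiv.subtypeEquiv (Submodule.topEquiv (R := F) (M := V)).toEquiv (fun w => Iff.rfl)

/-- Two nondegenerate quadratic spaces of the same even dimension with the same value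
distribution parameter are isometric. -/
theorem sro_unif_iso {V₁ V₂ : Type u} [AddCommGroup V₁] [Module F V₁] [FiniteDimensional F V₁]
    [AddCommGroup V₂] [Module F V₂] [FiniteDimensional F V₂]
    (Q₁ : QuadraticForm F V₁) (Q₂ : QuadraticForm F V₂)
    (h1 : ∀ v, (∀ w, QuadraticMap.polar Q₁ v w = 0) → v = 0)
    (h2 : ∀ v, (∀ w, QuadraticMap.polar Q₂ v w = 0) → v = 0) (n : ℕ)
    (hd1 : finrank F V₁ = 2 * n) (hd2 : finrank F V₂ = 2 * n) (s : ℤ)
    (hu1 : Unif s (fun a : F => Nat.card {v : V₁ // Q₁ v = a}))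
    (hu2 : Unif s (fun a : F => Nat.card {v : V₂ // Q₂ v = a})) :
    ∃ φ : V₁ ≃ₗ[F] V₂, ∀ v, Q₂ (φ v) = Q₁ v := by
  have hne : ((Fintype.card F : ℤ)) ^ n ≠ -(Fintype.card F : ℤ) ^ n := by
    intro h
    have h0 : (Fintype.card F : ℤ) ^ n = 0 := by linarith
    have h3 : (Fintype.card F : ℤ) ≠ 0 := by exact_mod_cast Fintype.card_ne_zero
    exact (pow_ne_zero n h3) h0
  rcases witt_class Q₁ h1 n hd1 with ⟨ha, T₁, hT₁⟩ | ⟨ha, k₁, hk₁, hT₁⟩
  · rcases witt_class Q₂ h2 n hd2 with ⟨hb, T₂, hT₂⟩ | ⟨hb, k₂, hk₂, hT₂⟩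
    · refine ⟨T₁.trans T₂.symm, fun v => ?_⟩
      have h3 := hT₂ (T₂.symm (T₁ v))
      rw [LinearEquiv.apply_symm_apply, hT₁] at h3
      exact h3.symm
    · exfalso
      have e1 := Unif.unique ha hu1
      have e2 := Unif.unique hb hu2
      exact hne (e1.trans e2.symm)
  · rcases witt_class Q₂ h2 n hd2 with ⟨hb, T₂, hT₂⟩ | ⟨hb, k₂, hk₂, hT₂⟩
    · exfalso
      have e1 := Unif.unique ha hu1
      have e2 := Unif.unique hb hu2
      exact hne (e2.trans e1.symm)
    · have hk : k₁ = k₂ := by omega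
      subst hk
      obtain ⟨a, c, hac⟩ := exists_aniso F
      obtain ⟨T₁, hT₁⟩ := hT₁ a c hac
      obtain ⟨T₂, hT₂⟩ := hT₂ a c hac
      refine ⟨T₁.trans T₂.symm, fun v => ?_⟩
      have h3 := hT₂ (T₂.symm (T₁ v))
      rw [LinearEquiv.apply_symm_apply, hT₁] at h3
      exact h3.symm

/-- Standard models of both types in every even dimension. -/
theorem sro_model (δ : ℤ) (hδ : δ = 1 ∨ δ = -1) (s' : ℕ) (hs : δ = -1 → 1 ≤ s') :
    ∃ (K : Type u) (_ : AddCommGroup K) (_ : Module F K) (_ : FiniteDimensional F K)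
      (QK : QuadraticForm F K), (∀ v, (∀ w, QuadraticMap.polar QK v w = 0) → v = 0) ∧
      finrank F K = 2 * s' ∧
      Unif (δ * (Fintype.card F : ℤ) ^ s') (fun a : F => Nat.card {v : K // QK v = a}) := by
  rcases hδ with rfl | rfl
  · refine ⟨Fin s' ⊕ Fin s' → F, inferInstance, inferInstance, inferInstance, plusForm s' F,
      forall_of_nondegenerate _ (Cfsg.Agent.Lib.helper42.plusForm_nondegenerate s'), ?_, ?_⟩
    · rw [Module.finrank_fintype_fun_eq_card, Fintype.card_sum, Fintype.card_fin]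
      omega
    · rw [one_mul]
      exact unif_plus_std s'
  · have hs1 := hs rfl
    obtain ⟨a, c, hac⟩ := exists_aniso F
    obtain ⟨k, hk⟩ : ∃ k, s' = k + 1 := ⟨s' - 1, by omega⟩
    refine ⟨(Fin k ⊕ Fin k) ⊕ Fin 2 → F, inferInstance, inferInstance, inferInstance,
      minusForm k F a c,
      forall_of_nondegenerate _ (Cfsg.Agent.Lib.helper42.minusForm_nondegenerate k a c hac), ?_, ?_⟩
    · rw [Module.finrank_fintype_fun_eq_card, Fintype.card_sum, Fintype.card_sum, Fintype.card_fin,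
        Fintype.card_fin]
      omega
    · rw [hk, neg_one_mul]
      exact unif_minus_std k a c hac

/-- A fixed-point-free isometry of order `r` of a nondegenerate quadratic space of dimension
`c * A`. -/
theorem sro_free_model (h2 : (2 : F) ≠ 0) (p f' : ℕ) [Fact p.Prime]
    (hF : Fintype.card F = p ^ f') (r : ℕ) [Fact r.Prime] (hpr : p.Coprime r) (hr2 : r ≠ 2)
    (i c : ℕ) (hi : i = orderOf ((Fintype.card F : ℕ) : ZMod r))
    (hc : c = if Even i then i else 2 * i) (A : ℕ) :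
    ∃ (R : Type u) (_ : AddCommGroup R) (_ : Module F R) (_ : FiniteDimensional F R)
      (Qs : QuadraticForm F R) (Ts : Module.End F R),
      (∀ v, (∀ w, QuadraticMap.polar Qs v w = 0) → v = 0) ∧ (∀ v, Qs (Ts v) = Qs v) ∧
      Ts ^ r = 1 ∧ LinearMap.ker (Ts - 1) = ⊥ ∧ finrank F R = c * A := by
  classical
  have hr : r.Prime := Fact.out
  have hq0 := el_card_ne_zero p f' hF r hpr
  have hrF := el_natCast_ne_zero (F := F) p f' hF r hpr
  have hrodd : Odd r := hr.odd_of_ne_two hr2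
  have hcev : Even c := sr_c_even p f' hF r hpr hr2 i c hi hc
  have hc1 := srf_c_pos p f' hF r hpr hr2 i c hi hc
  obtain ⟨e, he⟩ := hcev
  have hce : c = 2 * e := by omega
  have he1 : 1 ≤ e := by omega
  obtain ⟨x, hxr, hxk⟩ := sp_exists_xb r hq0 hrF i c hi hc e he1 hce A (e * A) le_rfl
  obtain ⟨Ts, hTs⟩ : ∃ Ts : Module.End F (Fin (e * A) ⊕ Fin (e * A) → F),
      Ts = Matrix.toLin' x.1 := ⟨_, rfl⟩
  have hTsr : Ts ^ r = 1 := by
    rw [hTs, sp_toLin_pow, hxr]
    exact Matrix.toLin'_one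
  have hker0 : LinearMap.ker (Ts - 1) = ⊥ := by
    rw [hTs]
    apply Submodule.finrank_eq_zero.mp
    omega
  obtain ⟨Ts', hTs'⟩ : ∃ Ts' : Module.End F (Fin (e * A) ⊕ Fin (e * A) → F),
      Ts' = Ts ^ (r - 1) := ⟨_, rfl⟩
  have hTT' : Ts * Ts' = 1 := by rw [hTs', ← pow_succ', Nat.sub_add_cancel hr.one_le, hTsr]
  have hT'T : Ts' * Ts = 1 := by rw [hTs', ← pow_succ, Nat.sub_add_cancel hr.one_le, hTsr]
  obtain ⟨B, hB⟩ : ∃ B : (Fin (e * A) ⊕ Fin (e * A) → F) →ₗ[F]
      (Fin (e * A) ⊕ Fin (e * A) → F) →ₗ[F] F, B = Cfsg.Agent.S0245.omegaJ (e * A) F := ⟨_, rfl⟩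
  have hBiso : ∀ u v, B (Ts u) (Ts v) = B u v := by
    rw [hB, hTs]
    exact sp_toLin_isom (e * A) x
  have hBalt : ∀ v, B v v = 0 := by
    rw [hB]
    exact Cfsg.Agent.S0245.omegaJ_alt (e * A) F
  have hBnd : ∀ v, (∀ w, B v w = 0) → v = 0 := by
    rw [hB]
    exact Cfsg.Agent.S0245.omegaJ_nondeg (e * A) F
  have hBskew := sp_skew B hBalt
  have hBT' : ∀ u v, B (Ts' u) v = B u (Ts v) := by
    intro u v
    rw [← hBiso (Ts' u) v, sq_inv_apply Ts Ts' hTT']
  have hBT : ∀ u v, B (Ts u) v = B u (Ts' v) := by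
    intro u v
    rw [← hBiso u (Ts' v), sq_inv_apply Ts Ts' hTT']
  obtain ⟨ωs, hωs⟩ : ∃ ωs : (Fin (e * A) ⊕ Fin (e * A) → F) →ₗ[F]
      (Fin (e * A) ⊕ Fin (e * A) → F) →ₗ[F] F, ωs = B.comp (Ts - Ts') := ⟨_, rfl⟩
  have hωsa : ∀ u v, ωs u v = B (Ts u) v - B (Ts' u) v := by
    intro u v
    rw [hωs, LinearMap.comp_apply, LinearMap.sub_apply, map_sub, LinearMap.sub_apply]
  have hsyms : ∀ u v, ωs u v = ωs v u := by
    intro u v
    rw [hωsa, hωsa, hBT u v, hBT' u v, hBskew u (Ts' v), hBskew u (Ts v)]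
    ring
  have hnds : ∀ v, (∀ w, ωs v w = 0) → v = 0 := by
    intro v hv
    have h1 : Ts v - Ts' v = 0 := by
      apply hBnd
      intro w
      have := hv w
      rw [hωsa] at this
      rw [map_sub, LinearMap.sub_apply]
      exact this
    have h3 := sr_inj Ts Ts' hTT' r hrodd hTsr v h1
    have h4 : v ∈ LinearMap.ker (Ts - 1) := by
      rw [LinearMap.mem_ker, LinearMap.sub_apply, h3, Module.End.one_apply, sub_self]
    rw [hker0] at h4
    exact (Submodule.mem_bot F).mp h4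
  have hisos : ∀ u v, ωs (Ts u) (Ts v) = ωs u v := by
    intro u v
    rw [hωsa, hωsa, hBiso, sq_inv_apply Ts' Ts hT'T, hBT' u v]
  obtain ⟨Qs, hQs⟩ : ∃ Qs : QuadraticForm F (Fin (e * A) ⊕ Fin (e * A) → F),
      Qs = LinearMap.BilinMap.toQuadraticMap ((2⁻¹ : F) • ωs) := ⟨_, rfl⟩
  have hQsa : ∀ v, Qs v = 2⁻¹ * ωs v v := by
    intro v
    rw [hQs, LinearMap.BilinMap.toQuadraticMap_apply, LinearMap.smul_apply, LinearMap.smul_apply,
      smul_eq_mul]
  have hpol : ∀ u v, QuadraticMap.polar Qs u v = ωs u v := by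
    intro u v
    rw [hQs, LinearMap.BilinMap.polar_toQuadraticMap, LinearMap.smul_apply, LinearMap.smul_apply,
      LinearMap.smul_apply, LinearMap.smul_apply, smul_eq_mul, smul_eq_mul, hsyms v u]
    field_simp
    ring
  refine ⟨_, inferInstance, inferInstance, inferInstance, Qs, Ts, ?_, ?_, hTsr, hker0, ?_⟩
  · intro v hv
    apply hnds v
    intro w
    rw [← hpol]
    exact hv w
  · intro v
    rw [hQsa, hQsa, hisos]
  · rw [Module.finrank_fintype_fun_eq_card, Fintype.card_sum, Fintype.card_fin, hce]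
    ring

/-- Realisation: an element of order `r` of `Ω(Q)` (`Q` nondegenerate of even dimension `2n'`
and type `ε`) whose fixed space has dimension `2n' mod c`. -/
theorem sro_real {ι : Type} [Fintype ι] [DecidableEq ι] (h2 : (2 : F) ≠ 0) (p f' : ℕ)
    [Fact p.Prime] (hF : Fintype.card F = p ^ f') (r : ℕ) [Fact r.Prime] (hpr : p.Coprime r)
    (hr2 : r ≠ 2) (i c : ℕ) (hi : i = orderOf ((Fintype.card F : ℕ) : ZMod r))
    (hc : c = if Even i then i else 2 * i)
    (Q : QuadraticForm F (ι → F)) (hnd : ∀ v, (∀ w, QuadraticMap.polar Q v w = 0) → v = 0)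
    (n' : ℕ) (hn' : 1 ≤ n') (hι : Fintype.card ι = 2 * n') (ε : ℤ) (hε : ε = 1 ∨ ε = -1)
    (hty : Unif (ε * (Fintype.card F : ℤ) ^ n') (fun a : F => Nat.card {v : ι → F // Q v = a}))
    (hcn : c ≤ 2 * n')
    (hk0 : (2 * n') % c = 0 →
      ((ε : ℤ) : ZMod r) * ((Fintype.card F : ℕ) : ZMod r) ^ n' = 1) :
    ∃ g : GL ι F, g ∈ Cfsg.Geo.omegaGL ⇑Q ∧ g ^ r = 1 ∧
      finrank F (LinearMap.ker (Matrix.toLin' (g : Matrix ι ι F) - 1)) = (2 * n') % c := by
  classical
  have hr : r.Prime := Fact.out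
  have hq0 := el_card_ne_zero p f' hF r hpr
  have hcev : Even c := sr_c_even p f' hF r hpr hr2 i c hi hc
  have hc1 := srf_c_pos p f' hF r hpr hr2 i c hi hc
  obtain ⟨e, he⟩ := hcev
  have hce : c = 2 * e := by omega
  obtain ⟨A, hA⟩ : ∃ A, A = (2 * n') / c := ⟨_, rfl⟩
  obtain ⟨s, hs⟩ : ∃ s, s = (2 * n') % c := ⟨_, rfl⟩
  have hdiv : c * A + s = 2 * n' := by
    rw [hA, hs]
    exact Nat.div_add_mod _ _
  rw [← hs] at hk0 ⊢
  have hcA : c * A = 2 * (e * A) := by rw [hce]; ring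
  obtain ⟨s', hs'⟩ : ∃ s', s = 2 * s' := ⟨n' - e * A, by omega⟩
  have hn'eq : n' = e * A + s' := by omega
  obtain ⟨R, _, _, _, Qs, Ts, hQsnd, hQsT, hTsr, hker0, hRdim⟩ :=
    sro_free_model h2 p f' hF r hpr hr2 i c hi hc A
  have hTopnd : SpNd (QuadraticMap.polarBilin Qs) ⊤ := by
    intro u _ hu
    apply hQsnd u
    intro w
    have := hu w Submodule.mem_top
    rwa [QuadraticMap.polarBilin_apply_apply] at this
  obtain ⟨δ, hδ, hRty, hδq⟩ := sr_ty_free Qs Ts hQsT p f' hF r hpr hr2 hTsr ⊤ hTopnd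
    (fun _ _ => Submodule.mem_top) (by rw [hker0, bot_inf_eq]) (e * A)
    (by rw [finrank_top, hRdim, hcA])
  have hRu : Unif (δ * (Fintype.card F : ℤ) ^ (e * A))
      (fun a : F => Nat.card {v : R // Qs v = a}) := by
    have h3 := hRty
    unfold SrTy at h3
    rw [sro_nu_top, finrank_top, hRdim, hcA, Nat.mul_div_cancel_left _ (by norm_num)] at h3
    exact h3
  have hδK : δ * ε = 1 ∨ δ * ε = -1 := by
    rcases hδ with rfl | rfl <;> rcases hε with rfl | rfl <;> simp
  have hsK : δ * ε = -1 → 1 ≤ s' := by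
    intro hneg
    by_contra h0
    have hs0 : s = 0 := by omega
    have h3 := hk0 hs0
    have hn : n' = e * A := by omega
    rw [hn] at h3
    have hqinv : ((Fintype.card F : ℕ) : ZMod r) ^ (e * A) ≠ 0 := pow_ne_zero _ hq0
    have h4 : ((δ : ℤ) : ZMod r) = ((ε : ℤ) : ZMod r) := by
      apply mul_right_cancel₀ hqinv
      rw [hδq, h3]
    have h5 := sr_pm_eq r hr2 δ ε hδ hε h4
    rw [h5] at hneg
    rcases hε with rfl | rfl <;> norm_num at hneg
  obtain ⟨K, _, _, _, QK, hQKnd, hKdim, hKu⟩ := sro_model (F := F) (δ * ε) hδK s' hsK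
  obtain ⟨Q', hQ'⟩ : ∃ Q' : QuadraticForm F (R × K), Q' = Qs.prod QK := ⟨_, rfl⟩
  have hQ'a : ∀ v : R × K, Q' v = Qs v.1 + QK v.2 := by
    intro v
    rw [hQ']
    rfl
  have hpol' : ∀ u v : R × K, QuadraticMap.polar Q' u v =
      QuadraticMap.polar Qs u.1 v.1 + QuadraticMap.polar QK u.2 v.2 := by
    intro u v
    unfold QuadraticMap.polar
    rw [hQ'a, hQ'a, hQ'a]
    simp only [Prod.fst_add, Prod.snd_add]
    ring
  have hQ'nd : ∀ v, (∀ w, QuadraticMap.polar Q' v w = 0) → v = 0 := by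
    intro v hv
    have h1 : v.1 = 0 := by
      apply hQsnd
      intro w
      have := hv (w, 0)
      rw [hpol'] at this
      simpa using this
    have h3 : v.2 = 0 := by
      apply hQKnd
      intro w
      have := hv (0, w)
      rw [hpol'] at this
      simpa using this
    exact Prod.ext h1 h3
  haveI : Finite R := Module.finite_of_finite F
  haveI : Finite K := Module.finite_of_finite F
  have hQ'u : Unif (ε * (Fintype.card F : ℤ) ^ n')
      (fun a : F => Nat.card {v : R × K // Q' v = a}) := by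
    have h5 := Unif.conv hRu hKu
    have h6 : (fun a : F => Nat.card {v : R × K // Q' v = a}) =
        vconv (fun a : F => Nat.card {v : R // Qs v = a})
          (fun a : F => Nat.card {v : K // QK v = a}) := by
      funext a
      unfold vconv
      rw [← card_prod_fiber (fun v : R => Qs v) (fun v : K => QK v) a]
      apply Nat.card_congr
      exact Equiv.subtypeEquiv (Equiv.refl _) (fun v => by rw [hQ'a]; rfl)
    rw [h6]
    have h7 : δ * (Fintype.card F : ℤ) ^ (e * A) * (δ * ε * (Fintype.card F : ℤ) ^ s') =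
        ε * (Fintype.card F : ℤ) ^ n' := by
      rw [hn'eq, pow_add]
      have hδ2 : δ * δ = 1 := by rcases hδ with rfl | rfl <;> norm_num
      linear_combination (ε * (Fintype.card F : ℤ) ^ (e * A) * (Fintype.card F : ℤ) ^ s') * hδ2
    rw [← h7]
    exact h5
  have hdim' : finrank F (R × K) = 2 * n' := by
    rw [Module.finrank_prod, hRdim, hKdim]
    omega
  have hdimι : finrank F (ι → F) = 2 * n' := by
    rw [Module.finrank_fintype_fun_eq_card, hι]
  obtain ⟨φ, hφ⟩ := sro_unif_iso Q' Q hQ'nd hnd n' hdim' hdimι _ hQ'u hty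
  obtain ⟨T', hT'⟩ : ∃ T' : Module.End F (R × K), T' = LinearMap.prodMap Ts 1 := ⟨_, rfl⟩
  have hT'iso : ∀ v, Q' (T' v) = Q' v := by
    intro v
    rw [hQ'a, hQ'a, hT']
    simp only [LinearMap.prodMap_apply, Module.End.one_apply]
    rw [hQsT]
  have hT'r : T' ^ r = 1 := by
    rw [hT', prodMap_pow, hTsr, one_pow]
    exact LinearMap.prodMap_one
  have hkerT' : finrank F (LinearMap.ker (T' - 1)) = s := by
    have hsub : T' - 1 = LinearMap.prodMap (Ts - 1) (0 : Module.End F K) := by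
      rw [hT']
      apply LinearMap.ext
      rintro ⟨a, b⟩
      simp
    rw [hsub, sq_ker_prod, hker0, finrank_bot, LinearMap.ker_zero, finrank_top, hKdim, zero_add,
      hs']
  obtain ⟨g, hgΩ, hgr, hgker⟩ := sr_transfer Q (nondegenerate_of_forall Q hnd)
    (by rw [hι]; omega) h2 r hr hr2 (QuadraticMap.polarBilin Q') T'
    (sr_iso_bilin Q' T' hT'iso) hT'r φ (by
      intro v
      rw [hφ, QuadraticMap.polarBilin_apply_apply, QuadraticMap.polar_self, two_nsmul]
      ring)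
  refine ⟨g, hgΩ, hgr, ?_⟩
  have h9 := hgker 1
  rw [pow_one, pow_one] at h9
  rw [h9, hkerT']

end sroreal

end Cfsg.Agent.Lib.helper24
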