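import Mathlib
import Cfsg.Agent.Lib.helper24.SroDefs
import Cfsg.Agent.Lib.helper13.SroEMB

/-! S5989 split, piece SUFF. -/

set_option autoImplicit false
set_option linter.unusedSectionVars false
set_option linter.unusedVariables false
set_option linter.style.haveILetI false

namespace Cfsg.Agent.Lib.helper24

open Module Cfsg.Agent.Lib.helper45 Cfsg.Agent.Lib.helper49

universe u

section srosuff

variable {F : Type u} [Field F] [Fintype F]

/-- Sufficiency for an isometry `T` of odd prime order `r ≠ p`: `W = M ⊥ W_K` with `M ≤ [V,T]`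
invariant nondegenerate of dimension `c * b` and `W_K ≤ C_V(T)`. -/
theorem sro_suff {V V₀ : Type u} [AddCommGroup V] [Module F V] [FiniteDimensional F V]
    [AddCommGroup V₀] [Module F V₀] [FiniteDimensional F V₀]
    (Q : QuadraticForm F V) (hnd : ∀ v, (∀ w, QuadraticMap.polar Q v w = 0) → v = 0)
    (T : Module.End F V) (hT : ∀ v, Q (T v) = Q v)
    (p f' : ℕ) [Fact p.Prime] (hF : Fintype.card F = p ^ f') (r : ℕ) [Fact r.Prime]
    (hpr : p.Coprime r) (hr2 : r ≠ 2) (hTr : T ^ r = 1)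
    (i c : ℕ) (hi : i = orderOf ((Fintype.card F : ℕ) : ZMod r))
    (hc : c = if Even i then i else 2 * i) (h2 : (2 : F) ≠ 0)
    (Q₀ : QuadraticForm F V₀) (W₀ : Submodule F V₀) (hW₀ : SpNd (QuadraticMap.polarBilin Q₀) W₀)
    (hm : Odd (finrank F W₀))
    (b : ℕ) (hb : c * b ≤ finrank F (LinearMap.range (T - 1))) (hb1 : c * b < finrank F W₀)
    (hb2 : finrank F W₀ - c * b < finrank F (LinearMap.ker (T - 1))) :
    ∃ W : Submodule F V, SrIsoTo Q W Q₀ W₀ ∧ ∀ w ∈ W, T w ∈ W := by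
  have hr : r.Prime := Fact.out
  have hrF := el_natCast_ne_zero (F := F) p f' hF r hpr
  have hcev : Even c := sr_c_even p f' hF r hpr hr2 i c hi hc
  obtain ⟨e₀, he₀⟩ := hcev
  obtain ⟨m, hmdef⟩ : ∃ m, m = finrank F W₀ := ⟨_, rfl⟩
  rw [← hmdef] at hb1 hb2
  have hm' : Odd m := by rw [hmdef]; exact hm
  obtain ⟨M, hMR, hMnd, hMinv, hMdim⟩ :=
    sr_inv_nd Q hnd T hT p f' hF r hpr hr2 hTr i c hi hc b hb
  have hKnd := sr_K_nd Q hnd T hT r hTr hrF
  have hKR := sr_KR_bot T r hTr hrF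
  have hKfix : ∀ k ∈ LinearMap.ker (T - 1), T k = k := by
    intro k hk
    rw [LinearMap.mem_ker, LinearMap.sub_apply, Module.End.one_apply, sub_eq_zero] at hk
    exact hk
  have hcb : c * b = 2 * (e₀ * b) := by rw [he₀]; ring
  obtain ⟨e', he'⟩ : ∃ e', m - c * b = 2 * e' + 1 := by
    obtain ⟨m₁, hm₁⟩ := hm'
    exact ⟨m₁ - e₀ * b, by omega⟩
  obtain ⟨W', hW'K, hW'nd, -, hW'dim, hW'ty⟩ := sr_exists_plus Q h2 1 (fun v => rfl) (one_mul 1) e'
    (LinearMap.ker (T - 1)) hKnd (fun x hx => hx) (by omega)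
  have horthMW : ∀ u ∈ M, ∀ v ∈ LinearMap.ker (T - 1), QuadraticMap.polar Q u v = 0 := by
    intro u hu v hv
    rw [QuadraticMap.polar_comm]
    exact sr_KR_orth Q T hT v hv u (hMR hu)
  have horthMW' : ∀ u ∈ M, ∀ v ∈ W', QuadraticMap.polarBilin Q u v = 0 := by
    intro u hu v hv
    rw [QuadraticMap.polarBilin_apply_apply]
    exact horthMW u hu v (hW'K hv)
  obtain ⟨hNnd, hNdim⟩ := so_sum (QuadraticMap.polarBilin Q) (sr_sym Q) M W' hMnd hW'nd horthMW'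
  obtain ⟨δ, hδ, hMty⟩ : ∃ δ : ℤ, (δ = 1 ∨ δ = -1) ∧ SrTy Q M δ := by
    rcases sr_ty_or Q M hMnd (e₀ * b) (by rw [hMdim, hcb]) with h | h
    · exact ⟨1, Or.inl rfl, h⟩
    · exact ⟨-1, Or.inr rfl, h⟩
  have hdis : M ⊓ W' = ⊥ := by
    rw [eq_bot_iff, ← hKR]
    intro x hx
    rw [Submodule.mem_inf] at hx ⊢
    exact ⟨hW'K hx.2, hMR hx.1⟩
  have hNty : SrTy Q (M ⊔ W') (δ * 1) := sr_ty_sum Q M W'
    (fun u hu v hv => horthMW u hu v (hW'K hv)) hdis δ 1 hMty hW'ty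
    (by rw [hMdim, hcb]; exact even_two_mul _) (by rw [hW'dim]; exact even_two_mul _)
  obtain ⟨hYnd, hYsup, hYinf, hYdim⟩ := so_rel (QuadraticMap.polarBilin Q) (sr_sym Q)
    (LinearMap.ker (T - 1)) W' hKnd hW'nd hW'K
  have horthNY : ∀ u ∈ M ⊔ W', ∀ v ∈ spPerp (QuadraticMap.polarBilin Q) W' ⊓
      LinearMap.ker (T - 1), QuadraticMap.polar Q u v = 0 := by
    intro u hu v hv
    obtain ⟨a, ha, w, hw, rfl⟩ := Submodule.mem_sup.mp hu
    obtain ⟨hv1, hv2⟩ := Submodule.mem_inf.mp hv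
    rw [QuadraticMap.polar_add_left, horthMW a ha v hv2, zero_add]
    have := hv1 w hw
    rwa [QuadraticMap.polarBilin_apply_apply] at this
  obtain ⟨v, hvY, hv0, hiso⟩ := sro_glue Q Q₀ h2 W₀ hW₀ hm (M ⊔ W')
    (spPerp (QuadraticMap.polarBilin Q) W' ⊓ LinearMap.ker (T - 1)) hNnd (by omega) (δ * 1)
    (by rcases hδ with rfl | rfl <;> simp) hNty hYnd (by omega) horthNY
  refine ⟨(M ⊔ W') ⊔ Submodule.span F {v}, hiso, ?_⟩
  intro w hw
  obtain ⟨n, hn, s, hs, rfl⟩ := Submodule.mem_sup.mp hw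
  obtain ⟨a, ha, w', hw', rfl⟩ := Submodule.mem_sup.mp hn
  obtain ⟨t, rfl⟩ := Submodule.mem_span_singleton.mp hs
  rw [map_add, map_add, map_smul, hKfix w' (hW'K hw'), hKfix v (Submodule.mem_inf.mp hvY).2]
  exact Submodule.add_mem _ (Submodule.mem_sup_left (Submodule.add_mem _
    (Submodule.mem_sup_left (hMinv a ha)) (Submodule.mem_sup_right hw')))
    (Submodule.mem_sup_right (Submodule.smul_mem _ _ (Submodule.subset_span rfl)))

end srosuff

end Cfsg.Agent.Lib.helper24
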