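import Mathlib
import Cfsg.Agent.Lib.helper24.SroDefs
import Cfsg.Agent.Lib.helper24.SroReal
import Cfsg.Agent.Lib.helper24.SroSuff
import Cfsg.Agent.Lib.helper13.SroEMB
import Cfsg.Agent.Lib.helper57.SroISO
import Cfsg.Agent.Lib.helper57.SroNEG
import Cfsg.Agent.Lib.helper77.SroINV
import Cfsg.Agent.Lib.helper99.SroCNT
import Cfsg.Agent.Lib.helper99.SroUNIP
import Cfsg.Agent.Lib.helper4.SroOM
import Cfsg.Agent.Lib.helper42.FormsNondeg

/-! S5989 / S5991 split: the assembly. -/

set_option autoImplicit false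
set_option linter.unusedSectionVars false
set_option linter.unusedVariables false
set_option linter.style.haveILetI false
set_option linter.deprecated false

namespace Cfsg.Agent.Lib.helper24

open Module Cfsg.Agent.Lib.helper45 Cfsg.Agent.Lib.helper49

universe u

section sromain

variable {F : Type u} [Field F] [Fintype F]

theorem sro_iso_of_mem {ι : Type} [Fintype ι] [DecidableEq ι] (Q : QuadraticForm F (ι → F))
    (x : GL ι F) (hx : x ∈ Cfsg.Geo.omegaGL ⇑Q) :
    ∀ u : ι → F, Q (Matrix.toLin' (x : Matrix ι ι F) u) = Q u := by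
  intro u
  obtain ⟨y, hyΩ, hyx⟩ := Subgroup.mem_map.mp hx
  rw [Matrix.toLin'_apply, ← hyx]
  exact y.2 u u

theorem sro_scalar {ι : Type} [Fintype ι] [DecidableEq ι] (Q : QuadraticForm F (ι → F))
    (hv : ∃ v, Q v ≠ 0) (x : GL ι F) (hx : x ∈ Cfsg.Geo.omegaGL ⇑Q) (k : ℕ) (z : F)
    (hz : ((x ^ k : GL ι F) : Matrix ι ι F) = z • (1 : Matrix ι ι F)) : z * z = 1 := by
  obtain ⟨v, hv⟩ := hv
  have hxk : x ^ k ∈ Cfsg.Geo.omegaGL ⇑Q := Subgroup.pow_mem _ hx k
  have h1 := sro_iso_of_mem Q (x ^ k) hxk v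
  rw [hz, Matrix.toLin'_apply, Matrix.smul_mulVec, Matrix.one_mulVec, QuadraticMap.map_smul,
    smul_eq_mul] at h1
  have h3 : (z * z - 1) * Q v = 0 := by linear_combination h1
  rcases mul_eq_zero.mp h3 with h | h
  · linear_combination h
  · exact absurd h hv

theorem sro_exists_ne {ι : Type} [Fintype ι] [DecidableEq ι] (Q : QuadraticForm F (ι → F))
    (hnd : ∀ v, (∀ w, QuadraticMap.polar Q v w = 0) → v = 0) (hι : 0 < Fintype.card ι) :
    ∃ v, Q v ≠ 0 := by
  by_contra hcon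
  have hall : ∀ v : ι → F, Q v = 0 := by
    intro v
    by_contra h
    exact hcon ⟨v, h⟩
  have h0 : ∀ v : ι → F, v = 0 := by
    intro v
    apply hnd v
    intro w
    unfold QuadraticMap.polar
    rw [hall, hall, hall]
    ring
  obtain ⟨j⟩ := Fintype.card_pos_iff.mp hι
  have h1 := congrFun (h0 (Pi.single j 1)) j
  rw [Pi.single_eq_same] at h1
  exact one_ne_zero h1

theorem sro_conv {ι : Type} [Fintype ι] (Q : QuadraticForm F (ι → F))
    (W₀ : Submodule F (ι → F)) (m : ℕ)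
    (hW₀ : finrank F W₀ = m ∧ Cfsg.Geo.IsNondegenerateOn (QuadraticMap.polar ⇑Q) W₀)
    (W : Submodule F (ι → F)) :
    (finrank F W = m ∧ Cfsg.Geo.IsNondegenerateOn (QuadraticMap.polar ⇑Q) W ∧
      Cfsg.Geo.AreIsometricFor ⇑Q W W₀) ↔ SrIsoTo Q W Q W₀ := by
  constructor
  · rintro ⟨-, -, h⟩
    exact h
  · intro h
    obtain ⟨h1, h3⟩ := sro_iso_nd Q W Q W₀ h ((sro_ndOn Q W₀).mp hW₀.2)
    exact ⟨by rw [h3, hW₀.1], (sro_ndOn Q W).mpr h1, h⟩

/-- The criterion for odd primes `r ≠ p` (even-dimensional space of type `ε`, odd `m`). -/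
theorem sro_odd_main {ι : Type} [Fintype ι] [DecidableEq ι] (h2 : (2 : F) ≠ 0) (p f' : ℕ)
    [Fact p.Prime] (hF : Fintype.card F = p ^ f') (r : ℕ) [Fact r.Prime] (hpr : p.Coprime r)
    (hr2 : r ≠ 2) (i c : ℕ) (hi : i = orderOf ((Fintype.card F : ℕ) : ZMod r))
    (hc : c = if Even i then i else 2 * i)
    (Q : QuadraticForm F (ι → F)) (hnd : ∀ v, (∀ w, QuadraticMap.polar Q v w = 0) → v = 0)
    (d : ℕ) (hd : 1 ≤ d) (hι : Fintype.card ι = 2 * d) (ε : ℤ) (hε : ε = 1 ∨ ε = -1)
    (hty : Unif (ε * (Fintype.card F : ℤ) ^ d) (fun a : F => Nat.card {v : ι → F // Q v = a}))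
    (m : ℕ) (hm : Odd m) (hmd : m < d) (W₀ : Submodule F (ι → F))
    (hW₀ : finrank F W₀ = m ∧ Cfsg.Geo.IsNondegenerateOn (QuadraticMap.polar ⇑Q) W₀)
    (hrΩ : r ∣ Nat.card {W : Submodule F (ι → F) // finrank F W = m ∧
      Cfsg.Geo.IsNondegenerateOn (QuadraticMap.polar ⇑Q) W ∧
      Cfsg.Geo.AreIsometricFor ⇑Q W W₀}) :
    (∀ x : GL ι F, x ∈ Cfsg.Geo.omegaGL ⇑Q →
      (∃ z : F, ((x ^ r : GL ι F) : Matrix ι ι F) = z • (1 : Matrix ι ι F)) →
      (∀ z : F, (x : Matrix ι ι F) ≠ z • (1 : Matrix ι ι F)) →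
      ∃ W : Submodule F (ι → F), (finrank F W = m ∧
        Cfsg.Geo.IsNondegenerateOn (QuadraticMap.polar ⇑Q) W ∧
        Cfsg.Geo.AreIsometricFor ⇑Q W W₀) ∧
        W.map (Matrix.toLin' (x : Matrix ι ι F)) ≤ W) ↔
    (((2 * d) % c = 0 ∧ ((ε : ℤ) : ZMod r) * ((Fintype.card F : ℕ) : ZMod r) ^ d ≠ 1) ∨
      (c ≤ m ∧ m % c < (2 * d) % c)) := by
  classical
  have hr : r.Prime := Fact.out
  have hq0 := el_card_ne_zero p f' hF r hpr
  have hrF := el_natCast_ne_zero (F := F) p f' hF r hpr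
  have hcev : Even c := sr_c_even p f' hF r hpr hr2 i c hi hc
  have hc1 := srf_c_pos p f' hF r hpr hr2 i c hi hc
  obtain ⟨e, he⟩ := hcev
  obtain ⟨m', hm'⟩ := hm
  have hdimV : finrank F (ι → F) = 2 * d := by rw [Module.finrank_fintype_fun_eq_card, hι]
  have hW₀nd := (sro_ndOn Q W₀).mp hW₀.2
  have hW₀odd : Odd (finrank F W₀) := by rw [hW₀.1]; exact ⟨m', hm'⟩
  obtain ⟨A, hA⟩ : ∃ A, A = (2 * d) / c := ⟨_, rfl⟩
  obtain ⟨k, hk⟩ : ∃ k, k = (2 * d) % c := ⟨_, rfl⟩
  have hdiv : c * A + k = 2 * d := by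
    rw [hA, hk]
    exact Nat.div_add_mod _ _
  have hkc : k < c := by
    rw [hk]
    exact Nat.mod_lt _ (by omega)
  obtain ⟨μ, hμ⟩ : ∃ μ, μ = m / c := ⟨_, rfl⟩
  obtain ⟨ρ, hρ⟩ : ∃ ρ, ρ = m % c := ⟨_, rfl⟩
  have hdivm : c * μ + ρ = m := by
    rw [hμ, hρ]
    exact Nat.div_add_mod _ _
  have hρc : ρ < c := by
    rw [hρ]
    exact Nat.mod_lt _ (by omega)
  rw [← hk, ← hρ]
  have hkev : k % 2 = 0 := by
    have h5 : c * A = 2 * (e * A) := by rw [he]; ring
    omega
  have hρodd : ρ % 2 = 1 := by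
    have h5 : c * μ = 2 * (e * μ) := by rw [he]; ring
    omega
  have hv : ∃ v, Q v ≠ 0 := sro_exists_ne Q hnd (by rw [hι]; omega)
  have hconv := sro_conv Q W₀ m hW₀
  constructor
  · intro H
    by_contra hRHS
    push Not at hRHS
    obtain ⟨hR1, hR2⟩ := hRHS
    by_cases hA3 : m < c ∧ m < k
    · have hcard : Nat.card {W : Submodule F (ι → F) // SrIsoTo Q W Q W₀} =
          Nat.card {W : Submodule F (ι → F) // finrank F W = m ∧
            Cfsg.Geo.IsNondegenerateOn (QuadraticMap.polar ⇑Q) W ∧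
            Cfsg.Geo.AreIsometricFor ⇑Q W W₀} :=
        Nat.card_congr (Equiv.subtypeEquivRight (fun W => (hconv W).symm))
      have h3 := sro_count h2 p f' hF r hpr hr2 i c hi hc Q W₀ hW₀nd hW₀odd
        (by rw [hW₀.1]; exact hA3.1) (2 * d) (ι → F) Q hnd hdimV (by rw [hcard]; exact hrΩ)
      rw [← hk, hW₀.1] at h3
      omega
    · have hc2d : c ≤ 2 * d := by
        by_contra hlt
        have h5 : k = 2 * d := by
          rw [hk]
          exact Nat.mod_eq_of_lt (by omega)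
        omega
      obtain ⟨g, hgΩ, hgr, hgker⟩ := sro_real h2 p f' hF r hpr hr2 i c hi hc Q hnd d hd hι ε hε
        hty hc2d (by rw [← hk]; exact hR1)
      rw [← hk] at hgker
      have hgns : ∀ z : F, (g : Matrix ι ι F) ≠ z • (1 : Matrix ι ι F) := by
        intro z hz
        have hzz : z * z = 1 := sro_scalar Q hv g hgΩ 1 z (by rw [pow_one]; exact hz)
        have hlin : Matrix.toLin' (g : Matrix ι ι F) - 1 =
            (z - 1) • (1 : Module.End F (ι → F)) := by
          rw [hz]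
          apply LinearMap.ext
          intro v
          rw [LinearMap.sub_apply, Matrix.toLin'_apply, Matrix.smul_mulVec, Matrix.one_mulVec,
            LinearMap.smul_apply, Module.End.one_apply, sub_smul, one_smul]
        by_cases hz1 : z = 1
        · rw [hlin, hz1, sub_self, zero_smul, LinearMap.ker_zero, finrank_top, hdimV] at hgker
          omega
        · have hzm : z = -1 := by
            have h5 : (z - 1) * (z + 1) = 0 := by linear_combination hzz
            rcases mul_eq_zero.mp h5 with h | h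
            · exact absurd (sub_eq_zero.mp h) hz1
            · linear_combination h
          have h5 : ((g ^ r : GL ι F) : Matrix ι ι F) = (z ^ r) • (1 : Matrix ι ι F) := by
            rw [Units.val_pow_eq_pow_val, hz, smul_pow, one_pow]
          rw [hgr, Units.val_one, hzm, Odd.neg_one_pow (hr.odd_of_ne_two hr2)] at h5
          obtain ⟨j⟩ := Fintype.card_pos_iff.mp (by rw [hι]; omega : 0 < Fintype.card ι)
          have h6 := congrFun (congrFun h5 j) j
          rw [Matrix.smul_apply, Matrix.one_apply_eq, smul_eq_mul, mul_one] at h6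
          exact h2 (by linear_combination h6)
      obtain ⟨W, hWP, hWinv⟩ := H g hgΩ ⟨1, by rw [hgr, one_smul]; rfl⟩ hgns
      have hWiso := (hconv W).mp hWP
      obtain ⟨hWnd, hWdim⟩ := sro_iso_nd Q W Q W₀ hWiso hW₀nd
      rw [hW₀.1] at hWdim
      obtain ⟨T, hTdef⟩ : ∃ T : Module.End F (ι → F), T = Matrix.toLin' (g : Matrix ι ι F) :=
        ⟨_, rfl⟩
      rw [← hTdef] at hgker hWinv
      have hT : ∀ v, Q (T v) = Q v := by
        rw [hTdef]
        exact sro_iso_of_mem Q g hgΩ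
      have hTr : T ^ r = 1 := by
        rw [hTdef, so_toLin_pow, ← Units.val_pow_eq_pow_val, hgr, Units.val_one, Matrix.toLin'_one]
        rfl
      have hWinv' : ∀ w ∈ W, T w ∈ W := fun w hw => hWinv (Submodule.mem_map_of_mem hw)
      obtain ⟨a, b, hab, hak, -⟩ := sr_nec Q hnd T hT p f' hF r hpr hr2 hTr i c hi hc W hWnd
        hWinv'
      rw [hWdim] at hab
      rw [hgker] at hak
      have haρ : a = ρ := by
        have h5 : (a + c * b) % c = a := by
          rw [Nat.add_mul_mod_self_left]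
          exact Nat.mod_eq_of_lt (by omega)
        rw [hab] at h5
        rw [hρ, h5]
      have hρk : ρ < k := by omega
      have hcm : c ≤ m := by
        by_contra hlt
        have hlt' : m < c := by omega
        have h5 : ρ = m := by
          rw [hρ]
          exact Nat.mod_eq_of_lt hlt'
        exact hA3 ⟨hlt', by omega⟩
      have h9 := hR2 hcm
      omega
  · intro hRHS x hx hxr hxns
    obtain ⟨z, hz⟩ := hxr
    have hzz : z * z = 1 := sro_scalar Q hv x hx r z hz
    obtain ⟨T, hTdef⟩ : ∃ T : Module.End F (ι → F),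
        T = z • Matrix.toLin' (x : Matrix ι ι F) := ⟨_, rfl⟩
    have hxiso := sro_iso_of_mem Q x hx
    have hT : ∀ v, Q (T v) = Q v := by
      intro v
      rw [hTdef, LinearMap.smul_apply, QuadraticMap.map_smul, hxiso, hzz, smul_eq_mul, one_mul]
    have hzr : z ^ r * z = 1 := by
      obtain ⟨t, ht⟩ := hr.odd_of_ne_two hr2
      rw [ht, ← pow_succ, show 2 * t + 1 + 1 = 2 * (t + 1) by ring, pow_mul, pow_two, hzz, one_pow]
    have hTr : T ^ r = 1 := by
      rw [hTdef, smul_pow, so_toLin_pow, ← Units.val_pow_eq_pow_val, hz]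
      apply LinearMap.ext
      intro v
      rw [LinearMap.smul_apply, Matrix.toLin'_apply, Matrix.smul_mulVec, Matrix.one_mulVec,
        smul_smul, hzr, one_smul]
      rfl
    have hinvT : ∀ (W : Submodule F (ι → F)), (∀ w ∈ W, T w ∈ W) →
        W.map (Matrix.toLin' (x : Matrix ι ι F)) ≤ W := by
      intro W hW
      rintro _ ⟨w, hw, rfl⟩
      have h5 := hW w hw
      rw [hTdef, LinearMap.smul_apply] at h5
      have h6 := W.smul_mem z h5
      rw [smul_smul, hzz, one_smul] at h6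
      exact h6
    have hT1 : T ≠ 1 := by
      intro h1
      apply hxns z
      have h5 : Matrix.toLin' (x : Matrix ι ι F) = z • (1 : Module.End F (ι → F)) := by
        have h6 : z • T = Matrix.toLin' (x : Matrix ι ι F) := by
          rw [hTdef, smul_smul, hzz, one_smul]
        rw [← h6, h1]
      have h6 := congrArg LinearMap.toMatrix' h5
      rw [LinearMap.toMatrix'_toLin'] at h6
      rw [h6, map_smul]
      congr 1
      exact LinearMap.toMatrix'_one
    have hKR := sr_KR_bot T r hTr hrF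
    have hRnd := sr_R_nd Q hnd T hT r hTr hrF
    obtain ⟨a₀, ha₀⟩ := sr_dvd Q hnd T hT p f' hF r hpr hr2 hTr i c hi hc
      (LinearMap.range (T - 1)) hRnd (sr_R_inv T) hKR
    have hrn := LinearMap.finrank_range_add_finrank_ker (T - 1)
    rw [hdimV, ha₀] at hrn
    obtain ⟨κ, hκ⟩ : ∃ κ, κ = finrank F (LinearMap.ker (T - 1)) := ⟨_, rfl⟩
    rw [← hκ] at hrn
    have hkκ : κ % c = k := by
      have h5 : (κ + c * a₀) % c = κ % c := Nat.add_mul_mod_self_left _ _ _
      have h6 : κ + c * a₀ = 2 * d := by omega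
      rw [h6, ← hk] at h5
      exact h5.symm
    have hκbig : ρ < κ := by
      rcases hRHS with ⟨hk0, hne⟩ | ⟨hcm, hρk⟩
      · have hκ0 : κ ≠ 0 := by
          intro h0
          have hkerbot : LinearMap.ker (T - 1) = ⊥ :=
            Submodule.finrank_eq_zero.mp (by rw [← hκ]; exact h0)
          have hTopnd : SpNd (QuadraticMap.polarBilin Q) ⊤ := by
            intro u _ hu
            apply hnd u
            intro w
            have := hu w Submodule.mem_top
            rwa [QuadraticMap.polarBilin_apply_apply] at this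
          obtain ⟨δ, hδ, hδty, hδq⟩ := sr_ty_free Q T hT p f' hF r hpr hr2 hTr ⊤ hTopnd
            (fun _ _ => Submodule.mem_top) (by rw [hkerbot, bot_inf_eq]) d
            (by rw [finrank_top, hdimV])
          unfold SrTy at hδty
          rw [sro_nu_top, finrank_top, hdimV, Nat.mul_div_cancel_left _ (by norm_num)] at hδty
          have h7 := Unif.unique hδty hty
          have hq : (Fintype.card F : ℤ) ^ d ≠ 0 :=
            pow_ne_zero _ (by exact_mod_cast Fintype.card_ne_zero)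
          have h8 : δ = ε := mul_right_cancel₀ hq h7
          rw [h8] at hδq
          exact hne hδq
        have h5 : c ∣ κ := Nat.dvd_of_mod_eq_zero (by rw [hkκ]; exact hk0)
        have h6 := Nat.le_of_dvd (by omega) h5
        omega
      · have h5 := Nat.mod_le κ c
        omega
    have key : ∃ b, c * b ≤ finrank F (LinearMap.range (T - 1)) ∧ c * b < finrank F W₀ ∧
        finrank F W₀ - c * b < finrank F (LinearMap.ker (T - 1)) := by
      rw [ha₀, ← hκ, hW₀.1]
      by_cases hle : μ ≤ a₀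
      · refine ⟨μ, Nat.mul_le_mul_left c hle, ?_, ?_⟩ <;> omega
      · have h5 : c * a₀ < c * μ := (Nat.mul_lt_mul_left (by omega : 0 < c)).mpr (by omega)
        refine ⟨a₀, le_rfl, ?_, ?_⟩ <;> omega
    obtain ⟨b, hb, hb1, hb2⟩ := key
    obtain ⟨W, hWiso, hWinv⟩ := sro_suff Q hnd T hT p f' hF r hpr hr2 hTr i c hi hc h2 Q W₀
      hW₀nd hW₀odd b hb hb1 hb2
    exact ⟨W, (hconv W).mpr hWiso, hinvT W hWinv⟩

/-- The criterion for `r = 2`: no element of `Ω(Q)` with square `-1`. -/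
theorem sro_two_main {ι : Type} [Fintype ι] [DecidableEq ι] (h2 : (2 : F) ≠ 0)
    (Q : QuadraticForm F (ι → F)) (hnd : ∀ v, (∀ w, QuadraticMap.polar Q v w = 0) → v = 0)
    (d : ℕ) (hd : 1 ≤ d) (hι : Fintype.card ι = 2 * d)
    (m : ℕ) (hm : Odd m) (hmd : m < d) (W₀ : Submodule F (ι → F))
    (hW₀ : finrank F W₀ = m ∧ Cfsg.Geo.IsNondegenerateOn (QuadraticMap.polar ⇑Q) W₀) :
    (∀ x : GL ι F, x ∈ Cfsg.Geo.omegaGL ⇑Q →
      (∃ z : F, ((x ^ 2 : GL ι F) : Matrix ι ι F) = z • (1 : Matrix ι ι F)) →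
      (∀ z : F, (x : Matrix ι ι F) ≠ z • (1 : Matrix ι ι F)) →
      ∃ W : Submodule F (ι → F), (finrank F W = m ∧
        Cfsg.Geo.IsNondegenerateOn (QuadraticMap.polar ⇑Q) W ∧
        Cfsg.Geo.AreIsometricFor ⇑Q W W₀) ∧
        W.map (Matrix.toLin' (x : Matrix ι ι F)) ≤ W) ↔
    ¬ ∃ x : GL ι F, x ∈ Cfsg.Geo.omegaGL ⇑Q ∧ (x : Matrix ι ι F) * (x : Matrix ι ι F) = -1 := by
  classical
  have hdimV : finrank F (ι → F) = 2 * d := by rw [Module.finrank_fintype_fun_eq_card, hι]
  have hW₀nd := (sro_ndOn Q W₀).mp hW₀.2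
  have hW₀odd : Odd (finrank F W₀) := by rw [hW₀.1]; exact hm
  have hv : ∃ v, Q v ≠ 0 := sro_exists_ne Q hnd (by rw [hι]; omega)
  have hconv := sro_conv Q W₀ m hW₀
  obtain ⟨j⟩ := Fintype.card_pos_iff.mp (by rw [hι]; omega : 0 < Fintype.card ι)
  constructor
  · intro H
    rintro ⟨x, hx, hx2⟩
    have hxsq : ((x ^ 2 : GL ι F) : Matrix ι ι F) = (-1 : F) • (1 : Matrix ι ι F) := by
      rw [Units.val_pow_eq_pow_val, pow_two, hx2, neg_smul, one_smul]
    have hxns : ∀ z : F, (x : Matrix ι ι F) ≠ z • (1 : Matrix ι ι F) := by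
      intro z hz
      have hzz : z * z = 1 := sro_scalar Q hv x hx 1 z (by rw [pow_one]; exact hz)
      rw [hz, Matrix.smul_mul, Matrix.mul_smul, Matrix.one_mul, smul_smul, hzz, one_smul] at hx2
      have h6 := congrFun (congrFun hx2 j) j
      rw [Matrix.one_apply_eq, Matrix.neg_apply, Matrix.one_apply_eq] at h6
      exact h2 (by linear_combination h6)
    obtain ⟨W, hWP, hWinv⟩ := H x hx ⟨-1, hxsq⟩ hxns
    have hWiso := (hconv W).mp hWP
    obtain ⟨hWnd, hWdim⟩ := sro_iso_nd Q W Q W₀ hWiso hW₀nd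
    have hT2 : Matrix.toLin' (x : Matrix ι ι F) * Matrix.toLin' (x : Matrix ι ι F) = -1 := by
      have h7 : Matrix.toLin' (x : Matrix ι ι F) * Matrix.toLin' (x : Matrix ι ι F)
          = Matrix.toLin' ((x : Matrix ι ι F) * (x : Matrix ι ι F)) := by
        rw [Matrix.toLin'_mul]; rfl
      rw [h7, hx2, map_neg, Matrix.toLin'_one]
      rfl
    have hev := sro_neg_even Q h2 (Matrix.toLin' (x : Matrix ι ι F)) (sro_iso_of_mem Q x hx) hT2 W
      hWnd (fun w hw => hWinv (Submodule.mem_map_of_mem hw))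
    rw [hWdim] at hev
    exact (Nat.not_even_iff_odd.mpr hW₀odd) hev
  · intro hno x hx hxr hxns
    obtain ⟨z, hz⟩ := hxr
    have hzz : z * z = 1 := sro_scalar Q hv x hx 2 z hz
    have hxx : (x : Matrix ι ι F) * (x : Matrix ι ι F) = z • (1 : Matrix ι ι F) := by
      rw [← hz, Units.val_pow_eq_pow_val, pow_two]
    have hz1 : z = 1 := by
      have h5 : (z - 1) * (z + 1) = 0 := by linear_combination hzz
      rcases mul_eq_zero.mp h5 with h | h
      · exact sub_eq_zero.mp h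
      · exfalso
        apply hno
        refine ⟨x, hx, ?_⟩
        rw [hxx, show z = -1 by linear_combination h, neg_smul, one_smul]
    have hT2 : Matrix.toLin' (x : Matrix ι ι F) * Matrix.toLin' (x : Matrix ι ι F) = 1 := by
      have h7 : Matrix.toLin' (x : Matrix ι ι F) * Matrix.toLin' (x : Matrix ι ι F)
          = Matrix.toLin' ((x : Matrix ι ι F) * (x : Matrix ι ι F)) := by
        rw [Matrix.toLin'_mul]; rfl
      rw [h7, hxx, hz1, one_smul, Matrix.toLin'_one]
      rfl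
    obtain ⟨W, hWiso, hWinv⟩ := sro_inv_class Q hnd h2 (Matrix.toLin' (x : Matrix ι ι F))
      (sro_iso_of_mem Q x hx) hT2 Q W₀ hW₀nd hW₀odd (by rw [hW₀.1, hdimV]; omega)
    refine ⟨W, (hconv W).mpr hWiso, ?_⟩
    rintro _ ⟨w, hw, rfl⟩
    exact hWinv w hw


theorem sro_char_ne_two {p : ℕ} [Fact p.Prime] [CharP F p] (hodd : Odd (Fintype.card F)) :
    p ≠ 2 := by
  rintro rfl
  have h1 : ((Fintype.card F : ℕ) : F) = 0 := Nat.cast_card_eq_zero F
  rw [CharP.cast_eq_zero_iff F 2] at h1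
  exact (Nat.not_even_iff_odd.mpr hodd) (even_iff_two_dvd.mpr h1)

/-- `PΩ⁺_{2d}(q)`, `q` odd, on the nondegenerate `m`-spaces (`m` odd) isometric to `W₀`. -/
theorem sro_plus_main {p : ℕ} [Fact p.Prime] [CharP F p] (hodd : Odd (Fintype.card F))
    (d m : ℕ) (hd : 4 ≤ d) (hm : Odd m) (hmd : m < d)
    (W₀ : Submodule F (Fin d ⊕ Fin d → F))
    (hW₀ : Module.finrank F ↥W₀ = m ∧
      Cfsg.Geo.IsNondegenerateOn (QuadraticMap.polar (Cfsg.quadFormPlus d F)) W₀)
    (r : ℕ) [Fact r.Prime]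
    (hrΩ : r ∣ Nat.card {W : Submodule F (Fin d ⊕ Fin d → F) // Module.finrank F ↥W = m ∧
      Cfsg.Geo.IsNondegenerateOn (QuadraticMap.polar (Cfsg.quadFormPlus d F)) W ∧
      Cfsg.Geo.AreIsometricFor (Cfsg.quadFormPlus d F) W W₀})
    (i c : ℕ) (hi : i = orderOf ((Fintype.card F : ℕ) : ZMod r))
    (hc : c = if Even i then i else 2 * i) :
    (∀ x : GL (Fin d ⊕ Fin d) F, x ∈ Cfsg.Geo.omegaGL (Cfsg.quadFormPlus d F) →
      (∃ z : F, ((x ^ r : GL (Fin d ⊕ Fin d) F) : Matrix (Fin d ⊕ Fin d) (Fin d ⊕ Fin d) F) =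
        z • (1 : Matrix (Fin d ⊕ Fin d) (Fin d ⊕ Fin d) F)) →
      (∀ z : F, (x : Matrix (Fin d ⊕ Fin d) (Fin d ⊕ Fin d) F) ≠
        z • (1 : Matrix (Fin d ⊕ Fin d) (Fin d ⊕ Fin d) F)) →
      ∃ W : Submodule F (Fin d ⊕ Fin d → F), (Module.finrank F ↥W = m ∧
        Cfsg.Geo.IsNondegenerateOn (QuadraticMap.polar (Cfsg.quadFormPlus d F)) W ∧
        Cfsg.Geo.AreIsometricFor (Cfsg.quadFormPlus d F) W W₀) ∧
        W.map (Matrix.toLin' (x : Matrix (Fin d ⊕ Fin d) (Fin d ⊕ Fin d) F)) ≤ W) ↔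
    ((r = 2 ∧ Odd d ∧ Fintype.card F % 8 ≠ 1) ∨
     (r ≠ p ∧ 2 < r ∧ Odd i ∧ c ≤ m ∧ 0 < m % c ∧ m % c < (2 * d) % c) ∨
     (r ≠ p ∧ 2 < r ∧ Even i ∧ (((2 * d) % c = 0 ∧ Odd ((2 * d) / i)) ∨
       (i ≤ m ∧ 0 < m % c ∧ m % c < (2 * d) % c)))) := by
  have hpp : p.Prime := Fact.out
  have hr : r.Prime := Fact.out
  have hp2 : p ≠ 2 := sro_char_ne_two hodd
  have h2 : (2 : F) ≠ 0 := sq_two_ne p hp2
  obtain ⟨f'', -, hF⟩ := FiniteField.card F p
  have hnd : ∀ v, (∀ w, QuadraticMap.polar (plusForm d F) v w = 0) → v = 0 :=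
    forall_of_nondegenerate _ (Cfsg.Agent.Lib.helper42.plusForm_nondegenerate d)
  have hι : Fintype.card (Fin d ⊕ Fin d) = 2 * d := by
    rw [Fintype.card_sum, Fintype.card_fin]
    omega
  by_cases hr2 : r = 2
  · subst hr2
    refine (sro_two_main h2 (plusForm d F) hnd d (by omega) hι m hm hmd W₀ hW₀).trans ?_
    have hOM := sro_sq_neg_plus hodd d (by omega)
    refine (not_congr hOM).trans ?_
    constructor
    · intro h
      left
      refine ⟨rfl, ?_, ?_⟩
      · exact Nat.not_even_iff_odd.mp (fun h1 => h (Or.inl h1))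
      · exact fun h1 => h (Or.inr h1)
    · rintro (⟨-, h1, h3⟩ | ⟨-, h, -⟩ | ⟨-, h, -⟩)
      · rintro (h4 | h4)
        · exact (Nat.not_even_iff_odd.mpr h1) h4
        · exact h3 h4
      · omega
      · omega
  · have hr3 : 2 < r := by
      have := hr.two_le
      omega
    by_cases hrp : r = p
    · constructor
      · intro H
        exfalso
        obtain ⟨g, hgΩ, hgp, hgns, hgno⟩ := sro_unip_plus (F := F) p hp2 d m hd hm
        obtain ⟨W, ⟨hWdim, hWnd, -⟩, hWinv⟩ := H g hgΩ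
          ⟨1, by rw [hrp, hgp, one_smul]; rfl⟩ hgns
        exact hgno W hWdim hWnd hWinv
      · rintro (⟨h, -⟩ | ⟨h, -⟩ | ⟨h, -⟩)
        · exact absurd h hr2
        · exact absurd hrp h
        · exact absurd hrp h
    · have hpr : p.Coprime r := (Nat.coprime_primes hpp hr).mpr (Ne.symm hrp)
      have key := sro_odd_main h2 p (f'' : ℕ) hF r hpr hr2 i c hi hc (plusForm d F) hnd d
        (by omega) hι 1 (Or.inl rfl) (by rw [one_mul]; exact unif_plus_std d) m hm hmd W₀ hW₀ hrΩ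
      refine key.trans ?_
      have hcev : Even c := sr_c_even p (f'' : ℕ) hF r hpr hr2 i c hi hc
      have hmc : 0 < m % c := by
        obtain ⟨c', hc'⟩ := hcev
        obtain ⟨m', hm'⟩ := hm
        rcases Nat.eq_zero_or_pos (m % c) with h0 | h0
        · exfalso
          have h5 : c ∣ m := Nat.dvd_of_mod_eq_zero h0
          obtain ⟨t, ht⟩ := h5
          rw [hc'] at ht
          have h6 : m = 2 * (c' * t) := by rw [ht]; ring
          omega
        · exact h0
      have h3 : ((2 * d) % c = 0 ∧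
          ((1 : ℤ) : ZMod r) * ((Fintype.card F : ℕ) : ZMod r) ^ d ≠ 1) ↔
          ((2 * d) % c = 0 ∧ ¬ (Odd i ∨ Even ((2 * d) / c))) := by
        apply and_congr_right
        intro h0
        have h4 := srf_third_plus p (f'' : ℕ) hF r hpr hr2 i c hi hc (2 * d) h0
        rw [Nat.mul_div_cancel_left d (by norm_num : 0 < 2)] at h4
        exact not_congr h4
      rw [h3]
      by_cases hev : Even i
      · rw [if_pos hev] at hc
        subst hc
        have hno : ¬ Odd c := Nat.not_odd_iff_even.mpr hev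
        constructor
        · rintro (⟨h0, h5⟩ | ⟨h5, h6⟩)
          · right
            right
            refine ⟨hrp, hr3, hev, Or.inl ⟨h0, ?_⟩⟩
            exact Nat.not_even_iff_odd.mp (fun h7 => h5 (Or.inr h7))
          · right
            right
            exact ⟨hrp, hr3, hev, Or.inr ⟨h5, hmc, h6⟩⟩
        · rintro (⟨h, -⟩ | ⟨-, -, ho, -⟩ | ⟨-, -, -, ⟨h0, h5⟩ | ⟨h5, -, h6⟩⟩)
          · exact absurd h hr2
          · exact absurd ho hno
          · left
            refine ⟨h0, ?_⟩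
            rintro (h7 | h7)
            · exact hno h7
            · exact (Nat.not_even_iff_odd.mpr h5) h7
          · right
            exact ⟨h5, h6⟩
      · have hio : Odd i := Nat.not_even_iff_odd.mp hev
        constructor
        · rintro (⟨h0, h5⟩ | ⟨h5, h6⟩)
          · exact absurd (Or.inl hio) h5
          · right
            left
            exact ⟨hrp, hr3, hio, h5, hmc, h6⟩
        · rintro (⟨h, -⟩ | ⟨-, -, -, h5, -, h6⟩ | ⟨-, -, he, -⟩)
          · exact absurd h hr2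
          · right
            exact ⟨h5, h6⟩
          · exact absurd he hev


end sromain

end Cfsg.Agent.Lib.helper24
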