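import Mathlib
import Cfsg.Agent.Lib.helper24.SroMain
import Cfsg.Agent.Lib.helper49.SroOMM
import Cfsg.Agent.Lib.helper99.SroUNIPM

/-! S5991: the assembly (twin of `SroMain`). -/

set_option autoImplicit false
set_option linter.unusedSectionVars false
set_option linter.unusedVariables false
set_option linter.style.haveILetI false
set_option linter.deprecated false

namespace Cfsg.Agent.Lib.helper24

open Module Cfsg.Agent.Lib.helper45 Cfsg.Agent.Lib.helper49

universe u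

section sromainm

variable {F : Type u} [Field F] [Fintype F]

/-- `PΩ⁻_{2d}(q)`, `q` odd, on the nondegenerate `m`-spaces (`m` odd) isometric to `W₀`. -/
theorem sro_minus_main {p : ℕ} [Fact p.Prime] [CharP F p] (hodd : Odd (Fintype.card F))
    (d m : ℕ) (hd : 4 ≤ d) (hm : Odd m) (hmd : m < d) (a b : F)
    (hab : ∀ x y : F, x ^ 2 + a * x * y + b * y ^ 2 = 0 → x = 0 ∧ y = 0)
    (W₀ : Submodule F (((Fin (d - 1) ⊕ Fin (d - 1)) ⊕ Fin 2) → F))
    (hW₀ : Module.finrank F ↥W₀ = m ∧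
      Cfsg.Geo.IsNondegenerateOn (QuadraticMap.polar (Cfsg.quadFormMinus (d - 1) F a b)) W₀)
    (r : ℕ) [Fact r.Prime]
    (hrΩ : r ∣ Nat.card {W : Submodule F (((Fin (d - 1) ⊕ Fin (d - 1)) ⊕ Fin 2) → F) // Module.finrank F ↥W = m ∧
      Cfsg.Geo.IsNondegenerateOn (QuadraticMap.polar (Cfsg.quadFormMinus (d - 1) F a b)) W ∧
      Cfsg.Geo.AreIsometricFor (Cfsg.quadFormMinus (d - 1) F a b) W W₀})
    (i c : ℕ) (hi : i = orderOf ((Fintype.card F : ℕ) : ZMod r))
    (hc : c = if Even i then i else 2 * i) :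
    (∀ x : GL ((Fin (d - 1) ⊕ Fin (d - 1)) ⊕ Fin 2) F, x ∈ Cfsg.Geo.omegaGL (Cfsg.quadFormMinus (d - 1) F a b) →
      (∃ z : F, ((x ^ r : GL ((Fin (d - 1) ⊕ Fin (d - 1)) ⊕ Fin 2) F) : Matrix ((Fin (d - 1) ⊕ Fin (d - 1)) ⊕ Fin 2) ((Fin (d - 1) ⊕ Fin (d - 1)) ⊕ Fin 2) F) = z • (1 : Matrix ((Fin (d - 1) ⊕ Fin (d - 1)) ⊕ Fin 2) ((Fin (d - 1) ⊕ Fin (d - 1)) ⊕ Fin 2) F)) →
      (∀ z : F, (x : Matrix ((Fin (d - 1) ⊕ Fin (d - 1)) ⊕ Fin 2) ((Fin (d - 1) ⊕ Fin (d - 1)) ⊕ Fin 2) F) ≠ z • (1 : Matrix ((Fin (d - 1) ⊕ Fin (d - 1)) ⊕ Fin 2) ((Fin (d - 1) ⊕ Fin (d - 1)) ⊕ Fin 2) F)) →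
      ∃ W : Submodule F (((Fin (d - 1) ⊕ Fin (d - 1)) ⊕ Fin 2) → F), (Module.finrank F ↥W = m ∧
        Cfsg.Geo.IsNondegenerateOn (QuadraticMap.polar (Cfsg.quadFormMinus (d - 1) F a b)) W ∧
        Cfsg.Geo.AreIsometricFor (Cfsg.quadFormMinus (d - 1) F a b) W W₀) ∧
        W.map (Matrix.toLin' (x : Matrix ((Fin (d - 1) ⊕ Fin (d - 1)) ⊕ Fin 2) ((Fin (d - 1) ⊕ Fin (d - 1)) ⊕ Fin 2) F)) ≤ W) ↔
    ((r = 2 ∧ (Even d ∨ Fintype.card F % 8 ≠ 7)) ∨
     (r ≠ p ∧ 2 < r ∧ Odd i ∧ ((2 * d) % c = 0 ∨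
       (c ≤ m ∧ 0 < m % c ∧ m % c < (2 * d) % c))) ∨
     (r ≠ p ∧ 2 < r ∧ Even i ∧ (((2 * d) % c = 0 ∧ Even ((2 * d) / i)) ∨
       (0 < (2 * d) % c ∧ i ≤ m ∧ 0 < m % c ∧ m % c < (2 * d) % c)))) := by
  have hpp : p.Prime := Fact.out
  have hr : r.Prime := Fact.out
  have hp2 : p ≠ 2 := sro_char_ne_two hodd
  have h2 : (2 : F) ≠ 0 := sq_two_ne p hp2
  obtain ⟨f'', -, hF⟩ := FiniteField.card F p
  have hnd : ∀ v, (∀ w, QuadraticMap.polar (minusForm (d - 1) F a b) v w = 0) → v = 0 :=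
    forall_of_nondegenerate _ (Cfsg.Agent.Lib.helper42.minusForm_nondegenerate (d - 1) a b hab)
  have hι : Fintype.card ((Fin (d - 1) ⊕ Fin (d - 1)) ⊕ Fin 2) = 2 * d := by
    rw [Fintype.card_sum, Fintype.card_sum, Fintype.card_fin, Fintype.card_fin]
    omega
  by_cases hr2 : r = 2
  · subst hr2
    refine (sro_two_main h2 (minusForm (d - 1) F a b) hnd d (by omega) hι m hm hmd W₀ hW₀).trans ?_
    have hOM := sro_sq_neg_minus hodd d (by omega) a b hab
    refine (not_congr hOM).trans ?_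
    constructor
    · intro h
      left
      refine ⟨rfl, ?_⟩
      by_cases h1 : Even d
      · exact Or.inl h1
      · exact Or.inr (fun h3 => h ⟨Nat.not_even_iff_odd.mp h1, h3⟩)
    · rintro (⟨-, h1 | h1⟩ | ⟨-, h, -⟩ | ⟨-, h, -⟩)
      · rintro ⟨h4, -⟩
        exact (Nat.not_even_iff_odd.mpr h4) h1
      · rintro ⟨-, h4⟩
        exact h1 h4
      · omega
      · omega
  · have hr3 : 2 < r := by
      have := hr.two_le
      omega
    by_cases hrp : r = p
    · constructor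
      · intro H
        exfalso
        obtain ⟨g, hgΩ, hgp, hgns, hgno⟩ :=
          sro_unip_minus (F := F) p hp2 d m hd hm hmd a b hab W₀ hW₀
        obtain ⟨W, ⟨hWdim, hWnd, hWiso⟩, hWinv⟩ := H g hgΩ
          ⟨1, by rw [hrp, hgp, one_smul]; rfl⟩ hgns
        exact hgno W hWdim hWnd hWiso hWinv
      · rintro (⟨h, -⟩ | ⟨h, -⟩ | ⟨h, -⟩)
        · exact absurd h hr2
        · exact absurd hrp h
        · exact absurd hrp h
    · have hpr : p.Coprime r := (Nat.coprime_primes hpp hr).mpr (Ne.symm hrp)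
      have hty : Unif ((-1 : ℤ) * (Fintype.card F : ℤ) ^ d)
          (fun a₀ : F => Nat.card {v : ((Fin (d - 1) ⊕ Fin (d - 1)) ⊕ Fin 2) → F // minusForm (d - 1) F a b v = a₀}) := by
        have h5 := unif_minus_std (d - 1) a b hab
        rw [show d - 1 + 1 = d by omega] at h5
        rw [neg_one_mul]
        exact h5
      have key := sro_odd_main h2 p (f'' : ℕ) hF r hpr hr2 i c hi hc (minusForm (d - 1) F a b)
        hnd d (by omega) hι (-1) (Or.inr rfl) hty m hm hmd W₀ hW₀ hrΩ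
      refine key.trans ?_
      have hcev : Even c := sr_c_even p (f'' : ℕ) hF r hpr hr2 i c hi hc
      have hmc : 0 < m % c := by
        obtain ⟨c', hc'⟩ := hcev
        obtain ⟨m', hm'⟩ := hm
        rcases Nat.eq_zero_or_pos (m % c) with h0 | h0
        · exfalso
          have h5 : c ∣ m := Nat.dvd_of_mod_eq_zero h0
          obtain ⟨t, ht⟩ := h5
          rw [hc'] at ht
          have h6 : m = 2 * (c' * t) := by rw [ht]; ring
          omega
        · exact h0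
      have h3 : ((2 * d) % c = 0 ∧
          ((-1 : ℤ) : ZMod r) * ((Fintype.card F : ℕ) : ZMod r) ^ d ≠ 1) ↔
          ((2 * d) % c = 0 ∧ ¬ (Even i ∧ Odd ((2 * d) / c))) := by
        apply and_congr_right
        intro h0
        have h4 := srf_third_minus p (f'' : ℕ) hF r hpr hr2 i c hi hc (2 * d) h0
        rw [Nat.mul_div_cancel_left d (by norm_num : 0 < 2)] at h4
        exact not_congr h4
      rw [h3]
      by_cases hev : Even i
      · rw [if_pos hev] at hc
        subst hc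
        have hno : ¬ Odd c := Nat.not_odd_iff_even.mpr hev
        constructor
        · rintro (⟨h0, h5⟩ | ⟨h5, h6⟩)
          · right
            right
            refine ⟨hrp, hr3, hev, Or.inl ⟨h0, ?_⟩⟩
            exact Nat.not_odd_iff_even.mp (fun h7 => h5 ⟨hev, h7⟩)
          · right
            right
            exact ⟨hrp, hr3, hev, Or.inr ⟨by omega, h5, hmc, h6⟩⟩
        · rintro (⟨h, -⟩ | ⟨-, -, ho, -⟩ | ⟨-, -, -, ⟨h0, h5⟩ | ⟨-, h5, -, h6⟩⟩)
          · exact absurd h hr2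
          · exact absurd ho hno
          · left
            refine ⟨h0, ?_⟩
            rintro ⟨-, h7⟩
            exact (Nat.not_odd_iff_even.mpr h5) h7
          · right
            exact ⟨h5, h6⟩
      · have hio : Odd i := Nat.not_even_iff_odd.mp hev
        constructor
        · rintro (⟨h0, h5⟩ | ⟨h5, h6⟩)
          · right
            left
            exact ⟨hrp, hr3, hio, Or.inl h0⟩
          · right
            left
            exact ⟨hrp, hr3, hio, Or.inr ⟨h5, hmc, h6⟩⟩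
        · rintro (⟨h, -⟩ | ⟨-, -, -, h0 | ⟨h5, -, h6⟩⟩ | ⟨-, -, he, -⟩)
          · exact absurd h hr2
          · left
            exact ⟨h0, fun h7 => hev h7.1⟩
          · right
            exact ⟨h5, h6⟩
          · exact absurd he hev

end sromainm

end Cfsg.Agent.Lib.helper24
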