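import Mathlib
import Cfsg.Agent.Lib.helper24.SroMain
import Cfsg.Agent.Lib.helper24.StsDefs
import Cfsg.Agent.Lib.helper63.StsSPH

/-! S5973 / S5987 splits: the orthogonal / symplectic bridge (characteristic-free) and the
reduction lemmas shared by the two assemblies. -/

set_option autoImplicit false
set_option linter.unusedSectionVars false
set_option linter.unusedVariables false
set_option linter.style.haveILetI false
set_option linter.deprecated false

namespace Cfsg.Agent.Lib.helper24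

open Module Cfsg.Agent.Lib.helper45 Cfsg.Agent.Lib.helper49

universe u

section stpbridge

variable {F : Type u} [Field F] [Fintype F] {V : Type u} [AddCommGroup V] [Module F V]
  [FiniteDimensional F V]

variable (Q : QuadraticForm F V) (hnd : ∀ v, (∀ w, QuadraticMap.polar Q v w = 0) → v = 0)
  (T : Module.End F V) (hT : ∀ v, Q (T v) = Q v)
  (p f' : ℕ) [Fact p.Prime] (hF : Fintype.card F = p ^ f') (r : ℕ) [Fact r.Prime]
  (hpr : p.Coprime r) (hr2 : r ≠ 2) (hTr : T ^ r = 1)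
  (i c : ℕ) (hi : i = orderOf ((Fintype.card F : ℕ) : ZMod r))
  (hc : c = if Even i then i else 2 * i)

include hnd hT hF hpr hr2 hTr hi hc

/-- The shape of an invariant totally singular subspace. -/
theorem stp_nec (W : Submodule F V) (hWts : ∀ w ∈ W, Q w = 0) (hWinv : ∀ w ∈ W, T w ∈ W) :
    ∃ b : ℕ, finrank F ↥(W ⊓ LinearMap.ker (T - 1)) + i * b = finrank F W ∧
      finrank F ↥(W ⊓ LinearMap.range (T - 1)) = i * b := by
  haveI : Finite V := Module.finite_of_finite F
  have hq0 := el_card_ne_zero p f' hF r hpr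
  have hrF := el_natCast_ne_zero (F := F) p f' hF r hpr
  obtain ⟨-, hsplit⟩ := sr_split Q hnd T hT r hTr hrF W hWinv
  have hK := sr_K_nd Q hnd T hT r hTr hrF
  have h1 := sts_ts_half Q (LinearMap.ker (T - 1)) hK (W ⊓ LinearMap.ker (T - 1)) inf_le_right
    (fun u hu => hWts u (Submodule.mem_inf.mp hu).1)
  have hXinv : ∀ x ∈ W ⊓ LinearMap.range (T - 1), T x ∈ W ⊓ LinearMap.range (T - 1) := by
    intro x hx
    obtain ⟨hx1, hx2⟩ := Submodule.mem_inf.mp hx
    exact Submodule.mem_inf.mpr ⟨hWinv x hx1, sr_R_inv T x hx2⟩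
  have h3 : i ∣ finrank F ↥(W ⊓ LinearMap.range (T - 1)) := by
    have h4 := Cfsg.Agent.Lib.helper63.Elusive.orderOf_dvd_finrank_sub r hq0
      (T.restrict hXinv) (el_restrict_pow T r hTr _ hXinv)
    have h5 : LinearMap.ker (T - 1) ⊓ (W ⊓ LinearMap.range (T - 1)) = ⊥ := by
      rw [eq_bot_iff, ← sr_KR_bot T r hTr hrF]
      exact inf_le_inf le_rfl inf_le_right
    rw [el_finrank_ker_restrict, h5, finrank_bot, Nat.sub_zero, ← hi] at h4
    exact h4
  obtain ⟨b, hb⟩ := h3
  exact ⟨b, by rw [← hb]; exact hsplit, hb⟩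

/-- The bridge to the symplectic problem: invariant totally singular subspaces of `[V, T]`. -/
theorem stp_half [CharP F p] :
    ∃ S A : ℕ, finrank F (LinearMap.range (T - 1)) = i * A ∧ (Odd i → A = 2 * S) ∧
      (Even i → A ≤ 2 * S + (r - 1) / i) ∧
      ∀ B : ℕ, B ≤ S → ∃ X : Submodule F V, X ≤ LinearMap.range (T - 1) ∧
        (∀ x ∈ X, Q x = 0) ∧ (∀ x ∈ X, T x ∈ X) ∧ finrank F X = i * B := by
  classical
  haveI : Finite V := Module.finite_of_finite F
  have hr : r.Prime := Fact.out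
  have hpp : p.Prime := Fact.out
  have hq0 := el_card_ne_zero p f' hF r hpr
  have hrF := el_natCast_ne_zero (F := F) p f' hF r hpr
  have hrodd : Odd r := hr.odd_of_ne_two hr2
  have hrp : r ≠ p := by
    rintro rfl
    rw [Nat.coprime_self] at hpr
    exact hr.one_lt.ne' hpr
  obtain ⟨T', hT'⟩ : ∃ T' : Module.End F V, T' = T ^ (r - 1) := ⟨_, rfl⟩
  have hTT' : T * T' = 1 := by rw [hT', ← pow_succ', Nat.sub_add_cancel hr.one_le, hTr]
  have hT'T : T' * T = 1 := by rw [hT', ← pow_succ, Nat.sub_add_cancel hr.one_le, hTr]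
  obtain ⟨R, hRdef⟩ : ∃ R : Submodule F V, R = LinearMap.range (T - 1) := ⟨_, rfl⟩
  rw [← hRdef]
  have hR : ∀ x ∈ R, T x ∈ R := by
    rw [hRdef]
    exact sr_R_inv T
  have hR' : ∀ x ∈ R, T' x ∈ R := by
    rw [hT']
    exact sr_pow_mem T R hR (r - 1)
  have hfixR : LinearMap.ker (T - 1) ⊓ R = ⊥ := by
    rw [hRdef]
    exact sr_KR_bot T r hTr hrF
  have hRnd : SpNd (QuadraticMap.polarBilin Q) R := by
    rw [hRdef]
    exact sr_R_nd Q hnd T hT r hTr hrF
  have hRalt : SpNd (srAlt Q T T') R :=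
    (sr_nd_iff Q T T' hTT' r hrodd hTr R hR hR' hfixR).mp hRnd
  have haltV : ∀ v, srAlt Q T T' v v = 0 := srAlt_alt Q T T' hT hTT'
  obtain ⟨ωR, hωR⟩ : ∃ ωR : ↥R →ₗ[F] ↥R →ₗ[F] F, ωR = (srAlt Q T T').domRestrict₁₂ R R :=
    ⟨_, rfl⟩
  have hωRa : ∀ u v : ↥R, ωR u v = srAlt Q T T' (u : V) (v : V) := by
    intro u v
    rw [hωR]
    rfl
  have haltR : ∀ v : ↥R, ωR v v = 0 := fun v => by rw [hωRa]; exact haltV v
  have hndR : ∀ v : ↥R, (∀ w : ↥R, ωR v w = 0) → v = 0 := by
    rw [hωR]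
    exact sp_nd_restrict (srAlt Q T T') R hRalt
  obtain ⟨a, ha⟩ : ∃ a : Module.End F ↥R, a = T.restrict hR := ⟨_, rfl⟩
  obtain ⟨b, hb⟩ : ∃ b : Module.End F ↥R, b = T'.restrict hR' := ⟨_, rfl⟩
  have hav : ∀ v : ↥R, ((a v : ↥R) : V) = T (v : V) := fun v => by rw [ha]; rfl
  have hbv : ∀ v : ↥R, ((b v : ↥R) : V) = T' (v : V) := fun v => by rw [hb]; rfl
  have hisoR : ∀ v w : ↥R, ωR (a v) (a w) = ωR v w := by
    intro v w
    rw [hωRa, hωRa, hav, hav]
    exact srAlt_iso Q T T' hT hTT' hT'T v w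
  have hab : a * b = 1 := by
    apply LinearMap.ext
    intro x
    apply Subtype.ext
    rw [Module.End.mul_apply, hav, hbv, sq_inv_apply T T' hTT']
    rfl
  have har : a ^ r = 1 := by
    rw [ha]
    exact el_restrict_pow T r hTr R hR
  obtain ⟨n, hn⟩ := sp_even (srAlt Q T T') haltV R hRalt
  have hfin : finrank F ↥R = 2 * n := by omega
  obtain ⟨g, φ, hφ, hg, hpow, -⟩ :=
    Cfsg.Agent.Lib.helper63.SpTI.exists_sp_model n ωR a b haltR hndR hisoR hab hfin
  have hgr : g ^ r = 1 := hpow r har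
  have hgfix : ∀ v : Fin n ⊕ Fin n → F,
      (g : Matrix (Fin n ⊕ Fin n) (Fin n ⊕ Fin n) F).mulVec v = v → v = 0 := by
    intro v hv
    obtain ⟨y, rfl⟩ := φ.surjective v
    rw [hg] at hv
    have h1 : a y = y := φ.injective hv
    have h3 : (y : V) ∈ LinearMap.ker (T - 1) ⊓ R := by
      refine Submodule.mem_inf.mpr ⟨?_, y.2⟩
      rw [LinearMap.mem_ker, LinearMap.sub_apply, Module.End.one_apply, ← hav, h1, sub_self]
    rw [hfixR, Submodule.mem_bot] at h3
    have h4 : y = 0 := Subtype.ext h3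
    rw [h4, map_zero]
  obtain ⟨S, hS1, hS2, hS3⟩ := sts_sp_half p r hrp hr2 n g hgr hgfix
  rw [← hi] at hS1 hS2 hS3
  have hi1 : 1 ≤ i := srf_i_pos p f' hF r hpr hr2 i c hi hc
  have hiR : i ∣ finrank F ↥R := by
    have h4 := Cfsg.Agent.Lib.helper63.Elusive.orderOf_dvd_finrank_sub r hq0
      (T.restrict hR) (el_restrict_pow T r hTr R hR)
    rw [el_finrank_ker_restrict, hfixR, finrank_bot, Nat.sub_zero, ← hi] at h4
    exact h4
  obtain ⟨A, hA⟩ := hiR
  refine ⟨S, A, hA, ?_, ?_, ?_⟩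
  · intro ho
    have h5 := hS1 ho
    have h6 : i * A = i * (2 * S) := by
      rw [← hA, hfin, ← h5]
      ring
    exact Nat.eq_of_mul_eq_mul_left (by omega) h6
  · intro he
    have h5 := hS2 he
    have h6 : i * A ≤ i * (2 * S + (r - 1) / i) := by
      rw [← hA, hfin]
      exact h5
    exact Nat.le_of_mul_le_mul_left h6 (by omega)
  · intro B hB
    obtain ⟨W', hW'dim, hW'ti, hW'inv⟩ := hS3 B hB
    obtain ⟨X₀, hX₀⟩ : ∃ X₀ : Submodule F ↥R,
        X₀ = W'.map (φ.symm : (Fin n ⊕ Fin n → F) →ₗ[F] ↥R) := ⟨_, rfl⟩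
    have hX₀mem : ∀ y : ↥R, y ∈ X₀ ↔ φ y ∈ W' := by
      intro y
      rw [hX₀]
      constructor
      · rintro ⟨w, hw, rfl⟩
        have : φ (φ.symm w) = w := φ.apply_symm_apply w
        rw [show ((φ.symm : (Fin n ⊕ Fin n → F) →ₗ[F] ↥R) w) = φ.symm w from rfl, this]
        exact hw
      · intro hy
        exact ⟨φ y, hy, φ.symm_apply_apply y⟩
    have hX₀dim : finrank F X₀ = i * B := by
      rw [hX₀, LinearEquiv.finrank_map_eq φ.symm W', hW'dim]
    have hX₀inv : ∀ y ∈ X₀, a y ∈ X₀ := by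
      intro y hy
      rw [hX₀mem] at hy ⊢
      rw [← hg]
      apply hW'inv
      exact ⟨φ y, hy, by rw [Matrix.toLin'_apply]⟩
    refine ⟨X₀.map R.subtype, Submodule.map_subtype_le R X₀, ?_, ?_, ?_⟩
    · -- totally singular
      have hXinv : ∀ x ∈ X₀.map R.subtype, T x ∈ X₀.map R.subtype := by
        rintro _ ⟨y, hy, rfl⟩
        exact ⟨a y, hX₀inv y hy, hav y⟩
      have hXinv' : ∀ x ∈ X₀.map R.subtype, T' x ∈ X₀.map R.subtype := by
        rw [hT']
        exact sr_pow_mem T _ hXinv (r - 1)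
      have hL : ∀ x ∈ X₀.map R.subtype, (T - T') x ∈ X₀.map R.subtype := by
        intro x hx
        rw [LinearMap.sub_apply]
        exact Submodule.sub_mem _ (hXinv x hx) (hXinv' x hx)
      have hLinj : Function.Injective ((T - T').restrict hL) := by
        rw [injective_iff_map_eq_zero]
        intro x hx
        apply Subtype.ext
        have h5 := congrArg Subtype.val hx
        rw [LinearMap.restrict_coe_apply, LinearMap.sub_apply] at h5
        have h6 := sr_inj T T' hTT' r hrodd hTr x.1 h5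
        have h7 : (x : V) ∈ LinearMap.ker (T - 1) ⊓ R := by
          refine Submodule.mem_inf.mpr ⟨?_, Submodule.map_subtype_le R X₀ x.2⟩
          rw [LinearMap.mem_ker, LinearMap.sub_apply, Module.End.one_apply, h6, sub_self]
        rw [hfixR, Submodule.mem_bot] at h7
        exact h7
      have hLsurj := LinearMap.injective_iff_surjective.mp hLinj
      have hti : ∀ u ∈ X₀.map R.subtype, ∀ v ∈ X₀.map R.subtype, srAlt Q T T' u v = 0 := by
        rintro _ ⟨u₀, hu₀, rfl⟩ _ ⟨v₀, hv₀, rfl⟩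
        show srAlt Q T T' (u₀ : V) (v₀ : V) = 0
        rw [← hωRa, ← hφ]
        exact hW'ti _ ((hX₀mem u₀).mp hu₀) _ ((hX₀mem v₀).mp hv₀)
      intro x hx
      obtain ⟨y, hy⟩ := hLsurj ⟨x, hx⟩
      have hy' : T y.1 - T' y.1 = x := by
        have := congrArg Subtype.val hy
        rw [LinearMap.restrict_coe_apply, LinearMap.sub_apply] at this
        exact this
      obtain ⟨z, hz⟩ := hLsurj ⟨T x, hXinv x hx⟩
      have hz' : T z.1 - T' z.1 = T x := by
        have := congrArg Subtype.val hz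
        rw [LinearMap.restrict_coe_apply, LinearMap.sub_apply] at this
        exact this
      have h8 : srAlt Q T T' z.1 y.1 = 0 := hti z.1 z.2 y.1 y.2
      rw [srAlt_apply, hz', ← hy', map_sub, sq_inv_apply T T' hTT', QuadraticMap.polar_sub_left,
        sr_polar_self] at h8
      have hQT' : Q (T' y.1) = Q y.1 := by
        have h9 := hT (T' y.1)
        rw [sq_inv_apply T T' hTT'] at h9
        exact h9.symm
      have h10 : QuadraticMap.polar Q (T y.1) (T' y.1) = QuadraticMap.polar Q (T (T y.1)) y.1 := by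
        rw [← sr_iso_polar Q T hT (T y.1) (T' y.1), sq_inv_apply T T' hTT']
      have h11 : Q (T y.1 - T' y.1) = Q (T y.1) + Q (T' y.1) - QuadraticMap.polar Q (T y.1) (T' y.1) := by
        rw [sub_eq_add_neg, QuadraticMap.map_add Q (T y.1) (-(T' y.1)), QuadraticMap.map_neg,
          QuadraticMap.polar_neg_right]
        ring
      rw [← hy', h11, hT, hQT', h10]
      linear_combination -h8
    · rintro _ ⟨y, hy, rfl⟩
      exact ⟨a y, hX₀inv y hy, hav y⟩
    · rw [Submodule.finrank_map_subtype_eq, hX₀dim]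

end stpbridge

section stpaux

variable {F : Type u} [Field F] [Fintype F]

theorem stp_toLin_pow {ι : Type} [Fintype ι] [DecidableEq ι] (M : Matrix ι ι F) (k : ℕ) :
    (Matrix.toLin' M) ^ k = Matrix.toLin' (M ^ k) := by
  induction k with
  | zero =>
    rw [pow_zero, pow_zero, Matrix.toLin'_one]
    rfl
  | succ k ih =>
    rw [pow_succ, pow_succ, Matrix.toLin'_mul, ih]
    rfl

theorem stp_ne_one {ι : Type} [Fintype ι] [DecidableEq ι] (g : GL ι F)
    (h : finrank F (LinearMap.ker (Matrix.toLin' (g : Matrix ι ι F) - 1)) < Fintype.card ι) :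
    g ≠ 1 := by
  intro h1
  rw [h1] at h
  have h4 : (Matrix.toLin' ((1 : GL ι F) : Matrix ι ι F) - 1) = 0 := by
    rw [Units.val_one, Matrix.toLin'_one]
    exact sub_self _
  rw [h4, LinearMap.ker_zero, finrank_top, Module.finrank_fintype_fun_eq_card] at h
  omega

theorem stp_sq_one (z : F) (hzz : z * z = 1) (k : ℕ) : z ^ (2 * k) = 1 := by
  rw [pow_mul, pow_two, hzz, one_pow]

theorem stp_ns {ι : Type} [Fintype ι] [DecidableEq ι] (Q : QuadraticForm F (ι → F))
    (hv : ∃ v, Q v ≠ 0) (j₀ : ι) (g : GL ι F) (hg : g ∈ Cfsg.Geo.omegaGL ⇑Q) (r : ℕ)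
    (hr : Odd r) (hgr : g ^ r = 1) (hg1 : g ≠ 1) :
    ∀ z : F, (g : Matrix ι ι F) ≠ z • (1 : Matrix ι ι F) := by
  intro z hz
  have hzz : z * z = 1 := sro_scalar Q hv g hg 1 z (by rw [pow_one]; exact hz)
  have h1 : ((g ^ r : GL ι F) : Matrix ι ι F) = z ^ r • (1 : Matrix ι ι F) := by
    rw [Units.val_pow_eq_pow_val, hz, smul_pow, one_pow]
  rw [hgr, Units.val_one] at h1
  have h3 : z ^ r = 1 := by
    have h4 := congrFun (congrFun h1 j₀) j₀
    rw [Matrix.smul_apply, Matrix.one_apply_eq, smul_eq_mul, mul_one] at h4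
    exact h4.symm
  obtain ⟨k, hk⟩ := hr
  rw [hk, pow_succ, stp_sq_one z hzz k, one_mul] at h3
  apply hg1
  apply Units.ext
  rw [hz, h3, one_smul, Units.val_one]

theorem stp_reduce {ι : Type} [Fintype ι] [DecidableEq ι] (Q : QuadraticForm F (ι → F))
    (hv : ∃ v, Q v ≠ 0) (x : GL ι F) (hx : x ∈ Cfsg.Geo.omegaGL ⇑Q) (r : ℕ) (hr : Odd r)
    (z : F) (hz : ((x ^ r : GL ι F) : Matrix ι ι F) = z • (1 : Matrix ι ι F))
    (hxns : ∀ z : F, (x : Matrix ι ι F) ≠ z • (1 : Matrix ι ι F)) :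
    ∃ T : Module.End F (ι → F), (∀ v, Q (T v) = Q v) ∧ T ^ r = 1 ∧ T ≠ 1 ∧
      ∀ W : Submodule F (ι → F), (∀ w ∈ W, T w ∈ W) →
        W.map (Matrix.toLin' (x : Matrix ι ι F)) ≤ W := by
  have hzz : z * z = 1 := sro_scalar Q hv x hx r z hz
  obtain ⟨L, hL⟩ : ∃ L : Module.End F (ι → F), L = Matrix.toLin' (x : Matrix ι ι F) := ⟨_, rfl⟩
  rw [← hL]
  have hLr : L ^ r = z • (1 : Module.End F (ι → F)) := by
    rw [hL, stp_toLin_pow, ← Units.val_pow_eq_pow_val, hz, map_smul, Matrix.toLin'_one]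
    rfl
  have hLiso : ∀ v, Q (L v) = Q v := by
    rw [hL]
    exact sro_iso_of_mem Q x hx
  have hzL : ∀ v, z • (z • L) v = L v := by
    intro v
    rw [LinearMap.smul_apply, smul_smul, hzz, one_smul]
  refine ⟨z • L, ?_, ?_, ?_, ?_⟩
  · intro v
    rw [LinearMap.smul_apply, QuadraticMap.map_smul, hzz, one_smul, hLiso]
  · rw [smul_pow, hLr, smul_smul, ← pow_succ]
    obtain ⟨k, hk⟩ := hr
    have h1 : r + 1 = 2 * (k + 1) := by omega
    rw [h1, stp_sq_one z hzz, one_smul]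
  · intro h1
    apply hxns z
    apply Matrix.toLin'.injective
    rw [← hL, map_smul, Matrix.toLin'_one]
    apply LinearMap.ext
    intro v
    rw [← hzL v, h1, Module.End.one_apply, LinearMap.smul_apply]
    rfl
  · intro W hW
    rintro _ ⟨w, hw, rfl⟩
    have h1 : (L : (ι → F) →ₗ[F] (ι → F)) w = z • (z • L) w := (hzL w).symm
    show L w ∈ W
    rw [h1]
    exact W.smul_mem z (hW w hw)

/-- The sum of a totally singular subspace of `ker (T - 1)` and an invariant totally singular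
subspace of `range (T - 1)`. -/
theorem stp_sum {V : Type u} [AddCommGroup V] [Module F V] [FiniteDimensional F V]
    (Q : QuadraticForm F V) (T : Module.End F V) (hT : ∀ v, Q (T v) = Q v)
    (r : ℕ) (hTr : T ^ r = 1) (hrF : ((r : ℕ) : F) ≠ 0)
    (A X : Submodule F V) (hA : A ≤ LinearMap.ker (T - 1)) (hAts : ∀ w ∈ A, Q w = 0)
    (hX : X ≤ LinearMap.range (T - 1)) (hXts : ∀ x ∈ X, Q x = 0) (hXinv : ∀ x ∈ X, T x ∈ X) :
    ∃ W : Submodule F V, finrank F W = finrank F A + finrank F X ∧ (∀ w ∈ W, Q w = 0) ∧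
      ∀ w ∈ W, T w ∈ W := by
  refine ⟨A ⊔ X, ?_, ?_, ?_⟩
  · have h1 := Submodule.finrank_sup_add_finrank_inf_eq A X
    have h3 : A ⊓ X = ⊥ := by
      rw [eq_bot_iff, ← sr_KR_bot T r hTr hrF]
      exact inf_le_inf hA hX
    rw [h3, finrank_bot, add_zero] at h1
    exact h1
  · intro w hw
    obtain ⟨a, ha, x, hx, rfl⟩ := Submodule.mem_sup.mp hw
    rw [QuadraticMap.map_add Q a x, hAts a ha, hXts x hx, sr_KR_orth Q T hT a (hA ha) x (hX hx)]
    ring
  · intro w hw
    obtain ⟨a, ha, x, hx, rfl⟩ := Submodule.mem_sup.mp hw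
    have ha' : T a = a := by
      have := hA ha
      rw [LinearMap.mem_ker, LinearMap.sub_apply, Module.End.one_apply, sub_eq_zero] at this
      exact this
    rw [map_add, ha']
    exact Submodule.add_mem _ (Submodule.mem_sup_left ha) (Submodule.mem_sup_right (hXinv x hx))

end stpaux

end Cfsg.Agent.Lib.helper24
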