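import Mathlib
import Cfsg.Agent.Lib.helper24.StsDefs
import Cfsg.Agent.Lib.helper17.StsCNTB
import Cfsg.Agent.Lib.helper56.StsINVA
import Cfsg.Agent.Lib.helper77.StsINVC
import Cfsg.Agent.Lib.helper5.StsORTHM
import Cfsg.Agent.Lib.helper63.StsSPH
import Cfsg.Agent.Lib.helper17.StsCNTA
import Cfsg.Agent.Lib.helper63.StsSPBAD
import Cfsg.Agent.Lib.helper77.StsINVB

/-! S5972 split: the orthogonal / symplectic bridge and the assembly. -/

set_option autoImplicit false
set_option linter.unusedSectionVars false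
set_option linter.unusedVariables false
set_option linter.style.haveILetI false
set_option linter.deprecated false

namespace Cfsg.Agent.Lib.helper24

open Module Cfsg.Agent.Lib.helper45 Cfsg.Agent.Lib.helper49

universe u

section stsbridge

variable {F : Type u} [Field F] [Fintype F] {V : Type u} [AddCommGroup V] [Module F V]
  [FiniteDimensional F V]

variable (Q : QuadraticForm F V) (hnd : ∀ v, (∀ w, QuadraticMap.polar Q v w = 0) → v = 0)
  (T : Module.End F V) (hT : ∀ v, Q (T v) = Q v)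
  (p f' : ℕ) [Fact p.Prime] (hF : Fintype.card F = p ^ f') (r : ℕ) [Fact r.Prime]
  (hpr : p.Coprime r) (hr2 : r ≠ 2) (hTr : T ^ r = 1)
  (i c : ℕ) (hi : i = orderOf ((Fintype.card F : ℕ) : ZMod r))
  (hc : c = if Even i then i else 2 * i)

include hnd hT hF hpr hr2 hTr hi hc

/-- The shape of an invariant totally singular subspace. -/
theorem sts_nec (W : Submodule F V) (hWts : ∀ w ∈ W, Q w = 0) (hWinv : ∀ w ∈ W, T w ∈ W) :
    ∃ a b : ℕ, a + i * b = finrank F W ∧ 2 * a ≤ finrank F (LinearMap.ker (T - 1)) ∧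
      finrank F ↥(W ⊓ LinearMap.range (T - 1)) = i * b := by
  haveI : Finite V := Module.finite_of_finite F
  have hq0 := el_card_ne_zero p f' hF r hpr
  have hrF := el_natCast_ne_zero (F := F) p f' hF r hpr
  obtain ⟨-, hsplit⟩ := sr_split Q hnd T hT r hTr hrF W hWinv
  have hK := sr_K_nd Q hnd T hT r hTr hrF
  have h1 := sts_ts_half Q (LinearMap.ker (T - 1)) hK (W ⊓ LinearMap.ker (T - 1)) inf_le_right
    (fun u hu => hWts u (Submodule.mem_inf.mp hu).1)
  have hXinv : ∀ x ∈ W ⊓ LinearMap.range (T - 1), T x ∈ W ⊓ LinearMap.range (T - 1) := by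
    intro x hx
    obtain ⟨hx1, hx2⟩ := Submodule.mem_inf.mp hx
    exact Submodule.mem_inf.mpr ⟨hWinv x hx1, sr_R_inv T x hx2⟩
  have h3 : i ∣ finrank F ↥(W ⊓ LinearMap.range (T - 1)) := by
    have h4 := Cfsg.Agent.Lib.helper63.Elusive.orderOf_dvd_finrank_sub r hq0
      (T.restrict hXinv) (el_restrict_pow T r hTr _ hXinv)
    have h5 : LinearMap.ker (T - 1) ⊓ (W ⊓ LinearMap.range (T - 1)) = ⊥ := by
      rw [eq_bot_iff, ← sr_KR_bot T r hTr hrF]
      exact inf_le_inf le_rfl inf_le_right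
    rw [el_finrank_ker_restrict, h5, finrank_bot, Nat.sub_zero, ← hi] at h4
    exact h4
  obtain ⟨b, hb⟩ := h3
  exact ⟨finrank F ↥(W ⊓ LinearMap.ker (T - 1)), b, by rw [← hb]; exact hsplit, h1, hb⟩

/-- The bridge to the symplectic problem: invariant totally singular subspaces of `[V, T]`. -/
theorem sts_half [CharP F p] (h2 : (2 : F) ≠ 0) :
    ∃ S A : ℕ, finrank F (LinearMap.range (T - 1)) = i * A ∧ (Odd i → A = 2 * S) ∧
      (Even i → A ≤ 2 * S + (r - 1) / i) ∧
      ∀ B : ℕ, B ≤ S → ∃ X : Submodule F V, X ≤ LinearMap.range (T - 1) ∧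
        (∀ x ∈ X, Q x = 0) ∧ (∀ x ∈ X, T x ∈ X) ∧ finrank F X = i * B := by
  classical
  haveI : Finite V := Module.finite_of_finite F
  have hr : r.Prime := Fact.out
  have hpp : p.Prime := Fact.out
  have hq0 := el_card_ne_zero p f' hF r hpr
  have hrF := el_natCast_ne_zero (F := F) p f' hF r hpr
  have hrodd : Odd r := hr.odd_of_ne_two hr2
  have hrp : r ≠ p := by
    rintro rfl
    rw [Nat.coprime_self] at hpr
    exact hr.one_lt.ne' hpr
  obtain ⟨T', hT'⟩ : ∃ T' : Module.End F V, T' = T ^ (r - 1) := ⟨_, rfl⟩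
  have hTT' : T * T' = 1 := by rw [hT', ← pow_succ', Nat.sub_add_cancel hr.one_le, hTr]
  have hT'T : T' * T = 1 := by rw [hT', ← pow_succ, Nat.sub_add_cancel hr.one_le, hTr]
  obtain ⟨R, hRdef⟩ : ∃ R : Submodule F V, R = LinearMap.range (T - 1) := ⟨_, rfl⟩
  rw [← hRdef]
  have hR : ∀ x ∈ R, T x ∈ R := by
    rw [hRdef]
    exact sr_R_inv T
  have hR' : ∀ x ∈ R, T' x ∈ R := by
    rw [hT']
    exact sr_pow_mem T R hR (r - 1)
  have hfixR : LinearMap.ker (T - 1) ⊓ R = ⊥ := by
    rw [hRdef]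
    exact sr_KR_bot T r hTr hrF
  have hRnd : SpNd (QuadraticMap.polarBilin Q) R := by
    rw [hRdef]
    exact sr_R_nd Q hnd T hT r hTr hrF
  have hRalt : SpNd (srAlt Q T T') R :=
    (sr_nd_iff Q T T' hTT' r hrodd hTr R hR hR' hfixR).mp hRnd
  have haltV : ∀ v, srAlt Q T T' v v = 0 := srAlt_alt Q T T' hT hTT'
  obtain ⟨ωR, hωR⟩ : ∃ ωR : ↥R →ₗ[F] ↥R →ₗ[F] F, ωR = (srAlt Q T T').domRestrict₁₂ R R :=
    ⟨_, rfl⟩
  have hωRa : ∀ u v : ↥R, ωR u v = srAlt Q T T' (u : V) (v : V) := by
    intro u v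
    rw [hωR]
    rfl
  have haltR : ∀ v : ↥R, ωR v v = 0 := fun v => by rw [hωRa]; exact haltV v
  have hndR : ∀ v : ↥R, (∀ w : ↥R, ωR v w = 0) → v = 0 := by
    rw [hωR]
    exact sp_nd_restrict (srAlt Q T T') R hRalt
  obtain ⟨a, ha⟩ : ∃ a : Module.End F ↥R, a = T.restrict hR := ⟨_, rfl⟩
  obtain ⟨b, hb⟩ : ∃ b : Module.End F ↥R, b = T'.restrict hR' := ⟨_, rfl⟩
  have hav : ∀ v : ↥R, ((a v : ↥R) : V) = T (v : V) := fun v => by rw [ha]; rfl
  have hbv : ∀ v : ↥R, ((b v : ↥R) : V) = T' (v : V) := fun v => by rw [hb]; rfl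
  have hisoR : ∀ v w : ↥R, ωR (a v) (a w) = ωR v w := by
    intro v w
    rw [hωRa, hωRa, hav, hav]
    exact srAlt_iso Q T T' hT hTT' hT'T v w
  have hab : a * b = 1 := by
    apply LinearMap.ext
    intro x
    apply Subtype.ext
    rw [Module.End.mul_apply, hav, hbv, sq_inv_apply T T' hTT']
    rfl
  have har : a ^ r = 1 := by
    rw [ha]
    exact el_restrict_pow T r hTr R hR
  obtain ⟨n, hn⟩ := sp_even (srAlt Q T T') haltV R hRalt
  have hfin : finrank F ↥R = 2 * n := by omega
  obtain ⟨g, φ, hφ, hg, hpow, -⟩ :=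
    Cfsg.Agent.Lib.helper63.SpTI.exists_sp_model n ωR a b haltR hndR hisoR hab hfin
  have hgr : g ^ r = 1 := hpow r har
  have hgfix : ∀ v : Fin n ⊕ Fin n → F,
      (g : Matrix (Fin n ⊕ Fin n) (Fin n ⊕ Fin n) F).mulVec v = v → v = 0 := by
    intro v hv
    obtain ⟨y, rfl⟩ := φ.surjective v
    rw [hg] at hv
    have h1 : a y = y := φ.injective hv
    have h3 : (y : V) ∈ LinearMap.ker (T - 1) ⊓ R := by
      refine Submodule.mem_inf.mpr ⟨?_, y.2⟩
      rw [LinearMap.mem_ker, LinearMap.sub_apply, Module.End.one_apply, ← hav, h1, sub_self]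
    rw [hfixR, Submodule.mem_bot] at h3
    have h4 : y = 0 := Subtype.ext h3
    rw [h4, map_zero]
  obtain ⟨S, hS1, hS2, hS3⟩ := sts_sp_half p r hrp hr2 n g hgr hgfix
  rw [← hi] at hS1 hS2 hS3
  have hi1 : 1 ≤ i := srf_i_pos p f' hF r hpr hr2 i c hi hc
  have hiR : i ∣ finrank F ↥R := by
    have h4 := Cfsg.Agent.Lib.helper63.Elusive.orderOf_dvd_finrank_sub r hq0
      (T.restrict hR) (el_restrict_pow T r hTr R hR)
    rw [el_finrank_ker_restrict, hfixR, finrank_bot, Nat.sub_zero, ← hi] at h4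
    exact h4
  obtain ⟨A, hA⟩ := hiR
  refine ⟨S, A, hA, ?_, ?_, ?_⟩
  · intro ho
    have h5 := hS1 ho
    have h6 : i * A = i * (2 * S) := by
      rw [← hA, hfin, ← h5]
      ring
    exact Nat.eq_of_mul_eq_mul_left (by omega) h6
  · intro he
    have h5 := hS2 he
    have h6 : i * A ≤ i * (2 * S + (r - 1) / i) := by
      rw [← hA, hfin]
      exact h5
    exact Nat.le_of_mul_le_mul_left h6 (by omega)
  · intro B hB
    obtain ⟨W', hW'dim, hW'ti, hW'inv⟩ := hS3 B hB
    obtain ⟨X₀, hX₀⟩ : ∃ X₀ : Submodule F ↥R,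
        X₀ = W'.map (φ.symm : (Fin n ⊕ Fin n → F) →ₗ[F] ↥R) := ⟨_, rfl⟩
    have hX₀mem : ∀ y : ↥R, y ∈ X₀ ↔ φ y ∈ W' := by
      intro y
      rw [hX₀]
      constructor
      · rintro ⟨w, hw, rfl⟩
        have : φ (φ.symm w) = w := φ.apply_symm_apply w
        rw [show ((φ.symm : (Fin n ⊕ Fin n → F) →ₗ[F] ↥R) w) = φ.symm w from rfl, this]
        exact hw
      · intro hy
        exact ⟨φ y, hy, φ.symm_apply_apply y⟩
    have hX₀dim : finrank F X₀ = i * B := by
      rw [hX₀, LinearEquiv.finrank_map_eq φ.symm W', hW'dim]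
    have hX₀inv : ∀ y ∈ X₀, a y ∈ X₀ := by
      intro y hy
      rw [hX₀mem] at hy ⊢
      rw [← hg]
      apply hW'inv
      exact ⟨φ y, hy, by rw [Matrix.toLin'_apply]⟩
    refine ⟨X₀.map R.subtype, Submodule.map_subtype_le R X₀, ?_, ?_, ?_⟩
    · -- totally singular
      have hXinv : ∀ x ∈ X₀.map R.subtype, T x ∈ X₀.map R.subtype := by
        rintro _ ⟨y, hy, rfl⟩
        exact ⟨a y, hX₀inv y hy, hav y⟩
      have hXinv' : ∀ x ∈ X₀.map R.subtype, T' x ∈ X₀.map R.subtype := by
        rw [hT']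
        exact sr_pow_mem T _ hXinv (r - 1)
      have hL : ∀ x ∈ X₀.map R.subtype, (T - T') x ∈ X₀.map R.subtype := by
        intro x hx
        rw [LinearMap.sub_apply]
        exact Submodule.sub_mem _ (hXinv x hx) (hXinv' x hx)
      have hLinj : Function.Injective ((T - T').restrict hL) := by
        rw [injective_iff_map_eq_zero]
        intro x hx
        apply Subtype.ext
        have h5 := congrArg Subtype.val hx
        rw [LinearMap.restrict_coe_apply, LinearMap.sub_apply] at h5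
        have h6 := sr_inj T T' hTT' r hrodd hTr x.1 h5
        have h7 : (x : V) ∈ LinearMap.ker (T - 1) ⊓ R := by
          refine Submodule.mem_inf.mpr ⟨?_, Submodule.map_subtype_le R X₀ x.2⟩
          rw [LinearMap.mem_ker, LinearMap.sub_apply, Module.End.one_apply, h6, sub_self]
        rw [hfixR, Submodule.mem_bot] at h7
        exact h7
      have hLsurj := LinearMap.injective_iff_surjective.mp hLinj
      intro x hx
      obtain ⟨y, hy⟩ := hLsurj ⟨x, hx⟩
      have hy' : T y.1 - T' y.1 = x := by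
        have := congrArg Subtype.val hy
        rw [LinearMap.restrict_coe_apply, LinearMap.sub_apply] at this
        exact this
      obtain ⟨y₀, hy₀, hy₀e⟩ := y.2
      obtain ⟨x₀, hx₀, hx₀e⟩ := hx
      have h8 : srAlt Q T T' y.1 x = 0 := by
        rw [← hy₀e, ← hx₀e]
        show srAlt Q T T' (y₀ : V) (x₀ : V) = 0
        rw [← hωRa, ← hφ]
        exact hW'ti _ ((hX₀mem y₀).mp hy₀) _ ((hX₀mem x₀).mp hx₀)
      rw [srAlt_apply, hy', sr_polar_self] at h8
      exact (mul_eq_zero.mp h8).resolve_left h2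
    · rintro _ ⟨y, hy, rfl⟩
      exact ⟨a y, hX₀inv y hy, hav y⟩
    · rw [Submodule.finrank_map_subtype_eq, hX₀dim]

end stsbridge


section stssum

variable {F : Type u} [Field F] [Fintype F]

/-- The sum of a totally singular subspace of `ker (T - 1)` and an invariant totally singular
subspace of `range (T - 1)`. -/
theorem sts_sum {V : Type u} [AddCommGroup V] [Module F V] [FiniteDimensional F V]
    (Q : QuadraticForm F V) (T : Module.End F V) (hT : ∀ v, Q (T v) = Q v)
    (r : ℕ) (hTr : T ^ r = 1) (hrF : ((r : ℕ) : F) ≠ 0)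
    (A X : Submodule F V) (hA : A ≤ LinearMap.ker (T - 1)) (hAts : ∀ w ∈ A, Q w = 0)
    (hX : X ≤ LinearMap.range (T - 1)) (hXts : ∀ x ∈ X, Q x = 0) (hXinv : ∀ x ∈ X, T x ∈ X) :
    ∃ W : Submodule F V, finrank F W = finrank F A + finrank F X ∧ (∀ w ∈ W, Q w = 0) ∧
      ∀ w ∈ W, T w ∈ W := by
  refine ⟨A ⊔ X, ?_, ?_, ?_⟩
  · have h1 := Submodule.finrank_sup_add_finrank_inf_eq A X
    have h3 : A ⊓ X = ⊥ := by
      rw [eq_bot_iff, ← sr_KR_bot T r hTr hrF]
      exact inf_le_inf hA hX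
    rw [h3, finrank_bot, add_zero] at h1
    exact h1
  · intro w hw
    obtain ⟨a, ha, x, hx, rfl⟩ := Submodule.mem_sup.mp hw
    rw [QuadraticMap.map_add Q a x, hAts a ha, hXts x hx, sr_KR_orth Q T hT a (hA ha) x (hX hx)]
    ring
  · intro w hw
    obtain ⟨a, ha, x, hx, rfl⟩ := Submodule.mem_sup.mp hw
    have ha' : T a = a := by
      have := hA ha
      rw [LinearMap.mem_ker, LinearMap.sub_apply, Module.End.one_apply, sub_eq_zero] at this
      exact this
    rw [map_add, ha']
    exact Submodule.add_mem _ (Submodule.mem_sup_left ha) (Submodule.mem_sup_right (hXinv x hx))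

/-- From a symplectic model without fixed vectors to an element of `Ω_{2d+1}(q)`. -/
theorem sts_orth (h2 : (2 : F) ≠ 0) (r : ℕ) (hr : r.Prime) (hr2 : r ≠ 2) (d : ℕ) (hd : 1 ≤ d)
    {V : Type u} [AddCommGroup V] [Module F V] [FiniteDimensional F V]
    (ω : V →ₗ[F] V →ₗ[F] F) (a b : Module.End F V)
    (halt : ∀ v, ω v v = 0) (hnd : ∀ v, (∀ w, ω v w = 0) → v = 0)
    (hiso : ∀ v w, ω (a v) (a w) = ω v w) (hab : a * b = 1) (har : a ^ r = 1)
    (hfix : ∀ v, a v = v → v = 0) (hdim : finrank F V ≤ 2 * d) (N : ℕ)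
    (hN : ∀ W : Submodule F V, (∀ u ∈ W, ∀ v ∈ W, ω u v = 0) → (∀ w ∈ W, a w ∈ W) →
      finrank F W ≤ N) :
    ∃ g : GL (Unit ⊕ (Fin d ⊕ Fin d)) F, g ∈ Cfsg.Geo.omegaGL (Cfsg.quadFormOdd d F) ∧ g ^ r = 1 ∧
      finrank F (LinearMap.ker (Matrix.toLin' (g : Matrix (Unit ⊕ (Fin d ⊕ Fin d)) (Unit ⊕ (Fin d ⊕ Fin d)) F) - 1)) = 2 * d + 1 - finrank F V ∧
      ∀ X : Submodule F ((Unit ⊕ (Fin d ⊕ Fin d)) → F), X ≤ LinearMap.range (Matrix.toLin' (g : Matrix (Unit ⊕ (Fin d ⊕ Fin d)) (Unit ⊕ (Fin d ⊕ Fin d)) F) - 1) →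
        (∀ x ∈ X, Cfsg.quadFormOdd d F x = 0) →
        (∀ x ∈ X, Matrix.toLin' (g : Matrix (Unit ⊕ (Fin d ⊕ Fin d)) (Unit ⊕ (Fin d ⊕ Fin d)) F) x ∈ X) → finrank F X ≤ N := by
  obtain ⟨V', _, _, _, β, T, hsym, hβnd, hβiso, hTr, hV'dim, hker, hX⟩ :=
    sts_orth_model h2 r hr hr2 ω a b halt hnd hiso hab har hfix (2 * d + 1 - finrank F V)
  have hdim' : finrank F V' = 2 * d + 1 := by omega
  obtain ⟨g, φ, κ, hgΩ, hgr, hκ, hQφ, hgφ⟩ :=
    sts_to_odd h2 r hr hr2 d hd β hsym hβnd T hβiso hTr hdim'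
  refine ⟨g, hgΩ, hgr, ?_, ?_⟩
  · have h1 := sq_conj_ker φ T (Matrix.toLin' (g : Matrix (Unit ⊕ (Fin d ⊕ Fin d)) (Unit ⊕ (Fin d ⊕ Fin d)) F)) hgφ 1
    rw [pow_one, pow_one] at h1
    rw [h1, hker]
  · intro X hXR hXts hXinv
    obtain ⟨X', hX'⟩ : ∃ X' : Submodule F V',
        X' = X.map (φ.symm : ((Unit ⊕ (Fin d ⊕ Fin d)) → F) →ₗ[F] V') := ⟨_, rfl⟩
    have hmem : ∀ y : V', y ∈ X' ↔ φ y ∈ X := by
      intro y
      rw [hX']
      constructor
      · rintro ⟨w, hw, rfl⟩
        have : φ (φ.symm w) = w := φ.apply_symm_apply w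
        rw [show ((φ.symm : ((Unit ⊕ (Fin d ⊕ Fin d)) → F) →ₗ[F] V') w) = φ.symm w from rfl, this]
        exact hw
      · intro hy
        exact ⟨φ y, hy, φ.symm_apply_apply y⟩
    have hX'dim : finrank F X' = finrank F X := by
      rw [hX', LinearEquiv.finrank_map_eq φ.symm X]
    have h1 : X' ≤ LinearMap.range (T - 1) := by
      intro y hy
      obtain ⟨z, hz⟩ := hXR ((hmem y).mp hy)
      obtain ⟨z', rfl⟩ := φ.surjective z
      refine ⟨z', ?_⟩
      apply φ.injective
      rw [LinearMap.sub_apply, Module.End.one_apply, map_sub, ← hgφ, ← hz, LinearMap.sub_apply,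
        Module.End.one_apply]
    have h3 : ∀ x ∈ X', β x x = 0 := by
      intro x hx
      have h4 := hXts _ ((hmem x).mp hx)
      rw [hQφ] at h4
      exact (mul_eq_zero.mp h4).resolve_left hκ
    have h5 : ∀ x ∈ X', T x ∈ X' := by
      intro x hx
      rw [hmem, ← hgφ]
      exact hXinv _ ((hmem x).mp hx)
    obtain ⟨W, hWti, hWinv, hWdim⟩ := hX X' h1 h3 h5
    rw [← hX'dim, ← hWdim]
    exact hN W hWti hWinv

end stssum


section stsmain

variable {F : Type u} [Field F] [Fintype F]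

/-- `Ω_{2d+1}(q)`, `q` odd, on totally singular `m`-spaces: elements of prime order `r`. -/
theorem sts_main {p : ℕ} [Fact p.Prime] [CharP F p] (hqodd : Odd (Fintype.card F))
    (d m : ℕ) (hd : 3 ≤ d) (hm : 1 ≤ m) (hmd : m ≤ d) (r : ℕ) [Fact r.Prime]
    (hrΩ : r ∣ Nat.card {W : Submodule F ((Unit ⊕ (Fin d ⊕ Fin d)) → F) //
      Module.finrank F ↥W = m ∧ (∀ w ∈ W, Cfsg.quadFormOdd d F w = 0)})
    (i c : ℕ) (hi : i = orderOf ((Fintype.card F : ℕ) : ZMod r))
    (hc : c = if Even i then i else 2 * i) :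
    (∀ x : GL (Unit ⊕ (Fin d ⊕ Fin d)) F, x ∈ Cfsg.Geo.omegaGL (Cfsg.quadFormOdd d F) → orderOf x = r →
      ∃ W : Submodule F ((Unit ⊕ (Fin d ⊕ Fin d)) → F), Module.finrank F ↥W = m ∧
        (∀ w ∈ W, Cfsg.quadFormOdd d F w = 0) ∧ W.map (Matrix.toLin' (x : Matrix (Unit ⊕ (Fin d ⊕ Fin d)) (Unit ⊕ (Fin d ⊕ Fin d)) F)) ≤ W) ↔
    ((r = 2 ∧ (m < d ∨ Fintype.card F % 4 = 1)) ∨
     (r ≠ p ∧ 2 < r ∧ i ≤ m ∧ 2 * (m % i) < (2 * d + 1) % c ∧
       (Odd i ∨ (r - 1) / i + 2 * (m / i) ≤ (2 * d + 1) / i))) := by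
  classical
  have hpp : p.Prime := Fact.out
  have hr : r.Prime := Fact.out
  have hp2 : p ≠ 2 := by
    rintro rfl
    have h1 : ((Fintype.card F : ℕ) : F) = 0 := Nat.cast_card_eq_zero F
    rw [CharP.cast_eq_zero_iff F 2] at h1
    exact (Nat.not_even_iff_odd.mpr hqodd) (even_iff_two_dvd.mpr h1)
  have h2 : (2 : F) ≠ 0 := sq_two_ne p hp2
  obtain ⟨f'', -, hF⟩ := FiniteField.card F p
  have hnd := srf_nd (F := F) h2 d
  have hdimV := srf_dim (F := F) d
  -- the counting consequence
  have hcount : ∃ j, j < m ∧ r ∣ Fintype.card F ^ (2 * (d - j)) - 1 := by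
    have hA : ∀ U : Submodule F ((Unit ⊕ (Fin d ⊕ Fin d)) → F), (∀ u ∈ U, oddForm d F u = 0) → finrank F U < m →
        Nat.card {v : (Unit ⊕ (Fin d ⊕ Fin d)) → F // oddForm d F v = 0 ∧
          ∀ u ∈ U, QuadraticMap.polar (oddForm d F) u v = 0} =
          Fintype.card F ^ (2 * d - finrank F U) :=
      fun U hU _ => sts_perp_sing (oddForm d F) hnd h2 d hdimV U hU
    have hcnt := sts_count (oddForm d F) d m hmd hA
    have hrΩ' : r ∣ Nat.card {W : Submodule F ((Unit ⊕ (Fin d ⊕ Fin d)) → F) //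
        finrank F W = m ∧ ∀ w ∈ W, oddForm d F w = 0} := hrΩ
    have h3 : r ∣ ∏ j ∈ Finset.range m, (Fintype.card F ^ (2 * (d - j)) - 1) := by
      rw [← hcnt]
      exact Dvd.dvd.mul_right hrΩ' _
    obtain ⟨j, hj, hjd⟩ := (Prime.dvd_finsetProd_iff hr.prime _).mp h3
    exact ⟨j, Finset.mem_range.mp hj, hjd⟩
  have hne1 : ∀ g : GL (Unit ⊕ (Fin d ⊕ Fin d)) F,
      finrank F (LinearMap.ker (Matrix.toLin' (g : Matrix (Unit ⊕ (Fin d ⊕ Fin d)) (Unit ⊕ (Fin d ⊕ Fin d)) F) - 1)) < 2 * d + 1 → g ≠ 1 := by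
    intro g hlt h1
    rw [h1] at hlt
    have h4 : (Matrix.toLin' ((1 : GL (Unit ⊕ (Fin d ⊕ Fin d)) F) : Matrix (Unit ⊕ (Fin d ⊕ Fin d)) (Unit ⊕ (Fin d ⊕ Fin d)) F) - 1) = 0 := by
      rw [Units.val_one, Matrix.toLin'_one]
      exact sub_self _
    rw [h4, LinearMap.ker_zero, finrank_top, hdimV] at hlt
    omega
  by_cases hr2 : r = 2
  · subst hr2
    constructor
    · intro H
      left
      refine ⟨rfl, ?_⟩
      by_contra hcon
      push_neg at hcon
      obtain ⟨hdm, h41⟩ := hcon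
      have hmd' : m = d := by omega
      have h43 : Fintype.card F % 4 = 3 := by
        obtain ⟨t, ht⟩ := hqodd
        omega
      obtain ⟨x, hxΩ, hxord, hxno⟩ := sts_inv_bad hqodd h43 d (by omega)
      obtain ⟨W, hWdim, hWts, hWinv⟩ := H x hxΩ hxord
      exact hxno W (by rw [hWdim, hmd']) hWts hWinv
    · rintro (⟨-, hcond⟩ | ⟨-, h3, -⟩)
      · intro x hxΩ hxord
        have hx2 : x * x = 1 := by
          rw [← pow_two, ← hxord]
          exact pow_orderOf_eq_one x
        rcases Nat.lt_or_ge m d with hlt | hge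
        · exact sts_inv_lt h2 d m hlt x (fun u => by
            have h5 := srf_iso d x hxΩ u
            rw [Matrix.toLin'_apply] at h5
            exact h5) hx2
        · have h41 : Fintype.card F % 4 = 1 := hcond.resolve_left (by omega)
          have hmd' : m = d := by omega
          obtain ⟨U, hUle, hUts, hUdim⟩ := sts_inv_plus hqodd h41 d (by omega) x hxΩ hx2
          obtain ⟨T, hTdef⟩ : ∃ T : Module.End F ((Unit ⊕ (Fin d ⊕ Fin d)) → F), T = Matrix.toLin' (x : Matrix (Unit ⊕ (Fin d ⊕ Fin d)) (Unit ⊕ (Fin d ⊕ Fin d)) F) :=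
            ⟨_, rfl⟩
          rw [← hTdef] at hUle hUdim ⊢
          have hT : ∀ v, oddForm d F (T v) = oddForm d F v := by
            rw [hTdef]
            exact srf_iso d x hxΩ
          have hT2 : T ^ 2 = 1 := by
            rw [hTdef]
            exact srf_pow d x 2 (by rw [pow_two]; exact hx2)
          have hTT : ∀ v, T (T v) = v := by
            intro v
            have h5 := congrArg (fun φ : Module.End F ((Unit ⊕ (Fin d ⊕ Fin d)) → F) => φ v) hT2
            simpa [pow_two] using h5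
          have hrF2 : (((2 : ℕ)) : F) ≠ 0 := by exact_mod_cast h2
          have hKnd := sr_K_nd (oddForm d F) hnd T hT 2 hT2 hrF2
          have hKR := LinearMap.finrank_range_add_finrank_ker (T - 1)
          rw [hdimV] at hKR
          have hle1 : LinearMap.ker (T + 1) ≤ LinearMap.range (T - 1) := by
            intro v hv
            have hv' : T v = -v := by
              rw [LinearMap.mem_ker, LinearMap.add_apply, Module.End.one_apply] at hv
              exact eq_neg_of_add_eq_zero_left hv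
            have h6 : (2 : F) • v ∈ LinearMap.range (T - 1) := by
              refine ⟨-v, ?_⟩
              rw [LinearMap.sub_apply, Module.End.one_apply, map_neg, hv', two_smul]
              abel
            have h7 := (LinearMap.range (T - 1)).smul_mem ((2 : F)⁻¹) h6
            rwa [smul_smul, inv_mul_cancel₀ h2, one_smul] at h7
          have hle2 : LinearMap.range (T - 1) ≤ LinearMap.ker (T + 1) := by
            rintro _ ⟨y, rfl⟩
            simp only [LinearMap.mem_ker, LinearMap.add_apply, Module.End.one_apply,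
              LinearMap.sub_apply, map_sub, hTT]
            abel
          have heq : LinearMap.ker (T + 1) = LinearMap.range (T - 1) := le_antisymm hle1 hle2
          rw [heq] at hUle hUdim
          have hUinv : ∀ u ∈ U, T u ∈ U := by
            intro u hu
            have h5 := hle2 (hUle hu)
            rw [LinearMap.mem_ker, LinearMap.add_apply, Module.End.one_apply] at h5
            rw [eq_neg_of_add_eq_zero_left h5]
            exact U.neg_mem hu
          obtain ⟨A, hAK, hAdim, hAts⟩ := sts_witt (oddForm d F) h2 (LinearMap.ker (T - 1)) hKnd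
            (d - finrank F U) (by omega)
          obtain ⟨W, hWdim, hWts, hWinv⟩ := sts_sum (oddForm d F) T hT 2 hT2 hrF2 A U hAK hAts
            hUle hUts hUinv
          refine ⟨W, by rw [hWdim, hAdim]; omega, hWts, ?_⟩
          rintro _ ⟨w, hw, rfl⟩
          exact hWinv w hw
      · omega
  · have hr3 : 2 < r := by
      have := hr.two_le
      omega
    by_cases hrp : r = p
    · exfalso
      obtain ⟨j, hjm, hjd⟩ := hcount
      rw [hrp] at hjd
      have hpq : p ∣ Fintype.card F ^ (2 * (d - j)) := by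
        rw [hF]
        exact dvd_pow (dvd_pow_self p (PNat.ne_zero f'')) (by omega)
      have hq1 : 1 ≤ Fintype.card F ^ (2 * (d - j)) := Nat.one_le_pow _ _ Fintype.card_pos
      have h1 : p ∣ 1 := by
        have h5 := Nat.dvd_sub hpq hjd
        rwa [Nat.sub_sub_self hq1] at h5
      exact hpp.one_lt.ne' (Nat.dvd_one.mp h1)
    · have hpr : p.Coprime r := (Nat.coprime_primes hpp hr).mpr (Ne.symm hrp)
      have hq0 := el_card_ne_zero p (f'' : ℕ) hF r hpr
      have hrF := el_natCast_ne_zero (F := F) p (f'' : ℕ) hF r hpr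
      have hi1 : 1 ≤ i := srf_i_pos p (f'' : ℕ) hF r hpr hr2 i c hi hc
      obtain ⟨j, hjm, hjd⟩ := hcount
      have hq1 : 1 ≤ Fintype.card F ^ (2 * (d - j)) := Nat.one_le_pow _ _ Fintype.card_pos
      have hpow : ((Fintype.card F : ℕ) : ZMod r) ^ (2 * (d - j)) = 1 := by
        have h5 := (ZMod.natCast_eq_zero_iff _ r).mpr hjd
        rw [Nat.cast_sub hq1, Nat.cast_pow, Nat.cast_one, sub_eq_zero] at h5
        exact h5
      have hie : i ∣ 2 * (d - j) := by
        rw [hi]
        exact orderOf_dvd_of_pow_eq_one hpow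
      obtain ⟨mq, hmq⟩ : ∃ mq, mq = m / i := ⟨_, rfl⟩
      obtain ⟨mr, hmr⟩ : ∃ mr, mr = m % i := ⟨_, rfl⟩
      have hm1 : i * mq + mr = m := by
        rw [hmq, hmr]
        exact Nat.div_add_mod m i
      have hm2 : mr < i := by
        rw [hmr]
        exact Nat.mod_lt _ (by omega)
      rw [← hmq, ← hmr]
      have hdata : ∀ x : GL (Unit ⊕ (Fin d ⊕ Fin d)) F, x ∈ Cfsg.Geo.omegaGL (Cfsg.quadFormOdd d F) → x ^ r = 1 →
          (∀ v, oddForm d F (Matrix.toLin' (x : Matrix (Unit ⊕ (Fin d ⊕ Fin d)) (Unit ⊕ (Fin d ⊕ Fin d)) F) v) = oddForm d F v) ∧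
          (Matrix.toLin' (x : Matrix (Unit ⊕ (Fin d ⊕ Fin d)) (Unit ⊕ (Fin d ⊕ Fin d)) F)) ^ r = 1 ∧
          finrank F (LinearMap.range (Matrix.toLin' (x : Matrix (Unit ⊕ (Fin d ⊕ Fin d)) (Unit ⊕ (Fin d ⊕ Fin d)) F) - 1)) +
            finrank F (LinearMap.ker (Matrix.toLin' (x : Matrix (Unit ⊕ (Fin d ⊕ Fin d)) (Unit ⊕ (Fin d ⊕ Fin d)) F) - 1)) = 2 * d + 1 := by
        intro x hxΩ hxr
        refine ⟨srf_iso d x hxΩ, srf_pow d x r hxr, ?_⟩
        rw [LinearMap.finrank_range_add_finrank_ker, hdimV]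
      have hbuild : ∀ x : GL (Unit ⊕ (Fin d ⊕ Fin d)) F, x ∈ Cfsg.Geo.omegaGL (Cfsg.quadFormOdd d F) → x ^ r = 1 →
          ∀ (B a : ℕ) (X : Submodule F ((Unit ⊕ (Fin d ⊕ Fin d)) → F)),
          X ≤ LinearMap.range (Matrix.toLin' (x : Matrix (Unit ⊕ (Fin d ⊕ Fin d)) (Unit ⊕ (Fin d ⊕ Fin d)) F) - 1) → (∀ y ∈ X, oddForm d F y = 0) →
          (∀ y ∈ X, Matrix.toLin' (x : Matrix (Unit ⊕ (Fin d ⊕ Fin d)) (Unit ⊕ (Fin d ⊕ Fin d)) F) y ∈ X) → finrank F X = i * B →
          a + i * B = m → 2 * a + 1 ≤ finrank F (LinearMap.ker (Matrix.toLin' (x : Matrix (Unit ⊕ (Fin d ⊕ Fin d)) (Unit ⊕ (Fin d ⊕ Fin d)) F) - 1)) →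
          ∃ W : Submodule F ((Unit ⊕ (Fin d ⊕ Fin d)) → F), Module.finrank F ↥W = m ∧
            (∀ w ∈ W, Cfsg.quadFormOdd d F w = 0) ∧ W.map (Matrix.toLin' (x : Matrix (Unit ⊕ (Fin d ⊕ Fin d)) (Unit ⊕ (Fin d ⊕ Fin d)) F)) ≤ W := by
        intro x hxΩ hxr B a X hXR hXts hXinv hXdim hab ha
        obtain ⟨hT, hTr, -⟩ := hdata x hxΩ hxr
        have hKnd := sr_K_nd (oddForm d F) hnd _ hT r hTr hrF
        obtain ⟨A', hA'K, hA'dim, hA'ts⟩ := sts_witt (oddForm d F) h2 _ hKnd a ha
        obtain ⟨W, hWdim, hWts, hWinv⟩ := sts_sum (oddForm d F) _ hT r hTr hrF A' X hA'K hA'ts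
          hXR hXts hXinv
        refine ⟨W, by rw [hWdim, hA'dim, hXdim]; exact hab, hWts, ?_⟩
        rintro _ ⟨w, hw, rfl⟩
        exact hWinv w hw
      have hshape : ∀ g : GL (Unit ⊕ (Fin d ⊕ Fin d)) F, g ∈ Cfsg.Geo.omegaGL (Cfsg.quadFormOdd d F) → g ^ r = 1 →
          ∀ W : Submodule F ((Unit ⊕ (Fin d ⊕ Fin d)) → F), (∀ w ∈ W, Cfsg.quadFormOdd d F w = 0) →
          W.map (Matrix.toLin' (g : Matrix (Unit ⊕ (Fin d ⊕ Fin d)) (Unit ⊕ (Fin d ⊕ Fin d)) F)) ≤ W →
          ∃ a b : ℕ, a + i * b = finrank F W ∧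
            2 * a ≤ finrank F (LinearMap.ker (Matrix.toLin' (g : Matrix (Unit ⊕ (Fin d ⊕ Fin d)) (Unit ⊕ (Fin d ⊕ Fin d)) F) - 1)) ∧
            finrank F ↥(W ⊓ LinearMap.range (Matrix.toLin' (g : Matrix (Unit ⊕ (Fin d ⊕ Fin d)) (Unit ⊕ (Fin d ⊕ Fin d)) F) - 1)) = i * b := by
        intro g hgΩ hgr W hWts hWinv
        obtain ⟨hT, hTr, -⟩ := hdata g hgΩ hgr
        exact sts_nec (oddForm d F) hnd _ hT p (f'' : ℕ) hF r hpr hr2 hTr i c hi hc W hWts
          (fun w hw => hWinv (Submodule.mem_map_of_mem hw))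
      by_cases hev : Even i
      · -- `i` even
        have hci : c = i := by rw [hc, if_pos hev]
        rw [hci]
        obtain ⟨nq, hnq⟩ : ∃ nq, nq = (2 * d + 1) / i := ⟨_, rfl⟩
        obtain ⟨k, hk⟩ : ∃ k, k = (2 * d + 1) % i := ⟨_, rfl⟩
        have hn1 : i * nq + k = 2 * d + 1 := by
          rw [hnq, hk]
          exact Nat.div_add_mod (2 * d + 1) i
        have hk2 : k < i := by
          rw [hk]
          exact Nat.mod_lt _ (by omega)
        rw [← hnq, ← hk]
        obtain ⟨t, ht⟩ : ∃ t, t = (r - 1) / i := ⟨_, rfl⟩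
        rw [← ht]
        have hk3 : k ≤ 2 * j + 1 := by
          obtain ⟨t', ht'⟩ := hie
          have e1 : 2 * d + 1 = i * t' + (2 * j + 1) := by omega
          rw [hk, e1, Nat.mul_add_mod]
          exact Nat.mod_le _ _
        have hkodd : k % 2 = 1 := by
          obtain ⟨e, he⟩ := hev
          have e1 : i * nq = 2 * (e * nq) := by rw [he]; ring
          omega
        have hno : ¬ Odd i := Nat.not_odd_iff_even.mpr hev
        constructor
        · intro H
          -- the element with the largest `[V, g]`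
          obtain ⟨g, hgΩ, hgr, hgker⟩ := sr_real h2 p (f'' : ℕ) hF r hpr hr2 i c hi hc d (by omega)
          rw [hci, ← hk] at hgker
          have hg1 : g ≠ 1 := hne1 g (by rw [hgker]; omega)
          obtain ⟨W, hWdim, hWts, hWinv⟩ := H g hgΩ (orderOf_eq_prime hgr hg1)
          obtain ⟨a, b, hab, ha, -⟩ := hshape g hgΩ hgr W hWts hWinv
          rw [hWdim] at hab
          rw [hgker] at ha
          have him : i ≤ m := by
            by_contra hlt
            rcases Nat.eq_zero_or_pos b with hb0 | hbpos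
            · rw [hb0, mul_zero] at hab
              omega
            · have : i ≤ i * b := Nat.le_mul_of_pos_right i hbpos
              omega
          have hamr : mr = a := by
            rw [hmr, ← hab, Nat.add_mul_mod_self_left, Nat.mod_eq_of_lt (by omega)]
          have hmq1 : 1 ≤ mq := by
            rcases Nat.eq_zero_or_pos mq with h0 | hpos
            · rw [h0, mul_zero] at hm1
              omega
            · exact hpos
          have hmqn : 2 * mq ≤ nq := by
            by_contra hcon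
            have e1 : i * (nq + 1) ≤ i * (2 * mq) := Nat.mul_le_mul_left i (by omega)
            have e2 : i * (nq + 1) = i * nq + i := by ring
            have e3 : i * (2 * mq) = 2 * (i * mq) := by ring
            omega
          right
          refine ⟨hrp, hr3, him, by omega, ?_⟩
          right
          by_contra hcon
          -- the bad element
          obtain ⟨s, hs⟩ : ∃ s, s = mq - 1 := ⟨_, rfl⟩
          obtain ⟨o, ho⟩ : ∃ o, o = nq - 2 * mq + 1 := ⟨_, rfl⟩
          have hbad := sts_sp_bad (F := F) p r hrp hr2 (by rw [← hi]; exact hev) s o (by omega)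
            (by rw [← hi, ← ht]; omega)
          rw [← hi] at hbad
          obtain ⟨Vs, _, _, _, ω, a', b', halt, hωnd, hωiso, hab', har, hVsdim, hfix, hbound⟩ := hbad
          have e4 : 2 * s + o = nq - 1 := by omega
          rw [e4] at hVsdim
          have e5 : i * (nq - 1) + i = i * nq := by
            rw [← Nat.mul_succ, Nat.succ_eq_add_one, Nat.sub_add_cancel (by omega)]
          have e6 : i * s + i = i * mq := by
            rw [← Nat.mul_succ, Nat.succ_eq_add_one, hs, Nat.sub_add_cancel hmq1]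
          have e7 : i * 2 ≤ i * nq := Nat.mul_le_mul_left i (by omega)
          obtain ⟨g₂, hg₂Ω, hg₂r, hg₂ker, hg₂X⟩ := sts_orth h2 r hr hr2 d (by omega) ω a' b' halt
            hωnd hωiso hab' har hfix (by omega) (i * s) hbound
          have hg₂1 : g₂ ≠ 1 := hne1 g₂ (by rw [hg₂ker]; omega)
          obtain ⟨W₂, hW₂dim, hW₂ts, hW₂inv⟩ := H g₂ hg₂Ω (orderOf_eq_prime hg₂r hg₂1)
          obtain ⟨a₂, b₂, hab₂, ha₂, hb₂⟩ := hshape g₂ hg₂Ω hg₂r W₂ hW₂ts hW₂inv
          rw [hW₂dim] at hab₂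
          rw [hg₂ker] at ha₂
          have h9 := hg₂X (W₂ ⊓ LinearMap.range (Matrix.toLin' (g₂ : Matrix (Unit ⊕ (Fin d ⊕ Fin d)) (Unit ⊕ (Fin d ⊕ Fin d)) F) - 1)) inf_le_right
            (fun x hx => hW₂ts x (Submodule.mem_inf.mp hx).1)
            (fun x hx => Submodule.mem_inf.mpr
              ⟨hW₂inv (Submodule.mem_map_of_mem (Submodule.mem_inf.mp hx).1),
                sr_R_inv _ x (Submodule.mem_inf.mp hx).2⟩)
          rw [hb₂] at h9
          omega
        · rintro (⟨h, -⟩ | ⟨-, -, him, hl, hthird⟩)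
          · exact absurd h hr2
          · have hthird' : t + 2 * mq ≤ nq := hthird.resolve_left hno
            intro x hxΩ hxord
            have hxr : x ^ r = 1 := by
              rw [← hxord]
              exact pow_orderOf_eq_one x
            obtain ⟨hT, hTr, hKR⟩ := hdata x hxΩ hxr
            obtain ⟨S, A, hRA, -, hAev, hX⟩ := sts_half (oddForm d F) hnd _ hT p (f'' : ℕ) hF r
              hpr hr2 hTr i c hi hc h2
            have hA2 := hAev hev
            rw [← ht] at hA2
            rw [hRA] at hKR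
            have e1 : i * A ≤ i * (2 * S + t) := Nat.mul_le_mul_left i hA2
            have e2 : i * (2 * S + t) = 2 * (i * S) + i * t := by ring
            have e3 : i * (t + 2 * mq) ≤ i * nq := Nat.mul_le_mul_left i hthird'
            have e4 : i * (t + 2 * mq) = i * t + 2 * (i * mq) := by ring
            have hAn : i * A ≤ i * nq := by
              by_contra hcon
              have e5 : i * (nq + 1) ≤ i * A := by
                apply Nat.mul_le_mul_left
                by_contra h7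
                have : i * A ≤ i * nq := Nat.mul_le_mul_left i (by omega)
                omega
              have e6 : i * (nq + 1) = i * nq + i := by ring
              omega
            rcases le_or_gt mq S with hcase | hcase
            · obtain ⟨X, hXR, hXts, hXinv, hXdim⟩ := hX mq hcase
              exact hbuild x hxΩ hxr mq mr X hXR hXts hXinv hXdim (by omega) (by omega)
            · obtain ⟨X, hXR, hXts, hXinv, hXdim⟩ := hX S le_rfl
              have e7 : i * S ≤ i * mq := Nat.mul_le_mul_left i (by omega)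
              exact hbuild x hxΩ hxr S (m - i * S) X hXR hXts hXinv hXdim (by omega) (by omega)
      · -- `i` odd
        have hio : Odd i := Nat.not_even_iff_odd.mp hev
        have hc2 : c = 2 * i := by rw [hc, if_neg hev]
        rw [hc2]
        obtain ⟨dq, hdq⟩ : ∃ dq, dq = d / i := ⟨_, rfl⟩
        obtain ⟨dr, hdr⟩ : ∃ dr, dr = d % i := ⟨_, rfl⟩
        have hd1 : i * dq + dr = d := by
          rw [hdq, hdr]
          exact Nat.div_add_mod d i
        have hd2 : dr < i := by
          rw [hdr]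
          exact Nat.mod_lt _ (by omega)
        have hmodc : (2 * d + 1) % (2 * i) = 2 * dr + 1 := by
          have e : 2 * d + 1 = (2 * i) * dq + (2 * dr + 1) := by
            rw [← hd1]
            ring
          rw [e, Nat.mul_add_mod, Nat.mod_eq_of_lt (by omega)]
        rw [hmodc]
        have hdrj : dr ≤ j := by
          have h5 : i ∣ d - j :=
            Nat.Coprime.dvd_of_dvd_mul_left (Nat.coprime_two_left.mpr hio).symm hie
          obtain ⟨t', ht'⟩ := h5
          have e1 : d = i * t' + j := by omega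
          rw [hdr, e1, Nat.mul_add_mod]
          exact Nat.mod_le _ _
        constructor
        · intro H
          obtain ⟨g, hgΩ, hgr, hgker⟩ := sr_real h2 p (f'' : ℕ) hF r hpr hr2 i c hi hc d (by omega)
          rw [hc2, hmodc] at hgker
          have hg1 : g ≠ 1 := hne1 g (by rw [hgker]; omega)
          obtain ⟨W, hWdim, hWts, hWinv⟩ := H g hgΩ (orderOf_eq_prime hgr hg1)
          obtain ⟨a, b, hab, ha, -⟩ := hshape g hgΩ hgr W hWts hWinv
          rw [hWdim] at hab
          rw [hgker] at ha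
          have hamr : mr = a := by
            rw [hmr, ← hab, Nat.add_mul_mod_self_left, Nat.mod_eq_of_lt (by omega)]
          have him : i ≤ m := by
            rcases Nat.eq_zero_or_pos b with hb0 | hbpos
            · rw [hb0, mul_zero] at hab
              omega
            · have : i ≤ i * b := Nat.le_mul_of_pos_right i hbpos
              omega
          right
          exact ⟨hrp, hr3, him, by omega, Or.inl hio⟩
        · rintro (⟨h, -⟩ | ⟨-, -, him, hl, -⟩)
          · exact absurd h hr2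
          · intro x hxΩ hxord
            have hxr : x ^ r = 1 := by
              rw [← hxord]
              exact pow_orderOf_eq_one x
            obtain ⟨hT, hTr, hKR⟩ := hdata x hxΩ hxr
            obtain ⟨S, A, hRA, hAodd, -, hX⟩ := sts_half (oddForm d F) hnd _ hT p (f'' : ℕ) hF r
              hpr hr2 hTr i c hi hc h2
            have hA2 := hAodd hio
            rw [hRA, hA2] at hKR
            have e1 : i * (2 * S) = 2 * (i * S) := by ring
            have hSdq : i * S ≤ i * dq := by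
              apply Nat.mul_le_mul_left
              by_contra h7
              have e5 : i * (dq + 1) ≤ i * S := Nat.mul_le_mul_left i (by omega)
              have e6 : i * (dq + 1) = i * dq + i := by ring
              omega
            rcases le_or_gt mq S with hcase | hcase
            · obtain ⟨X, hXR, hXts, hXinv, hXdim⟩ := hX mq hcase
              exact hbuild x hxΩ hxr mq mr X hXR hXts hXinv hXdim (by omega) (by omega)
            · obtain ⟨X, hXR, hXts, hXinv, hXdim⟩ := hX S le_rfl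
              have e7 : i * S ≤ i * mq := Nat.mul_le_mul_left i (by omega)
              exact hbuild x hxΩ hxr S (m - i * S) X hXR hXts hXinv hXdim (by omega) (by omega)

end stsmain

end Cfsg.Agent.Lib.helper24
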