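import Mathlib
import Cfsg.Agent.Lib.helper17.SympBasis
import Cfsg.Agent.S5957
import Cfsg.Agent.Lib.helper24.QuadExt2

set_option autoImplicit false

namespace Cfsg.Agent.Lib.helper24

open Module Matrix Cfsg.Geo

section SympA

variable {F : Type*} [Field F] {n : ℕ}

/-- The bilinear map of a bilinear form given as a function. -/
noncomputable def formLin (f : (Fin n → F) → (Fin n → F) → F) (hf : IsBilinearForm f) :
    (Fin n → F) →ₗ[F] (Fin n → F) →ₗ[F] F :=
  LinearMap.mk₂ F f hf.add_left hf.smul_left hf.add_right hf.smul_right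

theorem formLin_apply (f : (Fin n → F) → (Fin n → F) → F) (hf : IsBilinearForm f)
    (u v : Fin n → F) : formLin f hf u v = f u v := rfl

/-- A hyperbolic basis of a symplectic form, indexed by `J ⊕ J`. -/
theorem exists_hyp_basis (f : (Fin n → F) → (Fin n → F) → F) (hf : IsSymplecticForm f)
    (J : Type) [Fintype J] [DecidableEq J] [Nonempty J] (hJ : n = 2 * Fintype.card J) :
    ∃ B : Basis (J ⊕ J) F (Fin n → F),
      (∀ j k, f (B (Sum.inl j)) (B (Sum.inl k)) = 0) ∧
      (∀ j k, f (B (Sum.inr j)) (B (Sum.inr k)) = 0) ∧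
      (∀ j k, f (B (Sum.inl j)) (B (Sum.inr k)) = if j = k then 1 else 0) := by
  classical
  have halt : ∀ v, formLin f hf.bilinear v v = 0 := hf.alternating
  have hnd : ∀ v, (∀ w, formLin f hf.bilinear v w = 0) → v = 0 := by
    intro v hv
    by_contra hne
    obtain ⟨x, hx⟩ := (hf.nondegenerate v hne).2
    exact hx (hv x)
  have hfin : Module.finrank F (Fin n → F) = 2 * Fintype.card J := by
    rw [Module.finrank_fin_fun]
    exact hJ
  obtain ⟨e, f', hee, hff, hef⟩ := Cfsg.Agent.Lib.helper17.exists_symp_basis (Fintype.card J)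
    (formLin f hf.bilinear) halt hnd hfin
  simp only [formLin_apply] at hee hff hef
  obtain ⟨eJ⟩ : Nonempty (J ≃ Fin (Fintype.card J)) := ⟨Fintype.equivFin J⟩
  obtain ⟨fam, hfam⟩ : ∃ fam : J ⊕ J → (Fin n → F),
      fam = Sum.elim (fun j => e (eJ j)) (fun j => f' (eJ j)) := ⟨_, rfl⟩
  have hfl : ∀ j, fam (Sum.inl j) = e (eJ j) := fun j => by rw [hfam]; rfl
  have hfr : ∀ j, fam (Sum.inr j) = f' (eJ j) := fun j => by rw [hfam]; rfl
  have hll : ∀ j k, f (fam (Sum.inl j)) (fam (Sum.inl k)) = 0 := by
    intro j k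
    rw [hfl, hfl, hee]
  have hrr : ∀ j k, f (fam (Sum.inr j)) (fam (Sum.inr k)) = 0 := by
    intro j k
    rw [hfr, hfr, hff]
  have hlr : ∀ j k, f (fam (Sum.inl j)) (fam (Sum.inr k)) = if j = k then 1 else 0 := by
    intro j k
    rw [hfl, hfr, hef]
    by_cases h : j = k
    · rw [if_pos h, if_pos (by rw [h])]
    · rw [if_neg h, if_neg (fun h' => h (eJ.injective h'))]
  have hli : LinearIndependent F fam := by
    rw [Fintype.linearIndependent_iff]
    intro g hg i
    rw [Fintype.sum_sum_type] at hg
    rcases i with j | j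
    · have h1 := congrArg (fun v => formLin f hf.bilinear v (fam (Sum.inr j))) hg
      simp only [map_add, map_sum, map_smul, LinearMap.add_apply, LinearMap.sum_apply,
        LinearMap.smul_apply, formLin_apply, hlr, hrr, smul_eq_mul, map_zero,
        LinearMap.zero_apply, mul_zero, Finset.sum_const_zero, add_zero, mul_ite, mul_one,
        Finset.sum_ite_eq', Finset.mem_univ, if_true] at h1
      exact h1
    · have h1 := congrArg (fun v => formLin f hf.bilinear (fam (Sum.inl j)) v) hg
      simp only [map_add, map_sum, map_smul, formLin_apply, hlr, hll, smul_eq_mul, map_zero,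
        mul_zero, Finset.sum_const_zero, zero_add, mul_ite, mul_one,
        Finset.sum_ite_eq, Finset.mem_univ, if_true] at h1
      exact h1
  have hcard : Fintype.card (J ⊕ J) = Module.finrank F (Fin n → F) := by
    rw [Fintype.card_sum, hfin]
    ring
  refine ⟨basisOfLinearIndependentOfCardEqFinrank hli hcard, ?_, ?_, ?_⟩
  · intro j k
    rw [coe_basisOfLinearIndependentOfCardEqFinrank]
    exact hll j k
  · intro j k
    rw [coe_basisOfLinearIndependentOfCardEqFinrank]
    exact hrr j k
  · intro j k
    rw [coe_basisOfLinearIndependentOfCardEqFinrank]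
    exact hlr j k

end SympA

end Cfsg.Agent.Lib.helper24
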