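import Mathlib
import Cfsg.Agent.Lib.helper17.SympBasis
import Cfsg.Agent.S5957
import Cfsg.Agent.Lib.helper24.QuadExt2
import Cfsg.Agent.Lib.helper24.SympAdaptA

set_option autoImplicit false

namespace Cfsg.Agent.Lib.helper24

open Module Matrix Cfsg.Geo

section SympB

variable {F : Type*} [Field F] {n : ℕ}

/-- `x` has a basis of pairs on which it acts by 2×2 blocks of a common nonzero determinant. -/
def GSpAdapted (x : Matrix (Fin n) (Fin n) F) : Prop :=
  ∃ (J : Type) (_ : Fintype J) (b : Basis (J ⊕ J) F (Fin n → F)) (a₁ a₂ a₃ a₄ : J → F) (μ : F),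
    μ ≠ 0 ∧ (∀ j, x *ᵥ b (Sum.inl j) = a₁ j • b (Sum.inl j) + a₃ j • b (Sum.inr j)) ∧
    (∀ j, x *ᵥ b (Sum.inr j) = a₂ j • b (Sum.inl j) + a₄ j • b (Sum.inr j)) ∧
    ∀ j, a₁ j * a₄ j - a₂ j * a₃ j = μ

theorem gsp_conj_of_adapted (f : (Fin n → F) → (Fin n → F) → F) (hf : IsSymplecticForm f)
    (hn : 0 < n) (x : Matrix (Fin n) (Fin n) F) (hx : GSpAdapted x) :
    ∃ P G : Matrix (Fin n) (Fin n) F, P.det = 1 ∧ x * P = P * G ∧
      ∃ μ : F, μ ≠ 0 ∧ ∀ u v, f (G *ᵥ u) (G *ᵥ v) = μ * f u v := by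
  classical
  obtain ⟨J, hJfin, b, a₁, a₂, a₃, a₄, μ, hμ, hxl, hxr, hdet⟩ := hx
  haveI := hJfin
  have hcard : n = 2 * Fintype.card J := by
    have h1 := Module.finrank_eq_card_basis b
    rw [Module.finrank_fin_fun, Fintype.card_sum] at h1
    omega
  haveI hJne : Nonempty J := by
    rw [← Fintype.card_pos_iff]
    omega
  obtain ⟨B, hBll, hBrr, hBlr⟩ := exists_hyp_basis f hf J hcard
  have hBrl : ∀ j k, f (B (Sum.inr j)) (B (Sum.inl k)) = -(if k = j then 1 else 0) := by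
    intro j k
    rw [hf.skew, hBlr]
  obtain ⟨j₀⟩ := hJne
  have hdetb : IsUnit (B.det b) := B.isUnit_det b
  obtain ⟨w, hw⟩ : ∃ w : J ⊕ J → F,
      w = fun i => if i = Sum.inl j₀ then (B.det b)⁻¹ else 1 := ⟨_, rfl⟩
  have hwu : ∀ i, IsUnit (w i) := by
    intro i
    rw [hw]
    by_cases h : i = Sum.inl j₀
    · simp [h, hdetb.ne_zero]
    · simp [h]
  have hwr : ∀ j, w (Sum.inr j) = 1 := by
    intro j
    rw [hw]
    simp
  have hwprod : ∏ i, w i = (B.det b)⁻¹ := by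
    rw [hw]
    simp
  obtain ⟨b₂, hb₂⟩ : ∃ b₂ : Basis (J ⊕ J) F (Fin n → F), b₂ = b.isUnitSMul hwu := ⟨_, rfl⟩
  have hb₂a : ∀ i, b₂ i = w i • b i := by
    intro i
    rw [hb₂, Basis.isUnitSMul_apply]
  obtain ⟨φ, hφ⟩ : ∃ φ : (Fin n → F) ≃ₗ[F] (Fin n → F), φ = B.equiv b₂ (Equiv.refl _) :=
    ⟨_, rfl⟩
  have hφB : ∀ i, φ (B i) = b₂ i := by
    intro i
    rw [hφ, Basis.equiv_apply]
    rfl
  have hφsB : ∀ i, φ.symm (b₂ i) = B i := by
    intro i
    rw [← hφB i, LinearEquiv.symm_apply_apply]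
  obtain ⟨P, hP⟩ : ∃ P : Matrix (Fin n) (Fin n) F, P = LinearMap.toMatrix' φ.toLinearMap :=
    ⟨_, rfl⟩
  obtain ⟨Q, hQ⟩ : ∃ Q : Matrix (Fin n) (Fin n) F, Q = LinearMap.toMatrix' φ.symm.toLinearMap :=
    ⟨_, rfl⟩
  have hPv : ∀ v, P *ᵥ v = φ v := by
    intro v
    rw [hP, ← Matrix.toLin'_apply, Matrix.toLin'_toMatrix']
    rfl
  have hQv : ∀ v, Q *ᵥ v = φ.symm v := by
    intro v
    rw [hQ, ← Matrix.toLin'_apply, Matrix.toLin'_toMatrix']
    rfl
  have hPQ : P * Q = 1 := by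
    rw [hP, hQ, ← LinearMap.toMatrix'_comp]
    have h1 : φ.toLinearMap ∘ₗ φ.symm.toLinearMap = LinearMap.id := by
      ext v : 1
      simp
    rw [h1, LinearMap.toMatrix'_id]
  have hPdet : P.det = 1 := by
    rw [hP, LinearMap.det_toMatrix']
    have h1 := Basis.det_comp B φ.toLinearMap B
    rw [Basis.det_self, mul_one] at h1
    rw [← h1]
    have h2 : (φ.toLinearMap ∘ B : J ⊕ J → (Fin n → F)) = fun i => w i • b i := by
      funext i
      simp [hφB, hb₂a]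
    rw [h2, AlternatingMap.map_smul_univ, hwprod, smul_eq_mul, inv_mul_cancel₀ hdetb.ne_zero]
  obtain ⟨c₃, hc₃⟩ : ∃ c₃ : J → F, c₃ = fun j => w (Sum.inl j) * a₃ j := ⟨_, rfl⟩
  obtain ⟨c₂, hc₂⟩ : ∃ c₂ : J → F, c₂ = fun j => a₂ j * (w (Sum.inl j))⁻¹ := ⟨_, rfl⟩
  have hdet' : ∀ j, a₁ j * a₄ j - c₂ j * c₃ j = μ := by
    intro j
    rw [← hdet j, hc₂, hc₃]
    have h0 : w (Sum.inl j) ≠ 0 := (hwu _).ne_zero
    field_simp
  obtain ⟨G, hG⟩ : ∃ G : Matrix (Fin n) (Fin n) F, G = Q * x * P := ⟨_, rfl⟩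
  have hGl : ∀ j, G *ᵥ B (Sum.inl j) = a₁ j • B (Sum.inl j) + c₃ j • B (Sum.inr j) := by
    intro j
    have e1 : w (Sum.inl j) • (a₁ j • b (Sum.inl j) + a₃ j • b (Sum.inr j)) =
        a₁ j • b₂ (Sum.inl j) + c₃ j • b₂ (Sum.inr j) := by
      rw [hb₂a, hb₂a, hwr, one_smul, hc₃]
      module
    rw [hG, ← Matrix.mulVec_mulVec, ← Matrix.mulVec_mulVec, hPv, hφB, hb₂a, Matrix.mulVec_smul,
      hxl, hQv, e1, map_add, map_smul, map_smul, hφsB, hφsB]
  have hGr : ∀ j, G *ᵥ B (Sum.inr j) = c₂ j • B (Sum.inl j) + a₄ j • B (Sum.inr j) := by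
    intro j
    have e2 : a₂ j • b (Sum.inl j) + a₄ j • b (Sum.inr j) =
        c₂ j • b₂ (Sum.inl j) + a₄ j • b₂ (Sum.inr j) := by
      rw [hb₂a, hb₂a, hwr, one_smul, hc₂, smul_smul, mul_assoc,
        inv_mul_cancel₀ (hwu _).ne_zero, mul_one]
    rw [hG, ← Matrix.mulVec_mulVec, ← Matrix.mulVec_mulVec, hPv, hφB, hb₂a, hwr, one_smul,
      hxr, hQv, e2, map_add, map_smul, map_smul, hφsB, hφsB]
  refine ⟨P, G, hPdet, ?_, μ, hμ, ?_⟩
  · rw [hG, ← Matrix.mul_assoc, ← Matrix.mul_assoc, hPQ, Matrix.one_mul]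
  · have hbil : (formLin f hf.bilinear).compl₁₂ (Matrix.toLin' G) (Matrix.toLin' G) =
        μ • formLin f hf.bilinear := by
      apply LinearMap.ext_basis B B
      intro i i'
      rw [LinearMap.compl₁₂_apply, LinearMap.smul_apply, LinearMap.smul_apply, formLin_apply,
        formLin_apply, Matrix.toLin'_apply, Matrix.toLin'_apply, smul_eq_mul]
      have ha := hf.bilinear.add_left
      have hs := hf.bilinear.smul_left
      have ha' := hf.bilinear.add_right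
      have hs' := hf.bilinear.smul_right
      rcases i with j | j <;> rcases i' with k | k
      · rw [hGl, hGl, ha, hs, hs, ha', ha', hs', hs', hs', hs', hBll, hBrr, hBlr, hBrl]
        by_cases h : j = k
        · subst h
          simp
          ring
        · simp [h, Ne.symm h]
      · rw [hGl, hGr, ha, hs, hs, ha', ha', hs', hs', hs', hs', hBll, hBrr, hBlr, hBrl]
        by_cases h : j = k
        · subst h
          simp
          linear_combination hdet' j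
        · simp [h, Ne.symm h]
      · rw [hGr, hGl, ha, hs, hs, ha', ha', hs', hs', hs', hs', hBll, hBrr, hBlr, hBrl]
        by_cases h : j = k
        · subst h
          simp
          linear_combination -hdet' j
        · simp [h, Ne.symm h]
      · rw [hGr, hGr, ha, hs, hs, ha', ha', hs', hs', hs', hs', hBll, hBrr, hBlr, hBrl]
        by_cases h : j = k
        · subst h
          simp
          ring
        · simp [h, Ne.symm h]
    intro u v
    have h1 := LinearMap.congr_fun (LinearMap.congr_fun hbil u) v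
    rw [LinearMap.compl₁₂_apply, LinearMap.smul_apply, LinearMap.smul_apply, formLin_apply,
      formLin_apply, Matrix.toLin'_apply, Matrix.toLin'_apply, smul_eq_mul] at h1
    exact h1

end SympB

end Cfsg.Agent.Lib.helper24
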