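import Mathlib
import Cfsg.Agent.Lib.helper24.SympAdaptB

/-!
# Elements with scalar square and symplectic similarity groups

Adapted hyperbolic bases for matrices with scalar square (monomial bases, paired eigenbases), and
the fact that a multiple of a reflection is not a symplectic similarity.
-/

set_option autoImplicit false

namespace Cfsg.Agent.Lib.helper24

open Module Matrix Cfsg.Geo

section SympC

variable {F : Type*} [Field F] {n : ℕ}

theorem gsp_adapted_of_mono (hn : Even n) (x : Matrix (Fin n) (Fin n) F) (z : F)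
    (hz : z ≠ 0) (hx : x * x = z • (1 : Matrix (Fin n) (Fin n) F))
    (H : ∀ c : F, c * c = z → c + c = 0) : GSpAdapted x := by
  classical
  have hX : ∀ v, Matrix.toLin' x (Matrix.toLin' x v) = z • v := by
    intro v
    rw [Matrix.toLin'_apply, Matrix.toLin'_apply, Matrix.mulVec_mulVec, hx, Matrix.smul_mulVec,
      Matrix.one_mulVec]
  obtain ⟨κ, lam, hκ, hlam, b, c, h1, h2, h3⟩ :=
    Cfsg.Agent.S5957.mono_all (Matrix.toLin' x) z hz hX
  haveI := hκ
  haveI := hlam
  have hc : ∀ l, c l * c l = z := by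
    intro l
    have h4 := hX (b (Sum.inr l))
    rw [h3, map_smul, h3, smul_smul] at h4
    have h5 : (c l * c l - z) • b (Sum.inr l) = 0 := by rw [sub_smul, h4, sub_self]
    rcases smul_eq_zero.1 h5 with h6 | h6
    · exact sub_eq_zero.1 h6
    · exact absurd h6 (b.ne_zero _)
  have hcc : ∀ l l', c l * c l' = -z := by
    intro l l'
    have e2 := H _ (hc l')
    have e3 : (c l - c l') * (c l + c l') = 0 := by linear_combination hc l - hc l'
    rcases mul_eq_zero.1 e3 with e4 | e4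
    · have e5 : c l = c l' := sub_eq_zero.1 e4
      rw [e5]
      linear_combination -hc l' + c l' * e2
    · have e5 : c l = - c l' := by linear_combination e4
      rw [e5]
      linear_combination -hc l'
  have hcardn : n = 2 * Fintype.card κ + Fintype.card lam := by
    have h1 := Module.finrank_eq_card_basis b
    rw [Module.finrank_fin_fun, Fintype.card_sum, Fintype.card_sum] at h1
    omega
  obtain ⟨k, hk⟩ : ∃ k, Fintype.card lam = 2 * k := by
    obtain ⟨r, hr⟩ := hn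
    exact ⟨r - Fintype.card κ, by omega⟩
  have hcardeq : Fintype.card lam = Fintype.card (Fin k ⊕ Fin k) := by
    rw [Fintype.card_sum, Fintype.card_fin, hk]
    ring
  obtain ⟨eL⟩ : Nonempty (lam ≃ Fin k ⊕ Fin k) := ⟨Fintype.equivOfCardEq hcardeq⟩
  obtain ⟨b', hb'⟩ : ∃ b' : Basis ((κ ⊕ Fin k) ⊕ (κ ⊕ Fin k)) F (Fin n → F),
      b' = b.reindex ((Equiv.sumCongr (Equiv.refl _) eL).trans
        (Equiv.sumSumSumComm κ κ (Fin k) (Fin k))) := ⟨_, rfl⟩
  have hb1 : ∀ k', b' (Sum.inl (Sum.inl k')) = b (Sum.inl (Sum.inl k')) := by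
    intro k'
    rw [hb', Basis.reindex_apply]
    rfl
  have hb2 : ∀ k', b' (Sum.inr (Sum.inl k')) = b (Sum.inl (Sum.inr k')) := by
    intro k'
    rw [hb', Basis.reindex_apply]
    rfl
  have hb3 : ∀ j, b' (Sum.inl (Sum.inr j)) = b (Sum.inr (eL.symm (Sum.inl j))) := by
    intro j
    rw [hb', Basis.reindex_apply]
    rfl
  have hb4 : ∀ j, b' (Sum.inr (Sum.inr j)) = b (Sum.inr (eL.symm (Sum.inr j))) := by
    intro j
    rw [hb', Basis.reindex_apply]
    rfl
  refine ⟨κ ⊕ Fin k, inferInstance, b',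
    Sum.elim (fun _ => 0) (fun j => c (eL.symm (Sum.inl j))),
    Sum.elim (fun _ => z) (fun _ => 0),
    Sum.elim (fun _ => 1) (fun _ => 0),
    Sum.elim (fun _ => 0) (fun j => c (eL.symm (Sum.inr j))),
    -z, neg_ne_zero.2 hz, ?_, ?_, ?_⟩
  · rintro (k' | j)
    · simp only [Sum.elim_inl, zero_smul, zero_add, one_smul]
      rw [hb1, hb2, ← Matrix.toLin'_apply, h1]
    · simp only [Sum.elim_inr, zero_smul, add_zero]
      rw [hb3, ← Matrix.toLin'_apply, h3]
  · rintro (k' | j)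
    · simp only [Sum.elim_inl, zero_smul, add_zero]
      rw [hb1, hb2, ← Matrix.toLin'_apply, h2]
    · simp only [Sum.elim_inr, zero_smul, zero_add]
      rw [hb4, ← Matrix.toLin'_apply, h3]
  · rintro (k' | j)
    · simp
    · simp only [Sum.elim_inr, mul_zero, sub_zero]
      exact hcc _ _

/-- The equivalence `inl i ↦ (i, 0)`, `inr i ↦ (i, 1)`. -/
def sumPairEquiv (m : ℕ) : Fin m ⊕ Fin m ≃ Fin m × Fin 2 where
  toFun := Sum.elim (fun i => (i, 0)) (fun i => (i, 1))
  invFun := fun p => if p.2 = 0 then Sum.inl p.1 else Sum.inr p.1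
  left_inv := by
    rintro (i | i) <;> simp
  right_inv := by
    rintro ⟨i, r⟩
    fin_cases r <;> simp

theorem gsp_adapted_of_eigen [Fintype F] (hn : Even n) (hn0 : 0 < n)
    (x : Matrix (Fin n) (Fin n) F) (hdet : x.det = 1) (c₀ : F) (hc₀ : c₀ + c₀ ≠ 0)
    (hx : x * x = (c₀ * c₀) • (1 : Matrix (Fin n) (Fin n) F))
    (hval : padicValNat 2 (Fintype.card F - 1) ≤ padicValNat 2 n) : GSpAdapted x := by
  classical
  have h2 : (2 : F) ≠ 0 := by
    intro h
    apply hc₀
    rw [← two_mul, h, zero_mul]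
  have hc0 : c₀ ≠ 0 := by
    rintro rfl
    exact hc₀ (by rw [add_zero])
  have hoddq : Odd (Fintype.card F) := qe_two_ne_zero_iff_odd.1 h2
  obtain ⟨y, hy⟩ : ∃ y : Matrix (Fin n) (Fin n) F, y = c₀⁻¹ • x := ⟨_, rfl⟩
  have hxy : x = c₀ • y := by
    rw [hy, smul_smul, mul_inv_cancel₀ hc0, one_smul]
  have hyy : y * y = 1 := by
    rw [hy, Matrix.smul_mul, Matrix.mul_smul, hx, smul_smul, smul_smul]
    have h1 : c₀⁻¹ * c₀⁻¹ * (c₀ * c₀) = 1 := by field_simp
    rw [h1, one_smul]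
  have hydet : y.det = 1 := by
    have h1 : y.det * y.det = 1 := by rw [← Matrix.det_mul, hyy, Matrix.det_one]
    have h3 : y.det = (c₀⁻¹) ^ n := by
      rw [hy, Matrix.det_smul, hdet, mul_one, Fintype.card_fin]
    rcases mul_self_eq_one_iff.1 h1 with h4 | h4
    · exact h4
    · exfalso
      rw [h3] at h4
      have h5 := qe_val_lt_of_pow_eq_neg_one hoddq n (by omega) c₀⁻¹ h4
      omega
  obtain ⟨k₀, δ, hk₀, hδS, hyk⟩ := exists_eigenbasis y {1, -1} (involution_span y hyy h2)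
  have hδ : ∀ j, δ j = 1 ∨ δ j = -1 := fun j => by simpa using hδS j
  have hk₀det : k₀.det ≠ 0 := ((Matrix.isUnit_iff_isUnit_det _).1 hk₀).ne_zero
  have hprod : ∏ j, δ j = 1 := by
    have h1 := congrArg Matrix.det hyk
    rw [Matrix.det_mul, Matrix.det_mul, Matrix.det_diagonal, hydet, one_mul] at h1
    have h3 : k₀.det * 1 = k₀.det * ∏ j, δ j := by rw [mul_one]; exact h1
    exact (mul_left_cancel₀ hk₀det h3).symm
  have hneg : (-1 : F) ≠ 1 := by
    intro h
    apply h2
    have h3 : (1 : F) + 1 = 0 := by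
      nth_rewrite 1 [← h]
      ring
    rw [← h3]
    norm_num
  obtain ⟨σ, hσ⟩ := exists_pairing_perm hn δ hδ hprod hneg
  obtain ⟨δ', hδ'⟩ : ∃ δ' : Fin n → F, δ' = δ ∘ σ := ⟨_, rfl⟩
  obtain ⟨k₁, hk₁⟩ : ∃ k₁ : Matrix (Fin n) (Fin n) F, k₁ = k₀.submatrix id σ := ⟨_, rfl⟩
  have hyk₁ : y * k₁ = k₁ * Matrix.diagonal δ' := by
    ext r j
    have h1 : (y * k₁) r j = (y * k₀) r (σ j) := by
      simp [hk₁, Matrix.mul_apply]
    rw [h1, hyk, Matrix.mul_diagonal, Matrix.mul_diagonal]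
    simp [hk₁, hδ']
  have hli : LinearIndependent F k₁.col := by
    have h1 := Matrix.linearIndependent_cols_iff_isUnit.2 hk₀
    rw [hk₁]
    exact h1.comp σ σ.injective
  haveI : Nonempty (Fin n) := ⟨⟨0, hn0⟩⟩
  obtain ⟨bc, hbc⟩ : ∃ bc : Basis (Fin n) F (Fin n → F), ∀ j, bc j = k₁.col j :=
    ⟨basisOfLinearIndependentOfCardEqFinrank hli (by simp), fun j => by
      rw [coe_basisOfLinearIndependentOfCardEqFinrank]⟩
  have hxcol : ∀ j, x *ᵥ bc j = (c₀ * δ' j) • bc j := by
    intro j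
    rw [hbc, hxy, Matrix.smul_mulVec, ← smul_smul]
    congr 1
    ext r
    have h1 : (y *ᵥ k₁.col j) r = (y * k₁) r j := rfl
    rw [h1, hyk₁, Matrix.mul_diagonal]
    simp [Matrix.col, mul_comm]
  obtain ⟨m, hm⟩ := hn
  have hm2 : n = 2 * m := by omega
  obtain ⟨e, he⟩ : ∃ e : Fin m ⊕ Fin m ≃ Fin n, e = (sumPairEquiv m).trans (pairEquiv hm2) :=
    ⟨_, rfl⟩
  have hel : ∀ i, ((e (Sum.inl i) : Fin n) : ℕ) = 2 * (i : ℕ) := by
    intro i
    rw [he]
    show ((pairEquiv hm2 (i, 0) : Fin n) : ℕ) = _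
    rw [pairEquiv_val]
    simp
  have her : ∀ i, ((e (Sum.inr i) : Fin n) : ℕ) = 2 * (i : ℕ) + 1 := by
    intro i
    rw [he]
    show ((pairEquiv hm2 (i, 1) : Fin n) : ℕ) = _
    rw [pairEquiv_val]
    simp
    omega
  have hδe : ∀ i, δ' (e (Sum.inr i)) = δ' (e (Sum.inl i)) := by
    intro i
    rw [hδ']
    apply hσ
    rw [hel, her]
    omega
  have hδsq : ∀ j, δ' j * δ' j = 1 := by
    intro j
    rw [hδ']
    rcases hδ (σ j) with h | h <;> simp [h]
  refine ⟨Fin m, inferInstance, bc.reindex e.symm,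
    fun i => c₀ * δ' (e (Sum.inl i)), fun _ => 0, fun _ => 0, fun i => c₀ * δ' (e (Sum.inr i)),
    c₀ * c₀, mul_ne_zero hc0 hc0, ?_, ?_, ?_⟩
  · intro i
    rw [Basis.reindex_apply, Equiv.symm_symm, hxcol, zero_smul, add_zero]
  · intro i
    rw [Basis.reindex_apply, Equiv.symm_symm, hxcol, zero_smul, zero_add]
  · intro i
    show c₀ * δ' (e (Sum.inl i)) * (c₀ * δ' (e (Sum.inr i))) - 0 * 0 = c₀ * c₀
    rw [hδe]
    linear_combination (c₀ * c₀) * hδsq (e (Sum.inl i))

end SympC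

section SympD

variable {F : Type*} [Field F] {n : ℕ}

/-- A rank one perturbation `lam + ψ ⊗ u` of a scalar with `ψ u ≠ 0` (a multiple of a
reflection-like element) is not a similarity of a symplectic form in dimension at least 3. -/
theorem gsp_no_reflection (f : (Fin n → F) → (Fin n → F) → F) (hf : IsSymplecticForm f)
    (hn : 3 ≤ n) (g : GL (Fin n) F) (hg : g ∈ similarityGroup f) (lam : F)
    (ψ : (Fin n → F) →ₗ[F] F) (u : Fin n → F) (hψu : ψ u ≠ 0)
    (hgw : ∀ w, (g : Matrix (Fin n) (Fin n) F) *ᵥ w = lam • w + ψ w • u) : False := by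
  classical
  obtain ⟨c, hc⟩ := hg
  have hu : u ≠ 0 := by
    rintro rfl
    exact hψu (map_zero ψ)
  have ha := hf.bilinear.add_left
  have hs := hf.bilinear.smul_left
  have ha' := hf.bilinear.add_right
  have hs' := hf.bilinear.smul_right
  have hker : LinearMap.ker (LinearMap.prod ψ ((formLin f hf.bilinear).flip u)) ≠ ⊥ := by
    apply LinearMap.ker_ne_bot_of_finrank_lt
    rw [Module.finrank_prod, Module.finrank_self, Module.finrank_fin_fun]
    omega
  obtain ⟨v, hvker, hv0⟩ := (Submodule.ne_bot_iff _).1 hker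
  have hvker' := LinearMap.mem_ker.1 hvker
  have hψv : ψ v = 0 := congrArg Prod.fst hvker'
  have hfvu : f v u = 0 := congrArg Prod.snd hvker'
  have hgv : (g : Matrix (Fin n) (Fin n) F) *ᵥ v = lam • v := by
    rw [hgw, hψv, zero_smul, add_zero]
  have hlam : lam ≠ 0 := by
    rintro rfl
    rw [zero_smul] at hgv
    have h1 := congrArg (fun t => ((g⁻¹ : GL (Fin n) F) : Matrix (Fin n) (Fin n) F) *ᵥ t) hgv
    simp only [Matrix.mulVec_mulVec, ← Units.val_mul, inv_mul_cancel, Units.val_one,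
      Matrix.one_mulVec, Matrix.mulVec_zero] at h1
    exact hv0 h1
  have hgu : (g : Matrix (Fin n) (Fin n) F) *ᵥ u = (lam + ψ u) • u := by
    rw [hgw, add_smul]
  -- a vector of the kernel of ψ pairing nontrivially with u
  obtain ⟨x₁, hx₁⟩ := (hf.nondegenerate u hu).1
  have hψw₁ : ψ (x₁ + (-(ψ x₁ / ψ u)) • u) = 0 := by
    rw [map_add, map_smul, smul_eq_mul]
    field_simp
    ring
  have hfw₁ : f (x₁ + (-(ψ x₁ / ψ u)) • u) u = f x₁ u := by
    rw [ha, hs, hf.alternating, mul_zero, add_zero]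
  have h5 := hc (x₁ + (-(ψ x₁ / ψ u)) • u) u
  rw [hgw (x₁ + (-(ψ x₁ / ψ u)) • u), hψw₁, zero_smul, add_zero, hgu, hs, hs', hfw₁] at h5
  have hc1 : lam * (lam + ψ u) = (c : F) := by
    apply mul_right_cancel₀ hx₁
    linear_combination h5
  obtain ⟨x₂, hx₂⟩ := (hf.nondegenerate v hv0).2
  have hψw₂ : ψ (x₂ + (-(ψ x₂ / ψ u)) • u) = 0 := by
    rw [map_add, map_smul, smul_eq_mul]
    field_simp
    ring
  have hfw₂ : f v (x₂ + (-(ψ x₂ / ψ u)) • u) = f v x₂ := by
    rw [ha', hs', hfvu, mul_zero, add_zero]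
  have h6 := hc v (x₂ + (-(ψ x₂ / ψ u)) • u)
  rw [hgv, hgw (x₂ + (-(ψ x₂ / ψ u)) • u), hψw₂, zero_smul, add_zero, hs, hs', hfw₂] at h6
  have hc2 : lam * lam = (c : F) := by
    apply mul_right_cancel₀ hx₂
    linear_combination h6
  apply hψu
  have h7 : lam * ψ u = 0 := by linear_combination hc1 - hc2
  rcases mul_eq_zero.1 h7 with h | h
  · exact absurd h hlam
  · exact h

/-- In odd characteristic, a scalar multiple of a reflection with determinant one, with the
reflection vector not in the kernel of the functional. -/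
theorem qe_reflection_data' (hn : 2 ≤ n) (h2 : (2 : F) ≠ 0) (lam : F) (hlam : lam ^ n = -1) :
    ∃ X : Matrix (Fin n) (Fin n) F, X.det = 1 ∧ (∃ z : F, X * X = z • 1) ∧ (∀ z : F, X ≠ z • 1) ∧
      ∃ (lam' : F) (ψ : (Fin n → F) →ₗ[F] F) (u : Fin n → F), ψ u ≠ 0 ∧
        ∀ w, X *ᵥ w = lam' • w + ψ w • u := by
  classical
  obtain ⟨i0, hi0⟩ : ∃ i0 : Fin n, i0 = ⟨0, by omega⟩ := ⟨_, rfl⟩
  obtain ⟨i1, hi1⟩ : ∃ i1 : Fin n, i1 = ⟨1, by omega⟩ := ⟨_, rfl⟩
  have hne : i1 ≠ i0 := by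
    rw [hi0, hi1]
    intro h
    simp at h
  have hlam0 : lam ≠ 0 := by
    rintro rfl
    rw [zero_pow (by omega)] at hlam
    exact absurd hlam.symm (by simp)
  refine ⟨Matrix.diagonal (fun i => if i = i0 then -lam else lam), ?_, ⟨lam * lam, ?_⟩, ?_,
    lam, (-2 * lam) • LinearMap.proj i0, Pi.single i0 1, ?_, ?_⟩
  · rw [Matrix.det_diagonal]
    have h1 : ∀ i : Fin n, (if i = i0 then -lam else lam) =
        lam * (if i = i0 then (-1 : F) else 1) := by
      intro i
      split_ifs <;> ring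
    simp_rw [h1]
    rw [Finset.prod_mul_distrib, Finset.prod_const, Finset.card_univ, Fintype.card_fin, hlam,
      Finset.prod_ite_eq' Finset.univ i0 (fun _ => (-1 : F))]
    simp
  · rw [Matrix.diagonal_mul_diagonal, Matrix.smul_one_eq_diagonal]
    congr 1
    funext i
    split_ifs <;> ring
  · intro z hz
    have h0 := congrFun (congrFun hz i0) i0
    have h1 := congrFun (congrFun hz i1) i1
    simp [hne] at h0 h1
    apply h2
    have h3 : lam * 2 = 0 := by linear_combination h1 - h0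
    rcases mul_eq_zero.1 h3 with h4 | h4
    · exact absurd h4 hlam0
    · exact h4
  · simp [hlam0, h2]
  · intro w
    ext r
    rw [Matrix.mulVec_diagonal]
    simp only [Pi.add_apply, Pi.smul_apply, smul_eq_mul, LinearMap.smul_apply,
      LinearMap.proj_apply, Pi.single_apply]
    by_cases hr : r = i0
    · rw [if_pos hr, if_pos hr, hr]
      ring
    · rw [if_neg hr, if_neg hr]
      ring

end SympD

end Cfsg.Agent.Lib.helper24
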