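import Mathlib

set_option autoImplicit false

/-!
# Field coordinates from a regular commuting family of endomorphisms

If a commuting family `T` of injective endomorphisms of a finite abelian group `A` is transitive on
the non-identity elements, then `A` can be identified with (the additive group of) any finite field
`F` of the same cardinality in such a way that `T` becomes the set of multiplications by the nonzero
scalars.
-/

namespace Cfsg.Agent.Lib.helper24

universe u v

/-- a finite commutative ring without zero divisors is isomorphic to every finite field of the same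
cardinality. -/
theorem exists_ringEquiv_of_ring (C : Type u) [Ring C] [Finite C]
    (hc : ∀ a b : C, a * b = b * a) (hz : ∀ a b : C, a * b = 0 → a = 0 ∨ b = 0)
    (hnt : (0 : C) ≠ 1) (F : Type v) [Field F] [Fintype F] (h : Nat.card C = Fintype.card F) :
    Nonempty (C ≃+* F) := by
  classical
  letI : Fintype C := Fintype.ofFinite C
  letI : CommRing C := { (inferInstance : Ring C) with mul_comm := hc }
  haveI : NoZeroDivisors C := ⟨fun {a b} e => hz a b e⟩
  haveI : Nontrivial C := ⟨⟨0, 1, hnt⟩⟩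
  haveI : IsDomain C := NoZeroDivisors.to_isDomain C
  letI : Field C := Fintype.fieldOfDomain C
  have h' : Fintype.card C = Fintype.card F := by rw [← Nat.card_eq_fintype_card]; exact h
  exact ⟨FiniteField.ringEquivOfCardEq h'⟩

/-- additive version of `field_of_regular`. -/
theorem field_of_regular_add {A : Type u} [AddCommGroup A] [Finite A]
    (T : Set (AddMonoid.End A)) (hT : ∀ f ∈ T, ∀ g ∈ T, ∀ x, f (g x) = g (f x))
    (htr : ∀ x y : A, x ≠ 0 → y ≠ 0 → ∃ f ∈ T, f x = y)
    (hinj : ∀ f ∈ T, Function.Injective f)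
    (hnt : ∃ x : A, x ≠ 0)
    {F : Type v} [Field F] [Fintype F] (hF : Fintype.card F = Nat.card A) :
    ∃ e : A → F, Function.Bijective e ∧ (∀ x y, e (x + y) = e x + e y) ∧
      (∀ f ∈ T, ∃ c : F, ∀ x, e (f x) = c * e x) ∧
      (∀ c : F, c ≠ 0 → ∃ f ∈ T, ∀ x, e (f x) = c * e x) := by
  classical
  obtain ⟨z₀, hz₀⟩ := hnt
  let C : Subring (AddMonoid.End A) := Subring.centralizer T
  -- elements of `C` commute with `T`
  have c1 : ∀ g ∈ C, ∀ f ∈ T, ∀ x, g (f x) = f (g x) := by
    intro g hg f hf x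
    have := Subring.mem_centralizer_iff.mp hg f hf
    have h2 := DFunLike.congr_fun this x
    exact h2.symm
  have c2 : ∀ f ∈ T, (f : AddMonoid.End A) ∈ C := by
    intro f hf
    show f ∈ Subring.centralizer T
    rw [Subring.mem_centralizer_iff]
    intro g hg
    apply DFunLike.ext
    intro x
    exact hT g hg f hf x
  have c3 : ∀ g ∈ C, g z₀ = 0 → g = 0 := by
    intro g hg h0
    apply DFunLike.ext
    intro x
    show g x = 0
    by_cases hx : x = 0
    · rw [hx, map_zero]
    · obtain ⟨f, hf, hfx⟩ := htr z₀ x hz₀ hx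
      rw [← hfx, c1 g hg f hf, h0, map_zero]
  let ev : C → A := fun g => (g : AddMonoid.End A) z₀
  have ev_add : ∀ g g' : C, ev (g + g') = ev g + ev g' := fun g g' => rfl
  have ev_mul : ∀ g g' : C, ev (g * g') = (g : AddMonoid.End A) (ev g') := fun g g' => rfl
  have ev_sub : ∀ g g' : C, ev (g - g') = ev g - ev g' := fun g g' => rfl
  have ev_zero : ev 0 = 0 := rfl
  have ev_one : ev 1 = z₀ := rfl
  have c4 : Function.Injective ev := by
    intro g g' e
    have h1 : ev (g - g') = 0 := by rw [ev_sub, e, sub_self]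
    have h2 := c3 (g - g' : C) (g - g').2 h1
    have h3 : g - g' = 0 := Subtype.ext h2
    exact sub_eq_zero.mp h3
  have c5 : Function.Surjective ev := by
    intro a
    by_cases ha : a = 0
    · exact ⟨0, by rw [ev_zero, ha]⟩
    · obtain ⟨f, hf, hfx⟩ := htr z₀ a hz₀ ha
      exact ⟨⟨f, c2 f hf⟩, hfx⟩
  have c6 : ∀ g : C, g = 0 ∨ (g : AddMonoid.End A) ∈ T := by
    intro g
    by_cases hg : ev g = 0
    · left
      exact Subtype.ext (c3 g g.2 hg)
    · right
      obtain ⟨f, hf, hfx⟩ := htr z₀ (ev g) hz₀ hg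
      have : (⟨f, c2 f hf⟩ : C) = g := c4 hfx
      rw [← this]
      exact hf
  have c7 : ∀ g g' : C, g * g' = g' * g := by
    intro g g'
    rcases c6 g' with h0 | hT'
    · rw [h0, mul_zero, zero_mul]
    · apply Subtype.ext
      exact (Subring.mem_centralizer_iff.mp g.2 _ hT').symm
  have c8 : ∀ g g' : C, g * g' = 0 → g = 0 ∨ g' = 0 := by
    intro g g' e
    rcases c6 g with h0 | hg
    · exact Or.inl h0
    rcases c6 g' with h0 | hg'
    · exact Or.inr h0
    exfalso
    have h1 : ev (g * g') = 0 := by rw [e, ev_zero]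
    rw [ev_mul] at h1
    have h2 : ev g' = 0 := hinj _ hg (h1.trans (map_zero _).symm)
    have h3 : z₀ = 0 := hinj _ hg' (h2.trans (map_zero _).symm)
    exact hz₀ h3
  have c9 : (0 : C) ≠ 1 := by
    intro e
    have := congrArg ev e
    rw [ev_zero, ev_one] at this
    exact hz₀ this.symm
  haveI : Finite C := Finite.of_injective ev c4
  have hcard : Nat.card C = Fintype.card F := by
    rw [hF]; exact Nat.card_eq_of_bijective ev ⟨c4, c5⟩
  obtain ⟨ρ⟩ := exists_ringEquiv_of_ring C c7 c8 c9 F hcard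
  let evE : C ≃ A := Equiv.ofBijective ev ⟨c4, c5⟩
  have hev : ∀ a : A, ev (evE.symm a) = a := fun a => evE.apply_symm_apply a
  refine ⟨fun a => ρ (evE.symm a), ρ.bijective.comp evE.symm.bijective, ?_, ?_, ?_⟩
  · intro x y
    have : evE.symm (x + y) = evE.symm x + evE.symm y := by
      apply c4
      rw [ev_add, hev, hev, hev]
    show ρ (evE.symm (x + y)) = ρ (evE.symm x) + ρ (evE.symm y)
    rw [this, map_add]
  · intro f hf
    refine ⟨ρ ⟨f, c2 f hf⟩, ?_⟩
    intro x
    have : evE.symm (f x) = ⟨f, c2 f hf⟩ * evE.symm x := by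
      apply c4
      rw [ev_mul, hev, hev]
    show ρ (evE.symm (f x)) = ρ ⟨f, c2 f hf⟩ * ρ (evE.symm x)
    rw [this, map_mul]
  · intro c hc
    have hne : ρ.symm c ≠ 0 := by
      intro e
      apply hc
      have := congrArg ρ e
      rwa [ρ.apply_symm_apply, map_zero] at this
    rcases c6 (ρ.symm c) with h0 | hg
    · exact absurd h0 hne
    refine ⟨_, hg, ?_⟩
    intro x
    have : evE.symm (((ρ.symm c : C) : AddMonoid.End A) x) = ρ.symm c * evE.symm x := by
      apply c4
      rw [ev_mul, hev, hev]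
    show ρ (evE.symm (((ρ.symm c : C) : AddMonoid.End A) x)) = c * ρ (evE.symm x)
    rw [this, map_mul, ρ.apply_symm_apply]

/-- **Field coordinates.** Let `T` be a commuting family of injective endomorphisms of the finite
abelian group `A`, transitive on the non-identity elements, and let `F` be a finite field with
`|F| = |A|`.  Then there is a bijection `e : A → F`, additive, such that `T` becomes exactly the set
of multiplications by nonzero scalars. -/
theorem field_of_regular {A : Type u} [Group A] [Finite A] (hcomm : ∀ x y : A, x * y = y * x)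
    (T : Set (A →* A)) (hT : ∀ f ∈ T, ∀ g ∈ T, ∀ x, f (g x) = g (f x))
    (htr : ∀ x y : A, x ≠ 1 → y ≠ 1 → ∃ f ∈ T, f x = y)
    (hinj : ∀ f ∈ T, Function.Injective f)
    (hnt : ∃ x : A, x ≠ 1)
    {F : Type v} [Field F] [Fintype F] (hF : Fintype.card F = Nat.card A) :
    ∃ e : A → F, Function.Bijective e ∧ (∀ x y, e (x * y) = e x + e y) ∧
      (∀ f ∈ T, ∃ c : F, ∀ x, e (f x) = c * e x) ∧
      (∀ c : F, c ≠ 0 → ∃ f ∈ T, ∀ x, e (f x) = c * e x) := by
  classical
  letI : CommGroup A := { (inferInstance : Group A) with mul_comm := hcomm }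
  let T' : Set (AddMonoid.End (Additive A)) :=
    (fun f : A →* A => (MonoidHom.toAdditive f : AddMonoid.End (Additive A))) '' T
  have h1 : ∀ f ∈ T', ∀ g ∈ T', ∀ x, f (g x) = g (f x) := by
    rintro _ ⟨f, hf, rfl⟩ _ ⟨g, hg, rfl⟩ x
    exact congrArg Additive.ofMul (hT f hf g hg (Additive.toMul x))
  have h2 : ∀ x y : Additive A, x ≠ 0 → y ≠ 0 → ∃ f ∈ T', f x = y := by
    intro x y hx hy
    obtain ⟨f, hf, hfx⟩ := htr (Additive.toMul x) (Additive.toMul y) hx hy
    exact ⟨_, ⟨f, hf, rfl⟩, congrArg Additive.ofMul hfx⟩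
  have h3 : ∀ f ∈ T', Function.Injective f := by
    rintro _ ⟨f, hf, rfl⟩ x y e
    exact hinj f hf e
  have h4 : ∃ x : Additive A, x ≠ 0 := hnt
  have hF' : Fintype.card F = Nat.card (Additive A) := hF
  obtain ⟨e, he1, he2, he3, he4⟩ := field_of_regular_add T' h1 h2 h3 h4 hF'
  refine ⟨fun a => e (Additive.ofMul a), he1, fun x y => he2 _ _, ?_, ?_⟩
  · intro f hf
    obtain ⟨c, hc⟩ := he3 _ ⟨f, hf, rfl⟩
    exact ⟨c, fun x => hc (Additive.ofMul x)⟩
  · intro c hc
    obtain ⟨_, ⟨f, hf, rfl⟩, hfc⟩ := he4 c hc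
    exact ⟨f, hf, fun x => hfc (Additive.ofMul x)⟩

end Cfsg.Agent.Lib.helper24
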