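import Mathlib
import Cfsg.Agent.S1137
import Cfsg.Agent.Lib.helper24.SzField

set_option autoImplicit false

/-!
# Suzuki 2-groups with `|P| = |Z(P)|²`: field coordinates

Group-theoretic part of Higman's classification of the Suzuki 2-groups of type A: `P / Z(P)` is
elementary abelian, the cyclic group acts regularly on `Z(P) ∖ 1` and on `(P / Z(P)) ∖ 1`, and both
can be coordinatised by a finite field `F` so that the squaring map becomes a semi-equivariant
quadratic map `s₀ : F → F`.
-/

namespace Cfsg.Agent.Lib.helper24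

open Cfsg.Agent.S1137

universe u v w

/-- a nontrivial finite 2-group has a central involution -/
theorem exists_central_invol_of_pgroup {Q : Type u} [Group Q] [Finite Q] [Nontrivial Q]
    (hQ : IsPGroup 2 Q) : ∃ v ∈ Subgroup.center Q, v ≠ 1 ∧ v * v = 1 := by
  haveI : Fact (Nat.Prime 2) := ⟨Nat.prime_two⟩
  haveI := hQ.center_nontrivial
  have hZ : IsPGroup 2 (Subgroup.center Q) := hQ.to_subgroup _
  have hdvd : 2 ∣ Nat.card (Subgroup.center Q) := by
    rcases hZ.card_eq_or_dvd with h1 | h1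
    · exfalso
      have := Finite.one_lt_card (α := Subgroup.center Q)
      omega
    · exact h1
  obtain ⟨z, hz⟩ := exists_prime_orderOf_dvd_card' 2 hdvd
  rw [orderOf_eq_prime_iff] at hz
  refine ⟨z, z.2, ?_, ?_⟩
  · intro h1; exact hz.2 (Subtype.ext h1)
  · have := congrArg Subtype.val hz.1
    rw [pow_two] at this
    exact this

section

variable {G : Type u} [Group G] {K : Type v} [Group K] {f : K → G →* G}

theorem sz_not_center (h : Hyp G K f) (k : K) {x : G} (hx : x ∉ Subgroup.center G) :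
    f k x ∉ Subgroup.center G := by
  intro hc
  apply hx
  have := h.center_mem k⁻¹ hc
  rwa [h.inv_left] at this

theorem sz_card_quot (h : Hyp G K f)
    (hcard : Nat.card G = Nat.card (Subgroup.center G) ^ 2) :
    Nat.card (G ⧸ Subgroup.center G) = Nat.card (Subgroup.center G) := by
  haveI := h.fin
  have h1 := Subgroup.card_eq_card_quotient_mul_card_subgroup (Subgroup.center G)
  rw [hcard, pow_two] at h1
  have hpos : 0 < Nat.card (Subgroup.center G) := Nat.card_pos
  exact (Nat.eq_of_mul_eq_mul_right hpos h1).symm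

/-- an element whose coset is a central involution of `G / Z(G)` -/
theorem sz_exists_w (h : Hyp G K f)
    (hcard : Nat.card G = Nat.card (Subgroup.center G) ^ 2) :
    ∃ w : G, w ∉ Subgroup.center G ∧ w * w ∈ Subgroup.center G ∧
      ∀ g, cm w g ∈ Subgroup.center G := by
  haveI := h.fin
  obtain ⟨z₀, hz₀c, hz₀1, hz₀z⟩ := h.exists_central_invol
  have hQ : IsPGroup 2 (G ⧸ Subgroup.center G) := h.pg.to_quotient _
  have hc := sz_card_quot h hcard
  haveI : Nontrivial (Subgroup.center G) := ⟨⟨⟨z₀, hz₀c⟩, 1, fun e => hz₀1 (congrArg Subtype.val e)⟩⟩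
  have h1 : 1 < Nat.card (G ⧸ Subgroup.center G) := by
    rw [hc]; exact Finite.one_lt_card
  haveI : Nontrivial (G ⧸ Subgroup.center G) := (Finite.one_lt_card_iff_nontrivial).mp h1
  obtain ⟨v, hvc, hv1, hvv⟩ := exists_central_invol_of_pgroup hQ
  obtain ⟨w, rfl⟩ := QuotientGroup.mk_surjective v
  refine ⟨w, ?_, ?_, ?_⟩
  · intro hw
    exact hv1 ((QuotientGroup.eq_one_iff w).mpr hw)
  · rw [← QuotientGroup.eq_one_iff, QuotientGroup.mk_mul]
    exact hvv
  · intro g
    rw [← QuotientGroup.eq_one_iff]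
    unfold cm
    rw [QuotientGroup.mk_mul, QuotientGroup.mk_inv, QuotientGroup.mk_mul, QuotientGroup.mk_mul,
      Subgroup.mem_center_iff.mp hvc (g : G ⧸ Subgroup.center G), inv_mul_cancel]

theorem sz_sq_central_mul {z : G} (hz : z ∈ Subgroup.center G) (a : G) :
    (a * z) * (a * z) = (a * a) * (z * z) := by
  have hc : Commute z a := (Subgroup.mem_center_iff.mp hz a).symm
  exact hc.mul_mul_mul_comm a z

theorem sz_finite_K (h : Hyp G K f) : Finite K := by
  haveI := h.fin
  obtain ⟨u, y, huy, hu1, huu, hy1, hyy⟩ := h.two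
  have hinj : Function.Injective (fun k : K => f k u) := fun k k' e => h.reg_eq hu1 huu e
  exact Finite.of_injective _ hinj

theorem sz_card_K (h : Hyp G K f) (hz : ∀ z ∈ Subgroup.center G, z * z = 1) :
    Nat.card K + 1 = Nat.card (Subgroup.center G) := by
  haveI := h.fin
  haveI := sz_finite_K h
  obtain ⟨z₀, hz₀c, hz₀1, hz₀z⟩ := h.exists_central_invol
  let Φ : Option K → Subgroup.center G := fun o =>
    match o with
    | none => 1
    | some k => ⟨f k z₀, h.center_mem k hz₀c⟩
  have hΦ : Function.Bijective Φ := by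
    constructor
    · intro a b e
      cases a with
      | none =>
        cases b with
        | none => rfl
        | some k =>
          exfalso
          have e' : (1 : G) = f k z₀ := congrArg Subtype.val e
          exact (h.invol_map k hz₀1 hz₀z).1 e'.symm
      | some k =>
        cases b with
        | none =>
          exfalso
          have e' : f k z₀ = (1 : G) := congrArg Subtype.val e
          exact (h.invol_map k hz₀1 hz₀z).1 e'
        | some k' =>
          have e' : f k z₀ = f k' z₀ := congrArg Subtype.val e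
          rw [h.reg_eq hz₀1 hz₀z e']
    · intro z
      by_cases hz1 : (z : G) = 1
      · exact ⟨none, Subtype.ext hz1.symm⟩
      · obtain ⟨k, hk, -⟩ := h.reg z₀ z hz₀1 hz₀z hz1 (hz z z.2)
        exact ⟨some k, Subtype.ext hk⟩
  rw [← Finite.card_option]
  exact Nat.card_eq_of_bijective Φ hΦ

/-- the orbit decomposition: every element is central or of the form `f k w * z`. -/
theorem sz_cover (h : Hyp G K f) (hz : ∀ z ∈ Subgroup.center G, z * z = 1)
    (hcard : Nat.card G = Nat.card (Subgroup.center G) ^ 2)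
    {w : G} (hw : w ∉ Subgroup.center G) (hww : w * w ∈ Subgroup.center G) :
    ∀ g : G, g ∈ Subgroup.center G ∨ ∃ k : K, ∃ z ∈ Subgroup.center G, g = f k w * z := by
  haveI := h.fin
  haveI := sz_finite_K h
  have hw1 : w * w ≠ 1 := fun e => hw (h.sq_one_central e)
  have hw2 : (w * w) * (w * w) = 1 := hz _ hww
  let Ψ : Option K × Subgroup.center G → G := fun p =>
    match p.1 with
    | none => (p.2 : G)
    | some k => f k w * (p.2 : G)
  have hΨn : ∀ z : Subgroup.center G, Ψ (none, z) = (z : G) := fun z => rfl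
  have hΨs : ∀ (k : K) (z : Subgroup.center G), Ψ (some k, z) = f k w * (z : G) := fun k z => rfl
  have hΨ : Function.Injective Ψ := by
    rintro ⟨a, z⟩ ⟨b, z'⟩ e
    cases a with
    | none =>
      cases b with
      | none =>
        rw [hΨn, hΨn] at e
        rw [Subtype.ext e]
      | some k =>
        exfalso
        rw [hΨn, hΨs] at e
        apply sz_not_center h k hw
        have : f k w = (z : G) * (z' : G)⁻¹ := by rw [e]; group
        rw [this]
        exact Subgroup.mul_mem _ z.2 (Subgroup.inv_mem _ z'.2)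
    | some k =>
      cases b with
      | none =>
        exfalso
        rw [hΨn, hΨs] at e
        apply sz_not_center h k hw
        have : f k w = (z' : G) * (z : G)⁻¹ := by rw [← e]; group
        rw [this]
        exact Subgroup.mul_mem _ z'.2 (Subgroup.inv_mem _ z.2)
      | some k' =>
        rw [hΨs, hΨs] at e
        have e2 : (f k w * (z : G)) * (f k w * (z : G)) = (f k' w * (z' : G)) * (f k' w * (z' : G)) := by
          rw [e]
        rw [sz_sq_central_mul z.2, sz_sq_central_mul z'.2, hz _ z.2, hz _ z'.2, mul_one, mul_one,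
          ← map_mul, ← map_mul] at e2
        have hk : k = k' := h.reg_eq hw1 hw2 e2
        subst hk
        have := mul_left_cancel e
        rw [Subtype.ext this]
  have hc : Nat.card G ≤ Nat.card (Option K × Subgroup.center G) := by
    rw [Nat.card_prod, Finite.card_option, sz_card_K h hz, hcard, pow_two]
  have hsurj := (hΨ.bijective_of_nat_card_le hc).2
  intro g
  obtain ⟨⟨a, z⟩, rfl⟩ := hsurj g
  cases a with
  | none => left; rw [hΨn]; exact z.2
  | some k => right; exact ⟨k, z, z.2, hΨs k z⟩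

/-- all commutators are central. -/
theorem sz_cm_central (h : Hyp G K f) (hz : ∀ z ∈ Subgroup.center G, z * z = 1)
    (hcard : Nat.card G = Nat.card (Subgroup.center G) ^ 2) (x y : G) :
    cm x y ∈ Subgroup.center G := by
  obtain ⟨w, hw, hww, hwc⟩ := sz_exists_w h hcard
  rcases sz_cover h hz hcard hw hww x with hx | ⟨k, z, hzc, rfl⟩
  · rw [cm_central_left hx]; exact Subgroup.one_mem _
  · have e1 : cm (f k w * z) y = cm (f k w) y := by
      unfold cm
      have hz' := Subgroup.mem_center_iff.mp hzc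
      calc (y * (f k w * z))⁻¹ * (f k w * z * y)
          = z⁻¹ * ((f k w)⁻¹ * y⁻¹ * f k w * (z * y)) := by group
        _ = z⁻¹ * ((f k w)⁻¹ * y⁻¹ * f k w * (y * z)) := by rw [hz' y]
        _ = z⁻¹ * (((y * f k w)⁻¹ * (f k w * y)) * z) := by group
        _ = z⁻¹ * (z * ((y * f k w)⁻¹ * (f k w * y))) := by rw [hz']
        _ = (y * f k w)⁻¹ * (f k w * y) := by group
    have e2 : cm (f k w) y = f k (cm w (f k⁻¹ y)) := by
      rw [← h.cm_map, h.inv_right]
    rw [e1, e2]
    exact h.center_mem k (hwc _)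

theorem sz_hcV (h : Hyp G K f) (hz : ∀ z ∈ Subgroup.center G, z * z = 1)
    (hcard : Nat.card G = Nat.card (Subgroup.center G) ^ 2) (x y : G) :
    cm x y * cm x y = 1 := hz _ (sz_cm_central h hz hcard x y)

/-- squaring is injective modulo the centre. -/
theorem sz_sq_inj (h : Hyp G K f) (hz : ∀ z ∈ Subgroup.center G, z * z = 1)
    (hcard : Nat.card G = Nat.card (Subgroup.center G) ^ 2) {g g' : G} (e : g * g = g' * g') :
    g⁻¹ * g' ∈ Subgroup.center G := by
  obtain ⟨w, hw, hww, hwc⟩ := sz_exists_w h hcard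
  have hw1 : w * w ≠ 1 := fun e => hw (h.sq_one_central e)
  have hw2 : (w * w) * (w * w) = 1 := hz _ hww
  rcases sz_cover h hz hcard hw hww g with hg | ⟨k, z, hzc, rfl⟩
  · have : g' * g' = 1 := by rw [← e]; exact hz g hg
    exact Subgroup.mul_mem _ (Subgroup.inv_mem _ hg) (h.sq_one_central this)
  rcases sz_cover h hz hcard hw hww g' with hg' | ⟨k', z', hzc', rfl⟩
  · have : (f k w * z) * (f k w * z) = 1 := by rw [e]; exact hz g' hg'
    exact Subgroup.mul_mem _ (Subgroup.inv_mem _ (h.sq_one_central this)) hg'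
  rw [sz_sq_central_mul hzc, sz_sq_central_mul hzc', hz _ hzc, hz _ hzc', mul_one, mul_one,
    ← map_mul, ← map_mul] at e
  have hk : k = k' := h.reg_eq hw1 hw2 e
  subst hk
  have : (f k w * z)⁻¹ * (f k w * z') = z⁻¹ * z' := by group
  rw [this]
  exact Subgroup.mul_mem _ (Subgroup.inv_mem _ hzc) hzc'

theorem sz_sq_eq_of_center {g g' : G} (hz : ∀ z ∈ Subgroup.center G, z * z = 1)
    (hgg : g⁻¹ * g' ∈ Subgroup.center G) : g * g = g' * g' := by
  have e : g' = g * (g⁻¹ * g') := by group
  rw [e, sz_sq_central_mul hgg, hz _ hgg, mul_one]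


/-- **Field coordinates of a Suzuki 2-group with `|G| = |Z(G)|²`.** -/
theorem sz_coords (h : Hyp G K f) (hz : ∀ z ∈ Subgroup.center G, z * z = 1)
    (hcard : Nat.card G = Nat.card (Subgroup.center G) ^ 2) (hab : ∃ a b : G, a * b ≠ b * a)
    {F : Type w} [Field F] [Fintype F] [CharP F 2]
    (hF : Fintype.card F = Nat.card (Subgroup.center G)) :
    ∃ (π ε : G → F) (s₀ : F → F), Function.Surjective π ∧ (∀ g g', π (g * g') = π g + π g') ∧
      (∀ z z', π z = 0 → π z' = 0 → ε (z * z') = ε z + ε z') ∧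
      (∀ z, π z = 0 → ε z = 0 → z = 1) ∧ (∀ y : F, ∃ z, π z = 0 ∧ ε z = y) ∧
      (∀ g, ε (g * g) = s₀ (π g)) ∧
      (∀ x x' y, s₀ (x + x' + y) + s₀ (x + x') + s₀ y
        = (s₀ (x + y) + s₀ x + s₀ y) + (s₀ (x' + y) + s₀ x' + s₀ y)) ∧
      (∀ ν : F, ν ≠ 0 → ∃ χ : F, ∀ x, s₀ (ν * x) = χ * s₀ x) ∧
      (∃ x y, s₀ (x + y) ≠ s₀ x + s₀ y) ∧ Function.Injective s₀ := by
  classical
  haveI := h.fin
  have h2 : ∀ a : F, a + a = 0 := CharTwo.add_self_eq_zero
  obtain ⟨w, hw, hww, hwc⟩ := sz_exists_w h hcard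
  have hw1 : w * w ≠ 1 := fun e => hw (h.sq_one_central e)
  have hcov := sz_cover h hz hcard hw hww
  have hcV := sz_hcV h hz hcard
  have hcmZ := sz_cm_central h hz hcard
  have hsqZ : ∀ g : G, g * g ∈ Subgroup.center G := h.sq_central hcV
  -- coordinates on the centre
  let rZ : K → (Subgroup.center G →* Subgroup.center G) := fun k =>
    MonoidHom.mk' (fun z => ⟨f k z, h.center_mem k z.2⟩) (by
      intro a b; apply Subtype.ext; exact map_mul (f k) (a : G) (b : G))
  have hrZ : ∀ (k : K) (z : Subgroup.center G), ((rZ k z : Subgroup.center G) : G) = f k z :=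
    fun k z => rfl
  obtain ⟨eZ, heZb, heZa, heZ3, heZ4⟩ := field_of_regular (A := Subgroup.center G) (F := F)
    (fun x y => Subtype.ext (Subgroup.mem_center_iff.mp y.2 x))
    (Set.range rZ)
    (by
      rintro _ ⟨k, rfl⟩ _ ⟨k', rfl⟩ x
      exact Subtype.ext (h.swap k k' x))
    (by
      intro x y hx hy
      obtain ⟨k, hk, -⟩ := h.reg x y (fun e => hx (Subtype.ext e)) (hz x x.2)
        (fun e => hy (Subtype.ext e)) (hz y y.2)
      exact ⟨rZ k, ⟨k, rfl⟩, Subtype.ext hk⟩)
    (by
      rintro _ ⟨k, rfl⟩ a b e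
      exact Subtype.ext (h.inj k (congrArg Subtype.val e)))
    ⟨⟨w * w, hww⟩, fun e => hw1 (congrArg Subtype.val e)⟩
    hF
  -- coordinates on the quotient
  have hk : ∀ k : K, Subgroup.center G ≤ Subgroup.comap (f k) (Subgroup.center G) :=
    fun k z hzc => h.center_mem k hzc
  let rQ : K → (G ⧸ Subgroup.center G →* G ⧸ Subgroup.center G) := fun k =>
    QuotientGroup.map (Subgroup.center G) (Subgroup.center G) (f k) (hk k)
  have hrQ : ∀ (k : K) (g : G), rQ k (g : G ⧸ Subgroup.center G) = ((f k g : G) : G ⧸ Subgroup.center G) :=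
    fun k g => QuotientGroup.map_mk _ _ _ _ _
  have hmk1 : ∀ g : G, (g : G ⧸ Subgroup.center G) = 1 ↔ g ∈ Subgroup.center G :=
    fun g => QuotientGroup.eq_one_iff g
  obtain ⟨eQ, heQb, heQa, heQ3, heQ4⟩ := field_of_regular (A := G ⧸ Subgroup.center G) (F := F)
    (by
      intro x y
      induction x using QuotientGroup.induction_on with
      | H g =>
        induction y using QuotientGroup.induction_on with
        | H g' =>
          rw [← QuotientGroup.mk_mul, ← QuotientGroup.mk_mul, QuotientGroup.eq]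
          exact hcmZ g' g)
    (Set.range rQ)
    (by
      rintro _ ⟨k, rfl⟩ _ ⟨k', rfl⟩ x
      induction x using QuotientGroup.induction_on with
      | H g => rw [hrQ, hrQ, hrQ, hrQ, h.swap])
    (by
      intro x y hx hy
      induction x using QuotientGroup.induction_on with
      | H g =>
        induction y using QuotientGroup.induction_on with
        | H g' =>
          rw [Ne, hmk1] at hx hy
          rcases hcov g with hg | ⟨k, z, hzc, rfl⟩
          · exact absurd hg hx
          rcases hcov g' with hg' | ⟨k', z', hzc', rfl⟩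
          · exact absurd hg' hy
          refine ⟨rQ (k' * k⁻¹), ⟨_, rfl⟩, ?_⟩
          rw [hrQ, QuotientGroup.eq]
          have e1 : f (k' * k⁻¹) (f k w * z) = f k' w * f (k' * k⁻¹) z := by
            rw [map_mul, h.comp, h.inv_left]
          rw [e1]
          have e2 : (f k' w * f (k' * k⁻¹) z)⁻¹ * (f k' w * z') = (f (k' * k⁻¹) z)⁻¹ * z' := by group
          rw [e2]
          exact Subgroup.mul_mem _ (Subgroup.inv_mem _ (h.center_mem _ hzc)) hzc')
    (by
      rintro _ ⟨k, rfl⟩
      rw [injective_iff_map_eq_one]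
      intro x hx
      induction x using QuotientGroup.induction_on with
      | H g =>
        rw [hrQ, hmk1] at hx
        rw [hmk1]
        by_contra hg
        exact sz_not_center h k hg hx)
    ⟨(w : G ⧸ Subgroup.center G), fun e => hw ((hmk1 w).mp e)⟩
    (hF.trans (sz_card_quot h hcard).symm)
  have heZ1 : eZ 1 = 0 := by
    have := heZa 1 1
    rw [mul_one] at this
    exact left_eq_add.mp this
  have heQ1 : eQ 1 = 0 := by
    have := heQa 1 1
    rw [mul_one] at this
    exact left_eq_add.mp this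
  let π : G → F := fun g => eQ (g : G ⧸ Subgroup.center G)
  let ε : G → F := fun g => if hg : g ∈ Subgroup.center G then eZ ⟨g, hg⟩ else 0
  have hεZ : ∀ (g : G) (hg : g ∈ Subgroup.center G), ε g = eZ ⟨g, hg⟩ := fun g hg => dif_pos hg
  have hπs : Function.Surjective π := by
    intro x
    obtain ⟨v, hv⟩ := heQb.2 x
    obtain ⟨g, rfl⟩ := QuotientGroup.mk_surjective v
    exact ⟨g, hv⟩
  have hπa : ∀ g g', π (g * g') = π g + π g' := by
    intro g g'
    show eQ ((g * g' : G) : G ⧸ Subgroup.center G) = _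
    rw [QuotientGroup.mk_mul, heQa]
  have hπ0 : ∀ g, π g = 0 ↔ g ∈ Subgroup.center G := by
    intro g
    rw [← hmk1]
    constructor
    · intro e
      apply heQb.1
      rw [heQ1]; exact e
    · intro e
      show eQ (g : G ⧸ Subgroup.center G) = 0
      rw [e, heQ1]
  have hπeq : ∀ g g', π g = π g' → g⁻¹ * g' ∈ Subgroup.center G := by
    intro g g' e
    rw [← QuotientGroup.eq]
    exact heQb.1 e
  have hεa : ∀ z z', z ∈ Subgroup.center G → z' ∈ Subgroup.center G → ε (z * z') = ε z + ε z' := by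
    intro z z' hzc hzc'
    rw [hεZ z hzc, hεZ z' hzc', hεZ (z * z') (Subgroup.mul_mem _ hzc hzc'), ← heZa]
    rfl
  have hεi : ∀ z z', z ∈ Subgroup.center G → z' ∈ Subgroup.center G → ε z = ε z' → z = z' := by
    intro z z' hzc hzc' e
    rw [hεZ z hzc, hεZ z' hzc'] at e
    exact congrArg Subtype.val (heZb.1 e)
  have hε1 : ε 1 = 0 := by
    rw [hεZ 1 (Subgroup.one_mem _)]
    exact heZ1
  let γ : F → G := Function.surjInv hπs
  have hγ : ∀ x, π (γ x) = x := Function.surjInv_eq hπs
  let s₀ : F → F := fun x => ε (γ x * γ x)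
  have hs₀ : ∀ g, ε (g * g) = s₀ (π g) := by
    intro g
    show ε (g * g) = ε (γ (π g) * γ (π g))
    rw [sz_sq_eq_of_center hz (hπeq _ _ (hγ (π g)))]
  have hkey : ∀ a b : G, s₀ (π a + π b) = s₀ (π a) + s₀ (π b) + ε (cm b a) := by
    intro a b
    rw [← hπa, ← hs₀, ← hs₀, ← hs₀]
    have e := h.sq_mul hcV a b
    rw [pow_two, pow_two, pow_two] at e
    rw [e, hεa _ _ (Subgroup.mul_mem _ (hsqZ a) (hsqZ b)) (hcmZ b a), hεa _ _ (hsqZ a) (hsqZ b)]
  refine ⟨π, ε, s₀, hπs, hπa, ?_, ?_, ?_, hs₀, ?_, ?_, ?_, ?_⟩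
  · intro z z' hzc hzc'
    exact hεa z z' ((hπ0 z).mp hzc) ((hπ0 z').mp hzc')
  · intro z hzc e
    exact hεi z 1 ((hπ0 z).mp hzc) (Subgroup.one_mem _) (e.trans hε1.symm)
  · intro y
    obtain ⟨z, hzy⟩ := heZb.2 y
    exact ⟨z, (hπ0 z).mpr z.2, (hεZ z z.2).trans hzy⟩
  · intro x x' y
    obtain ⟨g, rfl⟩ := hπs x
    obtain ⟨g', rfl⟩ := hπs x'
    obtain ⟨l, rfl⟩ := hπs y
    have e1 := hkey (g * g') l
    rw [hπa] at e1
    have e2 := hkey g l
    have e3 := hkey g' l
    have e4 : ε (cm l (g * g')) = ε (cm l g) + ε (cm l g') := by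
      rw [h.cm_mul_right hcV, hεa _ _ (hcmZ l g) (hcmZ l g')]
    rw [e1, e2, e3, e4]
    have t1 := h2 (s₀ (π g + π g'))
    have t2 := h2 (s₀ (π l))
    have t3 := h2 (s₀ (π g))
    have t4 := h2 (s₀ (π g'))
    linear_combination t1 + t2 - t3 - t4 - 2 * t2
  · intro ν hν
    obtain ⟨_, ⟨k, rfl⟩, hkν⟩ := heQ4 ν hν
    obtain ⟨χ, hχ⟩ := heZ3 (rZ k) ⟨k, rfl⟩
    refine ⟨χ, ?_⟩
    intro x
    obtain ⟨g, rfl⟩ := hπs x
    have e1 : ν * π g = π (f k g) := by
      show ν * eQ (g : G ⧸ Subgroup.center G) = eQ ((f k g : G) : G ⧸ Subgroup.center G)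
      rw [← hkν, hrQ]
    rw [e1, ← hs₀, ← hs₀, ← map_mul, hεZ _ (hsqZ g), hεZ _ (h.center_mem k (hsqZ g))]
    exact hχ ⟨g * g, hsqZ g⟩
  · obtain ⟨a, b, hab'⟩ := hab
    refine ⟨π b, π a, ?_⟩
    rw [hkey]
    intro e
    have e' : ε (cm a b) = 0 := by
      have := add_eq_left.mp e
      exact this
    have := hεi _ 1 (hcmZ a b) (Subgroup.one_mem _) (e'.trans hε1.symm)
    exact hab' (comm_of_cm this)
  · intro x y e
    obtain ⟨g, rfl⟩ := hπs x
    obtain ⟨g', rfl⟩ := hπs y
    rw [← hs₀, ← hs₀] at e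
    have e2 := hεi _ _ (hsqZ g) (hsqZ g') e
    have e3 := sz_sq_inj h hz hcard e2
    show eQ (g : G ⧸ Subgroup.center G) = eQ (g' : G ⧸ Subgroup.center G)
    rw [QuotientGroup.eq.mpr e3]

end

end Cfsg.Agent.Lib.helper24
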