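import Mathlib

set_option autoImplicit false

/-!
# An isomorphism criterion: two central-type extensions with the same squaring map

If `P` and `A` are finite groups with surjections onto a common group `V` and a bijection `ζ`
between the kernels which is multiplicative and matches the squaring maps
(`ζ (p * p) = a * a` whenever `p` and `a` have the same image in `V`), then `P ≃* A`.
-/

namespace Cfsg.Agent.Lib.helper24

universe u v w

/-- a complement modulo `N`: if all squares of `D` lie in `N ≤ Z ≤ D`, there is `Γ` with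
`N ≤ Γ ≤ D`, `Γ ⊓ Z ≤ N` and `D ⊆ Z * Γ`. -/
theorem exists_sq_complement {G : Type u} [Group G] [Finite G] (D N Z : Subgroup G)
    (hND : N ≤ D) (hsq : ∀ x ∈ D, x * x ∈ N) :
    ∃ Γ : Subgroup G, N ≤ Γ ∧ Γ ≤ D ∧ Γ ⊓ Z ≤ N ∧ ∀ x ∈ D, ∃ z ∈ Z, ∃ g ∈ Γ, x = z * g := by
  classical
  have hcomm : ∀ x ∈ D, ∀ y ∈ D, x⁻¹ * y⁻¹ * x * y ∈ N := by
    intro x hx y hy
    have e : x⁻¹ * y⁻¹ * x * y = (x * x)⁻¹ * ((x * y⁻¹) * (x * y⁻¹)) * (y * y) := by group
    rw [e]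
    exact N.mul_mem (N.mul_mem (N.inv_mem (hsq x hx)) (hsq _ (D.mul_mem hx (D.inv_mem hy))))
      (hsq y hy)
  obtain ⟨Γ, -, hΓ⟩ := Finite.exists_le_maximal (p := fun Γ : Subgroup G => N ≤ Γ ∧ Γ ≤ D ∧ Γ ⊓ Z ≤ N)
    (a := N) ⟨le_refl _, hND, inf_le_left⟩
  obtain ⟨⟨hNΓ, hΓD, hΓZ⟩, hmax⟩ := hΓ
  refine ⟨Γ, hNΓ, hΓD, hΓZ, ?_⟩
  intro x hx
  by_contra hcon
  have hcon' : ∀ z ∈ Z, ∀ g ∈ Γ, x ≠ z * g := by
    intro z hz g hg e
    exact hcon ⟨z, hz, g, hg, e⟩
  -- conjugation by elements of `D` preserves `Γ`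
  have hconj : ∀ g ∈ Γ, ∀ y ∈ D, y⁻¹ * g * y ∈ Γ := by
    intro g hg y hy
    have e : y⁻¹ * g * y = g * (g⁻¹ * y⁻¹ * g * y) := by group
    rw [e]
    exact Γ.mul_mem hg (hNΓ (hcomm g (hΓD hg) y hy))
  have hxx : x * x ∈ Γ := hNΓ (hsq x hx)
  let Γ' : Subgroup G :=
    { carrier := {g | g ∈ Γ ∨ x⁻¹ * g ∈ Γ}
      one_mem' := Or.inl Γ.one_mem
      mul_mem' := by
        rintro a b (ha | ha) (hb | hb)
        · exact Or.inl (Γ.mul_mem ha hb)
        · right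
          have e : x⁻¹ * (a * b) = (x⁻¹ * a * x) * (x⁻¹ * b) := by group
          rw [e]
          exact Γ.mul_mem (hconj a ha x hx) hb
        · right
          have e : x⁻¹ * (a * b) = (x⁻¹ * a) * b := by group
          rw [e]
          exact Γ.mul_mem ha hb
        · left
          have e : a * b = (x * x) * (x⁻¹ * (x⁻¹ * a) * x) * (x⁻¹ * b) := by group
          rw [e]
          exact Γ.mul_mem (Γ.mul_mem hxx (hconj _ ha x hx)) hb
      inv_mem' := by
        rintro a (ha | ha)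
        · exact Or.inl (Γ.inv_mem ha)
        · right
          have e : x⁻¹ * a⁻¹ = (x * x)⁻¹ * ((x⁻¹)⁻¹ * (x⁻¹ * a)⁻¹ * x⁻¹) := by group
          rw [e]
          exact Γ.mul_mem (Γ.inv_mem hxx) (hconj _ (Γ.inv_mem ha) x⁻¹ (D.inv_mem hx)) }
  have hΓΓ' : Γ ≤ Γ' := fun g hg => Or.inl hg
  have hxΓ' : x ∈ Γ' := Or.inr (by rw [inv_mul_cancel]; exact Γ.one_mem)
  have hp : N ≤ Γ' ∧ Γ' ≤ D ∧ Γ' ⊓ Z ≤ N := by
    refine ⟨hNΓ.trans hΓΓ', ?_, ?_⟩
    · rintro a (ha | ha)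
      · exact hΓD ha
      · have : a = x * (x⁻¹ * a) := by group
        rw [this]
        exact D.mul_mem hx (hΓD ha)
    · rintro a ⟨(ha | ha), haZ⟩
      · exact hΓZ ⟨ha, haZ⟩
      · exfalso
        apply hcon' a haZ (x⁻¹ * a)⁻¹ (Γ.inv_mem ha)
        group
  have hle : Γ' ≤ Γ := hmax hp hΓΓ'
  apply hcon' 1 Z.one_mem x (hle hxΓ')
  rw [one_mul]

/-- **Isomorphism criterion.** -/
theorem iso_of_squares {P : Type u} {A : Type v} {V : Type w} [Group P] [Group A] [Group V]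
    [Finite P] [Finite A] (πP : P →* V) (πA : A →* V)
    (hP : Function.Surjective πP) (hA : Function.Surjective πA)
    (ζ : P → A)
    (h1 : ∀ z, πP z = 1 → πA (ζ z) = 1)
    (h2 : ∀ z z', πP z = 1 → πP z' = 1 → ζ (z * z') = ζ z * ζ z')
    (h3 : ∀ z, πP z = 1 → ζ z = 1 → z = 1)
    (h4 : ∀ a, πA a = 1 → ∃ z, πP z = 1 ∧ ζ z = a)
    (h5 : ∀ p a, πP p = πA a → πP (p * p) = 1 ∧ ζ (p * p) = a * a) :
    Nonempty (P ≃* A) := by
  classical
  have hζ1 : ζ 1 = 1 := by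
    have := h2 1 1 (map_one _) (map_one _)
    rw [mul_one] at this
    exact (mul_eq_left.mp this.symm)
  have hζinv : ∀ z, πP z = 1 → ζ z⁻¹ = (ζ z)⁻¹ := by
    intro z hz
    have hz' : πP z⁻¹ = 1 := by rw [map_inv, hz, inv_one]
    have := h2 z⁻¹ z hz' hz
    rw [inv_mul_cancel, hζ1] at this
    exact eq_inv_of_mul_eq_one_left this.symm
  let D : Subgroup (P × A) :=
    { carrier := {x | πP x.1 = πA x.2}
      one_mem' := by show πP (1 : P × A).1 = πA (1 : P × A).2; rw [Prod.fst_one, Prod.snd_one, map_one, map_one]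
      mul_mem' := by
        intro a b ha hb
        show πP (a * b).1 = πA (a * b).2
        rw [Prod.fst_mul, Prod.snd_mul, map_mul, map_mul]
        have ha' : πP a.1 = πA a.2 := ha
        have hb' : πP b.1 = πA b.2 := hb
        rw [ha', hb']
      inv_mem' := by
        intro a ha
        show πP (a⁻¹).1 = πA (a⁻¹).2
        have ha' : πP a.1 = πA a.2 := ha
        rw [Prod.fst_inv, Prod.snd_inv, map_inv, map_inv, ha'] }
  let N : Subgroup (P × A) :=
    { carrier := {x | πP x.1 = 1 ∧ x.2 = ζ x.1}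
      one_mem' := ⟨map_one _, hζ1.symm⟩
      mul_mem' := by
        rintro a b ⟨ha1, ha2⟩ ⟨hb1, hb2⟩
        refine ⟨?_, ?_⟩
        · show πP (a.1 * b.1) = 1
          rw [map_mul, ha1, hb1, mul_one]
        · show a.2 * b.2 = ζ (a.1 * b.1)
          rw [h2 _ _ ha1 hb1, ha2, hb2]
      inv_mem' := by
        rintro a ⟨ha1, ha2⟩
        refine ⟨?_, ?_⟩
        · show πP (a.1)⁻¹ = 1
          rw [map_inv, ha1, inv_one]
        · show (a.2)⁻¹ = ζ (a.1)⁻¹
          rw [hζinv _ ha1, ha2] }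
  let ZZ : Subgroup (P × A) :=
    { carrier := {x | πP x.1 = 1 ∧ πA x.2 = 1}
      one_mem' := ⟨map_one _, map_one _⟩
      mul_mem' := by
        rintro a b ⟨ha1, ha2⟩ ⟨hb1, hb2⟩
        refine ⟨?_, ?_⟩
        · show πP (a.1 * b.1) = 1
          rw [map_mul, ha1, hb1, mul_one]
        · show πA (a.2 * b.2) = 1
          rw [map_mul, ha2, hb2, mul_one]
      inv_mem' := by
        rintro a ⟨ha1, ha2⟩
        refine ⟨?_, ?_⟩
        · show πP (a.1)⁻¹ = 1
          rw [map_inv, ha1, inv_one]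
        · show πA (a.2)⁻¹ = 1
          rw [map_inv, ha2, inv_one] }
  have memD : ∀ x : P × A, x ∈ D ↔ πP x.1 = πA x.2 := fun x => Iff.rfl
  have memN : ∀ x : P × A, x ∈ N ↔ πP x.1 = 1 ∧ x.2 = ζ x.1 := fun x => Iff.rfl
  have memZZ : ∀ x : P × A, x ∈ ZZ ↔ πP x.1 = 1 ∧ πA x.2 = 1 := fun x => Iff.rfl
  have hND : N ≤ D := by
    intro x hx
    rw [memN] at hx
    rw [memD, hx.1, hx.2, h1 _ hx.1]
  have hsq : ∀ x ∈ D, x * x ∈ N := by
    intro x hx
    rw [memD] at hx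
    obtain ⟨e1, e2⟩ := h5 x.1 x.2 hx
    rw [memN]
    exact ⟨e1, e2.symm⟩
  obtain ⟨Γ, hNΓ, hΓD, hΓZ, hcov⟩ := exists_sq_complement D N ZZ hND hsq
  let f₁ : Γ →* P := (MonoidHom.fst P A).comp Γ.subtype
  let f₂ : Γ →* A := (MonoidHom.snd P A).comp Γ.subtype
  have hf₁ : Function.Bijective f₁ := by
    constructor
    · rw [injective_iff_map_eq_one]
      intro g hg
      have hg1 : (g : P × A).1 = 1 := hg
      have hgD : πP (g : P × A).1 = πA (g : P × A).2 := (memD _).mp (hΓD g.2)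
      rw [hg1, map_one] at hgD
      have hgN : (g : P × A) ∈ N := hΓZ ⟨g.2, (memZZ _).mpr ⟨by rw [hg1, map_one], hgD.symm⟩⟩
      rw [memN] at hgN
      apply Subtype.ext
      apply Prod.ext
      · exact hg1
      · rw [hgN.2, hg1, hζ1]; rfl
    · intro p
      obtain ⟨a, ha⟩ := hA (πP p)
      obtain ⟨z, hz, g, hg, e⟩ := hcov (p, a) ((memD _).mpr ha.symm)
      rw [memZZ] at hz
      have hzN : (z.1, ζ z.1) ∈ N := (memN _).mpr ⟨hz.1, rfl⟩
      refine ⟨⟨(z.1, ζ z.1) * g, Γ.mul_mem (hNΓ hzN) hg⟩, ?_⟩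
      show z.1 * g.1 = p
      have := congrArg Prod.fst e
      exact this.symm
  have hf₂ : Function.Bijective f₂ := by
    constructor
    · rw [injective_iff_map_eq_one]
      intro g hg
      have hg2 : (g : P × A).2 = 1 := hg
      have hgD : πP (g : P × A).1 = πA (g : P × A).2 := (memD _).mp (hΓD g.2)
      rw [hg2, map_one] at hgD
      have hgN : (g : P × A) ∈ N := hΓZ ⟨g.2, (memZZ _).mpr ⟨hgD, by rw [hg2, map_one]⟩⟩
      rw [memN] at hgN
      apply Subtype.ext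
      apply Prod.ext
      · exact h3 _ hgN.1 (hgN.2.symm.trans hg2)
      · exact hg2
    · intro a
      obtain ⟨p, hp⟩ := hP (πA a)
      obtain ⟨z, hz, g, hg, e⟩ := hcov (p, a) ((memD _).mpr hp)
      rw [memZZ] at hz
      obtain ⟨z', hz'1, hz'2⟩ := h4 z.2 hz.2
      have hzN : (z', z.2) ∈ N := (memN _).mpr ⟨hz'1, hz'2.symm⟩
      refine ⟨⟨(z', z.2) * g, Γ.mul_mem (hNΓ hzN) hg⟩, ?_⟩
      show z.2 * g.2 = a
      have := congrArg Prod.snd e
      exact this.symm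
  exact ⟨(MulEquiv.ofBijective f₁ hf₁).symm.trans (MulEquiv.ofBijective f₂ hf₂)⟩

end Cfsg.Agent.Lib.helper24
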