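import Mathlib
import Cfsg.Agent.S1140

set_option autoImplicit false

/-!
# Quadratic maps on a finite field of characteristic two equivariant under scalars

`quad_form`: a map `s : F → F` whose polarisation is biadditive and nonzero and which is
semi-equivariant under all scalars has the form `s x = c * σ x * τ x` with `σ ≠ τ` automorphisms.

`odd_order_of_inj`: if `x ↦ x * φ x` is injective then `φ` has odd order.
-/

namespace Cfsg.Agent.Lib.helper24

open Cfsg.Agent.S1140

section

variable {F : Type*} [Field F] [Fintype F] [CharP F 2]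

/-- independence of automorphisms, in elementwise form -/
theorem aut_indep (g : (F ≃+* F) → F) (h : ∀ x : F, ∑ σ : F ≃+* F, g σ * σ x = 0) :
    ∀ σ, g σ = 0 := by
  have h1 := (Cfsg.Agent.S1140.result (F := F)).1
  rw [Fintype.linearIndependent_iff] at h1
  apply h1 g
  funext x
  rw [Finset.sum_apply]
  simpa [Pi.smul_apply, smul_eq_mul] using h x

/-- independence of the products `σ x * τ y` -/
theorem aut_indep2 (d : (F ≃+* F) × (F ≃+* F) → F)
    (h : ∀ x y : F, ∑ σ : F ≃+* F, ∑ τ : F ≃+* F, d (σ, τ) * (σ x * τ y) = 0) :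
    ∀ p, d p = 0 := by
  rintro ⟨σ, τ⟩
  have h1 : ∀ y : F, ∀ σ : F ≃+* F, ∑ τ : F ≃+* F, d (σ, τ) * τ y = 0 := by
    intro y
    apply aut_indep
    intro x
    rw [← h x y]
    apply Finset.sum_congr rfl
    intro σ _
    rw [Finset.sum_mul]
    apply Finset.sum_congr rfl
    intro τ _
    ring
  exact aut_indep (fun τ => d (σ, τ)) (fun y => h1 y σ) τ

theorem quad_form (s : F → F)
    (hadd : ∀ x x' y, s (x + x' + y) + s (x + x') + s y
      = (s (x + y) + s x + s y) + (s (x' + y) + s x' + s y))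
    (heq : ∀ ν : F, ν ≠ 0 → ∃ χ : F, ∀ x, s (ν * x) = χ * s x)
    (hne : ∃ x y, s (x + y) ≠ s x + s y) :
    ∃ (c : F) (σ τ : F ≃+* F), c ≠ 0 ∧ σ ≠ τ ∧ ∀ x, s x = c * (σ x * τ x) := by
  classical
  have h2 : ∀ a : F, a + a = 0 := CharTwo.add_self_eq_zero
  have hs0 : s 0 = 0 := by
    have := hadd 0 0 0
    rw [add_zero, add_zero] at this
    have e := h2 (s 0)
    linear_combination this + 2 * e
  -- the polarisation
  let B₀ : F → F → F := fun x y => s (x + y) + s x + s y
  have hB1 : ∀ x x' y, B₀ (x + x') y = B₀ x y + B₀ x' y := hadd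
  have hBsymm : ∀ x y, B₀ x y = B₀ y x := by
    intro x y
    show s (x + y) + s x + s y = s (y + x) + s y + s x
    rw [add_comm x y]; ring
  have hB2 : ∀ x y y', B₀ x (y + y') = B₀ x y + B₀ x y' := by
    intro x y y'
    rw [hBsymm, hB1, hBsymm y, hBsymm y']
  have hB0l : ∀ y, B₀ 0 y = 0 := by
    intro y
    have := hB1 0 0 y
    rw [add_zero] at this
    exact left_eq_add.mp this
  have hB0r : ∀ x, B₀ x 0 = 0 := fun x => by rw [hBsymm]; exact hB0l x
  let B : F →+ F →+ F :=
    AddMonoidHom.mk' (fun x => AddMonoidHom.mk' (fun y => B₀ x y) (hB2 x))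
      (fun x x' => by
        apply AddMonoidHom.ext
        intro y
        exact hB1 x x' y)
  have hBB : ∀ x y, B x y = B₀ x y := fun x y => rfl
  obtain ⟨S, c, hc⟩ := (Cfsg.Agent.S1140.result (F := F)).2.2 B
  let d : (F ≃+* F) × (F ≃+* F) → F := fun p => if p ∈ S then c p else 0
  have hd : ∀ x y, B₀ x y = ∑ σ : F ≃+* F, ∑ τ : F ≃+* F, d (σ, τ) * (σ x * τ y) := by
    intro x y
    rw [← hBB, hc x y, ← Fintype.sum_prod_type (f := fun p : (F ≃+* F) × (F ≃+* F) => d p * (p.1 x * p.2 y))]
    rw [← Finset.sum_subset (Finset.subset_univ S)]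
    · apply Finset.sum_congr rfl
      intro p hp
      show c p * (p.1 x * p.2 y) = (if p ∈ S then c p else 0) * (p.1 x * p.2 y)
      rw [if_pos hp]
    · intro p _ hp
      show (if p ∈ S then c p else 0) * (p.1 x * p.2 y) = 0
      rw [if_neg hp, zero_mul]
  -- some coefficient is nonzero
  have hex : ∃ p, d p ≠ 0 := by
    by_contra hcon
    have hall : ∀ p, d p = 0 := by
      intro p
      by_contra hp
      exact hcon ⟨p, hp⟩
    obtain ⟨x, y, hxy⟩ := hne
    apply hxy
    have := hd x y
    have hz : ∑ σ : F ≃+* F, ∑ τ : F ≃+* F, d (σ, τ) * (σ x * τ y) = 0 := by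
      apply Finset.sum_eq_zero; intro σ _
      apply Finset.sum_eq_zero; intro τ _
      rw [hall, zero_mul]
    rw [hz] at this
    have e : s (x + y) + s x + s y = 0 := this
    have e2 : s (x + y) = s (x + y) + s x + s y + (s x + s y) := by
      have := h2 (s x + s y)
      linear_combination -this
    rw [e2, e, zero_add]
  obtain ⟨⟨σ, τ⟩, hp₀⟩ := hex
  -- the multipliers
  have hχ : ∀ ν : F, ν ≠ 0 → ∀ χ : F, (∀ x, s (ν * x) = χ * s x) → χ = σ ν * τ ν := by
    intro ν hν χ hχ
    have hBν : ∀ x y, B₀ (ν * x) (ν * y) = χ * B₀ x y := by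
      intro x y
      show s (ν * x + ν * y) + s (ν * x) + s (ν * y) = χ * (s (x + y) + s x + s y)
      rw [← mul_add, hχ, hχ, hχ]; ring
    have hz : ∀ x y : F, ∑ σ' : F ≃+* F, ∑ τ' : F ≃+* F,
        (d (σ', τ') * (σ' ν * τ' ν) - χ * d (σ', τ')) * (σ' x * τ' y) = 0 := by
      intro x y
      have e1 := hd (ν * x) (ν * y)
      rw [hBν, hd x y, Finset.mul_sum] at e1
      have e1' := sub_eq_zero.mpr e1.symm
      rw [← e1', ← Finset.sum_sub_distrib]
      apply Finset.sum_congr rfl; intro σ' _
      rw [Finset.mul_sum, ← Finset.sum_sub_distrib]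
      apply Finset.sum_congr rfl; intro τ' _
      rw [map_mul, map_mul]; ring
    have := aut_indep2 (fun p => d p * (p.1 ν * p.2 ν) - χ * d p) hz (σ, τ)
    have e : d (σ, τ) * (σ ν * τ ν - χ) = 0 := by
      linear_combination this
    rcases mul_eq_zero.mp e with h0 | h0
    · exact absurd h0 hp₀
    · exact (sub_eq_zero.mp h0).symm
  have hform : ∀ x, s x = s 1 * (σ x * τ x) := by
    intro x
    by_cases hx : x = 0
    · rw [hx, hs0, map_zero, zero_mul, mul_zero]
    · obtain ⟨χ, hχ'⟩ := heq x hx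
      have := hχ x hx χ hχ'
      have e := hχ' 1
      rw [mul_one] at e
      rw [e, this]; ring
  refine ⟨s 1, σ, τ, ?_, ?_, hform⟩
  · intro h0
    obtain ⟨x, y, hxy⟩ := hne
    apply hxy
    rw [hform, hform x, hform y, h0]
    simp only [zero_mul, add_zero]
  · intro hστ
    obtain ⟨x, y, hxy⟩ := hne
    apply hxy
    rw [hform, hform x, hform y, ← hστ, map_add]
    have := h2 (σ x * σ y)
    linear_combination (s 1) * this

/-- if `x ↦ x * φ x` is injective on a finite field of characteristic two, `φ` has odd order. -/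
theorem odd_order_of_inj (φ : F ≃+* F)
    (hinj : ∀ x y : F, x * φ x = y * φ y → x = y) : Odd (orderOf φ) := by
  classical
  have h2 : ∀ a : F, a + a = 0 := CharTwo.add_self_eq_zero
  by_contra hodd
  rw [Nat.not_odd_iff_even] at hodd
  obtain ⟨m, hm⟩ := hodd
  haveI : Finite (F ≃+* F) :=
    Finite.of_injective (fun σ : F ≃+* F => (σ : F → F)) DFunLike.coe_injective
  have hpos : 0 < orderOf φ := orderOf_pos φ
  have hm1 : 0 < m := by omega
  have happ : ∀ (n : ℕ) (x : F), (φ ^ (n + 1)) x = φ ((φ ^ n) x) := by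
    intro n x
    rw [pow_succ']
    rfl
  let ψ : F ≃+* F := φ ^ m
  have hψ1 : ψ ≠ 1 := pow_ne_one_of_lt_orderOf (x := φ) (n := m) (by omega) (by omega)
  have hψ2 : ∀ x, ψ (ψ x) = x := by
    intro x
    have : ψ * ψ = 1 := by
      show φ ^ m * φ ^ m = 1
      rw [← pow_add, ← hm]; exact pow_orderOf_eq_one φ
    have e := DFunLike.congr_fun this x
    exact e
  have hex : ∃ w, ψ w ≠ w := by
    by_contra hcon
    apply hψ1
    apply RingEquiv.ext
    intro w
    by_contra hw
    exact hcon ⟨w, hw⟩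
  obtain ⟨w, hw⟩ := hex
  let e : F := ψ w + w
  have he : ψ e = e := by
    show ψ (ψ w + w) = ψ w + w
    rw [map_add, hψ2, add_comm]
  have he0 : e ≠ 0 := by
    intro h0
    apply hw
    have : ψ w + w = 0 := h0
    have := h2 w
    linear_combination h0 - this
  let u : F := w / e
  have hu : ψ u = u + 1 := by
    show ψ (w / e) = w / e + 1
    rw [map_div₀, he]
    field_simp
    show ψ w = w + (ψ w + w)
    have := h2 w
    linear_combination -this
  let x : F := ∑ i ∈ Finset.range m, (φ ^ i) u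
  have hφx : φ x = x + 1 := by
    have e1 : φ x = ∑ i ∈ Finset.range m, (φ ^ (i + 1)) u := by
      show φ (∑ i ∈ Finset.range m, (φ ^ i) u) = _
      rw [map_sum]
      apply Finset.sum_congr rfl
      intro i _
      rw [happ]
    have e2 : (∑ i ∈ Finset.range m, (φ ^ (i + 1)) u) + (φ ^ 0) u = x + (φ ^ m) u := by
      rw [← Finset.sum_range_succ' (fun i => (φ ^ i) u) m, Finset.sum_range_succ]
    have e3 : (φ ^ 0) u = u := by rw [pow_zero]; rfl
    have e4 : (φ ^ m) u = u + 1 := hu
    rw [e3, e4, ← e1] at e2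
    linear_combination e2
  have hx1 : x + 1 = x := by
    apply hinj
    rw [map_add, map_one, hφx]
    have := h2 (1 : F)
    linear_combination (x + 1) * this
  have : (1 : F) = 0 := by linear_combination hx1
  exact one_ne_zero this

end

end Cfsg.Agent.Lib.helper24
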