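import Mathlib
import Cfsg.Prelude.Def_LieRecognition
import Cfsg.Agent.Lib.helper24.SzIso

set_option autoImplicit false

/-!
# The Suzuki 2-groups of type A: recognition

`mA φ x y` is the matrix with rows `(1,0,0)`, `(x,1,0)`, `(y, φ x, 1)`; these matrices form the group
`Cfsg.suzukiTypeA F φ`.  `typeA_iso` recognises this group from coordinates `π : P → F`, `ε : P → F`.
-/

namespace Cfsg.Agent.Lib.helper24

universe u

section

variable {F : Type*} [Field F]

/-- the matrix with rows `(1,0,0)`, `(x,1,0)`, `(y, φ x, 1)`, as an element of `GL₃(F)`. -/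
def mA (φ : F →+* F) (x y : F) : GL (Fin 3) F :=
  ⟨!![1, 0, 0; x, 1, 0; y, φ x, 1], !![1, 0, 0; -x, 1, 0; -y + φ x * x, -φ x, 1],
    by
      ext i j
      fin_cases i <;> fin_cases j <;> simp [Matrix.mul_apply, Fin.sum_univ_three] <;> ring,
    by
      ext i j
      fin_cases i <;> fin_cases j <;> simp [Matrix.mul_apply, Fin.sum_univ_three] <;> ring⟩

theorem mA_val (φ : F →+* F) (x y : F) :
    ((mA φ x y : GL (Fin 3) F) : Matrix (Fin 3) (Fin 3) F) = !![1, 0, 0; x, 1, 0; y, φ x, 1] := rfl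

theorem mA_mul (φ : F →+* F) (x y x' y' : F) :
    mA φ x y * mA φ x' y' = mA φ (x + x') (y + y' + φ x * x') := by
  apply Units.ext
  rw [Units.val_mul, mA_val, mA_val, mA_val]
  ext i j
  fin_cases i <;> fin_cases j <;> simp [Matrix.mul_apply, Fin.sum_univ_three] <;> ring

theorem mA_one (φ : F →+* F) : mA φ 0 0 = 1 := by
  apply Units.ext
  rw [mA_val, Units.val_one, Matrix.one_fin_three, map_zero]

theorem mA_inv (φ : F →+* F) (x y : F) : (mA φ x y)⁻¹ = mA φ (-x) (-y + φ x * x) := by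
  apply inv_eq_of_mul_eq_one_right
  rw [mA_mul, ← mA_one φ]
  congr 1 <;> ring

theorem mA_inj (φ : F →+* F) {x y x' y' : F} (h : mA φ x y = mA φ x' y') : x = x' ∧ y = y' := by
  have h1 := congrArg (fun g : GL (Fin 3) F => (g : Matrix (Fin 3) (Fin 3) F) 1 0) h
  have h2 := congrArg (fun g : GL (Fin 3) F => (g : Matrix (Fin 3) (Fin 3) F) 2 0) h
  simp only [mA_val] at h1 h2
  exact ⟨by simpa using h1, by simpa using h2⟩

theorem mem_typeA (φ : F →+* F) (g : GL (Fin 3) F) :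
    g ∈ Cfsg.suzukiTypeA F φ ↔ ∃ x y, g = mA φ x y := by
  constructor
  · intro hg
    unfold Cfsg.suzukiTypeA at hg
    induction hg using Subgroup.closure_induction with
    | mem g hg =>
      obtain ⟨x, y, h⟩ := hg
      exact ⟨x, y, Units.ext h⟩
    | one => exact ⟨0, 0, (mA_one φ).symm⟩
    | mul a b _ _ ha hb =>
      obtain ⟨x, y, rfl⟩ := ha
      obtain ⟨x', y', rfl⟩ := hb
      exact ⟨_, _, mA_mul φ x y x' y'⟩
    | inv a _ ha =>
      obtain ⟨x, y, rfl⟩ := ha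
      exact ⟨_, _, mA_inv φ x y⟩
  · rintro ⟨x, y, rfl⟩
    exact Subgroup.subset_closure ⟨x, y, rfl⟩

end

/-- **Recognition of the type A group.** -/
theorem typeA_iso {P : Type u} [Group P] [Finite P] {F : Type} [Field F] [Fintype F] [CharP F 2]
    (φ : F ≃+* F) (π : P → F) (ε : P → F)
    (hπs : Function.Surjective π) (hπ : ∀ g h, π (g * h) = π g + π h)
    (hε : ∀ z z', π z = 0 → π z' = 0 → ε (z * z') = ε z + ε z')
    (hεi : ∀ z, π z = 0 → ε z = 0 → z = 1)
    (hεs : ∀ y : F, ∃ z, π z = 0 ∧ ε z = y)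
    (hsq : ∀ p, ε (p * p) = π p * φ (π p)) :
    Nonempty (P ≃* Cfsg.suzukiTypeA F (φ : F →+* F)) := by
  classical
  have h2 : ∀ a : F, a + a = 0 := CharTwo.add_self_eq_zero
  let φ' : F →+* F := (φ : F →+* F)
  have hφ' : ∀ x, φ' x = φ x := fun x => rfl
  let πP : P →* Multiplicative F :=
    MonoidHom.mk' (fun g => Multiplicative.ofAdd (π g)) (by
      intro a b
      show Multiplicative.ofAdd (π (a * b)) = Multiplicative.ofAdd (π a) * Multiplicative.ofAdd (π b)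
      rw [hπ]; rfl)
  have hform : ∀ a : Cfsg.suzukiTypeA F φ', ∃ x y, (a : GL (Fin 3) F) = mA φ' x y :=
    fun a => (mem_typeA φ' _).mp a.2
  let pA : Cfsg.suzukiTypeA F φ' → F := fun a => ((a : GL (Fin 3) F) : Matrix (Fin 3) (Fin 3) F) 1 0
  have hpA : ∀ (a : Cfsg.suzukiTypeA F φ') (x y : F), (a : GL (Fin 3) F) = mA φ' x y → pA a = x := by
    intro a x y h
    show ((a : GL (Fin 3) F) : Matrix (Fin 3) (Fin 3) F) 1 0 = x
    rw [h, mA_val]; simp
  let πA : Cfsg.suzukiTypeA F φ' →* Multiplicative F :=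
    MonoidHom.mk' (fun a => Multiplicative.ofAdd (pA a)) (by
      intro a b
      obtain ⟨x, y, ha⟩ := hform a
      obtain ⟨x', y', hb⟩ := hform b
      have hab : ((a * b : Cfsg.suzukiTypeA F φ') : GL (Fin 3) F) = mA φ' (x + x') (y + y' + φ' x * x') := by
        rw [Subgroup.coe_mul, ha, hb, mA_mul]
      show Multiplicative.ofAdd (pA (a * b)) = Multiplicative.ofAdd (pA a) * Multiplicative.ofAdd (pA b)
      rw [hpA _ _ _ hab, hpA _ _ _ ha, hpA _ _ _ hb]; rfl)
  have hπP : ∀ g, πP g = 1 ↔ π g = 0 := fun g => Iff.rfl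
  have hπA : ∀ a, πA a = 1 ↔ pA a = 0 := fun a => Iff.rfl
  let ζ : P → Cfsg.suzukiTypeA F φ' := fun z => ⟨mA φ' 0 (ε z), (mem_typeA φ' _).mpr ⟨0, ε z, rfl⟩⟩
  have hζ : ∀ z, ((ζ z : Cfsg.suzukiTypeA F φ') : GL (Fin 3) F) = mA φ' 0 (ε z) := fun z => rfl
  refine iso_of_squares πP πA ?_ ?_ ζ ?_ ?_ ?_ ?_ ?_
  · intro v
    obtain ⟨g, hg⟩ := hπs (Multiplicative.toAdd v)
    exact ⟨g, congrArg Multiplicative.ofAdd hg⟩
  · intro v
    refine ⟨⟨mA φ' (Multiplicative.toAdd v) 0, (mem_typeA φ' _).mpr ⟨_, _, rfl⟩⟩, ?_⟩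
    exact congrArg Multiplicative.ofAdd (hpA _ _ _ rfl)
  · intro z _
    rw [hπA]
    exact hpA _ _ _ (hζ z)
  · intro z z' hz hz'
    rw [hπP] at hz hz'
    apply Subtype.ext
    rw [Subgroup.coe_mul, hζ, hζ, hζ, mA_mul, hε z z' hz hz', map_zero, zero_mul, add_zero, add_zero]
  · intro z hz hζz
    rw [hπP] at hz
    have h1 : mA φ' 0 (ε z) = mA φ' 0 0 := by
      rw [mA_one, ← hζ, hζz]; rfl
    exact hεi z hz (mA_inj φ' h1).2
  · intro a ha
    rw [hπA] at ha
    obtain ⟨x, y, hxy⟩ := hform a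
    have hx : x = 0 := by rw [← hpA a x y hxy]; exact ha
    obtain ⟨z, hz1, hz2⟩ := hεs y
    refine ⟨z, (hπP z).mpr hz1, ?_⟩
    apply Subtype.ext
    rw [hζ, hz2, hxy, hx]
  · intro p a hpa
    obtain ⟨x, y, hxy⟩ := hform a
    have hx : π p = x := by
      have : π p = pA a := hpa
      rw [this, hpA a x y hxy]
    constructor
    · rw [hπP, hπ]; exact h2 _
    · apply Subtype.ext
      rw [Subgroup.coe_mul, hζ, hxy, mA_mul, hsq, hx, h2 x, h2 y, zero_add, hφ', mul_comm]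

end Cfsg.Agent.Lib.helper24
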