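import Mathlib
import Cfsg.Agent.S1137
import Cfsg.Agent.S1140
import Cfsg.Agent.Lib.helper24.SzGroup
import Cfsg.Agent.Lib.helper24.SzQuad
import Cfsg.Agent.Lib.helper24.SzTypeA

set_option autoImplicit false

/-!
# Higman: a Suzuki 2-group with `|P| = |Z(P)|²` is of type A (assembly)
-/

namespace Cfsg.Agent.Lib.helper24

universe u v

theorem sz_main_aux {P : Type u} [Group P] {K : Type v} [Group K] {f : K → P →* P}
    (h : Cfsg.Agent.S1137.Hyp P K f) (hz : ∀ z ∈ Subgroup.center P, z * z = 1)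
    (hcard : Nat.card P = Nat.card (Subgroup.center P) ^ 2) (hab : ∃ a b : P, a * b ≠ b * a)
    {F : Type} [Field F] [Fintype F] [CharP F 2]
    (hF : Fintype.card F = Nat.card (Subgroup.center P)) :
    ∃ φ : F ≃+* F, φ ≠ RingEquiv.refl F ∧ Odd (orderOf φ) ∧
      Nonempty (P ≃* Cfsg.suzukiTypeA F (φ : F →+* F)) := by
  classical
  haveI := h.fin
  obtain ⟨π, ε, s₀, hπs, hπa, hεa, hεi, hεs, hs₀, hadd, heq, hne, hinj⟩ :=
    Cfsg.Agent.Lib.helper24.sz_coords h hz hcard hab hF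
  obtain ⟨c, σ, τ, hc, hστ, hform⟩ := Cfsg.Agent.Lib.helper24.quad_form s₀ hadd heq hne
  let φ : F ≃+* F := σ.symm.trans τ
  have hφ : ∀ x, φ (σ x) = τ x := fun x => by
    show τ (σ.symm (σ x)) = τ x
    rw [RingEquiv.symm_apply_apply]
  have hσ0 : ∀ x, σ x = 0 → x = 0 := fun x hx => (map_eq_zero_iff σ σ.injective).mp hx
  refine ⟨φ, ?_, ?_, ?_⟩
  · intro e
    apply hστ
    apply RingEquiv.ext
    intro x
    have := hφ x
    rw [e] at this
    exact this
  · apply Cfsg.Agent.Lib.helper24.odd_order_of_inj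
    intro x y e
    obtain ⟨x', rfl⟩ := σ.surjective x
    obtain ⟨y', rfl⟩ := σ.surjective y
    rw [hφ, hφ] at e
    have : s₀ x' = s₀ y' := by rw [hform, hform y', e]
    rw [hinj this]
  · refine Cfsg.Agent.Lib.helper24.typeA_iso φ (fun g => σ (π g)) (fun g => c⁻¹ * ε g)
      ?_ ?_ ?_ ?_ ?_ ?_
    · intro x
      obtain ⟨g, hg⟩ := hπs (σ.symm x)
      exact ⟨g, by show σ (π g) = x; rw [hg, RingEquiv.apply_symm_apply]⟩
    · intro g g'
      show σ (π (g * g')) = σ (π g) + σ (π g')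
      rw [hπa, map_add]
    · intro z z' hz0 hz0'
      show c⁻¹ * ε (z * z') = c⁻¹ * ε z + c⁻¹ * ε z'
      rw [hεa z z' (hσ0 _ hz0) (hσ0 _ hz0'), mul_add]
    · intro z hz0 e
      have e' : c⁻¹ * ε z = 0 := e
      rcases mul_eq_zero.mp e' with h0 | h0
      · exact absurd h0 (inv_ne_zero hc)
      · exact hεi z (hσ0 _ hz0) h0
    · intro y
      obtain ⟨z, hz1, hz2⟩ := hεs (c * y)
      refine ⟨z, ?_, ?_⟩
      · show σ (π z) = 0
        rw [hz1, map_zero]
      · show c⁻¹ * ε z = y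
        rw [hz2, inv_mul_cancel_left₀ hc]
    · intro p
      show c⁻¹ * ε (p * p) = σ (π p) * φ (σ (π p))
      rw [hs₀, hform, hφ, inv_mul_cancel_left₀ hc]

end Cfsg.Agent.Lib.helper24
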